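import Cfsg.Agent.Lib.OO.Pf.PF9_A

/-! # Peterfalvi section 9, part B: (9.7) -/

set_option autoImplicit false
set_option linter.unusedSectionVars false

namespace Cfsg.Agent.OO.Pf

open Subgroup Cfsg.Agent.Coprime P9
open scoped Pointwise

universe u

variable {G : Type u} [Group G] [Finite G] {M U W W1 W2 H0 : Subgroup G}

namespace P9

theorem card_iSup_pow {H A : Subgroup G} {n : ℕ} (X : G → Subgroup G) (hd : der H ≤ H0)
    (hH : H0 ≤ H) (hA : A ≤ 𝐍(H0)) (S : Finset G) (h : ∀ i ∈ S, H0 ≤ X i ∧ X i ≤ H ∧ A ≤ 𝐍(X i) ∧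
      ♯(X i) = ♯H0 * n ∧ ∀ Y, H0 ≤ Y → Y ≤ X i → A ≤ 𝐍(Y) → Y = H0 ∨ Y = X i) :
    ∃ k ≤ S.card, ♯(H0 ⊔ ⨆ i ∈ S, X i) = ♯H0 * n ^ k := by
  classical
  induction S using Finset.induction_on with
  | empty => exact ⟨0, le_rfl, by simp⟩
  | insert i S hi ih =>
    obtain ⟨k, hk, e⟩ := ih fun j hj => h j (Finset.mem_insert_of_mem hj)
    obtain ⟨h1, h2, h3, h4, h5⟩ := h i (Finset.mem_insert_self i S)
    have h6 := fun j hj => h j (Finset.mem_insert_of_mem (s := S) hj)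
    rw [Finset.iSup_insert, sup_left_comm, Finset.card_insert_of_notMem hi]
    have hY : H0 ⊔ ⨆ i ∈ S, X i ≤ H := sup_le hH (iSup₂_le fun j hj => (h6 j hj).2.1)
    rcases h5 (X i ⊓ (H0 ⊔ ⨆ i ∈ S, X i)) (le_inf h1 le_sup_left) inf_le_left (le_norm_inf h3
      (le_norm_sup hA (le_norm_iSup fun j => le_norm_iSup fun hj => (h6 j hj).2.2.1))) with h7 | h7
    · have := card_sup_mul_card_inf (Or.inl (h2.trans (le_norm_of_der_le (hd.trans le_sup_left) hY)))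
      rw [h7, h4, e] at this
      exact ⟨k + 1, by omega, Nat.eq_of_mul_eq_mul_right (card_pos' H0) (by rw [this]; ring)⟩
    · exact ⟨k, by omega, by rw [sup_eq_right.2 (inf_eq_left.1 h7), e]⟩

theorem mem_secCent_iSup {ι : Sort*} {X : ι → Subgroup G} (hX : ∀ i, X i ≤ 𝐍(H0)) {x : G}
    (hx : x ∈ 𝐍(H0)) (h : ∀ i, x ∈ secCent (X i) H0) : x ∈ secCent (⨆ i, X i) H0 := by
  rw [← coset_mem_cent_iff' hx (iSup_le hX), quo_iSup hX, cent_iSup, mem_iInf]
  exact fun i => (coset_mem_cent_iff' hx (hX i)).2 (h i)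

theorem exists_sec_hom {X A : Subgroup G} {p : ℕ} [hp : Fact p.Prime] (hX : X ≤ 𝐍(H0))
    (hc : H0.relIndex X = p) (h1 : A ≤ 𝐍(X)) (h2 : A ≤ 𝐍(H0)) :
    ∃ f : A →* (ZMod p)ˣ, f.ker = (A ⊓ secCent X H0).subgroupOf A := by
  rw [← card_quo hX] at hc
  have := isCyclic_of_prime (hc ▸ hp.out)
  subst hc
  refine ⟨(IsCyclic.mulAutMulEquiv (X ⁒ H0 : Subgroup _)).toMonoidHom.comp
    ((X ⁒ H0).normalizerMonoidHom.comp ((quoHom h2).codRestrict _ fun a =>
      quoHom_apply h2 a ▸ coset_mem_norm H0 (h1 a.2))), ?_⟩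
  ext a
  rw [MonoidHom.mem_ker, MonoidHom.comp_apply, MulEquiv.coe_toMonoidHom, MulEquiv.map_eq_one_iff,
    MonoidHom.comp_apply, ← MonoidHom.mem_ker, normalizerMonoidHom_ker, mem_subgroupOf, mem_subgroupOf,
    mem_inf, and_iff_right a.2, ← coset_mem_cent_iff' (h2 a.2) hX, ← quoHom_apply h2]
  rfl

open scoped IsMulCommutative in
/-- a commutative irreducible set of endomorphisms generates a field -/
theorem exists_field {V : Type u} [AddCommGroup V] [Finite V] (S : Set (AddMonoid.End V))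
    (hc : ∀ r ∈ S, ∀ s ∈ S, r * s = s * r)
    (hirr : ∀ X : AddSubgroup V, (∀ r ∈ S, ∀ x ∈ X, r x ∈ X) → X = ⊥ ∨ X = ⊤) {v : V} (hv : v ≠ 0) :
    ∃ (F : Type) (_ : Field F) (φ : V ≃+ F), φ v = 1 ∧ ∀ r ∈ S, ∀ x, φ (r x) = φ (r v) * φ x := by
  have := Subring.isMulCommutative_closure hc
  set R := Subring.closure S
  have hinj : ∀ r : R, r ≠ 0 → ∀ x, (r : AddMonoid.End V) x = 0 → x = 0 := fun r hr x hx => by
    rcases hirr (AddMonoidHom.ker (r : AddMonoid.End V)) (fun s hs y hy => by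
      have := DFunLike.congr_fun (congrArg Subtype.val (mul_comm r ⟨s, Subring.subset_closure hs⟩)) y
      change (r : AddMonoid.End V) (s y) = s ((r : AddMonoid.End V) y) at this
      exact this.trans (by rw [show (r : AddMonoid.End V) y = 0 from hy, map_zero])) with h | h
    · exact AddSubgroup.mem_bot.1 (h ▸ hx)
    · exact (hr (Subtype.ext (AddMonoidHom.ext fun y => (h.ge (AddSubgroup.mem_top y) :)))).elim
  let ev : R →+ V := { toFun := fun r => (r : AddMonoid.End V) v, map_zero' := rfl, map_add' := fun _ _ => rfl }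
  have hev : Function.Bijective ev := by
    refine ⟨(injective_iff_map_eq_zero ev).2 fun r hr => by_contra fun h => hv (hinj r h v hr), ?_⟩
    rw [← AddMonoidHom.range_eq_top]
    refine (hirr ev.range ?_).resolve_left fun h => hv (AddSubgroup.mem_bot.1 (h ▸ ⟨1, rfl⟩))
    rintro s hs _ ⟨r, rfl⟩
    exact ⟨⟨s, Subring.subset_closure hs⟩ * r, rfl⟩
  have : Finite R := .of_injective ev hev.1
  have : Nontrivial R := ⟨1, 0, fun h => hv (congrArg ev h)⟩
  have : NoZeroDivisors R := ⟨fun {a b} h => by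
    refine or_iff_not_imp_left.2 fun ha => hev.1 (hinj a ha _ (congrArg ev h))⟩
  have : IsDomain R := NoZeroDivisors.to_isDomain R
  let _ := (Finite.isField_of_domain R).toField
  let e := Shrink.ringEquiv.{0} R
  have h1 : ∀ r, (AddEquiv.ofBijective ev hev).symm (ev r) = r :=
    (AddEquiv.ofBijective ev hev).symm_apply_apply
  refine ⟨Shrink.{0} R, inferInstance, (AddEquiv.ofBijective ev hev).symm.trans e.symm.toAddEquiv,
    (congrArg e.symm (h1 1)).trans (map_one e.symm), fun r hr x => ?_⟩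
  obtain ⟨s, rfl⟩ := hev.2 x
  refine (congrArg e.symm (h1 (⟨r, Subring.subset_closure hr⟩ * s))).trans ((map_mul e.symm _ _).trans ?_)
  exact congrArg₂ (· * ·) (congrArg e.symm (h1 ⟨r, Subring.subset_closure hr⟩).symm)
    (congrArg e.symm (h1 s).symm)

open scoped IsMulCommutative in
theorem exists_field_grp {V B : Subgroup G} (hV : Ab V) (hB : B ≤ 𝐍(V)) (hc : der B ≤ 𝐂(V))
    (hirr : ∀ X ≤ V, B ≤ 𝐍(X) → X = ⊥ ∨ X = V) {v : G} (hv : v ∈ V) (h1 : v ≠ 1) :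
    ∃ (F : Type) (_ : Field F) (φ : G → F), Nat.card F = ♯V ∧ (∀ x ∈ V, ∀ y ∈ V, φ (x * y) = φ x + φ y) ∧
      (∀ z, ∃ x ∈ V, φ x = z) ∧ (∀ x ∈ V, φ x = 0 ↔ x = 1) ∧ φ v = 1 ∧
      ∀ b ∈ B, ∀ x ∈ V, φ (b * x * b⁻¹) = φ (b * v * b⁻¹) * φ x := by
  classical
  let ρ : B → AddMonoid.End (Additive V) := fun b =>
    MonoidHom.toAdditive (V.normalizerMonoidHom ⟨b, hB b.2⟩).toMonoidHom
  obtain ⟨F, _, φ, h2, h3⟩ := exists_field (Set.range ρ) (v := Additive.ofMul ⟨v, hv⟩) (by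
      rintro _ ⟨b, rfl⟩ _ ⟨c, rfl⟩
      refine AddMonoidHom.ext fun x => Additive.toMul.injective (Subtype.ext ?_)
      change (b : G) * (c * (x.toMul : G) * c⁻¹) * b⁻¹ = c * (b * (x.toMul : G) * b⁻¹) * c⁻¹
      have := mem_cent_iff_conj.1 (hc (commutator_mem_commutator (inv_mem b.2) (inv_mem c.2))) _ x.toMul.2
      rw [commutatorElement_def] at this
      nth_rw 2 [← this]
      simp only [← InvMemClass.coe_inv, inv_inv]
      simp only [InvMemClass.coe_inv]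
      group) (fun X hX => by
      have : B ≤ 𝐍((AddSubgroup.toSubgroup' X).map V.subtype) := le_norm_iff.2 fun b hb => by
        rintro _ ⟨x, hx, rfl⟩
        exact ⟨_, hX _ ⟨⟨b, hb⟩, rfl⟩ _ hx, rfl⟩
      refine (hirr _ (map_subtype_le _) this).imp (fun h => ?_) fun h => ?_
      · rw [map_eq_bot_iff_of_injective _ V.subtype_injective] at h
        exact AddSubgroup.toSubgroup'.injective (h.trans (BotHomClass.map_bot _).symm)
      · rw [map_subtype_eq_self_iff] at h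
        exact AddSubgroup.toSubgroup'.injective (h.trans (map_top _).symm))
    (fun h => h1 (congrArg Subtype.val (Additive.ofMul.injective h)))
  refine ⟨F, inferInstance, fun x => if hx : x ∈ V then φ (Additive.ofMul ⟨x, hx⟩) else 0,
    (Nat.card_congr φ.toEquiv).symm, fun x hx y hy => ?_, fun z => ?_, fun x hx => ?_,
    (dif_pos hv).trans h2, fun b hb x hx => ?_⟩
  · simp only [dif_pos hx, dif_pos hy, dif_pos (mul_mem hx hy), ← map_add]
    rfl
  · obtain ⟨x, rfl⟩ := φ.surjective z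
    exact ⟨x.toMul, x.toMul.2, dif_pos x.toMul.2⟩
  · simp only [dif_pos hx, EmbeddingLike.map_eq_zero_iff]
    exact ⟨fun h => congrArg Subtype.val (Additive.ofMul.injective h), fun h => by subst h; rfl⟩
  · simp only [dif_pos hx, dif_pos (conj_mem_of_norm (hB hb) hx), dif_pos (conj_mem_of_norm (hB hb) hv)]
    exact h3 _ ⟨⟨b, hb⟩, rfl⟩ (Additive.ofMul ⟨x, hx⟩)

theorem card_ringAut_le (F : Type) [Field F] [Fintype F] {p q : ℕ} [Fact p.Prime]
    (h : Fintype.card F = p ^ q) : Finite (F ≃+* F) ∧ Nat.card (F ≃+* F) ≤ q := by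
  classical
  have := charP_of_card_eq_prime_pow h
  let _ := ZMod.algebra F p
  have h1 : Module.finrank (ZMod p) F = q := Nat.pow_right_injective (Fact.out : p.Prime).two_le
    ((FiniteField.pow_finrank_eq_card p F).trans h)
  have h2 := AlgEquiv.card_le (F := ZMod p) (K := F)
  rw [h1, ← Nat.card_eq_fintype_card] at h2
  let f : (F ≃+* F) → (F ≃ₐ[ZMod p] F) := fun α => AlgEquiv.ofRingEquiv (f := α) fun x =>
    DFunLike.congr_fun (RingHom.ext_zmod (α.toRingHom.comp (algebraMap (ZMod p) F)) (algebraMap (ZMod p) F)) x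
  have hf : Function.Injective f := fun α β e => RingEquiv.ext fun x => DFunLike.congr_fun e x
  exact ⟨.of_injective f hf, (Nat.card_le_card_of_injective f hf).trans h2⟩

end P9

variable [MinOdd G]

theorem P9.H_norm (h : PtypeHyp M U W W1 W2 H0) {X : Subgroup G} (h0 : H0 ≤ X) (hX : X ≤ Fcore M) :
    Fcore M ≤ 𝐍(X) := le_norm_of_der_le ((PtypeHyp.der_le h).trans h0) hX

theorem P9.conj_H0 (h : PtypeHyp M U W W1 W2 H0) {g : G} (hg : g ∈ M) : g •ᶜ H0 = H0 :=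
  h.chief.normal_bot.conj_eq hg

theorem P9.U_norm_conj (h : PtypeHyp M U W W1 W2 H0) {X : Subgroup G} (hX : U ≤ 𝐍(X)) {w : G}
    (hw : w ∈ W1) : U ≤ 𝐍(w •ᶜ X) :=
  conj_eq_of_mem_norm (h.typeP.W1_le_norm hw) ▸ conj_le_norm_conj.2 hX

theorem P9.exists_ne (h : PtypeHyp M U W W1 W2 H0) (w : G) : ∃ v ∈ W1, v ≠ w := by
  obtain ⟨x, hx, h1⟩ := exists_mem_ne_one h.typeP.W1_ne_bot
  by_cases e : x = w
  · exact ⟨1, one_mem _, e ▸ h1.symm⟩
  · exact ⟨x, hx, e⟩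

theorem P9.exists_H1 (h : PtypeHyp M U W W1 W2 H0) (hn : ¬ PGalois M U H0) :
    ∃ H1, H0 ≤ H1 ∧ H1 ≤ Fcore M ∧ H0.relIndex H1 = Pp M H0 ∧ U ≤ 𝐍(H1) ∧
      ⨆ w ∈ W1, w •ᶜ H1 = Fcore M ∧
      ∀ w ∈ W1, w •ᶜ H1 ⊓ (⨆ v ∈ W1, ⨆ (_ : v ≠ w), v •ᶜ H1) = H0 := by
  classical
  simp only [PGalois, not_forall, not_or] at hn
  obtain ⟨X, h1, h2, h3, h4, h5⟩ := hn
  obtain ⟨Y, h6, ⟨h7, h8⟩, h9⟩ := exists_minimal_le_of_wellFoundedLT (fun Y => H0 < Y ∧ U ≤ 𝐍(Y)) X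
    ⟨h1.lt_of_ne' h4, h3⟩
  have hp := PtypeHyp.prime_p h
  have hY := h6.trans h2
  have hW := fun {w : G} (hw : w ∈ W1) => W1_le h hw
  have a1 : ∀ w ∈ W1, H0 ≤ w •ᶜ Y := fun w hw => conj_H0 h (hW hw) ▸ conj_mono w h7.le
  have a2 : ∀ w ∈ W1, w •ᶜ Y ≤ Fcore M := fun w hw => conj_le_of_mem_norm ((Fcore_normal M).2 (hW hw)) hY
  have a3 : ∀ w ∈ W1, ∀ Z, H0 ≤ Z → Z ≤ w •ᶜ Y → U ≤ 𝐍(Z) → Z = H0 ∨ Z = w •ᶜ Y := fun w hw Z b1 b2 b3 => by
    refine b1.eq_or_lt.imp Eq.symm fun b4 => b2.antisymm (conj_le_iff_le_inv_conj.2 (h9 ⟨?_,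
      U_norm_conj h b3 (inv_mem hw)⟩ (le_conj_iff_inv_conj_le.1 b2)))
    exact conj_H0 h (hW (inv_mem hw)) ▸ conj_lt_conj_iff.2 b4
  have key := fun (S : Finset G) (hS : ∀ w ∈ S, w ∈ W1) => card_iSup_pow (n := H0.relIndex Y) (· •ᶜ Y)
    (PtypeHyp.der_le h) h.chief.le ((U_le h).trans (nH0 h)) S fun w hw => ⟨a1 w (hS w hw), a2 w (hS w hw),
      U_norm_conj h h8 (hS w hw), by rw [card_conj, card_mul_relIndex h7.le], a3 w (hS w hw)⟩
  have a4 : ⨆ w ∈ W1, w •ᶜ Y = Fcore M := by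
    have b1 : Y ≤ ⨆ w ∈ W1, w •ᶜ Y := le_iSup₂_of_le 1 (one_mem _) (one_conj Y).ge
    refine (h.chief.eq_or_eq' ((Ptype_Fcore_sdprod h.typeP).sup_eq.ge.trans (sup_le (H_norm h
      (h7.le.trans b1) (iSup₂_le a2)) (sup_le (le_norm_iSup fun w => le_norm_iSup (U_norm_conj h h8))
      fun v hv => mem_norm_of_conj_le (conj_le_iff_le_inv_conj.2 (iSup₂_le fun w hw => ?_)))))
      (h7.le.trans b1) (iSup₂_le a2)).resolve_left fun e => h7.not_ge (e ▸ b1)
    rw [← conj_le_iff_le_inv_conj, conj_conj]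
    exact le_iSup₂_of_le (v * w) (mul_mem hv hw) le_rfl
  have hH := (card_mul_relIndex h.chief.le).symm
  rw [(Ptype_Fcore_factor_facts h).2.2] at hH
  have a5 : H0.relIndex Y = Pp M H0 := by
    obtain ⟨k, -, e⟩ := key (elts W1) fun w => mem_elts.1
    simp only [mem_elts, SetLike.mem_coe] at e
    rw [a4, sup_eq_right.2 h.chief.le, hH] at e
    obtain ⟨m, -, hm⟩ := (Nat.dvd_prime_pow hp).1 ((Ptype_Fcore_factor_facts h).2.2 ▸
      relIndex_dvd_of_le_norm hY h.chief.normal.2)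
    have e' := Nat.eq_of_mul_eq_mul_left (card_pos' H0) e
    rw [hm, ← pow_mul] at e'
    rcases (PtypeHyp.prime_q h).eq_one_or_self_of_dvd m ⟨k, Nat.pow_right_injective hp.two_le e'⟩ with
      rfl | rfl
    · rw [hm, pow_one]
    · exact (h5 (h2.antisymm ((eq_of_le_of_card_le hY (by
        rw [hH, ← hm, card_mul_relIndex h7.le])).ge.trans h6))).elim
  refine ⟨Y, h7.le, hY, a5, h8, a4, fun w hw => ?_⟩
  obtain ⟨v, hv, hvw⟩ := exists_ne h w
  have b1 : H0 ≤ ⨆ v ∈ W1, ⨆ (_ : v ≠ w), v •ᶜ Y :=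
    le_iSup₂_of_le v hv (le_iSup_of_le hvw (a1 v hv))
  refine (a3 w hw _ (le_inf (a1 w hw) b1) inf_le_left (le_norm_inf (U_norm_conj h h8 hw) (le_norm_iSup
    fun v => le_norm_iSup fun hv => le_norm_iSup fun _ => U_norm_conj h h8 hv))).resolve_right fun e => ?_
  obtain ⟨k, hk, e'⟩ := key ((elts W1).erase w) fun w hw => mem_elts.1 (Finset.mem_of_mem_erase hw)
  have b2 : Fcore M ≤ H0 ⊔ ⨆ i ∈ (elts (W1 : Set G)).erase w, i •ᶜ Y := by
    have b3 : ⨆ v ∈ W1, ⨆ (_ : v ≠ w), v •ᶜ Y ≤ ⨆ i ∈ (elts (W1 : Set G)).erase w, i •ᶜ Y :=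
      iSup₂_le fun v hv => iSup_le fun hvw => le_iSup₂_of_le v
        (Finset.mem_erase.2 ⟨hvw, mem_elts.2 hv⟩) le_rfl
    refine a4.ge.trans (le_sup_of_le_right (iSup₂_le fun v hv => le_trans ?_ b3))
    by_cases hvw : v = w
    · subst hvw; exact inf_eq_left.1 e
    · exact le_iSup₂_of_le v hv (le_iSup_of_le hvw le_rfl)
  have b4 := card_le b2
  rw [e', hH, a5, Nat.mul_le_mul_left_iff (card_pos' H0), Nat.pow_le_pow_iff_right hp.one_lt] at b4
  rw [Finset.card_erase_of_mem (mem_elts.2 hw), card_elts] at hk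
  have := card_pos' W1
  omega

theorem P9.mem_C_of_forall (h : PtypeHyp M U W W1 W2 H0) {H1 : Subgroup G} (hle : H1 ≤ Fcore M)
    (hs : ⨆ w ∈ W1, w •ᶜ H1 = Fcore M) {x : G} (hx : x ∈ U)
    (hc : ∀ w ∈ W1, x ∈ secCent (w •ᶜ H1) H0) : x ∈ Pc M U H0 := by
  have hN := nH0 h (U_le h hx)
  have h1 : ∀ w ∈ W1, w •ᶜ H1 ≤ 𝐍(H0) := fun w hw =>
    (conj_le_of_mem_norm ((Fcore_normal M).2 (W1_le h hw)) hle).trans h.chief.normal.2
  exact ⟨hx, hs ▸ mem_secCent_iSup (fun w => iSup_le (h1 w)) hN fun w =>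
    mem_secCent_iSup (h1 w) hN (hc w)⟩

theorem P9.mem_secCent_conj (h : PtypeHyp M U W W1 W2 H0) {X : Subgroup G} {w x : G} (hw : w ∈ M) :
    x ∈ secCent (w •ᶜ X) H0 ↔ w⁻¹ * x * w ∈ secCent X H0 := by
  rw [← mem_conj, conj_secCent, conj_H0 h hw]

theorem typeP_Galois_Pn (h : PtypeHyp M U W W1 W2 H0) (hn : ¬ PGalois M U H0) :
    ∃ H1 a, GaloisPn M U W1 H0 H1 a := by
  classical
  obtain ⟨H1, h1, h2, h3, h4, h5, h6⟩ := exists_H1 h hn
  have := Fact.mk (PtypeHyp.prime_p h)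
  have hU := (U_le h).trans (nH0 h)
  obtain ⟨f, hf⟩ := exists_sec_hom (h2.trans h.chief.normal.2) h3 h4 hU
  have ha : (U ⊓ secCent H1 H0).relIndex U = Nat.card f.range := by
    rw [relIndex, ← hf, index_ker]
  have hD : U ⊓ secCent H1 H0 ⊴ U := normalIn_inf_of_norm (le_norm_secCent h4 hU)
  have := hD.subgroupOf
  refine ⟨H1, _, h1, h2, h3, h4, h5, h6, rfl, ?_, ?_, ?_, ?_⟩
  · refine lt_of_le_of_ne (relIndex_pos _ _) fun e => ?_
    have := relIndex_eq_one.2 (le_H0_of_cent h h2 h4 ((relIndex_eq_one.1 e.symm).trans inf_le_right))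
    exact (PtypeHyp.prime_p h).one_lt.ne' (h3 ▸ this)
  · rw [ha, ← ZMod.card_units, ← Nat.card_eq_fintype_card]
    exact card_subgroup_dvd_card _
  · let e := (quoEquiv hD.2).symm.trans ((QuotientGroup.quotientMulEquivOfEq hf.symm).trans
      (QuotientGroup.quotientKerEquivRange f))
    exact isCyclic_of_surjective e.symm e.symm.surjective
  rw [ha]
  let g := (zmodCyclicMulEquiv (G := f.range) inferInstance).symm.toMonoidHom.comp f.rangeRestrict
  let l : G → ZMod (Nat.card f.range) := fun x => if hx : x ∈ U then (g ⟨x, hx⟩).toAdd else 0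
  have l1 : ∀ x ∈ U, ∀ y ∈ U, l (x * y) = l x + l y := fun x hx y hy => by
    simp only [l, dif_pos hx, dif_pos hy, dif_pos (mul_mem hx hy), ← toAdd_mul, ← map_mul]
    rfl
  have l2 : ∀ x ∈ U, l x = 0 ↔ x ∈ secCent H1 H0 := fun x hx => by
    simp only [l, g, dif_pos hx, toAdd_eq_zero, MonoidHom.comp_apply, MulEquiv.coe_toMonoidHom,
      MulEquiv.map_eq_one_iff]
    rw [← MonoidHom.mem_ker, MonoidHom.ker_rangeRestrict, hf, mem_subgroupOf, mem_inf, and_iff_right hx]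
  have hc : ∀ {w x}, w ∈ W1 → x ∈ U → w⁻¹ * x * w ∈ U := fun hw hx =>
    conj_mem_of_norm' (h.typeP.W1_le_norm hw) hx
  have l3 : ∀ w ∈ W1, ∀ x ∈ U, ∀ y ∈ U, l (w⁻¹ * (x * y) * w) = l (w⁻¹ * x * w) + l (w⁻¹ * y * w) :=
    fun w hw x hx y hy => by rw [← l1 _ (hc hw hx) _ (hc hw hy)]; congr 1; group
  have l4 : ∀ x ∈ U, ∀ y ∈ U, ∑ w ∈ elts (W1 : Set G), l (w⁻¹ * (x * y) * w) =
      ∑ w ∈ elts (W1 : Set G), l (w⁻¹ * x * w) + ∑ w ∈ elts (W1 : Set G), l (w⁻¹ * y * w) :=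
    fun x hx y hy => by
      rw [← Finset.sum_add_distrib]
      exact Finset.sum_congr rfl fun w hw => l3 w (mem_elts.1 hw) x hx y hy
  have l5 : ∑ w ∈ elts (W1 : Set G), l (w⁻¹ * 1 * w) = 0 := by
    have := l4 1 (one_mem _) 1 (one_mem _)
    rwa [one_mul, left_eq_add] at this
  let K : Subgroup G :=
    { carrier := {x | x ∈ U ∧ ∑ w ∈ elts (W1 : Set G), l (w⁻¹ * x * w) = 0}
      one_mem' := ⟨one_mem _, l5⟩
      mul_mem' := fun ha hb => ⟨mul_mem ha.1 hb.1, by rw [l4 _ ha.1 _ hb.1, ha.2, hb.2, add_zero]⟩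
      inv_mem' := fun {x} ha => ⟨inv_mem ha.1, by
        have := l4 x ha.1 _ (inv_mem ha.1)
        rwa [mul_inv_cancel, l5, ha.2, zero_add, eq_comm] at this⟩ }
  have l6 : U ≤ K := (frob h).commg.ge.trans (commutator_le.2 fun x hx v hv => by
    have h7 := conj_mem_of_norm (h.typeP.W1_le_norm hv) (inv_mem hx)
    rw [commutatorElement_def, mul_assoc, mul_assoc, ← mul_assoc v]
    refine ⟨mul_mem hx h7, ?_⟩
    rw [l4 _ hx _ h7, ← sum_elts_mul_left hv (fun w => l (w⁻¹ * (v * x⁻¹ * v⁻¹) * w)), ← l5,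
      ← mul_inv_cancel x, l4 _ hx _ (inv_mem hx)]
    congr 1
    exact Finset.sum_congr rfl fun w _ => by congr 1; group)
  have hcard : ((elts (W1 : Set G)).erase 1).card = ♯W1 - 1 := by
    rw [Finset.card_erase_of_mem (mem_elts.2 (one_mem W1)), card_elts]
  let e := (Finset.equivFinOfCardEq hcard).symm
  have he : ∀ i, (e i : G) ∈ W1 := fun i => mem_elts.1 (Finset.mem_of_mem_erase (e i).2)
  refine ⟨fun x i => l ((e i : G)⁻¹ * x * e i), fun x hx y hy => funext fun i => l3 _ (he i) x hx y hy,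
    fun x hx => ⟨fun h0 => mem_C_of_forall h h2 h5 hx fun w hw => ?_, fun h0 => funext fun i =>
      (l2 _ (hc (he i) hx)).2 (secCent_anti H0 h2 (conj_mem_of_norm' ((PtypeHyp.normal_C h).2
        (mem_sup_right (he i))) h0).2)⟩⟩
  have h7 : ∀ w ∈ (elts (W1 : Set G)).erase 1, l (w⁻¹ * x * w) = 0 := fun w hw => by
    simpa using congrFun h0 (e.symm ⟨w, hw⟩)
  rw [mem_secCent_conj h (W1_le h hw), ← l2 _ (hc hw hx)]
  by_cases e1 : w = 1
  · have := (l6 hx).2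
    rwa [← Finset.add_sum_erase _ _ (mem_elts.2 (one_mem W1)), Finset.sum_eq_zero h7, add_zero, ← e1] at this
  · exact h7 w (Finset.mem_erase.2 ⟨e1, mem_elts.2 hw⟩)

theorem typeP_Galois_P (h : PtypeHyp M U W W1 W2 H0) (hg : PGalois M U H0) :
    (∃ (F : Type) (_ : Field F) (_ : Fintype F) (φ ψ : G → F) (η : G → (F ≃+* F)),
      GaloisP M U W1 H0 F φ ψ η) ∧
    IsCyclic (U ⁒ Pc M U H0) ∧ (Pu M U H0).Coprime (Pp M H0 - 1) ∧
    Pu M U H0 ∣ (Pp M H0 ^ ♯W1 - 1) / (Pp M H0 - 1) := by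
  classical
  have hp := PtypeHyp.prime_p h
  have := Fact.mk hp
  obtain ⟨-, f2, f3⟩ := Ptype_Fcore_factor_facts h
  have hH := h.chief.normal.2
  have hU := (U_le h).trans (nH0 h)
  have nH := (Fcore_normal M).2
  have nU := h.typeP.W1_le_norm
  obtain ⟨v, hv, hv0⟩ := SetLike.not_le_iff_exists.1 fun e : W2 ≤ H0 =>
    hp.one_lt.ne' (f2 ▸ relIndex_eq_one.2 e)
  have hvH := h.typeP.W2_le hv
  obtain ⟨F, _, φ0, c0, c1, c2, c3, c4, c5⟩ := exists_field_grp (abelem_ab (PtypeHyp.abelem h))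
    (quo_le_norm H0 ((U_le h).trans nH)) (quo_der hU ▸ quo_le_cent_of_commutator_le
      ((le_secCent_iff ((der_le U).trans hU)).1 ((PtypeHyp.der_U_le h).trans inf_le_right)))
    (fun X hX hn => (hg _ (le_quoPre X) (quoPre_le_of_le h.chief.normal hX) (le_norm_quoPre hU hn)).imp
      quoPre_eq_iff.1 fun e => by rw [← e, quo_quoPre]) (coset_mem_quo H0 hvH)
    (mt (coset_eq_one_iff (hH hvH)).1 hv0)
  set φ : G → F := fun x => φ0 (coset H0 x) with hφ
  set ψ : G → F := fun y => φ (y * v * y⁻¹) with hψ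
  have d1 : ∀ x ∈ Fcore M, ∀ y ∈ Fcore M, φ (x * y) = φ x + φ y := fun x hx y hy => by
    simp only [hφ, coset_mul (hH hx) (hH hy), c1 _ (coset_mem_quo H0 hx) _ (coset_mem_quo H0 hy)]
  have d2 : ∀ z, ∃ x ∈ Fcore M, φ x = z := fun z => by
    obtain ⟨x, hx, rfl⟩ := c2 z
    obtain ⟨y, hy, rfl⟩ := (mem_quo_of_le hH).1 hx
    exact ⟨y, hy, rfl⟩
  have d3 : ∀ x ∈ Fcore M, φ x = 0 ↔ x ∈ H0 := fun x hx =>
    (c3 _ (coset_mem_quo H0 hx)).trans (coset_eq_one_iff (hH hx))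
  have d4 : ∀ x ∈ Fcore M, ∀ y ∈ U, φ (y * x * y⁻¹) = ψ y * φ x := fun x hx y hy => by
    simp only [hψ, hφ, coset_conj (hU hy) (hH hx), coset_conj (hU hy) (hH hvH),
      c5 _ (coset_mem_quo H0 hy) _ (coset_mem_quo H0 hx)]
  have d5 : φ v = 1 := c4
  have cj : ∀ {g x}, g ∈ M → x ∈ Fcore M → g * x * g⁻¹ ∈ Fcore M := fun hg hx =>
    conj_mem_of_norm (nH hg) hx
  have d6 : ∀ x ∈ Fcore M, ∀ y ∈ Fcore M, φ x = φ y ↔ x * y⁻¹ ∈ H0 := fun x hx y hy => by
    have := d1 _ (mul_mem hx (inv_mem hy)) y hy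
    rw [inv_mul_cancel_right] at this
    rw [← d3 _ (mul_mem hx (inv_mem hy)), this, add_eq_right]
  have d7 : ∀ x ∈ U, ∀ y ∈ U, ψ (x * y) = ψ x * ψ y := fun x hx y hy => by
    rw [← d4 _ (cj (U_le h hy) hvH) x hx]
    simp only [hψ, mul_inv_rev, mul_assoc]
  have d8 : ψ 1 = 1 := by simpa [hψ] using d5
  have d9 : ∀ x ∈ U, ψ x ≠ 0 := fun x hx =>
    left_ne_zero_of_mul_eq_one (by rw [← d7 x hx _ (inv_mem hx), mul_inv_cancel, d8])
  have d10 : ∀ x ∈ U, ψ x = 1 ↔ x ∈ Pc M U H0 := fun x hx => ⟨fun e => ⟨hx, hU hx, fun y hy =>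
      (d6 _ (cj (U_le h hx) hy) y hy).1 (by rw [d4 y hy x hx, e, one_mul])⟩,
    fun e => d5 ▸ (d6 _ (cj (U_le h hx) hvH) v hvH).2 (e.2.2 v hvH)⟩
  have d0 : ∀ x ∈ Fcore M, φ x⁻¹ = -φ x := fun x hx => eq_neg_of_add_eq_zero_left (by
    rw [← d1 _ (inv_mem hx) x hx, inv_mul_cancel, (d3 1 (one_mem _)).2 (one_mem _)])
  have d11 : AddSubgroup.closure (ψ '' U) = ⊤ := by
    let X : Subgroup G :=
      { carrier := {x | x ∈ Fcore M ∧ φ x ∈ AddSubgroup.closure (ψ '' U)}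
        one_mem' := ⟨one_mem _, (d3 1 (one_mem _)).2 (one_mem _) ▸ zero_mem _⟩
        mul_mem' := fun ha hb => ⟨mul_mem ha.1 hb.1, d1 _ ha.1 _ hb.1 ▸ add_mem ha.2 hb.2⟩
        inv_mem' := fun ha => ⟨inv_mem ha.1, d0 _ ha.1 ▸ neg_mem ha.2⟩ }
    have hX : U ≤ 𝐍(X) := by
      refine le_norm_iff.2 fun y hy x hx => ⟨cj (U_le h hy) hx.1, ?_⟩
      rw [d4 x hx.1 y hy]
      refine AddSubgroup.closure_induction (p := fun z _ => ψ y * z ∈ AddSubgroup.closure (ψ '' U)) ?_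
        (by simp) (fun a b _ _ ha hb => mul_add (ψ y) a b ▸ add_mem ha hb)
        (fun a _ ha => (mul_neg (ψ y) a).symm ▸ neg_mem ha) hx.2
      rintro _ ⟨z, hz, rfl⟩
      exact AddSubgroup.subset_closure ⟨y * z, mul_mem hy hz, d7 y hy z hz⟩
    rcases hg X (fun x hx => ⟨h.chief.le hx, (d3 x (h.chief.le hx)).2 hx ▸ zero_mem _⟩)
      (fun _ hx => hx.1) hX with e | e
    · exact (hv0 (e.le ⟨hvH, AddSubgroup.subset_closure ⟨1, one_mem _, d8.trans d5.symm⟩⟩)).elim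
    · refine eq_top_iff.2 fun z _ => ?_
      obtain ⟨x, hx, rfl⟩ := d2 z
      exact (e.ge hx).2
  have d12 : ∀ w ∈ W1, ∃ α : F ≃+* F, ∀ x ∈ Fcore M, φ (w * x * w⁻¹) = α (φ x) := fun w hw => by
    choose s hs1 hs2 using d2
    have e1 : ∀ g ∈ W1, ∀ x ∈ Fcore M, φ (g * s (φ x) * g⁻¹) = φ (g * x * g⁻¹) := fun g hg x hx => by
      rw [d6 _ (cj (W1_le h hg) (hs1 _)) _ (cj (W1_le h hg) hx)]
      convert conj_mem_of_norm (nH0 h (W1_le h hg)) ((d6 _ (hs1 _) x hx).1 (hs2 _)) using 1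
      group
    have e2 : ∀ g ∈ W1, ∀ z, φ (g⁻¹ * s (φ (g * s z * g⁻¹)) * g⁻¹⁻¹) = z := fun g hg z => by
      rw [e1 _ (inv_mem hg) _ (cj (W1_le h hg) (hs1 z))]
      exact (congrArg φ (by group)).trans (hs2 z)
    let β : F ≃+ F :=
      { toFun := fun z => φ (w * s z * w⁻¹), invFun := fun z => φ (w⁻¹ * s z * w⁻¹⁻¹)
        left_inv := e2 w hw, right_inv := fun z => by simpa using e2 w⁻¹ (inv_mem hw) z
        map_add' := fun a b => by
          rw [← d1 _ (cj (W1_le h hw) (hs1 a)) _ (cj (W1_le h hw) (hs1 b)), ← hs2 a, ← hs2 b,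
            ← d1 _ (hs1 a) _ (hs1 b), e1 w hw _ (mul_mem (hs1 a) (hs1 b)), hs2, hs2]
          congr 1; group }
    have e3 : ∀ x ∈ Fcore M, β (φ x) = φ (w * x * w⁻¹) := e1 w hw
    have e4 : ∀ y ∈ U, ∀ z, β (ψ y * z) = ψ (w * y * w⁻¹) * β z := fun y hy z => by
      rw [← hs2 z, ← d4 _ (hs1 z) y hy, e3 _ (cj (U_le h hy) (hs1 z)), e3 _ (hs1 z),
        ← d4 _ (cj (W1_le h hw) (hs1 z)) _ (conj_mem_of_norm (nU hw) hy)]
      congr 1; group
    have e5 : β 1 = 1 := by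
      rw [← d5, e3 v hvH, mem_cent_iff_conj.1 (le_cent_symm h.typeP.defW.le_cent hw) v hv]
    refine ⟨{ β with map_mul' := fun a b => ?_ }, fun x hx => (e3 x hx).symm⟩
    refine AddSubgroup.closure_induction (p := fun a _ => β (a * b) = β a * β b) ?_ (by simp)
      (fun a c _ _ ha hc => by rw [add_mul, map_add, ha, hc, map_add, add_mul])
      (fun a _ ha => by rw [neg_mul, map_neg, ha, map_neg, neg_mul]) (d11.ge (AddSubgroup.mem_top a))
    rintro _ ⟨y, hy, rfl⟩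
    rw [e4 y hy, ← mul_one (ψ y), e4 y hy, e5, mul_one]
  choose! η hη using d12
  have hq := PtypeHyp.prime_q h
  have : Finite F := Nat.finite_of_card_ne_zero (c0 ▸ (card_pos' _).ne')
  let _ := Fintype.ofFinite F
  have hF : Fintype.card F = Pp M H0 ^ ♯W1 := by rw [← Nat.card_eq_fintype_card, c0, card_quo hH, f3]
  have d13 : Set.InjOn η W1 := fun x hx y hy e => by
    by_contra hne
    have h1 := mul_mem (inv_mem hy) hx
    have h2 := quo_inf_cent1 h.chief.le (nH0 h (W1_le h h1)) ((coprime_card_mono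
      (Ptype_Fcore_coprime h.typeP) h.chief.le le_sup_right).coprime_dvd_right (orderOf_dvd_card h1))
    rw [← inf_eq_left.2 h.typeP.defM'.left_le, inf_assoc, h.typeP.prime_act _ h1
      (fun e => hne (inv_mul_eq_one.1 e).symm), inf_eq_right.2 h.typeP.W2_le,
      inf_eq_left.2 h.typeP.defM'.left_le, inf_eq_left.2] at h2
    · have := congrArg (fun X : Subgroup _ => ♯X) h2
      simp only [card_quo hH, card_quo (h.typeP.W2_le.trans hH), f2, f3] at this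
      exact hq.one_lt.ne (Nat.pow_right_injective hp.two_le ((pow_one _).trans this))
    · intro z0 hz0
      obtain ⟨z, hz, rfl⟩ := (mem_quo_of_le hH).1 hz0
      rw [mem_cent1_comm, mem_cent1, coset_commute_iff (nH0 h (W1_le h h1)) (hH hz)]
      have h3 := (d6 _ (cj (W1_le h hx) hz) _ (cj (W1_le h hy) hz)).1 (by rw [hη x hx z hz, hη y hy z hz, e])
      convert conj_mem_of_norm' (nH0 h (W1_le h hy)) h3 using 1
      rw [commutatorElement_def]; group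
  obtain ⟨_, hA⟩ := card_ringAut_le F hF
  let f : U →* Fˣ :=
    { toFun := fun y => Units.mk0 (ψ y) (d9 y y.2), map_one' := Units.ext d8
      map_mul' := fun x y => Units.ext (d7 x x.2 y y.2) }
  have hf : (Pc M U H0).subgroupOf U = f.ker := Subgroup.ext fun y => by
    rw [mem_subgroupOf, ← d10 y y.2, MonoidHom.mem_ker, Units.ext_iff]; rfl
  have hu : Pu M U H0 = Nat.card f.range := by rw [Pu, relIndex, hf, index_ker]
  have hC := (PtypeHyp.normal_C h).mono inf_le_left le_sup_left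
  have hco : (Pu M U H0).Coprime (Pp M H0 - 1) := by
    refine Nat.coprime_of_dvd fun r hr h1 h2 => ?_
    obtain ⟨_, ⟨y, rfl⟩, hy⟩ := cauchy hr (hu ▸ h1)
    have h3 : ψ y ^ Pp M H0 = ψ y := by
      have := congrArg Units.val (orderOf_dvd_iff_pow_eq_one.1 (hy ▸ h2))
      rw [← Nat.sub_add_cancel hp.one_le, pow_succ]
      exact (congrArg (· * ψ y) this).trans (one_mul _)
    have := charP_of_card_eq_prime_pow hF
    obtain ⟨w, hw, hw1⟩ := exists_mem_ne_one h.typeP.W1_ne_bot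
    have h4 : η w (ψ y) = ψ y := (bot_le (a := RingHom.eqLocusField (η w).toRingHom (RingHom.id F)))
      ((Subfield.mem_bot_iff_pow_eq_self F _).2 h3)
    have h5 : ψ (w * y * w⁻¹ * (y : G)⁻¹) = 1 := by
      refine mul_right_cancel₀ (d9 y y.2) ?_
      rw [← d7 _ (mul_mem (conj_mem_of_norm (nU hw) y.2) (inv_mem y.2)) y y.2, inv_mul_cancel_right,
        one_mul, ← h4, ← hη w hw _ (cj (U_le h y.2) hvH)]
      conv_lhs => rw [hψ]; beta_reduce; rw [← mem_cent_iff_conj.1 (le_cent_symm h.typeP.defW.le_cent hw) v hv]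
      congr 1; group
    have nC := (PtypeHyp.normal_C h).2
    have h6 := semiregular_iff.1 (Ptype_quo_compl_Frobenius h).semiregular _ (coset_mem_quo _ hw)
      (fun e => hw1 (mem_bot.1 ((frob h).sdprod.inf_eq ▸ mem_inf.2
        ⟨((coset_eq_one_iff (nC (mem_sup_right hw))).1 e).1, hw⟩))) _ (coset_mem_quo _ y.2)
      ((coset_commute_iff (nC (mem_sup_right hw)) (nC (mem_sup_left y.2))).2
        ((d10 _ (mul_mem (conj_mem_of_norm (nU hw) y.2) (inv_mem y.2))).1 h5))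
    have h7 : f y = 1 := Units.ext ((d10 y y.2).2 ((coset_eq_one_iff (nC (mem_sup_left y.2))).1 h6))
    exact hr.one_lt.ne (by rw [← hy, h7, orderOf_one])
  refine ⟨⟨F, inferInstance, inferInstance, φ, ψ, η, hF, d1, d2, d3, d7, d9, d10, d11, d4,
    fun x hx y hy => RingEquiv.ext fun z => ?_, d13, fun α => ?_, fun x hx w hw => hη w hw x hx⟩,
    ?_, hco, hco.dvd_of_dvd_mul_right ?_⟩
  · obtain ⟨z, hz, rfl⟩ := d2 z
    rw [← hη _ (mul_mem hx hy) z hz, RingAut.mul_apply, ← hη y hy z hz, ← hη x hx _ (cj (W1_le h hy) hz)]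
    congr 1; group
  · obtain ⟨w, hw⟩ := (Function.Injective.bijective_of_nat_card_le (f := fun w : W1 => η w)
      (fun x y e => Subtype.ext (d13 x.2 y.2 e)) hA).2 α
    exact ⟨w, w.2, hw⟩
  · have := hC.subgroupOf
    let e := (quoEquiv hC.2).symm.trans ((QuotientGroup.quotientMulEquivOfEq hf).trans
      (QuotientGroup.quotientKerEquivRange f))
    exact isCyclic_of_surjective e.symm e.symm.surjective
  · rw [Nat.div_mul_cancel (Nat.sub_one_dvd_pow_sub_one _ _), hu, ← hF, ← Fintype.card_units,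
      ← Nat.card_eq_fintype_card]
    exact card_subgroup_dvd_card _

end Cfsg.Agent.OO.Pf
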