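import Cfsg.Agent.Lib.OO.Pf.BG4_B

/-! # B&G section 4, third part: solvable groups of rank two -/

set_option autoImplicit false
set_option linter.unusedSectionVars false
set_option linter.unusedVariables false

namespace Cfsg.Agent.OO.Pf

open Subgroup Cfsg.Agent.Coprime
open scoped Pointwise commutatorElement

universe u

variable {G : Type u} [Group G] [Finite G]

variable {A C E H K L M N P Q R S T U V X Y : Subgroup G} {p q : ℕ}

namespace B4

theorem der_sup_le (h : A ≤ 𝐍(N)) : der (N ⊔ A) ≤ N ⊔ der A := by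
  have h1 : N ⊔ A ≤ 𝐍(N ⊔ der A) := sup_le (le_norm_of_le le_sup_left)
    (le_norm_sup h (der_normal A).norm)
  have h2 : N ⊔ A ≤ 𝐍(N) := sup_le (le_norm_self N) h
  refine commutator_sup_le h1 ((commutator_le_left' h2).trans le_sup_left) ?_
  rw [Subgroup.commutator_comm]
  exact commutator_sup_le h1 ((commutator_le_left' h).trans le_sup_left) le_sup_right

theorem norm_le_norm_of_char (hT : (T.subgroupOf S).Characteristic) (h : T ≤ S) : 𝐍(S) ≤ 𝐍(T) :=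
  fun g hg => mem_norm_of_conj_mem fun x hx => by
    have := characteristic_iff_le_comap.1 hT (S.normalizerMonoidHom ⟨g, hg⟩)
      (show (⟨x, h hx⟩ : S) ∈ T.subgroupOf S from hx)
    exact this

variable [hp : Fact p.Prime]

theorem isPiNum_relIndex_of_forall (h : ∀ x ∈ K, (orderOf x).Coprime p → x ∈ N) :
    IsPiNum {p} (N.relIndex K) :=
  (relIndex_Oup p K).of_dvd (relIndex_dvd_of_le_left _ (Oup_le_iff.2 h))

theorem Op'_sup_norm (hP : Syl p P (Op'p p H)) : Op' p H ⊔ H ⊓ 𝐍(P) = H := by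
  have h1 := (hP.frattini (Op'p_normal p H)).sup_eq
  rwa [← (sdprod_Op'p hP).sup_eq, sup_assoc,
    sup_eq_right.2 (le_inf (hP.le.trans (Op'p_le p H)) (le_norm_self P))] at h1

theorem mem_Op'_of_cent (hs : Sol H) (hP : Syl p P (Op'p p H)) {x : G} (hx : x ∈ H) (hc : x ∈ 𝐂(P))
    (ho : (orderOf x).Coprime p) : x ∈ Op' p H :=
  (hall_Op'_Op'p p H).mem_of_normal ((Op'p_le p H).trans (Opi_normal _ H).norm)
    (solvable_p_constrained p hs P hP ⟨hx, hc⟩)
    ((isPiNum_compl_singleton hp.out).2 ((Nat.Prime.coprime_iff_not_dvd hp.out).1 ho.symm))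

theorem der_le_Op'p (hs : Sol H) (hP : Syl p P (Op'p p H))
    (h : ∀ x ∈ der (H ⊓ 𝐍(P)), (orderOf x).Coprime p → x ∈ 𝐂(P)) : der H ≤ Op'p p H := by
  have h1 : H ⊓ 𝐍(P) ≤ 𝐍(Op' p H) := inf_le_left.trans (Opi_normal _ H).norm
  have h2 := der_sup_le h1
  rw [Op'_sup_norm hP] at h2
  have h3 : der (H ⊓ 𝐍(P)) ≤ 𝐍(Op' p H) := (der_le _).trans h1
  rw [le_Op'p_iff (der_normal H)]
  refine IsPiNum.of_dvd ?_ (relIndex_dvd_of_le_norm h2 (sup_le (le_norm_self _) h3))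
  rw [relIndex_sup_eq' (Or.inr h3)]
  exact isPiNum_relIndex_of_forall fun x hx ho =>
    mem_Op'_of_cent hs hP (der_le _ hx).1 (h x hx ho) ho

theorem not_dvd_relIndex_Op'p (h : der H ≤ Op'p p H) : ¬ p ∣ (Op'p p H).relIndex H := by
  obtain ⟨S, hS⟩ := exists_syl p H
  have h1 : (Op'p p H ⊔ S) ⊴ H := normalIn_of_der_le (h.trans le_sup_left) (sup_le (Op'p_le p H) hS.le)
  rw [← isPiNum_compl_singleton hp.out, ← plen1_iff, plen1_iff_syl hS]
  refine le_sup_right.trans ((le_Op'p_iff h1).2 ?_)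
  rw [← relIndex_mul_relIndex _ _ _ (Op'_le_Op'p p H) le_sup_left,
    relIndex_sup_eq' (Or.inr (hS.le.trans (Op'p_normal p H).norm))]
  exact isPiNum_mul_iff.2 ⟨relIndex_Op'_Op'p p H, hS.piGrp.relIndex _⟩

theorem dvd_relIndex_cent (hs : Sol H) (hP : Syl p P (Op'p p H)) (hq : q.Prime) (hqp : q ≠ p)
    (h : q ∣ (Op' p H).relIndex H) : q ∣ (H ⊓ 𝐍(P) ⊓ 𝐂(P)).relIndex (H ⊓ 𝐍(P)) := by
  have h1 := relIndex_sup_eq' (A := Op' p H) (B := H ⊓ 𝐍(P))
    (Or.inr (inf_le_left.trans (Opi_normal _ H).norm))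
  rw [Op'_sup_norm hP] at h1
  rw [h1] at h
  have h2 := h.trans (relIndex_dvd_of_le_left (H ⊓ 𝐍(P))
    (inf_le_left : Op' p H ⊓ (H ⊓ 𝐍(P) ⊓ 𝐂(P)) ≤ Op' p H))
  rw [← relIndex_mul_relIndex _ _ _ inf_le_right inf_le_left, inf_relIndex_right, hq.dvd_mul] at h2
  refine h2.resolve_left (IsPiNum.not_dvd (π := {p}) ?_ hq hqp)
  exact isPiNum_relIndex_of_forall fun x hx ho => mem_Op'_of_cent hs hP hx.1.1 hx.2 ho

theorem rank_le_of_rp_le (hP : IsPGroup p P) (h : P ≤ H) {k : ℕ} (hr : rp p H ≤ k) : rank P ≤ k :=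
  (rank_eq_rp hP).le.trans ((rp_mono p h).trans hr)

end B4

open B4

section PGroups
variable [hp : Fact p.Prime]

/-- Theorem 4.18(a) -/
theorem rank2_max_pdiv (hs : Sol H) (ho : Odd ♯H) (hr : rp p H ≤ 2) (hq : q.Prime)
    (h : q ∣ (Op' p H).relIndex H) : q ≤ p := by
  rcases eq_or_ne q p with rfl | hqp
  · rfl
  obtain ⟨P, hP⟩ := exists_syl p (Op'p p H)
  have h1 := hP.le.trans (Op'p_le p H)
  exact (pi_Aut_rank2_pgroup hP.isPGroup (odd_of_le ho h1) (rank_le_of_rp_le hP.isPGroup h1 hr)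
    inf_le_right hq (dvd_relIndex_cent hs hP hq hqp h) hqp).2.1.le

/-- Theorem 4.18(c,e) -/
theorem rank2_der1_complement (hs : Sol H) (ho : Odd ♯H) (hr : rp p H ≤ 2) :
    PNil p (der H) ∧ der H ≤ Op'p p H ∧ ¬ p ∣ (Op'p p H).relIndex H := by
  obtain ⟨P, hP⟩ := exists_syl p (Op'p p H)
  have h1 := hP.le.trans (Op'p_le p H)
  have h2 := der_le_Op'p hs hP (der1_Aut_rank2_pgroup hP.isPGroup (odd_of_le ho h1)
    (rank_le_of_rp_le hP.isPGroup h1 hr) inf_le_right (odd_of_le ho inf_le_left))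
  exact ⟨(pnil_Op'p p H).of_le h2, h2, not_dvd_relIndex_Op'p h2⟩

/-- Theorem 4.18(b) -/
theorem rank2_min_p_complement (hs : Sol H) (ho : Odd ♯H) (hr : rp p H ≤ 2)
    (h : ∀ q : ℕ, q.Prime → q ∣ ♯H → p ≤ q) : PNil p H :=
  pnil_iff_relIndex.2 fun q hq hd =>
    le_antisymm (rank2_max_pdiv hs ho hr hq hd) (h q hq (hd.trans (relIndex_dvd_card _ _)))

theorem rank2_three_complement (hs : Sol H) (ho : Odd ♯H) (hr : rp p H ≤ 2) (h : p = 3) : PNil p H := by
  refine rank2_min_p_complement hs ho hr fun q hq hd => ?_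
  have h1 := hq.two_le
  have h2 : q ≠ 2 := by
    rintro rfl
    exact (Nat.not_even_iff_odd.2 ho) (even_iff_two_dvd.2 hd)
  omega

/-- Theorem 4.18(d) -/
theorem rank2_sub_p'core_der1 (hs : Sol H) (ho : Odd ♯H) (hr : rp p H ≤ 2) (hA : A ≤ der H)
    (h : ¬ p ∣ ♯A) : A ≤ Op' p (der H) :=
  IsPiHallOf.le_of_normal_hall (rank2_der1_complement hs ho hr).1 (Opi_normal _ _).norm hA
    ((piGrp_compl_singleton hp.out).2 h)

/-- Corollary 4.19 -/
theorem rank2_der1_cent_chief (ho : Odd ♯H) (hs : Sol H) (hK : K ⊴ H) (hr : rp p K ≤ 2)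
    (hc : IsChiefIn H V U) (hUV : IsPGroup p (U ⁒ V)) (hU : U ≤ K) : ⁅U, der H⁆ ≤ V := by
  obtain ⟨hlt, hUH, hVH, hmin⟩ := hc
  obtain ⟨P, hP⟩ := exists_syl p U
  have hUV' : U ≤ 𝐍(V) := hUH.le.trans hVH.norm
  have h1 : V ⊔ P = U := by
    refine (IsProd.of_coprime_relIndex hlt.le hP.le ?_).sup_eq
    rw [← card_quo' hUV']
    exact (piGrp_singleton hUV).coprime hP.hall.compl
  have hPH := hP.le.trans hUH.le
  have h2 : V ⊔ H ⊓ 𝐍(P) = H := by
    have := (hP.frattini hUH).sup_eq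
    rwa [← h1, sup_assoc, sup_eq_right.2 (le_inf hPH (le_norm_self P))] at this
  set A := H ⊓ 𝐍(P) with hA
  have hAV : A ≤ 𝐍(V) := inf_le_left.trans hVH.norm
  have hDV : der A ≤ 𝐍(V) := (der_le A).trans hAV
  have h3 := der_sup_le hAV
  rw [h2] at h3
  have h4 : Oup p (der A) ≤ 𝐂(P) := Oup_le_iff.2 (der1_Aut_rank2_pgroup hP.isPGroup (odd_of_le ho hPH)
    (rank_le_of_rp_le hP.isPGroup (hP.le.trans hU) hr) inf_le_right (odd_of_le ho inf_le_left))
  obtain ⟨S, hS⟩ := exists_syl p (der A)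
  have h5 : U ⁒ V = P ⁒ V := by rw [← h1, quo_self_sup (hP.le.trans hUV')]
  have h6 : Oup p (der A) ⁒ V ≤ 𝐂(U ⁒ V) := h5 ▸ quo_le_cent V h4
  have h7 : S ⁒ V ≤ 𝐍(U ⁒ V) :=
    quo_le_norm V (hS.le.trans ((der_le A).trans (inf_le_left.trans hUH.norm)))
  have h8 : der H ⁒ V ≤ Oup p (der A) ⁒ V ⊔ S ⁒ V := by
    rw [← quo_sup ((Oup_le _ _).trans hDV) (hS.le.trans hDV), (Oup_isProd hS).sup_eq,
      ← quo_self_sup hDV]
    exact quo_mono V h3
  have h9 := commutator_lt_of_isPGroup (isPGroup_quo hS.isPGroup V) hUV h7 (quo_ne_bot hUV' hlt.not_ge)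
  have h10 : ⁅U ⁒ V, der H ⁒ V⁆ ≤ ⁅U ⁒ V, S ⁒ V⁆ := by
    refine (commutator_mono le_rfl h8).trans ?_
    rw [Subgroup.commutator_comm]
    refine commutator_sup_le (sup_le (le_norm_of_le_cent (h6.trans (cent_anti h9.le)))
      (le_norm_commutator_right _ _)) ?_ (Subgroup.commutator_comm _ _).le
    rw [commutator_eq_bot_iff.2 h6]
    exact bot_le
  have h11 := hUH.commutator (der_normal H)
  have h12 : ⁅U, der H⁆ ≤ U := commutator_le_left' ((der_le H).trans hUH.norm)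
  rcases hmin _ (h11.sup hVH) le_sup_right (sup_le h12 hlt.le) with h | h
  · exact le_sup_left.trans h.le
  · have h13 := h10.trans_lt h9
    rw [← quo_commutator hUV' ((der_le H).trans hVH.norm), ← quo_sup_self (h12.trans hUV'), h] at h13
    exact (lt_irrefl _ h13).elim

end PGroups

/-- Theorem 4.20(a) -/
theorem rank2_der1_sub_Fitting (ho : Odd ♯H) (hs : Sol H) (hr : rank (Fit H) ≤ 2) : der H ≤ Fit H := by
  refine chief_stab_sub_Fitting hs (der_normal H) fun U V hc hU => ?_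
  obtain ⟨p, hp, h⟩ := sol_chief_abelem hs hc
  have := Fact.mk hp
  exact rank2_der1_cent_chief ho hs (Fit_normal H) ((rp_le_rank p _).trans hr) hc (abelem_isPGroup h) hU

/-- Theorem 4.20(b) -/
theorem rank2_char_Sylow_normal [Fact p.Prime] (ho : Odd ♯H) (hs : Sol H) (hr : rank (Fit H) ≤ 2)
    (hS : Syl p S H) (hT : (T.subgroupOf S).Characteristic) (hTS : T ≤ der S) : T ⊴ H := by
  have h1 := rank2_der1_sub_Fitting ho hs hr
  have h2 := hTS.trans (der_le S)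
  have h3 := norm_le_norm_of_char hT h2
  have h4 : (Fit H ⊔ S) ⊴ H := normalIn_of_der_le (h1.trans le_sup_left) (sup_le (Fit_le H) hS.le)
  have h5 := ((hS.mono le_sup_right h4.le).frattini h4).sup_eq
  have h6 : S ≤ 𝐍(T) := (le_norm_self S).trans h3
  refine ⟨h2.trans hS.le, h5.ge.trans (sup_le (sup_le ?_ h6) (inf_le_right.trans h3))⟩
  rw [← (dprod_Fit p H).sup_eq]
  refine sup_le ((Op_le_syl hS).trans h6) (le_norm_of_le_cent ((dprod_Fit p H).le_cent.trans (cent_anti ?_)))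
  exact le_Op_of_le_Fit (hS.isPGroup.to_le h2) (hTS.trans ((der_mono hS.le).trans h1))

/-- Theorem 4.20(c), last factor -/
theorem rank2_min_p'core_Hall [hp : Fact p.Prime] (ho : Odd ♯H) (hs : Sol H) (hr : rank (Fit H) ≤ 2)
    (h : ∀ q : ℕ, q.Prime → q ∣ ♯H → p ≤ q) : PNil p H := by
  obtain ⟨K, hK⟩ := exists_hall ({p} : Set ℕ)ᶜ hs
  have h4 : (Fit H ⊔ K) ⊴ H := normalIn_of_der_le
    ((rank2_der1_sub_Fitting ho hs hr).trans le_sup_left) (sup_le (Fit_le H) hK.le)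
  have h1 : rp p (Fit H) = rp p (Fit H ⊔ K) := rp_eq_of_not_dvd le_sup_left (by
    rw [relIndex_sup_eq' (Or.inr (hK.le.trans (Fit_normal H).norm)), ← isPiNum_compl_singleton hp.out]
    exact hK.piGrp.relIndex _)
  have h2 : PNil p (Fit H ⊔ K) := rank2_min_p_complement (sol_of_le hs h4.le) (odd_of_le ho h4.le)
    (h1 ▸ (rp_le_rank p _).trans hr) fun q hq hd => h q hq (hd.trans (card_dvd h4.le))
  refine pnil_of_relIndex (h4.Opi _) (Op'_piGrp p _) ?_
  rw [← relIndex_mul_relIndex _ _ _ (Opi_le _ _) h4.le]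
  refine isPiNum_mul_iff.2 ⟨pnil_iff_relIndex.1 h2, ?_⟩
  have h5 := hK.compl
  rw [compl_compl] at h5
  exact h5.of_dvd (relIndex_dvd_of_le_left _ le_sup_right)

/-- Theorem 4.20(c), intermediate factors -/
theorem rank2_ge_pcore_Hall (m : ℕ) (ho : Odd ♯H) (hs : Sol H) (hr : rank (Fit H) ≤ 2) :
    Hall {q | m ≤ q} (Opi {q | m ≤ q} H) H := by
  induction H using WellFoundedLT.induction with
  | _ H ih =>
  by_cases h1 : PiGrp {q | m ≤ q} H
  · rw [Opi_eq_self h1]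
    exact hall_self h1
  obtain ⟨q, hq, hqd, hqm⟩ := exists_prime_not_mem h1
  have hp := Nat.minFac_prime (n := ♯H) fun e => hq.one_lt.ne' (Nat.dvd_one.1 (e ▸ hqd))
  have := Fact.mk hp
  have h2 : PNil (♯H).minFac H := rank2_min_p'core_Hall ho hs hr fun r hr hd =>
    Nat.minFac_le_of_dvd hr.two_le hd
  have h3 := Opi_normal ({(♯H).minFac} : Set ℕ)ᶜ H
  have h4 : Op' (♯H).minFac H < H := h3.le.lt_of_ne fun e =>
    not_dvd_Op' (p := (♯H).minFac) H ((Nat.minFac_dvd _).trans (card_dvd e.ge))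
  have h5 := ih _ h4 (odd_of_le ho h3.le) (sol_of_le hs h3.le)
    ((rank_mono (Fit_le_of_normal h3)).trans hr)
  refine hall_Opi_of_normal_hall (h5.trans h2 fun r hr e => hqm ?_) (h3.Opi _).norm
  exact le_trans (show m ≤ r from hr) ((show r = _ from e).le.trans (Nat.minFac_le_of_dvd hq.two_le hqd))

/-- Theorem 4.20(c), first factor -/
theorem rank2_max_pcore_Sylow [Fact p.Prime] (ho : Odd ♯H) (hs : Sol H) (hr : rank (Fit H) ≤ 2)
    (h : ∀ q : ℕ, q.Prime → q ∣ ♯H → q ≤ p) : Syl p (Op p H) H := by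
  have h1 : ∀ q : ℕ, q.Prime → q ∣ ♯H → (q ∈ {q | p ≤ q} ↔ q ∈ ({p} : Set ℕ)) := fun q hq hd =>
    ⟨fun h2 => le_antisymm (h q hq hd) h2, fun h2 => (show q = p from h2).ge⟩
  have h2 := rank2_ge_pcore_Hall p ho hs hr
  rw [Opi_congr h1] at h2
  exact syl_Op_iff_hall.2 (h2.congr h1)

end Cfsg.Agent.OO.Pf
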