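import Cfsg.Agent.Lib.OO.Pf.BG4_A
import Cfsg.Agent.Lib.Schur.AutRank

/-! # B&G section 4, second part: automorphisms of `p`-groups of rank two -/

set_option autoImplicit false
set_option linter.unusedSectionVars false
set_option linter.unusedVariables false

namespace Cfsg.Agent.OO.Pf

open Subgroup Cfsg.Agent.Coprime
open scoped Pointwise commutatorElement

universe u

variable {G : Type u} [Group G] [Finite G]

variable {A C E H K L M N Q R S T U V X Y : Subgroup G} {p q : ℕ}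

namespace B4

theorem der_norm_le_cent (h : IsCyclic C) : der 𝐍(C) ≤ 𝐂(C) := by
  let _ := (h.mulAutMulEquiv _).toMonoidHom.commGroupOfInjective (h.mulAutMulEquiv _).injective
  have h1 := Abelianization.commutator_subset_ker C.normalizerMonoidHom
  rw [Subgroup.normalizerMonoidHom_ker] at h1
  rw [der_eq_map]
  rintro _ ⟨x, hx, rfl⟩
  exact h1 hx

theorem pow_pred_mem_cent [hp : Fact p.Prime] (h : ♯C = p) {y : G} (hy : y ∈ 𝐍(C)) :
    y ^ (p - 1) ∈ 𝐂(C) := by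
  have := isCyclic_of_prime (H := C) (h ▸ hp.out)
  have h1 : (⟨y, hy⟩ : 𝐍(C)) ^ (p - 1) ∈ C.normalizerMonoidHom.ker := by
    rw [MonoidHom.mem_ker, map_pow, ← Nat.totient_prime hp.out, ← h, ← IsCyclic.card_mulAut,
      pow_card_eq_one']
  rwa [Subgroup.normalizerMonoidHom_ker] at h1

theorem not_dvd_card_quo (h : ¬ p ∣ ♯A) (N : Subgroup G) : ¬ p ∣ ♯(A ⁒ N) := fun h1 => by
  refine h (h1.trans ((card_map_dvd _ _).trans ?_))
  rw [← inf_subgroupOf_right, Nat.card_congr (subgroupOfEquivOfLe inf_le_right).toEquiv]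
  exact card_dvd inf_le_left

theorem quo_Ohm_le (p : ℕ) (h : H ≤ 𝐍(N)) : Ohm p H ⁒ N ≤ Ohm p (H ⁒ N) := by
  rw [quo_le_iff_le_quoPre ((Ohm_le p H).trans h), Ohm_le_iff]
  intro x hx hxp
  refine mem_quoPre.2 ⟨h hx, mem_Ohm (coset_mem_quo N hx) ?_⟩
  rw [← coset_pow (h hx), hxp, coset_eq_one (one_mem N)]

variable [hp : Fact p.Prime]

theorem coprime_of_not_dvd (hR : IsPGroup p R) (hA : ¬ p ∣ ♯A) : (♯R).Coprime ♯A :=
  coprime_of_isPGroup hR ((piGrp_compl_singleton hp.out).2 hA)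

theorem ab_of_metacyclic_of_comm_eq (hR : IsPGroup p R) (ho : Odd ♯R) (hA : ¬ p ∣ ♯A)
    (hm : IsMetacyclic R) (hc : ⁅R, A⁆ = R) : Ab R := by
  by_contra hab
  have hn : A ≤ 𝐍(R) := hc ▸ le_norm_commutator_right R A
  have hnc : ¬ IsCyclic R := fun h => hab (ab_of_isCyclic h)
  obtain ⟨S, hdS, hS⟩ := Finite.exists_le_maximal
    (p := fun S : Subgroup G => IsCyclic S ∧ S ≤ R ∧ A ≤ 𝐍(S))
    ⟨isCyclic_der hm, der_le R, hn.trans (norm_le_norm_der R)⟩
  obtain ⟨⟨h1, h2, h3⟩, hmax⟩ := hS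
  have h4 : S ⊴ R := normalIn_of_der_le hdS h2
  have h5 : S ≤ Zc R := le_inf h2 (le_cent_symm
    (hc.ge.trans ((commutator_mono h4.norm h3).trans (der_norm_le_cent h1))))
  have h6 : Ab (R ⁒ S) := ab_quo_of_der_le hdS
  have h7 := isPGroup_quo hR S
  have h8 : A ⁒ S ≤ 𝐍(R ⁒ S) := quo_le_norm S hn
  obtain ⟨W, hW, hWn⟩ := Maschke_abelem (Ohm_abelem p h6) (not_dvd_card_quo hA S)
    (quo_Ohm_le p h4.norm) (le_norm_Ohm p h8) (quo_le_norm S (le_norm_Ohm p hn))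
  have h9 : quoPre S W ≤ R := quoPre_le_of_le h4 (hW.right_le.trans (Ohm_le _ _))
  have h10 : Ohm p (quoPre S W) ≤ S := by
    rw [← quo_eq_bot_iff ((Ohm_le _ _).trans (quoPre_le_norm W)), eq_bot_iff, ← hW.inf_eq]
    exact le_inf (quo_mono S (Ohm_mono p h9))
      ((quo_le_iff_le_quoPre ((Ohm_le _ _).trans (quoPre_le_norm W))).2 (Ohm_le _ _))
  have h11 : IsCyclic (quoPre S W) := by
    rw [isCyclic_iff_rp_of_odd (hR.to_le h9) (odd_of_le ho h9), ← rp_Ohm]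
    exact (rp_mono p h10).trans (rp_le_one_of_isCyclic h1)
  have h12 : W = ⊥ := quoPre_eq_iff.1
    (le_antisymm (hmax ⟨h11, h9, le_norm_quoPre h3 hWn⟩ (le_quoPre W)) (le_quoPre W))
  have h13 := hW.sup_eq
  rw [h12, sup_bot_eq] at h13
  have hE := Ohm1_metacyclic_p2Elem hm hR ho hnc
  have h14 : S ⊓ Ohm p R ≠ ⊥ := inf_Ohm_ne_bot hR (by
    rw [inf_eq_left.2 h2]
    rintro rfl
    exact hab (ab_iff_der.2 (le_bot_iff.1 hdS)))
  obtain ⟨k, hk⟩ := dvd_card_of_isPGroup (hR.to_le (inf_le_left.trans h2)) h14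
  have h15 := card_inf_mul_relIndex S (Ohm p R)
  have hk0 : 0 < k := Nat.pos_of_ne_zero fun e => (card_pos' (S ⊓ Ohm p R)).ne' (by rw [hk, e, mul_zero])
  rw [hk, hE.card, ← card_quo' ((Ohm_le p R).trans h4.norm), h13, sq, mul_assoc] at h15
  have h16 : ♯(Ohm p (R ⁒ S)) ≤ p ^ 1 := by
    rw [pow_one]
    exact (Nat.le_mul_of_pos_left _ hk0).trans (Nat.eq_of_mul_eq_mul_left hp.out.pos h15).le
  have h17 : IsCyclic (R ⁒ S) := by
    rw [isCyclic_iff_rp_of_ab h7 h6, ← rp_Ohm]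
    exact rp_le_of_card_le h16
  exact hab (cyclic_center_factor_abelian h5 h17)

theorem isCyclic_of_inf_eq_bot (hR : IsPGroup p R) (ho : Odd ♯R) (hE : ♯(Ohm p R) ≤ p ^ 2) (hX : X ≤ R)
    (hY : Y ≤ R) (h : X ⊓ Y = ⊥) (hY1 : Y ≠ ⊥) : IsCyclic X := by
  rw [isCyclic_iff_rp_of_odd (hR.to_le hX) (odd_of_le ho hX)]
  by_contra h1
  obtain ⟨F, hF⟩ := exists_isEp (p := p) (n := 2) (H := X) (by omega)
  have h2 := eq_of_le_of_card_le (hF.mono hX).le_Ohm (hF.card ▸ hE)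
  refine Ohm_ne_bot (hR.to_le hY) hY1 (le_bot_iff.1 (h ▸ le_inf ?_ (Ohm_le _ _)))
  exact (Ohm_mono p hY).trans (h2.ge.trans hF.le)

end B4

open B4

variable [hp : Fact p.Prime]

/-- Theorem 4.12 (Huppert) -/
theorem coprime_metacyclic_cent_sdprod (hR : IsPGroup p R) (ho : Odd ♯R) (hA : ¬ p ∣ ♯A) (hn : A ≤ 𝐍(R))
    (hm : IsMetacyclic R) :
    Ab ⁅R, A⁆ ∧ IsSdprod ⁅R, A⁆ (R ⊓ 𝐂(A)) R ∧
    (¬ Ab R → ¬ A ≤ 𝐂(R) → R ⊓ 𝐂(A) ≠ ⊥ ∧ IsCyclic ↥⁅R, A⁆ ∧ IsCyclic ↥(R ⊓ 𝐂(A)) ∧ der R ≤ ⁅R, A⁆) := by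
  have hT : ⁅R, A⁆ ≤ R := commutator_le_left' hn
  have hco := coprime_of_not_dvd hR hA
  have hs := sol_of_isPGroup hR
  have h1 := coprime_commGid hn hco (Or.inl hs)
  have h2 : Ab ⁅R, A⁆ := ab_of_metacyclic_of_comm_eq (hR.to_le hT) (odd_of_le ho hT) hA
    (Reg.isMetacyclic_of_le hm hT) h1
  have h3 : IsSdprod ⁅R, A⁆ (R ⊓ 𝐂(A)) R := by
    refine ⟨coprime_cent_prod hn hco (Or.inl hs), inf_le_left.trans (le_norm_commutator_left R A), ?_⟩
    have h4 := coprime_abel_cent_TI (le_norm_commutator_right R A) (coprime_card_mono hco hT le_rfl) h2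
    rw [h1] at h4
    exact le_bot_iff.1 (h4 ▸ inf_le_inf_left _ inf_le_right)
  refine ⟨h2, h3, fun hab hc => ?_⟩
  have h4 : R ⊓ 𝐂(A) ≠ ⊥ := fun e => hab (h3.left_eq_iff.2 e ▸ h2)
  have h5 : ⁅R, A⁆ ≠ ⊥ := fun e => hc (commutator_eq_bot_iff'.1 e)
  have h6 := (card_Ohm_le_of_isMetacyclic hm hR ho).1
  have h7 := isCyclic_of_inf_eq_bot hR ho h6 inf_le_left hT ((inf_comm _ _).trans h3.inf_eq) h5
  exact ⟨h4, isCyclic_of_inf_eq_bot hR ho h6 hT inf_le_left h3.inf_eq h4, h7,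
    h3.der_le_of_ab (ab_of_isCyclic h7)⟩

theorem B4.relIndex_Phi_le (hH : IsPGroup p H) (hr : rank H ≤ 2) (he : ∀ x ∈ H, x ^ p = 1) :
    (Phi H).relIndex H ≤ p ^ 2 := by
  have h1 := card_mul_relIndex (Phi_le H)
  by_cases h : Phi H = ⊥
  · rw [h, card_bot, one_mul] at h1
    rw [h, h1]
    exact rp_le_iff.1 ((rp_le_rank p H).trans hr) H le_rfl ((Phi_eq_bot_iff hH).1 h)
  · have h2 := Nat.le_of_dvd (card_pos' _) (dvd_card_of_isPGroup (hH.to_le (Phi_le H)) h)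
    have h3 := rank2_exponent_p_p3group hH hr he
    refine Nat.le_of_mul_le_mul_left ?_ hp.out.pos
    calc p * (Phi H).relIndex H ≤ ♯(Phi H) * (Phi H).relIndex H := Nat.mul_le_mul_right _ h2
      _ ≤ p ^ 3 := h1 ▸ h3
      _ = p * p ^ 2 := by ring

/-- the critical subgroup of an odd `p`-group, with the exponent condition on elements -/
theorem B4.critical (hR : IsPGroup p R) (ho : Odd ♯R) :
    ∃ H, H ≤ R ∧ 𝐍(R) ≤ 𝐍(H) ∧ ⁅H, R⁆ ≤ Zc H ∧ (∀ x ∈ H, x ^ p = 1) ∧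
      ∀ x ∈ 𝐍(R), (orderOf x).Coprime p → x ∈ 𝐂(H) → x ∈ 𝐂(R) := by
  by_cases h1 : R = ⊥
  · exact ⟨R, le_rfl, le_rfl, by simp [h1], by simp [h1], fun x _ _ h => h⟩
  obtain ⟨H, h2, -, h3, h4, -, h5, h6⟩ := critical_odd hR ho h1
  refine ⟨H, h2, h3, h4, fun x hx => ?_, h6⟩
  have := Monoid.pow_exponent_eq_one (⟨x, hx⟩ : H)
  rw [show Monoid.exponent H = p from h5] at this
  exact congrArg Subtype.val this

omit hp in
theorem B4.exists_not_mem (hq : q.Prime) (h : q ∣ K.relIndex A) :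
    ∃ x ∈ A, (∃ k, orderOf x = q ^ k) ∧ x ∉ K := by
  have := Fact.mk hq
  obtain ⟨Q, hQ⟩ := exists_syl q A
  by_contra h1
  push Not at h1
  refine hQ.not_dvd (h.trans (relIndex_dvd_of_le_left _ fun x hx => h1 x (hQ.le hx) ?_))
  obtain ⟨k, hk⟩ := IsPGroup.iff_orderOf.1 hQ.isPGroup ⟨x, hx⟩
  exact ⟨k, by rw [← hk, Subgroup.orderOf_mk]⟩

/-- Lemmas 4.13 and 4.14, for internal actions -/
theorem pi_Aut_rank2_pgroup (hR : IsPGroup p R) (ho : Odd ♯R) (hr : rank R ≤ 2) (hn : A ≤ 𝐍(R))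
    (hq : q.Prime) (hqA : q ∣ (A ⊓ 𝐂(R)).relIndex A) (hqp : q ≠ p) :
    q ∣ p ^ 2 - 1 ∧ q < p ∧ (q ∣ (p + 1) / 2 ∨ q ∣ (p - 1) / 2) := by
  obtain ⟨x, hx, ⟨k, hk⟩, hxc⟩ := exists_not_mem hq hqA
  have hxc' : x ∉ 𝐂(R) := fun h => hxc ⟨hx, h⟩
  have hp2 : p ≠ 2 := ne_two hR ho (by rintro rfl; exact hxc' fun y hy => by simp [mem_bot.1 hy])
  obtain ⟨H, h1, h2, -, h3, h4⟩ := critical hR ho
  have hco : (orderOf x).Coprime p := hk ▸ ((Nat.coprime_primes hq hp.out).2 hqp).pow_left k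
  have hH := hR.to_le h1
  have h5 : Group.rank H ≤ 2 := by
    have h6 := relIndex_Phi_le hH ((rank_mono h1).trans hr) h3
    rwa [Phi, relIndex_map_subtype, PGrp.index_frattini_eq_pow_rank hH,
      Nat.pow_le_pow_iff_right hp.out.one_lt] at h6
  obtain ⟨r, rfl⟩ := hp.out.odd_of_ne_two hp2
  have h7 : (2 * r + 1) ^ 2 - 1 = 2 * r * (2 * (r + 1)) := Nat.sub_eq_of_eq_add (by ring)
  have h6 : q ∣ (2 * r + 1) ^ 2 - 1 := by
    by_contra h6
    refine hxc' (h4 x (hn hx) hco (Schur.mem_centralizer_of_rank_le hH h5 (h2 (hn hx)) hco ?_))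
    rw [hk]
    refine Nat.Coprime.pow_left k ((Nat.Prime.coprime_iff_not_dvd hq).2 fun h8 => h6 ?_)
    rw [show Finset.Icc 1 2 = {1, 2} from rfl, Finset.prod_pair (by norm_num), hq.dvd_mul] at h8
    refine h8.elim (fun h8 => ?_) id
    rw [h7]
    exact (by simpa using h8 : q ∣ 2 * r).mul_right _
  have hr0 : 0 < r := by
    have := hp.out.two_le
    omega
  have h8 : q ∣ r + 1 ∨ q ∣ r := by
    rw [h7, hq.dvd_mul, hq.dvd_mul, hq.dvd_mul] at h6
    have h2 : q ∣ 2 → q ∣ r + 1 ∨ q ∣ r := fun h => by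
      rw [(Nat.prime_dvd_prime_iff_eq hq Nat.prime_two).1 h]
      omega
    tauto
  refine ⟨h6, ?_, ?_⟩
  · rcases h8 with h8 | h8
    · have := Nat.le_of_dvd (by omega) h8
      omega
    · have := Nat.le_of_dvd hr0 h8
      omega
  · rwa [show (2 * r + 1 + 1) / 2 = r + 1 by omega, show (2 * r + 1 - 1) / 2 = r by omega]

theorem B4.mem_cent_of_Phi (hH : IsPGroup p H) {x : G} (hx : x ∈ 𝐍(H)) (hc : (orderOf x).Coprime p)
    (h : coset (Phi H) x ∈ 𝐂(H ⁒ Phi H)) : x ∈ 𝐂(H) := by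
  have h1 := norm_le_norm_Phi H hx
  refine zpowers_le.1 (coprime_cent_Phi hH (zpowers_le.2 hx) ?_ ?_)
  · obtain ⟨n, hn⟩ := IsPGroup.iff_card.1 hH
    rw [hn, Nat.card_zpowers]
    exact hc.symm.pow_left n
  · rw [Subgroup.commutator_comm, ← quo_le_cent_iff (zpowers_le.2 h1) (Phi_normal H).norm,
      quo_zpowers h1, zpowers_le]
    exact h

theorem B4.abelem_quo_Phi (hH : IsPGroup p H) : IsElementaryAbelian p (H ⁒ Phi H) := by
  refine ⟨ab_quo_of_der_le (der_le_Phi hH), fun a ha => ?_⟩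
  obtain ⟨x, hx, rfl⟩ := (mem_quo_of_le (Phi_normal H).norm).1 ha
  rw [← coset_pow ((Phi_normal H).norm hx), coset_eq_one (pow_mem_Phi hH hx)]

/-- Theorem 4.17, for internal actions: `(A / C_A(R))'` is a `p`-group -/
theorem der1_Aut_rank2_pgroup (hR : IsPGroup p R) (ho : Odd ♯R) (hr : rank R ≤ 2) (hn : A ≤ 𝐍(R))
    (hoA : Odd ♯A) : ∀ x ∈ der A, (orderOf x).Coprime p → x ∈ 𝐂(R) := by
  intro x hx hco
  obtain ⟨H, h1, h2, -, h3, h4⟩ := critical hR ho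
  have hH := hR.to_le h1
  have hxR := hn (der_le A hx)
  refine h4 x hxR hco (mem_cent_of_Phi hH (h2 hxR) hco ?_)
  refine der1_odd_norm_p2Elem (A := A ⁒ Phi H) (abelem_quo_Phi hH) ?_ (quo_le_norm _ (hn.trans h2))
    (odd_quo hoA _) _ ?_ (hco.coprime_dvd_left (orderOf_coset_dvd _ _))
  · rw [B4.card_quo (Phi_normal H)]
    exact relIndex_Phi_le hH ((rank_mono h1).trans hr) h3
  · rw [← quo_der (hn.trans (h2.trans (norm_le_norm_Phi H)))]
    exact coset_mem_quo _ hx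

/-! ### Blackburn's theorem -/

namespace B4

theorem closure_triple_map {x y z : R} (h : closure ({x, y, z} : Set R) = ⊤) :
    closure ({(x : G), (y : G), (z : G)} : Set G) = R := by
  have := congrArg (Subgroup.map R.subtype) h
  rw [map_subtype_top, MonoidHom.map_closure] at this
  simpa [Set.image_insert_eq] using this

theorem rank2_classification (hR : IsPGroup p R) (h3 : 3 < p) (hr : rank R ≤ 2) :
    IsMetacyclic R ∨
    (∃ (m : ℕ) (x y z : G), closure ({x, y, z} : Set G) = R ∧ x ^ p = 1 ∧ y ^ p = 1 ∧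
      z ^ p ^ (m + 1) = 1 ∧ x * z = z * x ∧ y * z = z * y ∧ x⁻¹ * y * x = y * z ^ p ^ m) ∨
    (∃ (m s : ℕ) (x y z : G), ♯R = p ^ (m + 4) ∧ ¬ p ∣ s ∧ closure ({x, y, z} : Set G) = R ∧
      x ^ p = 1 ∧ y ^ p = 1 ∧ z ^ p ^ (m + 2) = 1 ∧ y * z = z * y ∧
      x⁻¹ * y * x = y * (z ^ p ^ (m + 1)) ^ s ∧ x⁻¹ * z * x = y * z) := by
  obtain ⟨n, hn⟩ := IsPGroup.iff_card.1 hR
  rcases S3888.result (by omega) n hn (pRankLE_of_rp_le ((rp_le_rank p R).trans hr)) with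
    h1 | ⟨h1, x, y, z, h2, h4, h5, h6, h7, h8, h9⟩ |
      ⟨h1, s, x, y, z, hs, h2, h4, h5, h6, h7, h8, h9⟩ | ⟨h1, -⟩
  · exact Or.inl h1
  · obtain ⟨m, rfl⟩ := Nat.exists_eq_add_of_le' h1
    exact Or.inr (Or.inl ⟨m, x, y, z, closure_triple_map h2, congrArg Subtype.val h4,
      congrArg Subtype.val h5, congrArg Subtype.val h6, congrArg Subtype.val h7,
      congrArg Subtype.val h8, congrArg Subtype.val h9⟩)
  · obtain ⟨m, rfl⟩ := Nat.exists_eq_add_of_le' h1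
    refine Or.inr (Or.inr ⟨m, s, x, y, z, hn, fun h => ?_, closure_triple_map h2,
      congrArg Subtype.val h4, congrArg Subtype.val h5, congrArg Subtype.val h6,
      congrArg Subtype.val h7, ?_, congrArg Subtype.val h9⟩)
    · rcases hs with rfl | hs
      · exact hp.out.one_lt.ne' (Nat.dvd_one.1 h)
      · exact hs (by rw [(ZMod.natCast_eq_zero_iff s p).2 h]; exact IsSquare.zero)
    · rw [← pow_mul, mul_comm _ s]
      exact congrArg Subtype.val h8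
  · omega

omit hp in
theorem comm_aux {T : Type*} [CommGroup T] {y z : T} (h : closure ({y, z} : Set T) = ⊤) {s k i e : ℕ}
    (hy : y ^ k = 1) (ψ : T →* T) (h1 : ψ y = y * (z ^ k) ^ (s * i))
    (h2 : ψ z = y ^ i * (z ^ k) ^ e * z) (h3 : ψ (z ^ k) = z ^ k) (t : T) :
    ψ (ψ t / t) / (ψ t / t) = (t ^ k) ^ (s * i ^ 2) := by
  set D := ψ / MonoidHom.id T with hD
  have hD' : ∀ u, D u = ψ u / u := fun u => rfl
  have h5 : D y = (z ^ k) ^ (s * i) := by rw [hD', h1, mul_div_cancel_left]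
  have h6 : D (z ^ k) = 1 := by rw [hD', h3, div_self']
  have h7 : D z = y ^ i * (z ^ k) ^ e := by rw [hD', h2, mul_div_cancel_right]
  have h4 : D.comp D = (powMonoidHom (s * i ^ 2)).comp (powMonoidHom k) := by
    refine MonoidHom.eq_of_eqOn_dense h ?_
    rintro u (hu | hu)
    · rw [hu, MonoidHom.comp_apply, h5, map_pow, h6, MonoidHom.comp_apply, powMonoidHom_apply,
        powMonoidHom_apply, hy, one_pow, one_pow]
    · rw [Set.mem_singleton_iff.1 hu, MonoidHom.comp_apply, h7, map_mul, map_pow D (z ^ k), h6,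
        map_pow, h5, MonoidHom.comp_apply, powMonoidHom_apply, powMonoidHom_apply, one_pow, mul_one,
        ← pow_mul (z ^ k), sq, mul_assoc]
  exact DFunLike.congr_fun h4 t

omit hp in
/-- iterated conjugation in the exceptional groups of rank two -/
theorem conj_pow_aux {x y z w : G} {s : ℕ} (hyz : Commute y z) (hyw : Commute y w) (hzw : Commute z w)
    (hw : x⁻¹ * w * x = w) (h1 : x⁻¹ * y * x = y * w ^ s) (h2 : x⁻¹ * z * x = y * z) (i : ℕ) :
    (x ^ i)⁻¹ * y * x ^ i = y * w ^ (s * i) ∧ (∃ e : ℕ, (x ^ i)⁻¹ * z * x ^ i = y ^ i * w ^ e * z) ∧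
      (x ^ i)⁻¹ * w * x ^ i = w := by
  have hc : ∀ (u : G) (k : ℕ), x⁻¹ * u ^ k * x = (x⁻¹ * u * x) ^ k := fun u k => by
    simpa using (conj_pow (a := x⁻¹) (b := u) (i := k)).symm
  have hm : ∀ u v : G, x⁻¹ * (u * v) * x = (x⁻¹ * u * x) * (x⁻¹ * v * x) := fun u v => by group
  have hs : ∀ (u : G) (k : ℕ), (x ^ (k + 1))⁻¹ * u * x ^ (k + 1) = x⁻¹ * ((x ^ k)⁻¹ * u * x ^ k) * x :=
    fun u k => by rw [pow_succ]; group
  induction i with
  | zero => exact ⟨by simp, ⟨0, by simp⟩, by simp⟩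
  | succ i ih =>
    obtain ⟨h3, ⟨e, h4⟩, h5⟩ := ih
    refine ⟨?_, ⟨s * i + e, ?_⟩, ?_⟩
    · rw [hs, h3, hm, hc, h1, hw, mul_assoc, ← pow_add, mul_add, mul_one, add_comm]
    · rw [hs, h4, hm, hm, hc, hc, h1, h2, hw, (hyw.pow_right s).mul_pow, ← pow_mul, pow_succ, pow_add]
      have := (hyw.pow_right (s * i + e)).eq
      rw [pow_add] at this
      simp only [mul_assoc] at this ⊢
      rw [← mul_assoc (w ^ e), ← mul_assoc (w ^ (s * i)), ← this]
      simp only [mul_assoc]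
    · rw [hs, h5, hw]

theorem not_comm_eq_of_exceptional {m s : ℕ} {x y z : G} (hc : ♯R = p ^ (m + 4)) (hs : ¬ p ∣ s)
    (hR : closure ({x, y, z} : Set G) = R) (hx : x ^ p = 1) (hy : y ^ p = 1)
    (hz : z ^ p ^ (m + 2) = 1) (hyz : y * z = z * y) (h1 : x⁻¹ * y * x = y * (z ^ p ^ (m + 1)) ^ s)
    (h2 : x⁻¹ * z * x = y * z) (hoA : Odd ♯A) : ⁅R, A⁆ ≠ R := by
  intro hRA
  have hn : A ≤ 𝐍(R) := hRA ▸ le_norm_commutator_right R A
  have hyz' : Commute y z := hyz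
  have hyk : y ^ p ^ (m + 1) = 1 := by rw [pow_succ', pow_mul, hy, one_pow]
  set w := z ^ p ^ (m + 1) with hw
  have hwp : w ^ p = 1 := by rw [hw, ← pow_mul, ← pow_succ, hz]
  have hxw : x⁻¹ * w * x = w := by
    have := conj_pow (a := x⁻¹) (b := z) (i := p ^ (m + 1))
    rw [inv_inv, h2, hyz'.mul_pow, hyk, one_mul] at this
    exact this.symm
  set T := zpowers y ⊔ zpowers z with hT
  have hyT : y ∈ T := mem_sup_left (mem_zpowers y)
  have hzT : z ∈ T := mem_sup_right (mem_zpowers z)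
  have hab : Ab T := ab_sup (ab_of_isCyclic inferInstance) (ab_of_isCyclic inferInstance)
    (by rw [cent_zpowers, zpowers_le, mem_cent1]; exact hyz)
  have hxT : x ∈ 𝐍(T) := by
    rw [← inv_mem_iff]
    refine mem_norm_of_conj_le ?_
    rw [hT, conj_sup, conj_zpowers, conj_zpowers, inv_inv, h1, h2]
    exact sup_le (zpowers_le.2 (mul_mem hyT (pow_mem (pow_mem hzT _) _))) (zpowers_le.2 (mul_mem hyT hzT))
  have hxR : x ∈ R := hR ▸ subset_closure (by simp)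
  have hyR : y ∈ R := hR ▸ subset_closure (by simp)
  have hzR : z ∈ R := hR ▸ subset_closure (by simp)
  have hTR : T ≤ R := sup_le (zpowers_le.2 hyR) (zpowers_le.2 hzR)
  have hRT : T ⊔ zpowers x = R := by
    refine le_antisymm (sup_le hTR (zpowers_le.2 hxR)) (hR.ge.trans ((closure_le _).2 ?_))
    rintro _ (rfl | rfl | rfl)
    exacts [mem_sup_right (mem_zpowers _), mem_sup_left hyT, mem_sup_left hzT]
  have hRn : R ≤ 𝐍(T) := hRT ▸ sup_le (le_norm_self T) (zpowers_le.2 hxT)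
  have hq : R ⁒ T = zpowers (coset T x) := by
    rw [← hRT, quo_self_sup (zpowers_le.2 hxT), quo_zpowers hxT]
  have hdT : der R ≤ T := (ab_quo_iff hRn).1 (hq ▸ ab_of_isCyclic inferInstance)
  have hp0 := hp.out.pos
  have hw1 : w ≠ 1 := fun e => by
    have h3 : ∀ {u : G} {k : ℕ}, u ^ p ^ k = 1 → ♯(zpowers u) ≤ p ^ k := fun h => by
      rw [Nat.card_zpowers]
      exact Nat.le_of_dvd (pow_pos hp0 _) (orderOf_dvd_of_pow_eq_one h)
    have h4 := Nat.le_of_dvd (Nat.mul_pos (card_pos' _) (card_pos' _))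
      (card_sup_dvd (A := T) (B := zpowers x) (Or.inr (zpowers_le.2 hxT)))
    have h5 := Nat.le_of_dvd (Nat.mul_pos (card_pos' _) (card_pos' _))
      (card_sup_dvd (A := zpowers y) (B := zpowers z) (Or.inl (le_norm_of_le_cent
        (by rw [cent_zpowers, zpowers_le, mem_cent1]; exact hyz))))
    have h6 := h4.trans (Nat.mul_le_mul (h5.trans (Nat.mul_le_mul (h3 (k := 1) (by rwa [pow_one])) (h3 e)))
      (h3 (k := 1) (by rwa [pow_one])))
    rw [hRT, hc, ← pow_add, ← pow_add, Nat.pow_le_pow_iff_right hp.out.one_lt] at h6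
    omega
  have hwo : orderOf w = p := orderOf_eq_prime hwp hw1
  have hxC : x ∉ R ⊓ 𝐂(der R) := fun h => by
    have h3 : y ∈ der R := by
      have := commutator_mem_commutator (inv_mem hxR) hzR
      rwa [commutatorElement_def, inv_inv, h2, mul_inv_cancel_right] at this
    have h4 := h.2 y h3
    rw [mul_assoc, h4, inv_mul_cancel_left, left_eq_mul, ← orderOf_dvd_iff_pow_eq_one, hwo] at h1
    exact hs h1
  have hTC : T = R ⊓ 𝐂(der R) := by
    have h3 : T ≤ R ⊓ 𝐂(der R) := le_inf hTR (hab.le_cent.trans (cent_anti hdT))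
    have h4 := sup_inf_of_le_left (B := zpowers x) (Or.inr (zpowers_le.2 hxT)) h3
    rw [hRT, inf_comm (zpowers x), PGrp.inf_zpowers_eq_bot hxC hx, sup_bot_eq, ← inf_assoc,
      inf_idem] at h4
    exact h4.symm
  have hAT : A ≤ 𝐍(T) := hTC ▸ le_norm_inf hn (le_norm_cent (hn.trans (norm_le_norm_der R)))
  have key : ∀ (i : ℕ), ∀ τ ∈ T, ∀ t ∈ T, (τ * x ^ i)⁻¹ * ((τ * x ^ i)⁻¹ * t * (τ * x ^ i) * t⁻¹) *
      (τ * x ^ i) * ((τ * x ^ i)⁻¹ * t * (τ * x ^ i) * t⁻¹)⁻¹ = (t ^ p ^ (m + 1)) ^ (s * i ^ 2) := by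
    intro i τ hτ t ht
    obtain ⟨h3, ⟨e, h4⟩, h5⟩ := conj_pow_aux hyz' (hyz'.pow_right _) ((Commute.refl z).pow_right _)
      hxw h1 h2 i
    have h6 : ∀ u ∈ T, (τ * x ^ i)⁻¹ * u * (τ * x ^ i) = (x ^ i)⁻¹ * u * x ^ i := fun u hu => by
      rw [mul_inv_rev, ← mul_assoc, mul_assoc _ u, ab_iff.1 hab u hu τ hτ]
      group
    letI : CommGroup T := { (inferInstance : Group T) with mul_comm := hab.1.1 }
    have hxi : (τ * x ^ i)⁻¹ ∈ 𝐍(T) := inv_mem (mul_mem (le_norm_self T hτ) (pow_mem hxT i))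
    let ψ : T →* T := (T.normalizerMonoidHom ⟨_, hxi⟩).toMonoidHom
    have hψ : ∀ u : T, (ψ u : G) = (τ * x ^ i)⁻¹ * u * (τ * x ^ i) := fun u => by
      change (τ * x ^ i)⁻¹ * u * ((τ * x ^ i)⁻¹)⁻¹ = _
      rw [inv_inv]
    have h7 := comm_aux (y := (⟨y, hyT⟩ : T)) (z := ⟨z, hzT⟩) (k := p ^ (m + 1)) (s := s) (i := i) (e := e)
      (by
        apply map_injective T.subtype_injective
        rw [map_subtype_top, MonoidHom.map_closure, Set.image_pair, Set.insert_eq, Subgroup.closure_union,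
          ← zpowers_eq_closure, ← zpowers_eq_closure]
        rfl)
      (Subtype.ext hyk) ψ (Subtype.ext (by rw [hψ, h6 _ hyT]; exact h3))
      (Subtype.ext (by rw [hψ, h6 _ hzT]; exact h4))
      (Subtype.ext (by rw [hψ, h6 _ (Subtype.coe_prop _)]; exact h5)) ⟨t, ht⟩
    have h8 := congrArg Subtype.val h7
    simpa only [div_eq_mul_inv, coe_mul, coe_inv, hψ, SubgroupClass.coe_pow] using h8
  have hAx : A ⁒ T ≤ 𝐂(R ⁒ T) := by
    rw [hq, cent_zpowers]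
    intro a' ha'
    obtain ⟨a, ha, rfl⟩ := (mem_quo_of_le hAT).1 ha'
    obtain ⟨τ, hτ, v, hv, h3⟩ := (mem_sup_norm_left (zpowers_le.2 hxT)).1
      (hRT.ge (conj_mem_of_norm (hn ha) hxR))
    obtain ⟨i, rfl⟩ := mem_powers_iff_mem_zpowers.2 hv
    simp only at h3
    have h4 := key i τ hτ _ (conj_mem_of_norm (hAT ha) hzT)
    have h5 := key 1 1 (one_mem T) z hzT
    rw [pow_one, one_mul, one_pow, mul_one] at h5
    rw [h3, conj_pow, conj_pow, ← hw] at h4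
    have h6 : w ^ s = w ^ (s * i ^ 2) := by
      have h7 : a * w ^ s * a⁻¹ = a * w ^ (s * i ^ 2) * a⁻¹ := by
        rw [← h4, ← h5]
        group
      simpa using h7
    rw [pow_eq_pow_iff_modEq, hwo] at h6
    have h7 : 1 ≡ i ^ 2 [MOD p] := Nat.ModEq.cancel_left_of_coprime
      ((Nat.Prime.coprime_iff_not_dvd hp.out).2 hs) (by rwa [mul_one])
    have h8 : coset T a * coset T x * (coset T a)⁻¹ = coset T x ^ (i : ℤ) := by
      rw [← coset_conj (hAT ha) hxT, ← h3, coset_mul_of_mem' hτ (pow_mem hxT i), coset_pow hxT,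
        zpow_natCast]
    have h9 := PGrp.pow_conj_eq h8 2
    have h10 : coset T x ^ ((i : ℤ) ^ 2) = coset T x := by
      have h11 : coset T x ^ p = 1 := by rw [← coset_pow hxT, hx, coset_eq_one (one_mem T)]
      rw [← Nat.cast_pow, zpow_natCast]
      conv_rhs => rw [← pow_one (coset T x)]
      exact pow_eq_pow_iff_modEq.2 (h7.symm.of_dvd (orderOf_dvd_of_pow_eq_one h11))
    rw [h10, ← mem_cent1_iff_conj] at h9
    refine zpowers_le.2 h9 (mem_zpowers_pow_iff.2 ?_)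
    exact (Nat.coprime_two_left.2 (hoA.of_dvd_nat
      ((orderOf_coset_dvd T a).trans (orderOf_dvd_card ha))))
  rw [quo_le_cent_iff hAT hRn, Subgroup.commutator_comm, hRA] at hAx
  exact hxC (hTC ▸ hAx hxR)

end B4

/-- Theorem 4.16 (Blackburn) -/
theorem rank2_coprime_comm_cprod (hR : IsPGroup p R) (ho : Odd ♯R) (hR1 : R ≠ ⊥) (hr : rank R ≤ 2)
    (hc : ⁅R, A⁆ = R) (hA : ¬ p ∣ ♯A) (hoA : Odd ♯A) :
    3 < p ∧ (Ab R ∨ ∃ S C : Subgroup G, ¬ Ab S ∧ ♯S = p ^ 3 ∧ expo S ∣ p ∧ IsCyclic C ∧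
      IsCprod S C R ∧ Ohm p C = der S) := by
  have hn : A ≤ 𝐍(R) := hc ▸ le_norm_commutator_right R A
  have h3 : 3 < p := by
    have h1 : (A ⊓ 𝐂(R)).relIndex A ≠ 1 := fun h =>
      hR1 (hc ▸ commutator_eq_bot_iff'.2 ((relIndex_eq_one.1 h).trans inf_le_right))
    obtain ⟨q, hq, h2⟩ := Nat.exists_prime_and_dvd h1
    have h4 : q ∣ ♯A := h2.trans (relIndex_dvd_card _ _)
    have h5 := (pi_Aut_rank2_pgroup hR ho hr hn hq h2 (by rintro rfl; exact hA h4)).2.1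
    have h6 := hq.two_le
    have h7 : q ≠ 2 := by
      rintro rfl
      exact (Nat.not_even_iff_odd.2 hoA) (even_iff_two_dvd.2 h4)
    omega
  refine ⟨h3, ?_⟩
  rcases rank2_classification hR h3 hr with h | ⟨m, x, y, z, h1, hx, hy, hz, hxz, hyz, h2⟩ |
    ⟨m, s, x, y, z, h1, h2, h4, h5, h6, h7, h8, h9, h10⟩
  · exact Or.inl (ab_of_metacyclic_of_comm_eq hR ho hA h hc)
  swap
  · exact (not_comm_eq_of_exceptional h1 h2 h4 h5 h6 h7 h8 h9 h10 hoA hc).elim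
  refine or_iff_not_imp_left.2 fun hab => ?_
  have h4 : IsCprod (closure {x, y}) (zpowers z) R := by
    refine ⟨?_, le_cent_symm ?_⟩
    · rw [← h1, zpowers_eq_closure, ← Subgroup.closure_union]
      congr 1
      ext
      simp only [Set.mem_union, Set.mem_insert_iff, Set.mem_singleton_iff, or_assoc]
    · rw [cent_zpowers]
      exact Reg.closure_pair_le (mem_cent1.2 hxz) (mem_cent1.2 hyz)
  have h5 : ¬ Ab (closure {x, y}) := fun h => hab (h4.ab h (ab_of_isCyclic inferInstance))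
  have h6 : ∀ u ∈ closure ({x, y} : Set G), u ^ p = 1 := fun u hu =>
    exponent_Ohm1_rank2 hR hr h3 u (Reg.closure_pair_le
      (mem_Ohm (h4.left_le (Reg.left_mem_closure_pair x y)) hx)
      (mem_Ohm (h4.left_le (Reg.right_mem_closure_pair x y)) hy) hu)
  have h7 := hR.to_le h4.left_le
  have h8 : der (closure {x, y}) ≤ Ohm p (zpowers z) := by
    have h9 := (h4.normal_right.Ohm p).norm
    rw [Set.pair_comm]
    have h10 : closure ({y, x} : Set G) = closure {y⁻¹, x⁻¹} := by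
      rw [← closure_inv, Set.inv_insert, Set.inv_singleton]
    rw [h10]
    refine Reg.commutator_closure_pair_le
      (inv_mem (h9 (h4.left_le (Reg.right_mem_closure_pair x y))))
      (inv_mem (h9 (h4.left_le (Reg.left_mem_closure_pair x y)))) ?_
    rw [commutatorElement_def, inv_inv, inv_inv, mul_assoc y⁻¹, mul_assoc y⁻¹, h2, inv_mul_cancel_left]
    exact mem_Ohm (pow_mem (mem_zpowers z) _) (by rw [← pow_mul, ← pow_succ, hz])
  have h9 : der (closure {x, y}) ≠ ⊥ := fun h => h5 (ab_iff_der.2 h)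
  have h10 := isEp_Ohm_of_isCyclic (H := zpowers z) inferInstance
    (dvd_card_of_isPGroup (hR.to_le h4.right_le) fun e => h9 (le_bot_iff.1 (e ▸ h8.trans (Ohm_le _ _))))
  exact ⟨_, _, h5, le_antisymm (rank2_exponent_p_p3group h7 ((rank_mono h4.left_le).trans hr) h6)
    (cube_le_card_of_not_ab h7 h5),
    Monoid.exponent_dvd_of_forall_pow_eq_one fun u => Subtype.ext (h6 u u.2), inferInstance, h4,
    ((eq_bot_or_eq_of_prime h10.prime_card h8).resolve_left h9).symm⟩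

end Cfsg.Agent.OO.Pf
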