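import Cfsg.Agent.Lib.OO.Pf.BG3_B
import Cfsg.Agent.Lib.Mod.Faithful

/-! # B&G theorem 3.6 -/

set_option autoImplicit false
set_option linter.unusedSectionVars false
set_option linter.unusedVariables false

namespace Cfsg.Agent.OO.Pf

open Subgroup Module Polynomial Cfsg.Agent.Coprime Cfsg.Agent.Mod
open scoped Pointwise commutatorElement

universe u v w

variable {G : Type u} [Group G] [Finite G]

variable {H K L P R R0 T V : Subgroup G} {p : ℕ}

section Core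

variable {F W : Type*} [Field F] [AddCommGroup W] [Module F W] {ρ : Representation F G W}

theorem mem_stab_map_rho {c : Submodule F W} {g y : G} :
    g ∈ stab ρ (c.map (ρ y)) ↔ y⁻¹ * g * y ∈ stab ρ c := by
  rw [mem_stab, mem_stab, mul_assoc, map_rho_mul, map_rho_mul]
  exact ⟨fun h => by rw [h, map_rho_inv_map], fun h => by
    rw [← map_rho_map_inv (ρ := ρ) (Submodule.map (ρ g) _) y, h]⟩

variable [FiniteDimensional F W] [IsAlgClosed F]

theorem comps_of_finrank_fix_le_one (hp : (♯R).Prime) (hn : R ≤ 𝐍(T)) (hT : ((♯T : ℕ) : F) ≠ 0)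
    (h : finrank F (fix ρ R) ≤ 1) {c : Submodule F W} (hc : c ∈ comps ρ T) (hR : ¬ R ≤ stab ρ c) :
    (∀ b ∈ R, b ∈ stab ρ c → b = 1) ∧ finrank F c = 1 ∧
      ∀ d ∈ comps ρ T, ¬ R ≤ stab ρ d → ∃ b ∈ R, d.map (ρ b) = c := by
  classical
  haveI := Fintype.ofFinite R
  have h0 : ∀ c, ¬ R ≤ stab ρ c → ∀ b ∈ R, b ∈ stab ρ c → b = 1 := fun c hR b hb hbc => by
    by_contra h1
    have := semiregular_prime (K := ⊥) hp (bot_inf_eq _)
    refine hR (le_trans (eq_of_le_of_card_le (zpowers_le.2 hb) (Nat.le_of_eq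
      ((Nat.dvd_prime hp).1 (card_dvd_of_le (zpowers_le.2 hb)) |>.resolve_left
        fun e => h1 (zpowers_eq_bot.1 (card_eq_one.1 e))).symm)).ge (zpowers_le.2 hbc))
  have h1 : ∀ c ∈ comps ρ T, ¬ R ≤ stab ρ c → ∃ π : End F W, (∀ w ∈ c, π (nrm ρ R w) = w) ∧
      ∀ d ∈ comps ρ T, (∀ b ∈ R, d.map (ρ b) ≠ c) → ∀ w ∈ d, π (nrm ρ R w) = 0 := fun c hc hR => by
    obtain ⟨π, -, hp1, hp2⟩ := sSupIndep.exists_proj (sSupIndep_comps hT) (R := {c})
      (Set.singleton_subset_iff.2 hc)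
    refine ⟨π, fun w hw => ?_, fun d hd h w hw => ?_⟩
    · rw [nrm_apply, map_sum, Finset.sum_eq_single (1 : R), OneMemClass.coe_one, map_one,
        End.one_apply, hp1 c rfl w hw]
      · exact fun b _ hb => hp2 _ (map_rho_mem_comps hc (hn b.2))
          (fun e => hb (Subtype.ext (h0 c hR b b.2 e))) _ (Submodule.mem_map_of_mem hw)
      · exact fun h => (h (Finset.mem_univ _)).elim
    · rw [nrm_apply, map_sum]
      exact Finset.sum_eq_zero fun b _ => hp2 _ (map_rho_mem_comps hd (hn b.2)) (h b b.2) _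
        (Submodule.mem_map_of_mem hw)
  obtain ⟨π, h2, h3⟩ := h1 c hc hR
  refine ⟨h0 c hR, le_antisymm ((Submodule.finrank_mono (t := (fix ρ R).map π) fun w hw =>
    ⟨_, nrm_mem_fix R w, h2 w hw⟩).trans ((Submodule.finrank_map_le _ _).trans h))
    (finrank_pos_iff.2 (Submodule.nontrivial_iff_ne_bot.2 (ne_bot_of_mem_comps hc))),
    fun d hd hRd => ?_⟩
  by_contra! h4
  obtain ⟨π', h5, -⟩ := h1 d hd hRd
  obtain ⟨v, hv, hv0⟩ := (Submodule.ne_bot_iff c).1 (ne_bot_of_mem_comps hc)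
  obtain ⟨w, hw, hw0⟩ := (Submodule.ne_bot_iff d).1 (ne_bot_of_mem_comps hd)
  obtain ⟨u, hu⟩ := finrank_le_one_iff.1 h
  obtain ⟨s, hs⟩ := hu ⟨_, nrm_mem_fix R v⟩
  obtain ⟨t, ht⟩ := hu ⟨_, nrm_mem_fix R w⟩
  replace hs : s • (u : W) = nrm ρ R v := congrArg Subtype.val hs
  replace ht : t • (u : W) = nrm ρ R w := congrArg Subtype.val ht
  have h6 := h3 d hd h4 w hw
  rw [← ht, map_smul, smul_eq_zero] at h6
  rcases h6 with rfl | h6
  · exact hw0 (by rw [← h5 w hw, ← ht, zero_smul, map_zero])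
  · exact hv0 (by rw [← h2 v hv, ← hs, map_smul, h6, smul_zero])

theorem le_stab_of_finrank_fix_le_one (h : IsFrob L P R) (hp : (♯R).Prime) (ho : Odd ♯L)
    (hn : L ≤ 𝐍(T)) (hT : ((♯T : ℕ) : F) ≠ 0) (h4 : finrank F (fix ρ R) ≤ 1) {c : Submodule F W}
    (hc : c ∈ comps ρ T) : P ≤ stab ρ c := by
  have hPL := (IsFrob.sdprod h).left_le
  have hRL := (IsFrob.sdprod h).right_le
  have key := @comps_of_finrank_fix_le_one G _ _ R T F W _ _ _ ρ _ _ hp (hRL.trans hn) hT h4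
  have hm : ∀ {c}, c ∈ comps ρ T → ∀ {y}, y ∈ P → c.map (ρ y) ∈ comps ρ T :=
    fun hc _ hy => map_rho_mem_comps hc (hn (hPL hy))
  have h1 : ∀ c ∈ comps ρ T, R ≤ stab ρ c → P ≤ stab ρ c := fun c hc hR y hy => by
    by_contra hyc
    have h2 : ∀ y ∈ P, y ∉ stab ρ c → ¬ R ≤ stab ρ (c.map (ρ y)) := fun y hy hyc e => by
      obtain ⟨a, ha, a1⟩ := (Subgroup.bot_or_exists_ne_one R).resolve_left h.1.right_ne_bot
      obtain ⟨s, hs, e'⟩ := Frob.exists_conj_of_fpf (K := P ⊓ stab ρ c) (h := a)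
        (mem_norm_inf (h.1.le_normalizer ha) (le_normalizer (hR ha)))
        (fun x hx => h.1.fpf a ha a1 x hx.1) (k := y⁻¹ * a * y * a⁻¹)
        (mem_inf.2 ⟨by
          simpa only [mul_assoc] using
            P.mul_mem (P.inv_mem hy) (conj_mem_of_norm (h.1.le_normalizer ha) hy),
          mul_mem (mem_stab_map_rho.1 (e ha)) (inv_mem (hR ha))⟩)
      have := h.1.fpf a ha a1 (y * s) (P.mul_mem hy hs.1) (by
        rw [inv_mul_cancel_right, mul_inv_eq_iff_eq_mul] at e'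
        rw [mul_assoc y, e']
        group)
      exact hyc (eq_inv_of_mul_eq_one_left this ▸ inv_mem hs.2)
    obtain ⟨b, hb, e⟩ := (key (hm hc (P.inv_mem hy))
      (h2 _ (P.inv_mem hy) (mt inv_mem_iff.1 hyc))).2.2 _ (hm hc hy) (h2 y hy hyc)
    have h3 : (y * b) ^ 2 ∈ stab ρ c := by
      rw [mem_stab, pow_two, map_rho_mul, map_rho_mul, map_rho_mul, mem_stab.1 (hR hb), e,
        map_rho_map_inv]
    obtain ⟨m, hm⟩ := ho.of_dvd_nat (orderOf_dvd_natCard L (L.mul_mem (hPL hy) (hRL hb)))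
    have h5 : y * b ∈ stab ρ c := by
      rw [← inv_mem_iff, ← eq_inv_of_mul_eq_one_left (a := (y * b) ^ (2 * m))
        (by rw [← pow_succ, ← hm, pow_orderOf_eq_one]), pow_mul]
      exact pow_mem h3 m
    exact hyc ((mul_mem_cancel_right (hR hb)).1 h5)
  by_cases h2 : ∃ z ∈ P, R ≤ stab ρ (c.map (ρ z))
  · obtain ⟨z, hz, h2⟩ := h2
    have h3 := h1 _ (hm hc hz) h2
    rwa [← mem_stab.1 (h3 (P.inv_mem hz)), map_rho_inv_map] at h3
  push Not at h2
  intro y hy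
  obtain ⟨b, hb, e⟩ := (key hc (map_rho_one (ρ := ρ) c ▸ h2 1 P.one_mem)).2.2 _ (hm hc hy) (h2 y hy)
  rw [← map_rho_mul, ← mem_stab] at e
  by_cases h3 : b * y ∈ P
  · rwa [h.1.eq_one_of_mem ((mul_mem_cancel_right hy).1 h3) hb, one_mul] at e
  obtain ⟨z, hz, h5⟩ := h.1.exists_conj_mem (h.2.ge (L.mul_mem (hRL hb) (hPL hy))) h3
  have h6 := (key (hm hc (P.inv_mem hz)) (h2 _ (P.inv_mem hz))).1 _ h5
    (mem_stab_map_rho.2 (by simpa [mul_assoc] using e))
  have h7 : b * y = 1 := by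
    have : b * y = z * (z⁻¹ * (b * y) * z) * z⁻¹ := by group
    rw [this, h6]; group
  exact (h3 (h7 ▸ P.one_mem)).elim

theorem le_ker_of_finrank_fix_le_one (h : IsFrob L P R) (hp : (♯R).Prime) (ho : Odd ♯L)
    (hn : L ≤ 𝐍(T)) (hc : (♯T).Coprime ♯L) (hs : Sol T) (hT : ((♯T : ℕ) : F) ≠ 0)
    (h1 : ⁅T, P⁆ = T) (h2 : der T ≤ 𝐂(T)) (h3 : Ab (T ⊓ 𝐂(R))) (h4 : finrank F (fix ρ R) ≤ 1) :
    T ≤ ρ.ker := by
  have hRL := (IsFrob.sdprod h).right_le
  rw [← kerOn_top, le_kerOn_iff, ← sSup_comps (ρ := ρ) hT, sSup_le_iff]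
  intro c hc'
  have hP := le_stab_of_finrank_fix_le_one h hp ho hn hT h4 hc'
  have hTc := isInv_of_mem_comps hc'
  refine le_kerOn_iff.1 (le_kerOn_of_le_stab ?_ hP h1)
  by_cases hR : R ≤ stab ρ c
  swap
  · exact fun g hg => mem_scal_of_finrank_eq_one
      (comps_of_finrank_fix_le_one hp (hRL.trans hn) hT h4 hc' hR).2.1 (hTc g hg)
  have hL := isInv_iff_le_stab.2 (h.2.ge.trans (sup_le hP hR))
  have h5 := normalizer_kerOn hTc
  have h6 : ⁅⁅R, T⁆, T ⊓ 𝐂(R)⁆ ≤ kerOn ρ c := by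
    refine Reg.three_subgroups (hRL.trans (normalizer_kerOn hL)) h5 (inf_le_left.trans h5) ?_ ?_
    · refine commutator_le.2 fun a ha b hb => commutator_mem_kerOn_of_mem_scal ?_ (hR hb)
      exact le_scal_of_mem_comps (der_le T) h2 hc' (commutator_mono le_rfl inf_le_left ha)
    · rw [commutator_eq_bot_iff.2 inf_le_right, commutator_bot_left]
      exact bot_le
  have h7 := coprime_cent_prod (hRL.trans hn) (hc.coprime_dvd_right (card_dvd_of_le hRL)) (Or.inl hs)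
  have h8 : ⁅T, T ⊓ 𝐂(R)⁆ ≤ kerOn ρ c := by
    nth_rw 1 [← h7]
    exact commutator_sup_le (h7.le.trans h5) (commutator_comm R T ▸ h6)
      ((ab_iff_der.1 h3).le.trans bot_le)
  have h9 := commutator_le_of_cent_compl_le (V := T ⊓ scal ρ c) h hn hc hs
    ⟨inf_le_left, le_norm_inf le_normalizer (normalizer_scal hTc)⟩
    (le_norm_inf hn (normalizer_scal hL)) fun g hg => ⟨hg.1, by
      obtain ⟨U, hU, hcU⟩ := id hc'
      have hUc : U ≤ c := hcU ▸ le_hcomp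
      exact exists_smul_on_comp hT hc' hU hUc hg.1 fun a ha w hw =>
        h8 (commutator_mem_commutator ha hg) w (hUc hw)⟩
  rw [commutator_comm, h1] at h9
  exact h9.trans inf_le_right

end Core

theorem le_cent_of_isCyclic_cent [hp' : Fact p.Prime] (hV : IsElementaryAbelian p V)
    (h : IsFrob L P R) (hp : (♯R).Prime) (ho : Odd ♯L) (hn : L ≤ 𝐍(T)) (hc : (♯T).Coprime ♯L)
    (hs : Sol T) (hT : ¬ p ∣ ♯T) (hL : L ≤ 𝐍(V)) (hTV : T ≤ 𝐍(V)) (h1 : ⁅T, P⁆ = T)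
    (h2 : der T ≤ 𝐂(T)) (h3 : Ab (T ⊓ 𝐂(R))) (h4 : IsCyclic ↥(V ⊓ 𝐂(R))) : T ≤ 𝐂(V) := by
  have hP := (IsFrob.sdprod h).left_le.trans hL
  have hR := (IsFrob.sdprod h).right_le.trans hL
  obtain ⟨W, _, _, _, ρ, ι, hl⟩ := exists_isLin_normalizer (AlgebraicClosure (ZMod p)) hV
  haveI := Core.normal_subgroupOf_of_le_normalizer (le_refl 𝐍(V))
  have h5 := le_ker_of_finrank_fix_le_one (ρ := ρ) (L := L.subgroupOf 𝐍(V)) (T := T.subgroupOf 𝐍(V))
    ⟨h.1.subgroupOf hP hR, by rw [← subgroupOf_sup hP hR, h.2]⟩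
    (by rwa [Core.card_subgroupOf_of_le hR]) (by rwa [Core.card_subgroupOf_of_le hL])
    (subgroupOf_le_normalizer hn)
    (by rwa [Core.card_subgroupOf_of_le hL, Core.card_subgroupOf_of_le hTV])
    (Core.isSolvable_subgroupOf hs _)
    (natCast_ne_zero_of_not_dvd _ (by rwa [Core.card_subgroupOf_of_le hTV]))
    (by rw [commutator_subgroupOf hTV hP, h1])
    (by rw [der, commutator_subgroupOf hTV hTV, centralizer_subgroupOf hTV]; exact comap_mono h2)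
    (by rw [inf_centralizer_subgroupOf hR]; exact isMulCommutative_subgroupOf h3) (by
      have := hl.card_fix (R.subgroupOf _)
      obtain ⟨x, hx⟩ := (Subgroup.isCyclic_iff_exists_zpowers_eq_top _).1 h4
      rw [card_inf_centralizer_subgroupOf hR le_normalizer, ← hx, Nat.card_zpowers] at this
      exact (Nat.pow_dvd_pow_iff_le_right hp'.out.one_lt).1 (by
        rw [← this, pow_one]
        exact orderOf_dvd_of_pow_eq_one (hV.2 x (hx.le (mem_zpowers x)).1)))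
  rw [hl.ker_eq, centralizer_subgroupOf le_normalizer] at h5
  exact fun x hx => h5 (x := ⟨x, hTV hx⟩) hx

theorem Op_quo_Op_bg3 [Fact p.Prime] (H : Subgroup G) : Op p (H ⁒ Op p H) = ⊥ := by
  obtain ⟨X, h1, h2, h3⟩ := exists_quo_eq_normal (Op_normal p H) (Op_normal p (H ⁒ Op p H))
  rw [← h3]
  refine quo_eq_bot (le_Op h2 (piGrp_of_relIndex (piGrp_singleton (Op_isPGroup p H)) ?_).isPGroup)
  rw [← card_quo_bg3 (h2.1.trans (Op_normal p H).2), h3]
  exact piGrp_singleton (Op_isPGroup p _)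

theorem plen1_of_abelem [hp' : Fact p.Prime] (hs : Sol L) (ho : Odd ♯L) (h : IsSdprod H R L)
    (hc : (♯H).Coprime ♯R) (h0 : R0 ≤ R) (hp : (♯R0).Prime) (hZ : IsZGroup ↥(H ⊓ 𝐂(R0)))
    (hHR : ⁅H, R⁆ = H) (hO : Op' p H = ⊥) (hV : IsElementaryAbelian p (Op p H)) : PLen1 p H := by
  have hsH := sol_of_le hs h.left_le
  have hCV := cent_Op_le_of_Op'_eq_bot hsH hO
  have hVH := Op_normal p H
  have hRV := le_norm_Op p h.le_norm
  have hcX : ∀ X ≤ H, ∀ Y ≤ R, (♯X).Coprime ♯Y := fun X hX Y hY =>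
    (hc.coprime_dvd_left (card_dvd_of_le hX)).coprime_dvd_right (card_dvd_of_le hY)
  have hF := syl_Op_Fit p (H ⁒ Op p H)
  rw [Op_quo_Op_bg3] at hF
  set V := Op p H with hVdef
  have hUH := quoPre_normal hVH (Fit_normal (H ⁒ V))
  have hRU : R ≤ 𝐍(quoPre V (Fit (H ⁒ V))) :=
    le_norm_quoPre hRV (le_norm_Fit (quo_le_norm V h.le_norm))
  have hUV : quoPre V (Fit (H ⁒ V)) ⁒ V = Fit (H ⁒ V) := quo_quoPre _
  have hU : ∀ X ≤ H, X ⁒ V ≤ Fit (H ⁒ V) → X ≤ quoPre V (Fit (H ⁒ V)) := fun X hX =>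
    (quo_le_iff_le_quoPre (hX.trans hVH.2)).1
  have hVU : V ≤ quoPre V (Fit (H ⁒ V)) := le_quoPre _
  set U := quoPre V (Fit (H ⁒ V))
  have hUn := hUH.1.trans hVH.2
  have hVS : Syl p V U := ⟨hVU, Op_isPGroup p H, by
    rw [← card_quo_bg3 hUn, hUV]; exact hF.eq_bot_iff.1 rfl⟩
  obtain ⟨K, hK, hRK⟩ := coprime_Hall_exists ({p} : Set ℕ)ᶜ hRU (hcX U hUH.1 R le_rfl)
    (sol_of_le hsH hUH.1)
  have hVK := hVS.hall.sdprod hUn hK
  have hKH := hK.le.trans hUH.1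
  have hpK := (piGrp_compl_singleton hp'.out).1 hK.piGrp
  have hKn : Nil K := by
    have : Nil (U ⁒ V) := hUV ▸ Fit_nil _
    exact Group.nilpotent_of_mulEquiv hVK.quoEquiv.symm
  have hCK : H ⊓ 𝐂(K) ≤ U := hU _ inf_le_left ((quo_inf_cent_le H K V).trans (by
    rw [← hVK.quo_left, hUV]
    exact cent_sub_Fitting (sol_quo_bg3 hVH.2 hsH)))
  have hHN : V ⊔ H ⊓ 𝐍(K) = H := by
    have := (hK.frattini (sol_of_le hsH hUH.1) hUH).sup_eq
    rwa [← hVK.sup_eq, sup_assoc, sup_of_le_right (le_inf hKH le_normalizer)] at this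
  have hRN : R ≤ 𝐍(H ⊓ 𝐍(K)) := le_norm_inf h.le_norm (le_norm_norm hRK)
  obtain ⟨P, hP, hRP⟩ := exists_invariant_sylow p hRN (hcX _ inf_le_left R le_rfl).symm
    (Or.inr (sol_of_le hsH inf_le_left))
  have hPH := hP.1.trans inf_le_left
  have hPK := hP.1.trans inf_le_right
  by_cases hPU : P ≤ U
  · refine plen1_of_syl_Op ⟨hVH.1, hVS.2.1, fun e => hP.2.2 (e.trans ?_)⟩
    have h1 := (IsProd.of_norm (Or.inr (inf_le_left.trans hVH.2 : H ⊓ 𝐍(K) ≤ _))).symm.relIndex_eq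
    rw [hHN] at h1
    exact h1 ▸ relIndex_dvd_of_le_left _ (hVS.le_of_normal_syl hUn hPU hP.2.1)
  exfalso
  have hKV := hKH.trans hVH.2
  have hVKc : (♯V).Coprime ♯K := coprime_of_isPGroup hVS.2.1 hK.piGrp
  have hV'V : ⁅V, K⁆ ≤ V := commutator_le_left' hKV
  have hV' := Core.isElementaryAbelian_of_le hV hV'V
  have hfaith : ∀ X ≤ K, X ≤ 𝐂(⁅V, K⁆) → X = ⊥ := fun X h1 h2 => by
    refine le_bot_iff.1 (le_trans (le_inf ((le_inf (h1.trans hKH) ?_).trans hCV) h1) hVK.inf_eq.le)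
    rw [← (coprime_abelian_cent_dprod hKV hVKc hV.1).sup_eq]
    exact le_cent_sup h2 (le_cent_mono (le_cent_symm le_rfl) h1 inf_le_right)
  have hn' : ∀ X, X ≤ 𝐍(V) → X ≤ 𝐍(K) → X ≤ 𝐍(⁅V, K⁆) := fun X => le_norm_commutator
  have hR0K := h0.trans hRK
  have hR0V := hn' R0 (h0.trans hRV) hR0K
  have hpR : ¬ p ∣ ♯R0 := hp'.out.coprime_iff_not_dvd.1 ((hcX P hPH R0 h0).coprime_dvd_left
    (dvd_card_of_isPGroup hP.2.1 fun e => hPU (e.le.trans bot_le)))
  have hcyc : ∀ X ≤ H, X ≤ 𝐂(R0) → Nil X → IsCyclic X := fun X h1 h2 =>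
    isCyclic_of_isZGroup_of_nil (isZGroup_of_le hZ (le_inf h1 h2))
  by_cases h1 : ⁅V, K⁆ ⊓ 𝐂(R0) = ⊥
  · have h2 := IsSdprod.of_coprime hR0K (hcX K hKH R0 h0)
    have h3 := sup_le (hKH.trans h.left_le) (h0.trans h.right_le)
    have h4 := odd_prime_sdprod_abelem_cent1 (sol_of_le hs h3) (ho.of_dvd_nat (card_dvd_of_le h3)) h2
      (hcX K hKH R0 h0) hp hV' (sup_le (le_norm_commutator_right _ _) hR0V)
      (by rw [← h2.card, hp'.out.dvd_mul]; exact fun e => e.elim hpK hpR) h1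
    haveI := hcyc K hKH (commutator_eq_bot_iff'.1
      (hfaith _ (h4.trans inf_le_left) (h4.trans inf_le_right))) hKn
    refine hPU (hPH.trans (hHR.ge.trans ?_))
    nth_rw 1 [← hHN]
    refine commutator_sup_le (hHN.le.trans hUH.2) ((commutator_le_left' hRV).trans hVU)
      (le_trans (le_inf ((commutator_le_left' hRN).trans inf_le_left) ?_) hCK)
    exact commutator_le.2 fun a ha b hb => Frob.commutator_mem_centralizer_of_isCyclic ha.2 (hRK hb)
  have h2 : P ⊓ 𝐂(R0) = ⊥ := by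
    by_contra h2
    have hX : IsPGroup p ↥(⁅V, K⁆ ⊓ 𝐂(R0)) := hVS.2.1.to_le (inf_le_left.trans hV'V)
    have hY : IsPGroup p ↥(P ⊓ 𝐂(R0)) := hP.2.1.to_le inf_le_left
    have h3 := hcyc _ (sup_le (inf_le_left.trans (hV'V.trans hVH.1)) (inf_le_left.trans hPH))
      (sup_le inf_le_right inf_le_right) (nil_of_isPGroup (isPGroup_sup hX hY (Or.inr (le_norm_inf
        (inf_le_left.trans (hn' P (hPH.trans hVH.2) hPK)) (inf_le_right.trans le_normalizer)))))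
    have h4 : ⁅V, K⁆ ⊓ (H ⊓ 𝐍(K)) ≤ 𝐂(K) := le_cent_of_inf_eq_bot (inf_le_right.trans inf_le_right)
      (le_norm_inf (le_norm_commutator_right _ _) ((le_inf hKH le_normalizer).trans le_normalizer))
      (le_bot_iff.1 ((inf_le_inf_right K (inf_le_left.trans hV'V)).trans hVK.inf_eq.le))
    have h5 := (IsDprod.of_sup (le_cent_mono (ab_of_isCyclic h3).le_cent le_sup_right le_sup_left)
      (le_bot_iff.1 ((le_inf (inf_le_left.trans inf_le_left) ((inf_le_inf inf_le_left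
        (inf_le_left.trans hP.1)).trans h4)).trans
          (coprime_abel_cent_TI hKV hVKc hV.1).le))).coprime_of_isCyclic h3
    exact hp'.out.one_lt.ne' (Nat.eq_one_of_dvd_coprimes h5 (dvd_card_of_isPGroup hX h1)
      (dvd_card_of_isPGroup hY h2))
  have h3 := IsSdprod.of_coprime (h0.trans hRP) (hcX P hPH R0 h0)
  have h4 := sup_le (hPH.trans h.left_le) (h0.trans h.right_le)
  have hPKc : (♯P).Coprime ♯K := coprime_of_isPGroup hP.2.1 hK.piGrp
  obtain ⟨T, hTK, h5, h6, h7, h8, h9, -⟩ := exists_minimal_noncentralized (A := P ⊔ R0)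
    (sol_of_nil hKn) (sup_le hPK hR0K) le_sup_left h3.normal.2 hPKc
    fun e => hPU ((le_inf hPH (commutator_eq_bot_iff'.1 e)).trans hCK)
  refine h6 (hfaith T hTK (le_cent_of_isCyclic_cent hV'
    ((prime_FrobeniusP h3 (fun e => hPU (e.le.trans bot_le)) hp).2 h2) hp
    (ho.of_dvd_nat (card_dvd_of_le h4)) h5 ?_ (sol_of_nil (nil_of_le hKn hTK))
    (fun e => hpK (e.trans (card_dvd_of_le hTK))) (sup_le (hn' P (hPH.trans hVH.2) hPK) hR0V)
    (hTK.trans (le_norm_commutator_right _ _)) h7 ((le_inf (der_le T) h8).trans h9)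
    (ab_of_isCyclic (hcyc _ (inf_le_left.trans (hTK.trans hKH)) inf_le_right
      (nil_of_le hKn (inf_le_left.trans hTK))))
    (hcyc _ (inf_le_left.trans (hV'V.trans hVH.1)) inf_le_right
      (nil_of_ab (ab_of_le hV'.1 inf_le_left)))))
  rw [← h3.card]
  exact (hPKc.symm.coprime_dvd_left (card_dvd_of_le hTK)).mul_right (hcX T (hTK.trans hKH) R0 h0)

theorem plen1_of_commutator_eq [hp' : Fact p.Prime] (hs : Sol L) (ho : Odd ♯L) (h : IsSdprod H R L)
    (hc : (♯H).Coprime ♯R) (h0 : R0 ≤ R) (hp : (♯R0).Prime) (hZ : IsZGroup ↥(H ⊓ 𝐂(R0)))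
    (hHR : ⁅H, R⁆ = H) : PLen1 p H := by
  induction hm : ♯H using Nat.strong_induction_on generalizing G with | _ m ih
  subst hm
  have hsH := sol_of_le hs h.left_le
  have key : ∀ N, N ⊴ H → R ≤ 𝐍(N) → N ≠ ⊥ → PLen1 p (H ⁒ N) := fun N hN hR hN0 => by
    have hL : L ≤ 𝐍(N) := h.sup_eq.ge.trans (sup_le hN.2 hR)
    have h1 : (♯N).Coprime ♯R0 :=
      (hc.coprime_dvd_left (card_dvd_of_le hN.1)).coprime_dvd_right (card_dvd_of_le h0)
    refine ih _ (card_quo_lt_bg3 hN hN0) (sol_quo_bg3 hL hs) (ho.of_dvd_nat (card_quo_dvd_bg3 hL))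
      (h.quo_of_le_left hL hN.1)
      ((hc.coprime_dvd_left (card_quo_dvd_bg3 hN.2)).coprime_dvd_right (card_quo_dvd_bg3 hR))
      (quo_mono N h0) (by rwa [card_quo_of_coprime_bg3 (h0.trans hR) h1]) ?_
      (by rw [← quo_commutator hN.2 hR, hHR]) rfl
    rw [← coprime_quotient_cent hN (h0.trans hR) h1 (Or.inl (sol_of_le hsH hN.1))]
    exact IsZGroup.of_surjective (quoOnto_surjective (inf_le_left.trans hN.2))
  by_cases hO : Op' p H = ⊥
  swap
  · exact (p'quo_plength1 (Opi_normal _ H) ((piGrp_compl_singleton hp'.out).1 (Op'_piGrp p H))).1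
      (key _ (Opi_normal _ H) (le_norm_Opi _ h.le_norm) hO)
  have hV := Op_isPGroup p H
  by_cases hΦ : Phi (Op p H) = ⊥
  · exact plen1_of_abelem hs ho h hc h0 hp hZ hHR hO ((Phi_eq_bot_iff hV).1 hΦ)
  have hN := (Op_normal p H).Phi
  have hΦp := hV.to_le (Phi_le _)
  refine (pquo_plength1 hN hΦp ?_).1 (key _ hN (le_norm_Phi (le_norm_Op p h.le_norm)) hΦ)
  obtain ⟨X, h1, h2, h3⟩ := exists_quo_eq_normal hN (Opi_normal ({p} : Set ℕ)ᶜ (H ⁒ Phi (Op p H)))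
  have h4 : Hall {p} (Phi (Op p H)) X := IsPiHallOf.of_pi h1 (piGrp_singleton hΦp) (by
    rw [← card_quo_bg3 (h2.1.trans hN.2), h3]; exact Opi_piGrp _ _)
  obtain ⟨D, hD, hD'⟩ := h4.exists_sdprod (h2.1.trans hN.2)
  have hDH := hD'.le.trans h2.1
  have h5 : D ≤ 𝐂(Op p H) := coprime_cent_Phi hV (hDH.trans (Op_normal p H).2)
    (coprime_of_isPGroup hV hD'.piGrp) (h4.le_of_normal_hall (h2.1.trans hN.2)
      ((commutator_mono le_rfl hD'.le).trans (commutator_le_right' ((Op_le p H).trans h2.2)))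
      (piGrp_singleton (hV.to_le (commutator_le_left' (hDH.trans (Op_normal p H).2)))))
  have h6 : D = ⊥ := (piGrp_singleton (hV.to_le
    ((le_inf hDH h5).trans (cent_Op_le_of_Op'_eq_bot hsH hO)))).eq_bot hD'.piGrp
  exact h3.symm.trans (quo_eq_bot (hD.left_eq_iff.2 h6).ge)

theorem odd_sdprod_Zgroup_cent_prime_plength1 (p : ℕ) [Fact p.Prime] (hs : Sol L) (ho : Odd ♯L)
    (h : IsSdprod H R L) (hc : (♯H).Coprime ♯R) (h0 : R0 ≤ R) (hp : (♯R0).Prime)
    (hZ : IsZGroup ↥(H ⊓ 𝐂(R0))) : PLen1 p ⁅H, R⁆ := by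
  have h1 := h.commutator_le
  have h2 := sup_le (h1.trans h.left_le) h.right_le
  exact plen1_of_commutator_eq (sol_of_le hs h2) (ho.of_dvd_nat (card_dvd_of_le h2))
    (h.mono h1 le_rfl (le_norm_commutator_right _ _)) (hc.coprime_dvd_left (card_dvd_of_le h1)) h0 hp
    (isZGroup_of_le hZ (inf_le_inf_right _ h1))
    (coprime_commGid h.le_norm hc (Or.inl (sol_of_le hs h.left_le)))

end Cfsg.Agent.OO.Pf
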