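import Cfsg.Agent.Lib.OO.MinOdd
import Cfsg.Agent.Lib.OO.BasicG
import Cfsg.Agent.Lib.Core.Local
import Cfsg.Agent.Lib.Core.Subnormal
import Cfsg.Agent.Lib.Core.Stable2
import Cfsg.Agent.Lib.Core.MinNormal
import Cfsg.Agent.Lib.Coprime.AxB
import Cfsg.Agent.Lib.Coprime.Generate
import Cfsg.Agent.Lib.Coprime.HallInv
import Cfsg.Agent.Lib.PGrp.RankBound
import Cfsg.Agent.Lib.PGrp.RankOne
import Cfsg.Agent.Lib.Mod.GroupForm

/-! # Toolkit for B&G sections 7 to 9 (cores, ranks, some results of B&G section 1) -/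

set_option autoImplicit false
set_option linter.unusedSectionVars false

namespace Cfsg.Agent.OO.Pf.B7

open Subgroup Cfsg.Agent.Coprime
open scoped Pointwise

universe u

variable {G : Type u} [Group G] [Finite G]

section cores
variable {π ρ : Set ℕ} {H K L X Y : Subgroup G} {p q : ℕ}

theorem le_opi_of_le (hY : Y ≤ Opi π H) (hK : Y ≤ K) (h : K ≤ H) : Y ≤ Opi π K :=
  (le_inf hY hK).trans (Opi_inf_le π h)

theorem opi_isPGroup [Fact p.Prime] (H : Subgroup G) : IsPGroup p (Opi {p} H) :=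
  (Opi_piGrp {p} H).isPGroup

theorem opi_mono_of_nil (π : Set ℕ) (hH : Nil H) (hK : K ≤ H) : Opi π K ≤ Opi π H :=
  le_Opi_of_nil hH ((Opi_le π K).trans hK) (Opi_piGrp π K)

theorem op_mono_of_nil (p : ℕ) [Fact p.Prime] (hH : Nil H) (hK : K ≤ H) : Op p K ≤ Op p H :=
  le_Op_of_nil hH ((Op_le p K).trans hK) (Op_isPGroup p K)

theorem nil_le_of_forall (hH : Nil H) (h : ∀ (q : ℕ) (_ : Fact q.Prime), q ∣ ♯H → Op q H ≤ K) : H ≤ K :=
  le_of_forall_syl fun q hq hd => have := Fact.mk hq; ⟨_, syl_Op_of_nil q hH, h q this hd⟩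

theorem op_ne_bot_of_nil [Fact p.Prime] (hH : Nil H) (hd : p ∣ ♯H) : Op p H ≠ ⊥ :=
  (syl_Op_of_nil p hH).ne_bot hd

theorem eq_bot_of_fit_eq_bot (hs : Sol H) (h : Fit H = ⊥) : H = ⊥ := by
  by_contra hne
  exact Fit_ne_bot hs hne h

end cores

section bg1
variable {A H K R X Y : Subgroup G} {p : ℕ}

/-- B&G 1.10 -/
theorem nil_cent_stab (hn : A ≤ 𝐍(H)) (hc : (♯A).Coprime ♯H) (hH : Nil H)
    (h : H ⊓ 𝐂(H ⊓ 𝐂(A)) ≤ 𝐂(A)) : A ≤ 𝐂(H) := by
  set C := H ⊓ 𝐂(A) with hC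
  by_contra hne
  have hlt : C < H := lt_of_le_of_ne inf_le_left fun e => hne (le_cent_symm (inf_eq_left.mp e))
  have hlt2 := Core.lt_inf_normalizer_of_isNilpotent hH hlt
  set N := H ⊓ 𝐍(C) with hN
  have hAC : A ≤ 𝐂(C) := le_cent_symm inf_le_right
  have hAN : A ≤ 𝐍(N) := le_norm_inf hn (le_norm_norm (le_norm_of_le_cent hAC))
  have h1 : ⁅⁅N, C⁆, A⁆ = ⊥ :=
    commutator_eq_bot_iff'.mpr (hAC.trans (cent_anti (commutator_le_right' inf_le_right)))
  have h2 : ⁅⁅C, A⁆, N⁆ = ⊥ := by rw [commutator_eq_bot_iff'.mpr hAC, commutator_bot_left]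
  have h3 : ⁅⁅A, N⁆, C⁆ = ⊥ := three_subgroup h1 h2
  have h4 : ⁅N, A⁆ ≤ 𝐂(A) := by
    refine le_trans (le_inf ((commutator_le_left' hAN).trans inf_le_left) ?_) h
    rw [commutator_comm]
    exact commutator_eq_bot_iff.mp h3
  have h5 : ⁅N, A⁆ = ⊥ := commutator_eq_bot_of_commutator_commutator_eq_bot hAN
    (coprime_card_mono hc le_rfl inf_le_left) (commutator_eq_bot_iff.mpr h4)
  exact hlt2.not_ge (le_inf inf_le_left (commutator_eq_bot_iff.mp h5))

/-- B&G 1.4 -/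
theorem cent_of_cent_fit (hn : A ≤ 𝐍(H)) (hc : (♯A).Coprime ♯H) (hH : Sol H) (h : A ≤ 𝐂(Fit H)) :
    A ≤ 𝐂(H) := by
  have h1 : ⁅⁅Fit H, H⁆, A⁆ = ⊥ :=
    commutator_eq_bot_iff'.mpr (h.trans (cent_anti (Fit_normal H).commutator_le))
  have h2 : ⁅⁅A, Fit H⁆, H⁆ = ⊥ := by rw [commutator_eq_bot_iff.mpr h, commutator_bot_left]
  have h3 : ⁅⁅H, A⁆, Fit H⁆ = ⊥ := three_subgroup h2 h1
  have h4 : ⁅H, A⁆ ≤ Fit H :=
    (le_inf (commutator_le_left' hn) (commutator_eq_bot_iff.mp h3)).trans (cent_sub_Fitting hH)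
  exact le_centralizer_of_commutator_le h4 h (coprime_card_mono hc le_rfl (Fit_normal H).1)

theorem le_pPrimeCore_of_cent {H : Type u} [Group H] [Finite H] [hp : Fact p.Prime] (hs : Group.IsSolvable H)
    {R K : Subgroup H} (hR : IsPGroup p R) (hK : K ⊴ 𝐂(R)) (hK' : (♯K).Coprime p) :
    K ≤ pPrimeCore p H := by
  set f := QuotientGroup.mk' (pPrimeCore p H) with hf
  have hcop : (♯R).Coprime ♯f.ker := by
    rw [QuotientGroup.ker_mk']
    exact (coprime_card_of_isPGroup (Core.coprime_card_pPrimeCore p) hR).symm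
  have hC : 𝐂(R).map f = 𝐂(R.map f) :=
    map_centralizer_eq f (QuotientGroup.mk'_surjective _) hcop (Or.inl (sol_of_isPGroup hR))
  have hK1 : K.map f ⊴ 𝐂(R.map f) := hC ▸ hK.map f
  have hK2 : (♯(K.map f)).Coprime p := hK'.coprime_dvd_left (card_map_dvd K f)
  set T := pCore p (H ⧸ pPrimeCore p H) with hT
  have hTp : IsPGroup p T := Core.isPGroup_pCore p
  have hTn : ∀ L : Subgroup (H ⧸ pPrimeCore p H), L ≤ 𝐍(T) := fun L => by
    rw [normalizer_eq_top]; exact le_top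
  have h1 : K.map f ≤ 𝐂(T) := by
    refine thompson_AxB (hR.map f) hK2 (le_cent_symm hK1.1) hTp (hTn _) (hTn _) ?_
    refine le_cent_of_coprime (inf_le_right.trans hK1.2) (le_norm_inf (hTn _) (le_norm_of_le hK1.1)) ?_
    exact (coprime_card_of_isPGroup hK2 hTp.to_inf_left).symm
  have h2 : K.map f ≤ T := h1.trans (Core.centralizer_pCore_le Core.pPrimeCore_quotient_pPrimeCore)
  have h3 : K.map f = ⊥ := by
    rw [← inf_eq_left.mpr h2]
    exact inf_eq_bot_of_coprime_card (coprime_card_of_isPGroup hK2 hTp)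
  exact (Core.map_mk_eq_bot_iff _ _).mp h3

/-- B&G 1.15(b) -/
theorem le_op'_of_cent [hp : Fact p.Prime] (hs : Sol X) (hRX : R ≤ X) (hR : IsPGroup p R)
    (hK : K ⊴ (X ⊓ 𝐂(R))) (hK' : PiGrp ({p} : Set ℕ)ᶜ K) : K ≤ Op' p X := by
  have hKX : K ≤ X := hK.1.trans inf_le_left
  have := le_pPrimeCore_of_cent hs (R := R.subgroupOf X) (K := K.subgroupOf X) (isPGroup_subgroupOf hR X)
    (by
      rw [Mod.centralizer_subgroupOf hRX, ← inf_subgroupOf_left 𝐂(R)]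
      exact ⟨comap_mono hK.1, Mod.subgroupOf_le_normalizer hK.2⟩)
    (by rw [Core.card_subgroupOf_of_le hKX]; exact (isPiNum_compl_singleton_iff hp.out).mp hK')
  rw [Op'_eq_map, ← subgroupOf_map_subtype K X |>.trans (inf_eq_left.mpr hKX)]
  exact map_mono this

theorem op'_cent_le [Fact p.Prime] (hs : Sol X) (hRX : R ≤ X) (hR : IsPGroup p R) :
    Op' p (X ⊓ 𝐂(R)) ≤ Op' p X :=
  le_op'_of_cent hs hRX hR (Opi_normal _ _) (Opi_piGrp _ _)

theorem op'_norm_le [Fact p.Prime] (hs : Sol X) (hRX : R ≤ X) (hR : IsPGroup p R) :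
    Op' p (X ⊓ 𝐍(R)) ≤ Op' p X := by
  have h1 : Op' p (X ⊓ 𝐍(R)) ≤ 𝐂(R) :=
    le_cent_of_coprime ((Opi_le _ _).trans inf_le_right)
      ((le_inf hRX (le_norm_self R)).trans (Opi_normal _ _).2)
      (coprime_of_isPGroup hR (Opi_piGrp _ _)).symm
  exact (le_opi_of_le le_rfl (le_inf ((Opi_le _ _).trans inf_le_left) h1)
    (inf_le_inf_left _ (cent_le_norm R))).trans (op'_cent_le hs hRX hR)

/-- B&G 6.5(a) -/
theorem inf_der_le_der {U M : Subgroup G} (hK : K ⊴ M) (hM : K ⊔ U = M) (hH : H ≤ U)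
    (hc : (♯H).Coprime ♯K) : H ⊓ der M ≤ der U := by
  have hUM : U ≤ M := hM ▸ le_sup_right
  have hUK : U ≤ 𝐍(K) := hUM.trans hK.2
  have h1 : der M ≤ K ⊔ der U := by
    have hn : M ≤ 𝐍(K ⊔ der U) := by
      rw [← hM]
      exact sup_le (le_norm_of_le le_sup_left) (le_norm_sup hUK (der_normal U).2)
    have h2 : ∀ L, L ≤ M → ⁅K, L⁆ ≤ K ⊔ der U := fun L hL =>
      (commutator_le_left' (hL.trans hK.2)).trans le_sup_left
    have h3 : ⁅U, M⁆ ≤ K ⊔ der U := by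
      rw [commutator_comm, ← hM]
      exact commutator_sup_le (hM ▸ hn) (h2 U hUM) le_sup_right
    calc der M = ⁅K ⊔ U, M⁆ := by rw [hM]
      _ ≤ _ := commutator_sup_le (hM ▸ hn) (h2 M le_rfl) h3
  have h2 : H ⊓ der M ≤ (K ⊓ U) ⊔ der U := by
    rw [← sup_inf_of_le_right (Or.inr ((der_le U).trans hUK)) (der_le U)]
    exact le_inf (inf_le_right.trans h1) (inf_le_left.trans hH)
  refine le_of_coprime_relIndex h2 ((sup_le inf_le_right (der_le U)).trans (der_normal U).2) ?_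
  rw [relIndex_sup_eq (Or.inl (inf_le_right.trans (der_normal U).2))]
  exact (hc.coprime_dvd_left (card_dvd inf_le_left)).coprime_dvd_right
    ((relIndex_dvd_card _ _).trans (card_dvd inf_le_left))

end bg1

end Cfsg.Agent.OO.Pf.B7
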