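import Cfsg.Agent.Lib.OO.BG3
import Cfsg.Agent.Lib.OO.BasicG
import Cfsg.Agent.Lib.OO.QuoA
import Cfsg.Agent.Lib.Reg.MetaAut
import Cfsg.Agent.Lib.PGrp.Generators
import Cfsg.Agent.S3888
import Cfsg.Agent.S3771

/-! # B&G section 4, first part: `p`-groups of small rank -/

set_option autoImplicit false
set_option linter.unusedSectionVars false
set_option linter.unusedVariables false

namespace Cfsg.Agent.OO.Pf

open Subgroup Cfsg.Agent.Coprime
open scoped Pointwise commutatorElement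

universe u

variable {G : Type u} [Group G] [Finite G]

variable {A E H K L M N Q R S T U V : Subgroup G} {p q : ℕ}

namespace B4

theorem odd_of_le (ho : Odd ♯H) (h : K ≤ H) : Odd ♯K := ho.of_dvd_nat (card_dvd h)

theorem ne_two [hp : Fact p.Prime] (hR : IsPGroup p R) (ho : Odd ♯R) (h : R ≠ ⊥) : p ≠ 2 := by
  rintro rfl
  exact (Nat.not_even_iff_odd.2 ho) (even_iff_two_dvd.2 (dvd_card_of_isPGroup hR h))

theorem ne_two_of_not_isCyclic [hp : Fact p.Prime] (hR : IsPGroup p R) (ho : Odd ♯R)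
    (h : ¬ IsCyclic R) : p ≠ 2 :=
  ne_two hR ho (by rintro rfl; exact h inferInstance)

theorem pRankLE_of_rp_le [hp : Fact p.Prime] {k : ℕ} (h : rp p R ≤ k) : PRankLE p k R :=
  PGrp.pRank_le_iff.1 h

theorem card_map_subtype (X : Subgroup R) : ♯(X.map R.subtype) = ♯X :=
  Subgroup.card_map_of_injective R.subtype_injective

/-- a normal subgroup of order at most `p ^ 2` of a `p`-group lies in the second center -/
theorem le_Zn_two [hp : Fact p.Prime] (hR : IsPGroup p R) (hE : E ⊴ R) (h : ♯E ≤ p ^ 2) :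
    E ≤ Zn 2 R := by
  rw [le_Zn_succ_iff hE.le, Zn_one, commutator_le]
  intro x hx g hg
  have := hE.subgroupOf
  have h1 := Reg.commutator_mem_center_of_card_le_sq hR (E := E.subgroupOf R)
    (by rwa [Nat.card_congr (subgroupOfEquivOfLe hE.le).toEquiv]) (x := ⟨x, hE.le hx⟩) hx ⟨g, hg⟩
  rw [Zc_eq_map]
  exact ⟨_, h1, rfl⟩

theorem ab_of_card_le_sq [hp : Fact p.Prime] (hR : IsPGroup p R) (h : ♯R ≤ p ^ 2) : Ab R := by
  obtain ⟨n, hn⟩ := IsPGroup.iff_card.1 hR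
  rw [hn, Nat.pow_le_pow_iff_right hp.out.one_lt] at h
  interval_cases n
  · rw [pow_zero, card_eq_one_iff] at hn
    exact hn ▸ ab_bot
  · exact ab_of_isCyclic (isCyclic_of_prime (by rw [hn, pow_one]; exact hp.out))
  · exact ⟨⟨(IsPGroup.commGroupOfCardEqPrimeSq hn).mul_comm⟩⟩

theorem sq_le_card_of_not_isCyclic [hp : Fact p.Prime] (hR : IsPGroup p R) (h : ¬ IsCyclic R) :
    p ^ 2 ≤ ♯R := by
  obtain ⟨n, hn⟩ := IsPGroup.iff_card.1 hR
  rw [hn, Nat.pow_le_pow_iff_right hp.out.one_lt]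
  by_contra h2
  refine h (PGrp.isCyclic_of_card_le_prime hR ?_)
  rw [hn]
  calc p ^ n ≤ p ^ 1 := Nat.pow_le_pow_right hp.out.pos (by omega)
    _ = p := pow_one p

theorem cube_le_card_of_not_ab [hp : Fact p.Prime] (hR : IsPGroup p R) (h : ¬ Ab R) :
    p ^ 3 ≤ ♯R := by
  obtain ⟨n, hn⟩ := IsPGroup.iff_card.1 hR
  rw [hn, Nat.pow_le_pow_iff_right hp.out.one_lt]
  by_contra h2
  exact h (ab_of_card_le_sq hR (hn ▸ Nat.pow_le_pow_right hp.out.pos (by omega)))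

theorem isMetacyclic_of_normal (hN : N ⊴ R) (h1 : IsCyclic N) (h2 : IsCyclic (R ⁒ N)) :
    IsMetacyclic R := by
  have := hN.subgroupOf
  exact ⟨N.subgroupOf R, this, (subgroupOfEquivOfLe hN.le).isCyclic.2 h1,
    (quoEquiv hN.norm).isCyclic.2 h2⟩

theorem exists_of_isMetacyclic (h : IsMetacyclic R) :
    ∃ N, N ⊴ R ∧ IsCyclic N ∧ IsCyclic (R ⁒ N) := by
  obtain ⟨N, hN, h1, h2⟩ := h
  have h3 := normalIn_map_subtype N
  refine ⟨N.map R.subtype, h3, (N.equivMapOfInjective _ R.subtype_injective).isCyclic.1 h1, ?_⟩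
  have := h3.subgroupOf
  refine (quoEquiv h3.norm).isCyclic.1 ?_
  exact (QuotientGroup.quotientMulEquivOfEq (map_subtype_subgroupOf N)).isCyclic.2 h2

theorem isMetacyclic_quo (h : IsMetacyclic R) (hn : R ≤ 𝐍(N)) : IsMetacyclic (R ⁒ N) :=
  Reg.isMetacyclic_of_surjective h (quoOnto hn) (quoOnto_surjective hn)

theorem isCyclic_der (h : IsMetacyclic R) : IsCyclic (der R) := by
  rw [der_eq_map]
  exact ((commutator R).equivMapOfInjective _ R.subtype_injective).isCyclic.1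
    (Reg.isCyclic_commutator_of_isMetacyclic h)

theorem card_quo (h : N ⊴ R) : ♯(R ⁒ N) = N.relIndex R := by
  have := h.subgroupOf
  rw [← Nat.card_congr (quoEquiv h.norm).toEquiv]
  rfl

theorem card_quo' (h : R ≤ 𝐍(N)) : ♯(R ⁒ N) = N.relIndex R := by
  have : (N.subgroupOf R).Normal := (normal_subgroupOf_iff_le_normalizer_inf).2
    (le_norm_inf h (le_norm_self R))
  rw [← Nat.card_congr (quoEquiv h).toEquiv]
  rfl

theorem isPGroup_quo (hR : IsPGroup p R) (N : Subgroup G) : IsPGroup p (R ⁒ N) :=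
  (hR.comap_subtype (K := 𝐍(N))).map _

theorem odd_quo (ho : Odd ♯R) (N : Subgroup G) : Odd ♯(R ⁒ N) := by
  refine ho.of_dvd_nat ((card_map_dvd _ _).trans ?_)
  rw [← inf_subgroupOf_right, Nat.card_congr (subgroupOfEquivOfLe inf_le_right).toEquiv]
  exact card_dvd inf_le_left

theorem normal_of_relIndex_eq [hp : Fact p.Prime] (hR : IsPGroup p R) (h : K ≤ R)
    (hi : K.relIndex R = p) : K ⊴ R :=
  normalIn_iff_subgroupOf.2 ⟨h, PGrp.normal_of_index_eq hR hi⟩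

/-- every proper subgroup of a `p`-group lies in a normal subgroup of index `p` -/
theorem exists_le_relIndex_eq [hp : Fact p.Prime] (hR : IsPGroup p R) (h : K < R) :
    ∃ M, K ≤ M ∧ M ⊴ R ∧ M.relIndex R = p := by
  obtain ⟨M, h1, h2, h3⟩ := PGrp.exists_le_index_eq hR (H := K.subgroupOf R)
    (fun e => h.not_ge (subgroupOf_eq_top.1 e))
  exact ⟨M.map R.subtype, (le_map_subtype_iff h.le).2 h1, normalIn_map_subtype M,
    by rw [relIndex_map_subtype, h2]⟩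

end B4

open B4

/-- Lemma 4.1 -/
theorem cyclic_center_factor_abelian (hN : N ≤ Zc H) (h : IsCyclic (H ⁒ N)) : Ab H := by
  have hn := (normalIn_of_le_Zc hN).norm
  obtain ⟨z, hz⟩ := exists_zpowers_eq h
  obtain ⟨x, hx, rfl⟩ := (mem_quo_of_le hn).1 (hz ▸ mem_zpowers z)
  refine ab_of_Zc_sup_zpowers hN ?_ hx
  rw [← quo_zpowers (hn hx)] at hz
  rw [sup_comm]
  exact (quo_le_quo_iff_le_sup hn (zpowers_le.2 (hn hx))).1 hz.ge

section PGroups
variable [hp : Fact p.Prime]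

/-- Proposition 4.3 -/
theorem exponent_odd_nil23 (hR : IsPGroup p R) (ho : Odd ♯R)
    (hc : Group.nilpotencyClass R ≤ 2 ∨ (3 < p ∧ Group.nilpotencyClass R ≤ 3)) :
    (∀ x ∈ Ohm p R, x ^ p = 1) ∧
    (der R ≤ Ohm p R → ∀ x ∈ R, ∀ y ∈ R, (x * y) ^ p = x ^ p * y ^ p) := by
  by_cases h1 : R = ⊥
  · subst h1
    refine ⟨fun x hx => ?_, fun _ x hx y hy => ?_⟩
    · rw [mem_bot.1 (Ohm_le p _ hx), one_pow]
    · simp [mem_bot.1 hx, mem_bot.1 hy]
  have h2 := ne_two hR ho h1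
  have h3 := hp.out.two_le
  have := hR.isNilpotent
  have h4 : Reg.PowRegOn p R := by
    have := Reg.powRegOn_of_class_lt hp.out (H := R)
      (lowerCentralSeries_eq_bot_of_nilpotencyClass_le (by omega)) 1
    rwa [pow_one] at this
  have h5 : ∀ x ∈ Ohm p R, x ^ p = 1 := fun x hx => h4.pow_eq_one_of_mem_closure hx
  exact ⟨h5, fun h x hx y hy => h4.mul_pow_of_commute hx hy ((h4.commute_pow_iff hx hy).2
    (h5 _ (h (commutator_mem_commutator hx hy))))⟩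

theorem exists_SCN_ge (hR : IsPGroup p R) (hA : A ⊴ R) (hab : Ab A) : ∃ B, IsSCN R B ∧ A ≤ B :=
  exists_scn_ge hR hA hab

/-- Proposition 4.4(a) -/
theorem max_SCN (hR : IsPGroup p R) (hA : A ⊴ R) (hab : Ab A)
    (hm : ∀ B, B ⊴ R → Ab B → A ≤ B → B = A) : IsSCN R A := by
  obtain ⟨B, h1, h2⟩ := exists_scn_ge hR hA hab
  exact hm B (scn_normal h1) (scn_ab h1) h2 ▸ h1

/-- Proposition 4.4(b) -/
theorem SCN_Sylow_cent_dprod (hR : Syl p R H) (hA : IsSCN R A) :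
    IsDprod (Op' p (H ⊓ 𝐂(A))) A (H ⊓ 𝐂(A)) := by
  have h1 : Syl p A (H ⊓ 𝐂(A)) := by
    have h2 := hR.inf_of_norm (N := H ⊓ 𝐂(A)) inf_le_left
      (le_norm_inf (le_norm_of_le hR.le) (le_norm_cent (scn_normal hA).norm))
    rwa [← inf_assoc, inf_eq_left.2 hR.le, scn_cent hA] at h2
  exact (Burnside_normal_complement h1 (inf_le_left.trans inf_le_right)).toDprod
    (le_cent_symm ((Opi_le _ _).trans inf_le_right))

theorem odd_pgroup_rank1_cyclic (hR : IsPGroup p R) (ho : Odd ♯R) : IsCyclic R ↔ rp p R ≤ 1 :=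
  isCyclic_iff_rp_of_odd hR ho

omit hp in
theorem odd_rank1_Zgroup (ho : Odd ♯H) : IsZGroup H ↔ rank H ≤ 1 := isZGroup_iff_rank_of_odd ho

theorem B4.card_Ohm_le_of_isMetacyclic (hm : IsMetacyclic R) (hR : IsPGroup p R) (ho : Odd ♯R) :
    ♯(Ohm p R) ≤ p ^ 2 ∧ ∀ x ∈ Ohm p R, x ^ p = 1 := by
  by_cases h1 : R = ⊥
  · subst h1
    refine ⟨?_, fun x hx => by rw [mem_bot.1 (Ohm_le p _ hx), one_pow]⟩
    rw [le_bot_iff.1 (Ohm_le p _), card_bot]
    exact Nat.one_le_pow _ _ hp.out.pos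
  have := hR.isNilpotent
  have h4 : Reg.PowRegOn p R := by
    have := Reg.powRegOn_of_isMetacyclic' (ne_two hR ho h1) hR hm 1
    rwa [pow_one] at this
  refine ⟨le_trans (card_le ?_) (Reg.card_omega_le_of_isMetacyclic hm hp.out.ne_zero h4),
    fun x hx => h4.pow_eq_one_of_mem_closure hx⟩
  exact Ohm_le_iff.2 fun x hx h => ⟨hx, h⟩

/-- Lemma 4.10 -/
theorem Ohm1_metacyclic_p2Elem (hm : IsMetacyclic R) (hR : IsPGroup p R) (ho : Odd ♯R)
    (hc : ¬ IsCyclic R) : IsEp p 2 (Ohm p R) R := by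
  obtain ⟨E, hE⟩ := exists_isEp (p := p) (n := 2) (H := R)
    (by rw [isCyclic_iff_rp_of_odd hR ho] at hc; omega)
  rwa [← eq_of_le_of_card_le hE.le_Ohm (hE.card ▸ (card_Ohm_le_of_isMetacyclic hm hR ho).1)]

/-- Lemma 4.5(b) -/
theorem Ohm1_extremal_odd (hR : IsPGroup p R) (ho : Odd ♯R) (hc : ¬ IsCyclic R) {x : G} (hx : x ∈ R)
    (hi : (zpowers x).relIndex R = p) : IsEp p 2 (Ohm p R) R := by
  have h1 := normal_of_relIndex_eq hR (zpowers_le.2 hx) hi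
  refine Ohm1_metacyclic_p2Elem (isMetacyclic_of_normal h1 inferInstance (isCyclic_of_prime ?_))
    hR ho hc
  rw [B4.card_quo h1, hi]
  exact hp.out

/-- Lemma 4.5(a) -/
theorem odd_normal_p2Elem_exists (hR : IsPGroup p R) (ho : Odd ♯R) (hc : ¬ IsCyclic R) :
    ∃ S, IsEp p 2 S R ∧ S ⊴ R := by
  obtain ⟨E, h1, h2, h3⟩ :=
    PGrp.exists_normal_elemAb_of_odd hR (ne_two_of_not_isCyclic hR ho hc) hc
  exact ⟨E.map R.subtype, ⟨map_subtype_le _, abelem_map h2 _, by rw [card_map_subtype, h3]⟩,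
    normalIn_map_subtype E⟩

theorem B4.pow_eq_one_of_der_le_Zc (hR : IsPGroup p R) (ho : Odd ♯R) (h : der R ≤ Zc R) :
    ∀ x ∈ Ohm p R, x ^ p = 1 :=
  (exponent_odd_nil23 hR ho (Or.inl ((nilpotencyClass_le_two_iff (nil_of_isPGroup hR)).2 h))).1

/-- Lemma 4.5(c) -/
theorem Ohm1_odd_ucn2 (hR : IsPGroup p R) (ho : Odd ♯R) (hc : ¬ IsCyclic R) :
    ¬ IsCyclic (Ohm p (Zn 2 R)) ∧ ∀ x ∈ Ohm p (Zn 2 R), x ^ p = 1 := by
  obtain ⟨E, h1, h2⟩ := odd_normal_p2Elem_exists hR ho hc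
  refine ⟨fun h => h1.not_isCyclic le_rfl (isCyclic_of_le' h
    (le_Ohm (le_Zn_two hR h2 h1.card.le) h1.abelem)), ?_⟩
  exact pow_eq_one_of_der_le_Zc (hR.to_le (Zn_le 2 R)) (odd_of_le ho (Zn_le 2 R))
    (Zn_two_eq_self_iff.1 (Zn_Zn 2 R))

/-- Proposition 4.6 -/
theorem odd_normal_rank2_exists (hR : IsPGroup p R) (ho : Odd ♯R) (hS : S ⊴ R) (hc : ¬ IsCyclic S) :
    ∃ Q, IsEp p 2 Q S ∧ Q ⊴ R := by
  have hS' := hR.to_le hS.le
  obtain ⟨h1, h2⟩ := Ohm1_odd_ucn2 hS' (odd_of_le ho hS.le) hc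
  have h3 := (hS.Zn 2).Ohm p
  have h4 := hR.to_le h3.le
  obtain ⟨n, hn⟩ := IsPGroup.iff_card.1 h4
  have h5 := sq_le_card_of_not_isCyclic h4 h1
  obtain ⟨Q, h6, h7, h8⟩ := normal_pgroup (k := 2) hR h3 (by
    rw [hn] at h5 ⊢
    exact pow_dvd_pow p ((Nat.pow_le_pow_iff_right hp.out.one_lt).1 h5))
  exact ⟨Q, ⟨h6.trans ((Ohm_le _ _).trans (Zn_le _ _)),
    ⟨ab_of_card_le_sq (hR.to_le h7.le) h8.le, fun x hx => h2 x (h6 hx)⟩, h8⟩, h7⟩

/-- in an odd `p`-group of rank at least three, every normal elementary abelian subgroup lies in one of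
rank at least three -/
theorem B4.exists_normal_abelem_rank3 (hR : IsPGroup p R) (ho : Odd ♯R) (hr : 2 < rp p R)
    (hE : IsElementaryAbelian p E) (hn : E ⊴ R) :
    ∃ F, E ≤ F ∧ F ⊴ R ∧ IsElementaryAbelian p F ∧ 2 < rp p F := by
  obtain ⟨F, hEF, hF⟩ := Finite.exists_le_maximal
    (p := fun F : Subgroup G => F ⊴ R ∧ IsElementaryAbelian p F) ⟨hn, hE⟩
  refine ⟨F, hEF, hF.1.1, hF.1.2, ?_⟩
  have hR1 : R ≠ ⊥ := ne_bot_of_prime_dvd hp.out (rp_pos_iff.1 (by omega))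
  have hA : ∀ x ∈ R, x ∈ 𝐂(F) → x ^ p = 1 → x ∈ F := fun x hx hc hxp => by
    have := hF.1.1.subgroupOf
    refine PGrp.mem_of_maximal_elemAb hR (ne_two hR ho hR1) (E := F.subgroupOf R)
      (abelem_congr (subgroupOfEquivOfLe hF.1.1.le).symm hF.1.2) (fun K hK hK' hle => ?_)
      (x := ⟨x, hx⟩) (fun y hy => Subtype.ext (hc y hy)) (Subtype.ext hxp)
    have h1 := (le_map_subtype_iff hF.1.1.le).2 hle
    have h2 := hF.2 ⟨normalIn_map_subtype K, abelem_map hK' _⟩ h1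
    rw [← le_antisymm h2 h1, map_subtype_subgroupOf]
  by_contra h2
  have h3 : ♯F ≤ p ^ 2 := rp_le_iff.1 (not_lt.1 h2) F le_rfl hF.1.2
  obtain ⟨B, hB⟩ := exists_isEp (p := p) (n := 3) (H := R) hr
  have h4 := logn_quotient_cent_abelem (hB.le.trans hF.1.1.norm) hF.1.2 h3
  have h5 : B ⊓ 𝐂(F) ≤ F := fun x hx => hA x (hB.le hx.1) hx.2 (hB.abelem.2 x hx.1)
  have h6 := card_mul_relIndex (inf_le_left : B ⊓ 𝐂(F) ≤ B)
  obtain ⟨k, hk⟩ := PGrp.exists_relIndex_eq_pow (H := B ⊓ 𝐂(F)) hB.isPGroup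
  rw [hk, Nat.pow_dvd_pow_iff_le_right hp.out.one_lt] at h4
  have h7 : ♯F ≤ ♯(B ⊓ 𝐂(F)) := by
    refine h3.trans (Nat.le_of_mul_le_mul_right ?_ hp.out.pos)
    rw [← pow_succ, ← hB.card, ← h6, hk]
    refine Nat.mul_le_mul_left _ ?_
    calc p ^ k ≤ p ^ 1 := Nat.pow_le_pow_right hp.out.pos (by omega)
      _ = p := pow_one p
  have h8 := eq_of_le_of_card_le h5 h7
  have h9 : B ≤ F := fun x hx => hA x (hB.le hx)
    (cent_anti (h8.ge.trans inf_le_left) (hB.le_cent hx)) (hB.abelem.2 x hx)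
  have h10 := (card_le h9).trans h3
  rw [hB.card, Nat.pow_le_pow_iff_right hp.out.one_lt] at h10
  omega

theorem B4.exists_SCN3_ge (hR : IsPGroup p R) (ho : Odd ♯R) (hr : 2 < rp p R)
    (hE : IsElementaryAbelian p E) (hn : E ⊴ R) : ∃ B, IsSCNn 3 R B ∧ E ≤ B := by
  obtain ⟨F, h1, h2, h3, h4⟩ := exists_normal_abelem_rank3 hR ho hr hE hn
  obtain ⟨B, h5, h6⟩ := exists_scn_ge hR h2 h3.1
  exact ⟨B, ⟨h5, le_trans h4 ((rp_le_rank p F).trans (rank_mono h6))⟩, h1.trans h6⟩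

/-- Lemma 4.7 -/
theorem rank2_SCN3_empty (hR : IsPGroup p R) (ho : Odd ♯R) : rank R ≤ 2 ↔ ∀ A, ¬ IsSCNn 3 R A := by
  refine ⟨fun h A hA => ?_, fun h => ?_⟩
  · have := hA.le_rank.trans (rank_mono hA.le)
    omega
  · by_contra h1
    rw [rank_eq_rp hR] at h1
    obtain ⟨B, hB, -⟩ := exists_SCN3_ge hR ho (not_le.1 h1) (abelem_bot p) (NormalIn.bot R)
    exact h B hB

/-- Proposition 4.8(a) -/
theorem rank2_exponent_p_p3group (hR : IsPGroup p R) (hr : rank R ≤ 2) (he : ∀ x ∈ R, x ^ p = 1) :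
    ♯R ≤ p ^ 3 :=
  S3771.result hR (pRankLE_of_rp_le ((rp_le_rank p R).trans hr)) fun x => Subtype.ext (he x x.2)

/-- Proposition 4.8(b) -/
theorem exponent_Ohm1_rank2 (hR : IsPGroup p R) (hr : rank R ≤ 2) (h3 : 3 < p) :
    ∀ x ∈ Ohm p R, x ^ p = 1 := by
  induction R using WellFoundedLT.induction with
  | _ R ih =>
  have key : ∀ x ∈ R, ∀ y ∈ R, x ^ p = 1 → y ^ p = 1 → (x * y) ^ p = 1 := by
    intro x hx y hy hxp hyp
    rcases (zpowers_le.2 hx).eq_or_lt with h | h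
    · have : Commute x y := ab_iff.1 (ab_of_isCyclic (A := R) (h ▸ inferInstance)) x hx y hy
      rw [this.mul_pow, hxp, hyp, one_mul]
    obtain ⟨S, h1, h2, h4⟩ := exists_le_relIndex_eq hR h
    have h5 : S < R := h2.le.lt_of_ne fun e => by
      rw [e, relIndex_self] at h4
      exact hp.out.one_lt.ne h4
    have h6 := ih S h5 (hR.to_le h2.le) ((rank_mono h2.le).trans hr)
    have h7 := h2.Ohm p
    have h8 := rank2_exponent_p_p3group (hR.to_le h7.le) ((rank_mono h7.le).trans hr) h6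
    have h9 : Ohm p S ⊔ zpowers y ≤ R := sup_le h7.le (zpowers_le.2 hy)
    have h10 : ♯(Ohm p S ⊔ zpowers y) ≤ p ^ p := by
      have h11 := Nat.le_of_dvd (Nat.mul_pos (card_pos' _) (card_pos' _))
        (card_sup_dvd (A := Ohm p S) (B := zpowers y) (Or.inr (zpowers_le.2 (h7.norm hy))))
      have h12 : ♯(zpowers y) ≤ p := by
        rw [Nat.card_zpowers]
        exact Nat.le_of_dvd hp.out.pos (orderOf_dvd_of_pow_eq_one hyp)
      calc _ ≤ p ^ 3 * p := h11.trans (Nat.mul_le_mul h8 h12)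
        _ = p ^ 4 := by ring
        _ ≤ p ^ p := Nat.pow_le_pow_right hp.out.pos h3
    have := (hR.to_le h9).isNilpotent
    have h13 := Reg.powRegOn_of_card_le (hR.to_le h9) h10 1
    rw [pow_one] at h13
    exact h13.mul_pow_eq_one (mem_sup_left (mem_Ohm (h1 (mem_zpowers x)) hxp))
      (mem_sup_right (mem_zpowers y)) hxp hyp
  intro x hx
  induction hx using closure_induction with
  | mem x hx => exact hx.2
  | one => exact one_pow p
  | mul x y hx hy ihx ihy => exact key x (Ohm_le p R hx) y (Ohm_le p R hy) ihx ihy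
  | inv x hx ihx => rw [inv_pow, ihx, inv_one]

theorem B4.isMetacyclic_of_card_omegaOne_le {X : Type u} [Group X] [Finite X] (hX : IsPGroup p X)
    (h3 : 3 < p) (h : ♯(Ohm p (⊤ : Subgroup X)) ≤ p ^ 2) : IsMetacyclic X := by
  obtain ⟨n, hn⟩ := IsPGroup.iff_card.1 hX
  have key : ∀ x y z : X, closure ({x, y, z} : Set X) = ⊤ → x ^ p = 1 → y ^ p = 1 →
      z ^ p ^ (n - 2) = 1 → 3 ≤ n → False := by
    intro x y z h1 hx hy hz hn3
    have h2 : Ohm p (⊤ : Subgroup X) ⊔ zpowers z = ⊤ := by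
      refine top_le_iff.1 (h1.ge.trans ((closure_le _).2 ?_))
      rintro _ (rfl | rfl | rfl)
      · exact mem_sup_left (mem_Ohm trivial hx)
      · exact mem_sup_left (mem_Ohm trivial hy)
      · exact mem_sup_right (mem_zpowers _)
    have h4 := card_sup_mul_card_inf (A := Ohm p (⊤ : Subgroup X)) (B := zpowers z)
      (Or.inr (le_top.trans (Ohm_normal p ⊤).norm))
    rw [h2, card_top, hn] at h4
    have h5 : ♯(zpowers z) ≤ p ^ (n - 2) := by
      rw [Nat.card_zpowers]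
      exact Nat.le_of_dvd (pow_pos hp.out.pos _) (orderOf_dvd_of_pow_eq_one hz)
    have hp1 := hp.out.one_lt
    by_cases h6 : zpowers z = ⊥
    · rw [h6, inf_bot_eq, card_bot, mul_one, mul_one] at h4
      rw [← h4, Nat.pow_le_pow_iff_right hp1] at h
      omega
    have h7 : Ohm p (⊤ : Subgroup X) ⊓ zpowers z ≠ ⊥ := by
      rw [inf_comm]
      exact inf_Ohm_ne_bot (hX.to_subgroup _) (by rwa [inf_top_eq])
    have h8 := Nat.mul_lt_mul_of_le_of_lt (le_refl (p ^ n)) (one_lt_card h7) (pow_pos hp.out.pos _)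
    have h9 := Nat.mul_le_mul h h5
    rw [← pow_add, show 2 + (n - 2) = n by omega] at h9
    omega
  rcases S3888.result (by omega) n hn (fun A h1 h2 => (card_le (le_Ohm le_top ⟨h1, h2⟩)).trans h) with
    h1 | ⟨h1, x, y, z, h2, h4, h5, h6, -⟩ | ⟨h1, s, x, y, z, -, h2, h4, h5, h6, -⟩ | ⟨h1, -⟩
  · exact h1
  · exact (key x y z h2 h4 h5 h6 h1).elim
  · exact (key x y z h2 h4 h5 h6 (by omega)).elim
  · omega

/-- Proposition 4.11 (Huppert) -/
theorem p2_Ohm1_metacyclic (hR : IsPGroup p R) (h3 : 3 < p) (h : ♯(Ohm p R) ≤ p ^ 2) :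
    IsMetacyclic R := by
  refine isMetacyclic_of_card_omegaOne_le hR h3 ?_
  rwa [← card_map_subtype, map_Ohm R.subtype_injective, map_subtype_top]

/-- Lemma 4.9 -/
theorem quotient_p2_Ohm1 (hR : IsPGroup p R) (h3 : 3 < p) (h : ♯(Ohm p R) ≤ p ^ 2) (hT : T ⊴ R) :
    ♯(Ohm p (R ⁒ T)) ≤ p ^ 2 := by
  refine (card_Ohm_le_of_isMetacyclic (isMetacyclic_quo (p2_Ohm1_metacyclic hR h3 h) hT.norm)
    (isPGroup_quo hR T) (odd_quo ?_ T)).1
  obtain ⟨n, hn⟩ := IsPGroup.iff_card.1 hR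
  exact hn ▸ (hp.out.odd_of_ne_two (by omega)).pow

end PGroups

end Cfsg.Agent.OO.Pf
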