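import Cfsg.Agent.Lib.OO.BG9
import Cfsg.Agent.Lib.OO.Quo

/-! # B&G section 10: basic facts, Theorems 10.1 and 10.2 -/

set_option autoImplicit false
set_option linter.unusedSectionVars false

namespace Cfsg.Agent.OO.Pf

open Subgroup Cfsg.Agent.Coprime B7
open scoped Pointwise

universe u

variable {G : Type u} [Group G] [Finite G]

theorem alphaS_conj (M : Subgroup G) (g : G) : alphaS (g •ᶜ M) = alphaS M := by
  ext p
  refine and_congr_right fun hp => ?_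
  have := Fact.mk hp
  rw [rp_conj]

theorem B7.betaS_conj_le (M : Subgroup G) (g : G) : betaS M ⊆ betaS (g •ᶜ M) :=
  fun _ ⟨hp, P, h1, h2⟩ => have := Fact.mk hp; ⟨hp, g •ᶜ P, h1.conj g, fun h => h2 (narrow_conj.mp h)⟩

theorem betaS_conj (M : Subgroup G) (g : G) : betaS (g •ᶜ M) = betaS M :=
  Set.Subset.antisymm (by simpa only [inv_conj_conj] using betaS_conj_le (g •ᶜ M) g⁻¹) (betaS_conj_le M g)

theorem B7.sigmaS_conj_le (M : Subgroup G) (g : G) : sigmaS M ⊆ sigmaS (g •ᶜ M) :=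
  fun _ ⟨hp, P, h1, h2⟩ => ⟨hp, g •ᶜ P, h1.conj g, by rw [norm_conj]; exact conj_mono g h2⟩

theorem sigmaS_conj (M : Subgroup G) (g : G) : sigmaS (g •ᶜ M) = sigmaS M :=
  Set.Subset.antisymm (by simpa only [inv_conj_conj] using sigmaS_conj_le (g •ᶜ M) g⁻¹) (sigmaS_conj_le M g)

theorem Ma_conj (M : Subgroup G) (g : G) : Ma (g •ᶜ M) = g •ᶜ Ma M := by
  rw [Ma, alphaS_conj, Opi_conj, Ma]
theorem Mb_conj (M : Subgroup G) (g : G) : Mb (g •ᶜ M) = g •ᶜ Mb M := by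
  rw [Mb, betaS_conj, Opi_conj, Mb]
theorem Ms_conj (M : Subgroup G) (g : G) : Ms (g •ᶜ M) = g •ᶜ Ms M := by
  rw [Ms, sigmaS_conj, Opi_conj, Ms]
theorem Ma_normal (M : Subgroup G) : Ma M ⊴ M := Opi_normal _ M
theorem Mb_normal (M : Subgroup G) : Mb M ⊴ M := Opi_normal _ M
theorem Ms_normal (M : Subgroup G) : Ms M ⊴ M := Opi_normal _ M
theorem Ma_piGrp (M : Subgroup G) : PiGrp (alphaS M) (Ma M) := Opi_piGrp _ M
theorem Mb_piGrp (M : Subgroup G) : PiGrp (betaS M) (Mb M) := Opi_piGrp _ M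
theorem Ms_piGrp (M : Subgroup G) : PiGrp (sigmaS M) (Ms M) := Opi_piGrp _ M

theorem beta_sub_alpha (M : Subgroup G) : betaS M ⊆ alphaS M := fun p ⟨hp, P, h1, h2⟩ => by
  have := Fact.mk hp
  refine ⟨hp, ?_⟩
  by_contra h
  exact h2 (narrow_of_rp_le (rp_syl h1 ▸ not_lt.mp h))

theorem Mbeta_sub_Malpha (M : Subgroup G) : Mb M ≤ Ma M := Opi_mono (beta_sub_alpha M) M

theorem B7.not_narrow_of_mem_beta {M P : Subgroup G} {p : ℕ} [Fact p.Prime] (hp : p ∈ betaS M)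
    (hP : Syl p P M) : ¬ Narrow p P := by
  obtain ⟨-, Q, h1, h2⟩ := hp
  obtain ⟨g, -, rfl⟩ := h1.exists_conj' hP
  exact fun h => h2 (narrow_conj.mp h)

theorem norm_sigma_Sylow {M P : Subgroup G} {p : ℕ} (hp : p ∈ sigmaS M) (hP : Syl p P M) : 𝐍(P) ≤ M := by
  obtain ⟨hp, Q, h1, h2⟩ := hp
  have := Fact.mk hp
  obtain ⟨g, hg, rfl⟩ := h1.exists_conj' hP
  rw [norm_conj]
  exact conj_le_of_mem hg h2

theorem sigma_Sylow_G {M P : Subgroup G} {p : ℕ} (hp : p ∈ sigmaS M) (hP : Syl p P M) : Syl p P ⊤ :=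
  have := Fact.mk hp.1
  IsSylowIn.of_syl_norm le_top (hP.mono (le_inf le_top (le_norm_self P))
    (inf_le_right.trans (norm_sigma_Sylow hp hP)))

theorem sigma_Sylow_neq1 {M P : Subgroup G} {p : ℕ} (hM : IsCoatom M) (hp : p ∈ sigmaS M)
    (hP : Syl p P M) : P ≠ ⊥ := by
  rintro rfl
  exact hM.1 (top_le_iff.mp (norm_bot (G := G) ▸ norm_sigma_Sylow hp hP))

theorem sigma_sub_pi {M : Subgroup G} (hM : IsCoatom M) : sigmaS M ⊆ piOf M := fun p hp => by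
  have := Fact.mk hp.1
  obtain ⟨P, hP⟩ := exists_syl p M
  exact ⟨hp.1, hP.dvd_card_iff.mp (dvd_card_of_isPGroup hP.isPGroup (sigma_Sylow_neq1 hM hp hP))⟩

/-- Theorem 10.1(d) -/
theorem sigma_Sylow_trans {M X : Subgroup G} {p : ℕ} {g : G} (hp : p ∈ sigmaS M) (hX : Syl p X M)
    (hg : g •ᶜ X ≤ M) : g ∈ M := by
  have := Fact.mk hp.1
  obtain ⟨m, hm, e⟩ := hX.exists_conj' (hX.of_card_eq hg (card_conj g X))
  have h1 : m⁻¹ * g ∈ M :=
    norm_sigma_Sylow hp hX (conj_eq_self_iff.mp (by rw [← conj_conj, e, inv_conj_conj]))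
  exact (M.mul_mem_cancel_left (inv_mem hm)).mp h1

theorem B7.rp_top_of_sigma {M : Subgroup G} {p : ℕ} [Fact p.Prime] (hp : p ∈ sigmaS M) :
    rp p (⊤ : Subgroup G) = rp p M := by
  obtain ⟨P, hP⟩ := exists_syl p M
  rw [← rp_syl hP, rp_syl (sigma_Sylow_G hp hP)]

variable [MinOdd G]

theorem alpha_sub_sigma {M : Subgroup G} (hM : IsCoatom M) : alphaS M ⊆ sigmaS M := fun p hp => by
  have := Fact.mk hp.1
  obtain ⟨P, hP⟩ := exists_syl p M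
  exact ⟨hp.1, P, hP, ((rank3_Uniqueness (mFT_pgroup_proper hP.isPGroup)
    (rank_syl hP ▸ hp.2)).uniqMax hM hP.1).norm_le⟩

theorem beta_sub_sigma {M : Subgroup G} (hM : IsCoatom M) : betaS M ⊆ sigmaS M :=
  (beta_sub_alpha M).trans (alpha_sub_sigma hM)

theorem Malpha_sub_Msigma {M : Subgroup G} (hM : IsCoatom M) : Ma M ≤ Ms M := Opi_mono (alpha_sub_sigma hM) M
theorem Mbeta_sub_Msigma {M : Subgroup G} (hM : IsCoatom M) : Mb M ≤ Ms M := Opi_mono (beta_sub_sigma hM) M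

theorem predI_sigma_alpha {M : Subgroup G} (hM : IsCoatom M) :
    sigmaS M ∩ alphaS (⊤ : Subgroup G) = alphaS M := by
  ext p
  refine ⟨fun ⟨h1, h2⟩ => ?_, fun h => ⟨alpha_sub_sigma hM h, h.1, ?_⟩⟩
  · have := Fact.mk h1.1
    exact ⟨h1.1, rp_top_of_sigma h1 ▸ h2.2⟩
  · have := Fact.mk h.1
    exact h.2.trans_le (rp_mono p le_top)

theorem predI_sigma_beta {M : Subgroup G} (hM : IsCoatom M) :
    sigmaS M ∩ betaS (⊤ : Subgroup G) = betaS M := by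
  ext p
  refine ⟨fun ⟨h1, h2⟩ => ?_, fun h => ⟨beta_sub_sigma hM h, ?_⟩⟩
  · have := Fact.mk h1.1
    obtain ⟨P, hP⟩ := exists_syl p M
    exact ⟨h1.1, P, hP, not_narrow_of_mem_beta h2 (sigma_Sylow_G h1 hP)⟩
  · have hs := beta_sub_sigma hM h
    obtain ⟨hp, P, h1, h2⟩ := h
    exact ⟨hp, P, sigma_Sylow_G hs h1, h2⟩

theorem mmax_sigma_Sylow {M P : Subgroup G} {p : ℕ} [Fact p.Prime] (_hM : IsCoatom M) (hP : Syl p P M)
    (hN : 𝐍(P) ≤ M) : Syl p P ⊤ := syl_top_of_norm_le hP hN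

theorem mmax_Fitting_neq1 {M : Subgroup G} (hM : IsCoatom M) : Fit M ≠ ⊥ :=
  Fit_ne_bot (mmax_sol hM) (mmax_neq1 hM)

theorem B7.plen1_of_rp_le {H : Subgroup G} {p : ℕ} [Fact p.Prime] (hH : H ≠ ⊤) (hr : rp p H ≤ 2) : PLen1 p H :=
  plength1_pseries2_quo.mpr (rank2_der1_complement (mFT_sol hH) (mFT_odd H) hr).2.2

theorem B7.sigma_trans_aux {M : Subgroup G} {p : ℕ} (hM : IsCoatom M) (hp : p ∈ sigmaS M) (X : Subgroup G) :
    IsPGroup p X → ∀ g h : G, X ≤ g •ᶜ M → X ≤ h •ᶜ M → ∃ c ∈ 𝐂(X), h •ᶜ M = c •ᶜ (g •ᶜ M) := by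
  have := Fact.mk hp.1
  induction X using Core.subgroup_induction_gt with
  | h X ih =>
  intro hX g h hg hh
  by_cases hX1 : X = ⊥
  · exact ⟨h * g⁻¹, by rw [hX1, cent_bot]; trivial, by rw [conj_conj, inv_mul_cancel_right]⟩
  by_cases he : h •ᶜ M = g •ᶜ M
  · exact ⟨1, one_mem _, by rw [one_conj, he]⟩
  have hL : 𝐍(X) ≠ ⊤ := mFT_norm_proper hX1 (mFT_pgroup_proper hX)
  have key : ∀ g h : G, X ≤ g •ᶜ M → X ≤ h •ᶜ M → h •ᶜ M ≠ g •ᶜ M →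
      ∃ X1, X < X1 ∧ Syl p X1 (g •ᶜ M ⊓ 𝐍(X)) := fun g h hg hh he => by
    obtain ⟨X1, h1, h2⟩ := exists_syl_ge (le_inf hg (le_norm_self X)) hX
    refine ⟨X1, lt_of_le_of_ne h2 fun e => he ?_, h1⟩
    subst e
    have h3 := sigma_Sylow_trans (g := g * h⁻¹) ((sigmaS_conj M g).symm ▸ hp)
      (IsSylowIn.of_syl_norm hg h1) (by rw [← conj_conj]; exact conj_mono g (le_conj_iff_inv_conj_le.mp hh))
    rw [← conj_eq_of_mem (inv_mem h3), conj_conj, mul_inv_rev, inv_inv, inv_mul_cancel_right]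
  obtain ⟨X1, lt1, s1⟩ := key g h hg hh he
  obtain ⟨X2, lt2, s2⟩ := key h g hh hg (Ne.symm he)
  obtain ⟨P, hP, hle⟩ := exists_syl_ge (s1.1.trans inf_le_right) s1.isPGroup
  obtain ⟨S, hS⟩ := exists_syl p M
  obtain ⟨k, -, hk⟩ := (sigma_Sylow_G hp hS).exists_le_conj' le_top hP.isPGroup
  replace hk : P ≤ k •ᶜ M := hk.trans (conj_mono k hS.1)
  obtain ⟨t, ht, htP⟩ := hP.exists_le_conj' (s2.1.trans inf_le_right) s2.isPGroup
  obtain ⟨c1, hc1, e1⟩ := ih X1 lt1 s1.isPGroup g k (s1.1.trans inf_le_left) (hle.trans hk)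
  obtain ⟨c2, hc2, e2⟩ := ih X2 lt2 s2.isPGroup (t * k) h
    (htP.trans (by rw [← conj_conj]; exact conj_mono t hk)) (s2.1.trans inf_le_left)
  suffices h3 : ∃ c ∈ 𝐂(X), t •ᶜ k •ᶜ M = c •ᶜ k •ᶜ M by
    obtain ⟨c, hc, e⟩ := h3
    refine ⟨c2 * c * c1, mul_mem (mul_mem (cent_anti lt2.le hc2) hc) (cent_anti lt1.le hc1), ?_⟩
    rw [e2, ← conj_conj t, e, e1, conj_conj c, conj_conj c2, mul_assoc]
  by_cases hr : 3 ≤ rank P
  · refine ⟨1, one_mem _, ?_⟩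
    rw [one_conj, conj_eq_of_mem (((rank3_Uniqueness (mFT_pgroup_proper hP.isPGroup) hr).uniqMax
      (isCoatom_conj hM k) hk).le_of_ne_top hP.1 hL ht)]
  have hl : PLen1 p 𝐍(X) := plen1_of_rp_le hL (by rw [← rank_syl hP]; omega)
  rw [← plength1_Frattini hP hl] at ht
  obtain ⟨v, hv, u, hu, rfl⟩ := (mem_sup_norm_left (inf_le_left.trans (Opi_normal _ _).2)).mp ht
  have hv' : v ∈ 𝐂(X) := le_cent_of_coprime (Opi_le _ _) ((le_norm_self X).trans (Opi_normal _ _).2)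
    (coprime_of_isPGroup hX (Opi_piGrp _ _)).symm hv
  obtain ⟨c, hc, e⟩ := ih P (lt1.trans_le hle) hP.isPGroup k (u * k) hk
    (by rw [← conj_conj, ← conj_eq_of_mem_norm hu.2]; exact conj_mono u hk)
  refine ⟨v * c, mul_mem hv' (cent_anti (lt1.le.trans hle) hc), ?_⟩
  rw [← conj_conj v, ← conj_conj v, conj_conj u, e]

/-- Theorem 10.1(a, b, c) -/
theorem sigma_group_trans {M X : Subgroup G} {p : ℕ} (hM : IsCoatom M) (hp : p ∈ sigmaS M)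
    (hX : IsPGroup p X) :
    (∀ g : G, X ≤ M → g •ᶜ X ≤ M → ∃ m ∈ M, ∃ c ∈ 𝐂(X), g = m * c) ∧
    ((∃ g : G, X ≤ g •ᶜ M) ∧
      ∀ g h : G, X ≤ g •ᶜ M → X ≤ h •ᶜ M → ∃ c ∈ 𝐂(X), h •ᶜ M = c •ᶜ (g •ᶜ M)) ∧
    (X ≤ M → IsProd 𝐂(X) (M ⊓ 𝐍(X)) 𝐍(X)) := by
  have := Fact.mk hp.1
  have tr := sigma_trans_aux hM hp X hX
  have a : ∀ g : G, X ≤ M → g •ᶜ X ≤ M → ∃ m ∈ M, ∃ c ∈ 𝐂(X), g = m * c := fun g h1 h2 => by
    obtain ⟨c, hc, e⟩ := tr 1 g⁻¹ (by rwa [one_conj]) (conj_le_iff_le_inv_conj.mp h2)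
    refine ⟨g * c, (conj_mmax_eq_iff hM).mp ?_, c⁻¹, inv_mem hc, by group⟩
    rw [← conj_conj, ← one_conj M, ← e, one_conj, conj_inv_conj]
  refine ⟨a, ⟨?_, tr⟩, fun h => (IsProd.of_forall inf_le_right (cent_le_norm X) fun g hg => ?_).symm⟩
  · obtain ⟨S, hS⟩ := exists_syl p M
    obtain ⟨k, -, hk⟩ := (sigma_Sylow_G hp hS).exists_le_conj' le_top hX
    exact ⟨k, hk.trans (conj_mono k hS.1)⟩
  · obtain ⟨m, hm, c, hc, rfl⟩ := a g h ((conj_eq_of_mem_norm hg).le.trans h)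
    exact ⟨m, ⟨hm, (𝐍(X).mul_mem_cancel_right (cent_le_norm X hc)).mp hg⟩, c, hc, rfl⟩

/-- Theorem 10.1(e) -/
theorem sigma_cent_trans {M X : Subgroup G} {p : ℕ} {g : G} (hM : IsCoatom M) (hp : p ∈ sigmaS M)
    (hX : IsPGroup p X) (hXM : X ≤ M) (hC : 𝐂(X) ≤ M) (hg : g •ᶜ X ≤ M) : g ∈ M := by
  obtain ⟨m, hm, c, hc, rfl⟩ := (sigma_group_trans hM hp hX).1 g hXM hg
  exact mul_mem hm (hC hc)

theorem B7.mFT_der_top : der (⊤ : Subgroup G) = ⊤ := by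
  have := mFT_simple (G := G)
  rcases (normalIn_top.mp (der_normal (⊤ : Subgroup G))).eq_bot_or_eq_top with h | h
  · exact absurd rfl (mFT_ne_top_of_sol (sol_of_ab (ab_iff_der.mpr h)))
  · exact h

theorem B7.rank_le_two_of_alpha' {M H : Subgroup G} (hH : H ≤ M) (h : PiGrp (alphaS M)ᶜ H) : rank H ≤ 2 := by
  refine rank_le_iff.mpr fun p hp => ?_
  by_contra hlt
  exact h p hp.out (rp_pos_iff.mp (by omega)) ⟨hp.out, (not_le.mp hlt).trans_le (rp_mono p hH)⟩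

section OneMax
variable {M : Subgroup G}

theorem B7.alpha'_Fit_quo (M : Subgroup G) : PiGrp (alphaS M)ᶜ (Fit (M ⁒ Ma M)) := by
  rw [← (hall_Opi_of_nil (alphaS M) (Fit_nil _)).eq_bot_iff, ← Fit_Opi, Ma, Opi_quo_Opi]
  exact le_bot_iff.mp (Fit_le _)

theorem B7.der_quo_le_Fit (hM : IsCoatom M) : der M ⁒ Ma M ≤ Fit (M ⁒ Ma M) := by
  rw [quo_der (Ma_normal M).2]
  refine rank2_der1_sub_Fitting (odd_quo (mFT_odd M) _) (sol_quo (mmax_sol hM) _) (rank_le_iff.mpr fun p hp => ?_)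
  by_cases ha : p ∈ alphaS M
  · rw [rp_eq_zero_iff.mpr ((alpha'_Fit_quo M).not_dvd hp.out fun h => h ha)]
    omega
  · refine (rp_mono p (Fit_le _)).trans ?_
    rw [rp_quo_of_piGrp (Ma_normal M).2 ((Ma_piGrp M).mono fun q hq (e : q = p) => ha (e ▸ hq))]
    exact not_lt.mp fun h => ha ⟨hp.out, h⟩

theorem B7.sigma_le_der (hM : IsCoatom M) {H : Subgroup G} (hH : H ≤ M) (h : PiGrp (sigmaS M) H) :
    H ≤ der M := by
  refine le_of_forall_isPGroup fun p hp Q hQ hQp => ?_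
  by_cases h1 : Q = ⊥
  · exact h1 ▸ bot_le
  have hs : p ∈ sigmaS M := mem_of_isPGroup_of_piGrp hQp h1 (h.of_le hQ)
  obtain ⟨P, hP, hle⟩ := exists_syl_ge (hQ.trans hH) hQp
  refine hle.trans ?_
  rw [← inf_top_eq P, ← mFT_der_top, focal_subgroup_gen (sigma_Sylow_G hs hP), closure_le]
  rintro _ ⟨x, hx, g, -, hg, rfl⟩
  obtain ⟨m, hm, c, hc, rfl⟩ := (sigma_group_trans hM hs (hP.isPGroup.to_le (zpowers_le.mpr hx))).1 g
    (zpowers_le.mpr (hP.1 hx)) (by rw [conj_zpowers]; exact zpowers_le.mpr (hP.1 hg))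
  rw [cent_zpowers, mem_cent1_iff_conj] at hc
  have : x⁻¹ * (m * c * x * (m * c)⁻¹) = x⁻¹ * m * x⁻¹⁻¹ * m⁻¹ := by
    rw [inv_inv]
    conv_rhs => enter [1, 2]; rw [← hc]
    group
  rw [this]
  exact commutator_mem_commutator (inv_mem (hP.1 hx)) hm

/-- Theorem 10.2(a1) -/
theorem Malpha_Hall (hM : IsCoatom M) : Hall (alphaS M) (Ma M) M := by
  obtain ⟨H, hH⟩ := exists_hall (sigmaS M) (mmax_sol hM)
  refine IsPiHallOf.trans (IsPiHallOf.of_pi ((Malpha_sub_Msigma hM).trans (Opi_le_hall hH)) (Ma_piGrp M) ?_)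
    hH (alpha_sub_sigma hM)
  rw [← piGrp_quo_iff (hH.le.trans (Ma_normal M).2)]
  exact (alpha'_Fit_quo M).of_le ((quo_mono _ (sigma_le_der hM hH.le hH.piGrp)).trans (der_quo_le_Fit hM))

/-- Theorem 10.2(b1) -/
theorem Msigma_Hall (hM : IsCoatom M) : Hall (sigmaS M) (Ms M) M := by
  obtain ⟨H, hH⟩ := exists_hall (sigmaS M) (mmax_sol hM)
  refine hall_Opi_of_normal_hall hH ?_
  rw [← quo_le_norm_iff (Ma_normal M).2
    ((Ma_normal M).mono ((Malpha_sub_Msigma hM).trans (Opi_le_hall hH)) hH.le)]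
  exact (Fit_normal _).2.trans (((hH.quo (Ma_normal M).2).mono
    ((quo_mono _ (sigma_le_der hM hH.le hH.piGrp)).trans (der_quo_le_Fit hM))
    (Fit_le _)).norm_le_norm_of_nil (Fit_nil _))

theorem pi_Msigma (hM : IsCoatom M) : piOf (Ms M) = sigmaS M := by
  rw [(Msigma_Hall hM).piOf_eq, Set.inter_eq_right.mpr (sigma_sub_pi hM)]

theorem B7.not_dvd_index_of_sigma {p : ℕ} (hp : p ∈ sigmaS M) : ¬ p ∣ M.relIndex ⊤ := fun h => by
  have := Fact.mk hp.1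
  obtain ⟨P, hP⟩ := exists_syl p M
  exact (sigma_Sylow_G hp hP).not_dvd (h.trans (relIndex_dvd_of_le_left _ hP.1))

/-- Theorem 10.2(b2) -/
theorem Msigma_Hall_G (hM : IsCoatom M) : Hall (sigmaS M) (Ms M) ⊤ :=
  (Msigma_Hall hM).trans_of_relIndex le_top fun _ _ hd hp => not_dvd_index_of_sigma hp hd

/-- Theorem 10.2(a2) -/
theorem Malpha_Hall_G (hM : IsCoatom M) : Hall (alphaS M) (Ma M) ⊤ :=
  (Malpha_Hall hM).trans_of_relIndex le_top fun _ _ hd hp => not_dvd_index_of_sigma (alpha_sub_sigma hM hp) hd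

/-- Theorem 10.2(c) -/
theorem Msigma_der1 (hM : IsCoatom M) : Ms M ≤ der M := sigma_le_der hM (Ms_normal M).1 (Ms_piGrp M)

/-- Theorem 10.2(d1) -/
theorem Malpha_quo_rank2 (hM : IsCoatom M) : rank (M ⁒ Ma M) ≤ 2 := by
  refine rank_le_iff.mpr fun p hp => ?_
  by_cases ha : p ∈ alphaS M
  · rw [rp_eq_zero_iff.mpr (((piGrp_quo_iff (Ma_normal M).2).mpr (Malpha_Hall hM).compl).not_dvd hp.out
      fun h => h ha)]
    omega
  · rw [rp_quo_of_piGrp (Ma_normal M).2 ((Ma_piGrp M).mono fun q hq (e : q = p) => ha (e ▸ hq))]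
    exact not_lt.mp fun h => ha ⟨hp.out, h⟩

/-- Theorem 10.2(d2) -/
theorem Malpha_quo_nil (hM : IsCoatom M) : Nil (der M ⁒ Ma M) := nil_of_le (Fit_nil _) (der_quo_le_Fit hM)

theorem B7.rank_le_two_of_Ma_eq_bot (hM : IsCoatom M) (h : Ma M = ⊥) : rank M ≤ 2 :=
  rank_le_two_of_alpha' le_rfl ((Malpha_Hall hM).eq_bot_iff.mp h)

/-- Theorem 10.2(e) -/
theorem Msigma_neq1 (hM : IsCoatom M) : Ms M ≠ ⊥ := by
  intro h
  obtain ⟨q, hq, hd, hmax⟩ := exists_max_prime (mmax_neq1 hM)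
  have := Fact.mk hq
  have s := rank2_max_pcore_Sylow (mFT_odd M) (mmax_sol hM) ((rank_mono (Fit_le M)).trans
    (rank_le_two_of_Ma_eq_bot hM (le_bot_iff.mp (h ▸ Malpha_sub_Msigma hM)))) hmax
  exact (Msigma_Hall hM).eq_bot_iff.mp h q hq hd ⟨hq, _, s, (mmax_normal hM (Op_normal q M) (s.ne_bot hd)).le⟩

theorem norm_Msigma (hM : IsCoatom M) : 𝐍(Ms M) = M := mmax_normal hM (Ms_normal M) (Msigma_neq1 hM)

end OneMax

end Cfsg.Agent.OO.Pf
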