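import Cfsg.Agent.Lib.OO.Pf.BG10_A
import Cfsg.Agent.Lib.Coprime.TIHall

/-! # B&G section 10: Lemma 10.3 to Proposition 10.10 -/

set_option autoImplicit false
set_option linter.unusedSectionVars false

namespace Cfsg.Agent.OO.Pf

open Subgroup Cfsg.Agent.Coprime B7
open scoped Pointwise

universe u

variable {G : Type u} [Group G] [Finite G]

theorem B7.card_Zc_of_cube {p : ℕ} [hp : Fact p.Prime] {S : Subgroup G} (hc : ♯S = p ^ 3) (hab : ¬ Ab S) :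
    ♯(Zc S) = p := by
  have hS : IsPGroup p S := isPGroup_of_card_prime_pow hc
  have h1 : Zc S ≠ ⊥ := Zc_ne_bot (nil_of_isPGroup hS) fun h => hab (h ▸ ab_bot)
  obtain ⟨k, hk, e⟩ := (Nat.dvd_prime_pow hp.out).mp (hc ▸ card_dvd (Zc_le S))
  have e2 := card_mul_card_quo (Zc_normal S)
  rw [e, hc] at e2
  have h0 : k ≠ 0 := fun h => h1 (card_eq_one_iff.mp (by rw [e, h, pow_zero]))
  have h2 : k < 2 := by
    by_contra h
    refine hab (cyclic_center_factor_abelian le_rfl (isCyclic_of_card_dvd_prime (p := p) ?_))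
    have : p ^ k * ♯(S ⁒ Zc S) ∣ p ^ k * p := by
      rw [e2, ← pow_succ]; exact pow_dvd_pow p (by omega)
    exact Nat.dvd_of_mul_dvd_mul_left (pow_pos hp.out.pos k) this
  rw [e, show k = 1 by omega, pow_one]

variable [MinOdd G]

/-- Lemma 10.3 -/
theorem cent_alpha'_uniq {M X : Subgroup G} (hM : IsCoatom M) (hX : X ≤ M) (ha : PiGrp (alphaS M)ᶜ X)
    (hr : 2 ≤ rank (Ma M ⊓ 𝐂(X))) : Uniq (M ⊓ 𝐂(X)) := by
  obtain ⟨p, hp, B, hB⟩ := le_rank_iff.mp hr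
  have := Fact.mk hp
  have hne : M ⊓ 𝐂(X) ≠ ⊤ := ne_top_of_le_mmax hM inf_le_left
  have hBa : B ≤ Ma M := hB.le.trans inf_le_left
  have hBX : B ≤ 𝐂(X) := hB.le.trans inf_le_right
  by_cases hm : IsMaxEp p B ⊤
  swap
  · exact (nonmaxElem2_Uniqueness hB.top hm).mono (le_inf (hBa.trans (Ma_normal M).1) hBX) hne
  have hpa : p ∈ alphaS M :=
    mem_of_isPGroup_of_piGrp hB.isPGroup (hB.ne_bot two_ne_zero) ((Ma_piGrp M).of_le hBa)
  have co : (♯(Ma M)).Coprime ♯X := (Ma_piGrp M).coprime ha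
  obtain ⟨P, hP, nP, hBP⟩ := coprime_Hall_subset (π := {p}) (hX.trans (Ma_normal M).2) co
    (sol_of_le (mmax_sol hM) (Ma_normal M).1) hBa hB.piGrp (le_norm_of_le_cent (le_cent_symm hBX))
  have c := coprime_odd_faithful_cent_abelem hB.abelem hBP hP.piGrp.isPGroup nP
    (coprime_card_mono co hP.le le_rfl) (mFT_odd P) fun x hx h => hBX (hm.mem_of_cent trivial hx.2 h)
  refine rank3_Uniqueness hne (le_trans ?_ (rank_mono
    (le_inf (hP.le.trans (Ma_normal M).1) (le_cent_symm c))))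
  rw [rank_syl (hP.syl.trans_hall (Malpha_Hall hM) hpa)]
  exact hpa.2

/-- Lemma 10.4(a) -/
theorem der1_quo_sigma' {M : Subgroup G} {p : ℕ} (hM : IsCoatom M) (hp : p.Prime)
    (h : p ∣ (der M).relIndex M) : p ∉ sigmaS M :=
  (Msigma_Hall hM).compl p hp (h.trans (relIndex_dvd_of_le_left _ (Msigma_der1 hM)))

/-- Lemma 10.4(b) -/
theorem cent1_sigma'_Zgroup {M P : Subgroup G} {p : ℕ} [Fact p.Prime] (hM : IsCoatom M) (hp : p ∉ sigmaS M)
    (hP : Syl p P M) (hP1 : P ≠ ⊥) :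
    ∃ x ∈ Ohm p (Zc P), x ≠ 1 ∧ ¬ UniqMax 𝐂[x] M ∧ IsZGroup ↥(Ma M ⊓ 𝐂[x]) := by
  have hTP : Ohm p (Zc P) ≤ P := (Ohm_le _ _).trans (Zc_le P)
  suffices h : ∃ x ∈ Ohm p (Zc P), x ≠ 1 ∧ ¬ UniqMax 𝐂[x] M by
    obtain ⟨x, hx, h1, hu⟩ := h
    refine ⟨x, hx, h1, hu, (odd_rank1_Zgroup (mFT_odd _)).mpr (not_lt.mp fun hr => hu ?_)⟩
    have hX : zpowers x ≤ P := zpowers_le.mpr (hTP hx)
    rw [← cent_zpowers] at hr ⊢
    exact ((cent_alpha'_uniq hM (hX.trans hP.1) (piGrp_of_isPGroup (hP.isPGroup.to_le hX)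
      fun h => hp (alpha_sub_sigma hM h)) hr).uniqMax hM inf_le_left).mono inf_le_right
      (mFT_cent_proper (by simpa using h1))
  by_contra! h
  refine hp ⟨Fact.out, P, hP, ((norm_le_norm_Zc P).trans (norm_le_norm_Ohm p _)).trans ?_⟩
  by_cases hc : IsCyclic (Ohm p (Zc P))
  · obtain ⟨x, e⟩ := exists_zpowers_eq hc
    have h1 : x ≠ 1 := by
      rintro rfl
      exact Ohm_ne_bot (hP.isPGroup.to_le (Zc_le P)) (Zc_ne_bot hP.nil hP1) (by rw [← e, zpowers_one_eq_bot])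
    have hu := h x (e ▸ mem_zpowers x) h1
    rw [← cent_zpowers, e] at hu
    exact (norm_le_norm_cent _).trans hu.norm_le
  · exact ((noncyclic_cent1_sub_Uniqueness hM (hTP.trans hP.1) (Ohm_abelem p (Zc_ab P)) hc
      fun b hb h1 => (h b hb h1).le).uniqMax hM (hTP.trans hP.1)).norm_le

/-- Lemma 10.4(c), part 1 -/
theorem sigma'_rank2_max {M A : Subgroup G} {p : ℕ} [Fact p.Prime] (hM : IsCoatom M) (hp : p ∉ sigmaS M)
    (_hr : rp p M = 2) (hA : IsEp p 2 A M) : IsMaxEp p A ⊤ := by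
  by_contra h
  obtain ⟨P, hP, hle⟩ := exists_syl_ge hA.le hA.isPGroup
  exact hp ⟨Fact.out, P, hP, (((nonmaxElem2_Uniqueness hA.top h).uniqMax hM hA.le).mono hle
    (mFT_pgroup_proper hP.isPGroup)).norm_le⟩

omit [MinOdd G] in
theorem B7.not_beta_of_maxEp {A : Subgroup G} {p : ℕ} [Fact p.Prime] (hA : IsEp p 2 A ⊤)
    (hm : IsMaxEp p A ⊤) : p ∉ betaS (⊤ : Subgroup G) := fun h => by
  obtain ⟨P, hP, hle⟩ := exists_syl_ge hA.le hA.isPGroup
  exact not_narrow_of_mem_beta h hP fun _ => ⟨A, hA.of_le hle, hm.mono hle le_top⟩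

/-- Lemma 10.4(c), part 2 -/
theorem sigma'_rank2_beta' {M : Subgroup G} {p : ℕ} [Fact p.Prime] (hM : IsCoatom M) (hp : p ∉ sigmaS M)
    (hr : rp p M = 2) : p ∉ betaS (⊤ : Subgroup G) := by
  obtain ⟨A, hA⟩ := exists_isEp hr.ge
  exact not_beta_of_maxEp hA.top (sigma'_rank2_max hM hp hr hA)

/-- Lemma 10.5, part 1 -/
theorem sigma'_norm_mmax_rank2 {M X : Subgroup G} {p : ℕ} [Fact p.Prime] (hM : IsCoatom M)
    (hX : IsPGroup p X) (hN : 𝐍(X) ≤ M) (hp : p ∉ sigmaS M) : rp p M = 2 := by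
  obtain ⟨P, hP, hle⟩ := exists_syl_ge ((le_norm_self X).trans hN) hX
  rcases lt_trichotomy (rp p M) 2 with h | h | h
  · refine absurd ⟨Fact.out, P, hP, (norm_le_norm_of_isCyclic ?_ hle).trans hN⟩ hp
    rw [odd_pgroup_rank1_cyclic hP.isPGroup (mFT_odd P), rp_syl hP]
    omega
  · exact h
  · exact absurd (alpha_sub_sigma hM ⟨Fact.out, h⟩) hp

/-- Lemma 10.5, part 2 -/
theorem sigma'1Elem_sub_p2Elem {M X : Subgroup G} {p : ℕ} [Fact p.Prime] (hM : IsCoatom M)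
    (hX : IsEp p 1 X ⊤) (hN : 𝐍(X) ≤ M) (hp : p ∉ sigmaS M) : ∃ A, IsEp p 2 A M ∧ X ≤ A := by
  have hr := sigma'_norm_mmax_rank2 hM hX.isPGroup hN hp
  have hXM : X ≤ M := (le_norm_self X).trans hN
  obtain ⟨P, hP, hle⟩ := exists_syl_ge hXM hX.isPGroup
  obtain ⟨Z, hZ⟩ := exists_isEp_one_of_isPGroup (hP.isPGroup.to_le (Zc_le P))
    (Zc_ne_bot hP.nil (ne_bot_of_le_ne_bot (hX.ne_bot one_ne_zero) hle))
  by_cases e : X = Z
  · obtain ⟨A, hA⟩ := exists_isEp ((rp_syl hP).trans hr).ge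
    exact ⟨A, hA.mono hP.1, (hA.isMaxEp ((rp_syl hP).trans hr).le).le_of_cent hle hX.abelem
      (e ▸ hZ.le.trans ((Zc_le_cent P).trans (cent_anti hA.le)))⟩
  · exact ⟨X ⊔ Z, (hX.of_le hXM).sup_two (hZ.mono ((Zc_le P).trans hP.1))
      (hZ.le.trans ((Zc_le_cent P).trans (cent_anti hle))) e, le_sup_left⟩

/-- Theorem 10.6 -/
theorem mFT_proper_plength1 (p : ℕ) [Fact p.Prime] {H : Subgroup G} (hH : H ≠ ⊤) : PLen1 p H := by
  obtain ⟨M, hM, hHM⟩ := mmax_exists hH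
  refine PLen1.of_le ?_ hHM
  by_cases hr : rp p M ≤ 2
  · exact plen1_of_rp_le hM.1 hr
  have ha : p ∈ alphaS M := ⟨Fact.out, not_le.mp hr⟩
  obtain ⟨K, sd, hK⟩ := (Malpha_Hall hM).exists_sdprod (Ma_normal M).2
  have co : (♯(Ma M)).Coprime ♯K := (Ma_piGrp M).coprime hK.piGrp
  suffices h : PLen1 p (Ma M) by
    obtain ⟨P, hP⟩ := exists_syl p (Ma M)
    exact (plen1_iff_syl (hP.trans_hall (Malpha_Hall hM) ha)).mpr
      (((plen1_iff_syl hP).mp h).trans (Op'p_le_of_normal p (Ma_normal M)))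
  obtain ⟨q, hq, hd⟩ := Nat.exists_prime_and_dvd (n := (der M).relIndex M)
    fun h => (der_lt (mmax_sol hM) (mmax_neq1 hM)).not_ge (relIndex_eq_one.mp h)
  have := Fact.mk hq
  have hs := der1_quo_sigma' hM hq hd
  obtain ⟨Q, hQ⟩ := exists_syl q K
  have hQM : Syl q Q M := hQ.trans_hall hK fun h => hs (alpha_sub_sigma hM h)
  obtain ⟨x, hx, h1, -, hZ⟩ := cent1_sigma'_Zgroup hM hs hQM
    (hQM.ne_bot (hd.trans (relIndex_dvd_card _ _)))
  rw [← (coprime_der1_sdprod sd co (sol_of_le (mmax_sol hM) sd.left_le)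
    ((Malpha_sub_Msigma hM).trans (Msigma_der1 hM))).1]
  refine odd_sdprod_Zgroup_cent_prime_plength1 p (mmax_sol hM) (mFT_odd M) sd co (R0 := zpowers x)
    (zpowers_le.mpr (hQ.1 (Zc_le Q (Ohm_le _ _ hx)))) ?_ (by rwa [cent_zpowers])
  rw [Nat.card_zpowers, orderOf_eq_of_abelem (Ohm_abelem q (Zc_ab Q)) hx h1]
  exact hq

theorem B7.exists_sigma_of_syl {p : ℕ} [Fact p.Prime] {P : Subgroup G} (hP : Syl p P ⊤) (h1 : P ≠ ⊥) :
    ∃ M, IsCoatom M ∧ 𝐍(P) ≤ M ∧ Syl p P M ∧ p ∈ sigmaS M := by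
  obtain ⟨M, hM, hle⟩ := mmax_exists (mFT_norm_proper h1 (mFT_pgroup_proper hP.isPGroup))
  have s : Syl p P M := hP.mono ((le_norm_self P).trans hle) le_top
  exact ⟨M, hM, hle, s, Fact.out, P, s, hle⟩

/-- Corollary 10.7(a), second part -/
theorem mFT_Sylow_der1 {p : ℕ} [Fact p.Prime] {P : Subgroup G} (hP : Syl p P ⊤) : P ≤ der 𝐍(P) := by
  by_cases h1 : P = ⊥
  · exact h1.le.trans bot_le
  obtain ⟨M, hM, hle, s, hs⟩ := exists_sigma_of_syl hP h1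
  exact (plength1_Sylow_sub_der1 s (mFT_proper_plength1 p hM.1)
    (sigma_le_der hM s.1 (piGrp_of_isPGroup s.isPGroup hs))).trans (der_mono inf_le_right)

/-- Corollary 10.7(a), first part -/
theorem mFT_Sylow_sdprod_commg {p : ℕ} [Fact p.Prime] {P V : Subgroup G} (hP : Syl p P ⊤)
    (hV : IsSdprod P V 𝐍(P)) : ⁅P, V⁆ = P :=
  (coprime_der1_sdprod hV (hV.coprime_of_left (hP.mono (le_norm_self P) le_top).hall.isHallIn) hP.sol
    (mFT_Sylow_der1 hP)).1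

/-- Corollary 10.7(b) -/
theorem mFT_rank2_Sylow_cprod {p : ℕ} [hp : Fact p.Prime] {P : Subgroup G} (hP : Syl p P ⊤) (hr : rank P < 3)
    (hab : ¬ Ab P) : ∃ S C : Subgroup G, ¬ Ab S ∧ ♯S = p ^ 3 ∧ expo S ∣ p ∧ IsCyclic C ∧
      IsCprod S C P ∧ Ohm p C = Zc S := by
  obtain ⟨V, sd, hV⟩ := (hP.mono (le_norm_self P) le_top).hall.exists_sdprod le_rfl
  obtain h | ⟨S, C, h1, h2, h3, h4, h5, h6⟩ := (rank2_coprime_comm_cprod hP.isPGroup (mFT_odd P)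
    (fun h => hab (h ▸ ab_bot)) (by omega) (mFT_Sylow_sdprod_commg hP sd)
    ((piGrp_compl_singleton hp.out).mp hV.piGrp) (mFT_odd V)).2
  · exact absurd h hab
  refine ⟨S, C, h1, h2, h3, h4, h5, ?_⟩
  have hle : Ohm p C ≤ Zc S := le_inf (h6.le.trans (der_le S)) ((Ohm_le p C).trans h5.le_cent)
  refine (eq_bot_or_eq_of_prime (by rw [card_Zc_of_cube h2 h1]; exact hp.out) hle).resolve_left fun h => h1 ?_
  rw [ab_iff_der, ← h6, h]

/-- Corollary 10.7(c) -/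
theorem mFT_sub_Sylow_trans {p : ℕ} [Fact p.Prime] {P Q : Subgroup G} {x : G} (hP : Syl p P ⊤) (hQ : Q ≤ P)
    (hx : x •ᶜ Q ≤ P) : ∃ y ∈ 𝐍(P), ∃ c ∈ 𝐂(Q), x = y * c := by
  by_cases h1 : P = ⊥
  · exact ⟨x, by rw [h1, norm_bot]; trivial, 1, one_mem _, (mul_one x).symm⟩
  obtain ⟨M, hM, -, s, hs⟩ := exists_sigma_of_syl hP h1
  obtain ⟨m, hm, c, hc, rfl⟩ :=
    (sigma_group_trans hM hs (hP.isPGroup.to_le hQ)).1 x (hQ.trans s.1) (hx.trans s.1)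
  rw [← conj_conj, conj_eq_of_mem_cent hc] at hx
  obtain ⟨u, hu, d, hd, rfl⟩ := plength1_Sylow_trans s (mFT_proper_plength1 p hM.1) (mmax_sol hM) hQ hm hx
  exact ⟨u, hu.2, d * c, mul_mem hd.2 hc, mul_assoc _ _ _⟩

/-- Corollary 10.7(d) -/
theorem mFT_subnorm_Sylow {p : ℕ} [Fact p.Prime] {P Q : Subgroup G} (hP : Syl p P ⊤) (hQ : Q ≤ P) :
    Syl p (P ⊓ 𝐍(Q)) 𝐍(Q) := by
  obtain ⟨S, hS, hle⟩ := exists_syl_ge (le_norm_self Q) (hP.isPGroup.to_le hQ)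
  obtain ⟨x, -, hx⟩ := hP.exists_conj_le le_top hS.isPGroup
  obtain ⟨y, hy, c, hc, rfl⟩ := mFT_sub_Sylow_trans hP hQ ((conj_mono x hle).trans hx)
  have s := hS.conj_of_mem (cent_le_norm Q hc)
  rw [← conj_conj, conj_le_iff_le_inv_conj, conj_eq_of_mem_norm (inv_mem hy)] at hx
  exact s.of_card_le inf_le_right (hP.isPGroup.to_le inf_le_left) (card_le (le_inf hx s.1))

/-- Corollary 10.7(e) -/
theorem mFT_Sylow_normalI {p : ℕ} [Fact p.Prime] {P Q R : Subgroup G} (hP : Syl p P ⊤) (hR : IsPGroup p R)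
    (hQ : Q ≤ P ⊓ R) (hn : Q ⊴ 𝐍(P)) : Q ⊴ 𝐍(R) := by
  obtain ⟨x, -, hx⟩ := hP.exists_conj_le le_top hR
  have key : ∀ g : G, g •ᶜ Q ≤ P → g ∈ 𝐍(Q) := fun g hg => by
    obtain ⟨y, hy, c, hc, rfl⟩ := mFT_sub_Sylow_trans hP (hQ.trans inf_le_left) hg
    exact mul_mem (hn.2 hy) (cent_le_norm Q hc)
  have hQR : Q ≤ R := hQ.trans inf_le_right
  refine ⟨hQR.trans (le_norm_self R), fun y hy => ?_⟩
  refine (𝐍(Q).mul_mem_cancel_left (key x ((conj_mono x hQR).trans hx))).mp (key _ ?_)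
  rw [← conj_conj]
  exact (conj_mono x (conj_le_of_mem_norm hy hQR)).trans hx

section OneMax
variable {M : Subgroup G}

/-- Lemma 10.8(c) -/
theorem beta_max_pdiv {p : ℕ} [Fact p.Prime] (hM : IsCoatom M) (hp : p ∉ betaS M) :
    PNil p (der M) ∧ PNil p (Ms M) ∧ ∀ q : ℕ, q.Prime → q ∣ (Op' p M).relIndex M → q ≤ p := by
  obtain ⟨S, hS⟩ := exists_syl p M
  obtain ⟨h1, h2⟩ := narrow_der1_complement_max_pdiv (mFT_odd M) (mmax_sol hM) hS
    (by_contra fun h => hp ⟨Fact.out, S, hS, h⟩) fun _ => mFT_proper_plength1 p hM.1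
  exact ⟨h1, h1.of_le (Msigma_der1 hM), h2⟩

theorem Mbeta_der1 (hM : IsCoatom M) : Mb M ≤ der M := (Mbeta_sub_Msigma hM).trans (Msigma_der1 hM)

/-- Lemma 10.8(a), first part -/
theorem Mbeta_Hall (hM : IsCoatom M) : Hall (betaS M) (Mb M) M := by
  obtain ⟨H, hH⟩ := exists_hall (betaS M) (mmax_sol hM)
  have hd : H ≤ der M := sigma_le_der hM hH.le (hH.piGrp.mono (beta_sub_sigma hM))
  have h1 : H ≤ Opi (betaS M)ᶜᶜ (der M) := le_opi_compl_of_forall hd fun q hq hb => by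
    have := Fact.mk hq
    exact (beta_max_pdiv hM hb).1.le_of_normal_hall (Opi_normal _ _).2 hd
      (hH.piGrp.mono fun r hr (e : r = q) => hb (e ▸ hr))
  rw [compl_compl] at h1
  have e : H = Mb M := le_antisymm (h1.trans (Opi_le_of_normal _ (der_normal M))) (Opi_le_hall hH)
  exact e ▸ hH

/-- Lemma 10.8(a), second part -/
theorem Mbeta_Hall_G (hM : IsCoatom M) : Hall (betaS M) (Mb M) ⊤ :=
  (Mbeta_Hall hM).trans_of_relIndex le_top fun _ _ hd hp => not_dvd_index_of_sigma (beta_sub_sigma hM hp) hd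

/-- Lemma 10.8(b), equivalent form -/
theorem Mbeta_quo_nil (hM : IsCoatom M) : Nil (der M ⁒ Mb M) :=
  nil_of_forall_pnil fun p hp hd => (beta_max_pdiv hM (((piGrp_quo_iff (Mb_normal M).2).mpr
    (Mbeta_Hall hM).compl) p hp.out (hd.trans (card_dvd (quo_mono _ (der_le M)))))).1.quo _

/-- Lemma 10.8(b) -/
theorem beta'_der1_nil {H : Subgroup G} (hM : IsCoatom M) (hb : PiGrp (betaS M)ᶜ H) (hH : H ≤ der M) :
    Nil H :=
  nil_of_forall_pnil fun p hp hd => (beta_max_pdiv hM (hb p hp.out hd)).1.of_le hH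

theorem B7.Mb_sup_norm {q : ℕ} [Fact q.Prime] {X : Subgroup G} (hM : IsCoatom M) (hX : Syl q X (der M)) :
    Mb M ⊔ (M ⊓ 𝐍(X)) = M := by
  have hXM : X ≤ M := hX.1.trans (der_le M)
  have n : der M ≤ 𝐍(Mb M) := (der_le M).trans (Mb_normal M).2
  have h1 : M ≤ 𝐍(X ⊔ Mb M) := le_norm_sup_of_quo (Mb_normal M).2 (hXM.trans (Mb_normal M).2)
    ((quo_le_norm _ (der_normal M).2).trans ((hX.quo n).hall.norm_le_norm_of_nil (Mbeta_quo_nil hM)))
  have h2 := (hX.mono le_sup_left (sup_le hX.1 (Mbeta_der1 hM))).frattini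
    ⟨sup_le hXM (Mb_normal M).1, h1⟩
  refine le_antisymm (sup_le (Mb_normal M).1 inf_le_left) (h2.sup_eq.ge.trans ?_)
  exact sup_le (sup_le (le_sup_of_le_right (le_inf hXM (le_norm_self X))) le_sup_left) le_sup_right

/-- Corollary 10.9(a) -/
theorem beta'_cent_Sylow {X : Subgroup G} {p q : ℕ} [Fact p.Prime] [Fact q.Prime] (hM : IsCoatom M)
    (hp : p ∉ betaS M) (hq : q ∉ betaS M) (hX : IsPGroup q X)
    (h : (p ≠ q ∧ X ≤ der M) ∨ (p < q ∧ X ≤ M)) :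
    (∃ S, Syl p S (Ms M) ∧ X ≤ 𝐂(S)) ∧ (p ∈ alphaS M → Uniq (M ⊓ 𝐂(X))) ∧
    (Syl q X (der M) → ∃ P, Syl p P (der M) ∧ P ≤ der (M ⊓ 𝐍(X))) := by
  have hXM : X ≤ M := h.elim (fun h => h.2.trans (der_le M)) And.right
  have hpq : p ≠ q := h.elim And.left fun h => h.1.ne
  obtain ⟨P, hP, hc⟩ : ∃ P, Syl p P (der M) ∧ X ≤ 𝐂(P) := by
    obtain ⟨W, hW, hXW⟩ := exists_hall_ge (π := {p, q}) (mmax_sol hM) hXM (piGrp_of_isPGroup hX (Or.inr rfl))
    have hW' := hW.inf_normal (der_normal M)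
    have hn : Nil (W ⊓ der M : Subgroup G) := beta'_der1_nil hM
      (hW'.piGrp.mono (by rintro r (rfl | rfl); exacts [hp, hq])) inf_le_right
    have co := coprime_of_isPGroup_ne hX (Op_isPGroup p (W ⊓ der M)) hpq.symm
    refine ⟨Op p (W ⊓ der M), (syl_Op_of_nil p hn).trans_hall hW' (Or.inl rfl), ?_⟩
    rcases h with h | h
    · exact le_cent_of_nil_of_coprime hn (le_inf hXW h.2) (Op_le _ _) co
    · have h1 : X ≤ Op' p M := (piGrp_singleton hX).le_of_relIndex hXM (Opi_normal _ _).2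
        fun r hr hd (e : r = q) => h.1.not_ge (e ▸ (beta_max_pdiv hM hp).2.2 r hr hd)
      rw [← commutator_eq_bot_iff, ← le_bot_iff, ← (Op_piGrp p (W ⊓ der M)).inf_eq_bot (Op'_piGrp p M)]
      refine le_inf (commutator_le_right' (le_norm_Op p (le_norm_inf (le_norm_of_le hXW)
        (hXM.trans (der_normal M).2)))) ((commutator_mono h1 le_rfl).trans (commutator_le_left' ?_))
      exact (Op_le _ _).trans (inf_le_left.trans (hW.le.trans (Opi_normal _ _).2))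
  have hS : Syl p (P ⊓ Ms M) (Ms M) := hP.inf_normal ((Ms_normal M).mono (Msigma_der1 hM) (der_le M))
  have hc' : X ≤ 𝐂(P ⊓ Ms M) := hc.trans (cent_anti inf_le_left)
  refine ⟨⟨_, hS, hc'⟩, fun ha => rank3_Uniqueness (ne_top_of_le_mmax hM inf_le_left) (le_trans ?_
    (rank_mono (le_inf (inf_le_right.trans (Ms_normal M).1) (le_cent_symm hc')))), fun s => ⟨P, hP, ?_⟩⟩
  · rw [rank_syl (hS.trans_hall (Msigma_Hall hM) (alpha_sub_sigma hM ha))]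
    exact ha.2
  · exact (le_inf le_rfl hP.1).trans (inf_der_le_der (Mb_normal M) (Mb_sup_norm hM s)
      (le_inf (hP.1.trans (der_le M)) (le_norm_of_le_cent (le_cent_symm hc)))
      ((Mb_piGrp M).coprime (piGrp_of_isPGroup hP.isPGroup hp)).symm)

end OneMax

/-- Corollary 10.9(b) -/
theorem nonuniq_norm_Sylow_pprod {M H S : Subgroup G} {p : ℕ} [Fact p.Prime] (hM : IsCoatom M)
    (hH : IsCoatom H) (hne : H ≠ M) (hS : Syl p S ⊤) (hN : 𝐍(S) ≤ H ⊓ M) :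
    Mb M ⊔ (H ⊓ M) = M ∧ alphaS M = betaS M := by
  have hSM : S ≤ M := (le_norm_self S).trans (hN.trans inf_le_right)
  have s : Syl p S M := hS.mono hSM le_top
  have hd : S ≤ der M := sigma_le_der hM hSM
    (piGrp_of_isPGroup hS.isPGroup ⟨Fact.out, S, s, hN.trans inf_le_right⟩)
  have ha : p ∉ alphaS M := fun h => hne (((rank3_Uniqueness (mFT_pgroup_proper hS.isPGroup)
    (rank_syl s ▸ h.2)).uniqMax hM hSM).eq hH ((le_norm_self S).trans (hN.trans inf_le_left)))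
  refine ⟨le_antisymm (sup_le (Mb_normal M).1 inf_le_right) ((Mb_sup_norm hM (s.mono hd (der_le M))).ge.trans
    (sup_le_sup_left (inf_le_right.trans hN) _)), Set.Subset.antisymm (fun q hq => ?_) (beta_sub_alpha M)⟩
  by_contra hb
  have := Fact.mk hq.1
  exact hne ((((beta'_cent_Sylow hM hb (fun h => ha (beta_sub_alpha M h)) hS.isPGroup
    (Or.inl ⟨fun e => ha (e ▸ hq), hd⟩)).2.1 hq).uniqMax hM inf_le_left).eq hH
    (inf_le_right.trans ((cent_le_norm S).trans (hN.trans inf_le_left))))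

/-- Proposition 10.10 -/
theorem max_normed_2Elem_signaliser {A Q : Subgroup G} {p q : ℕ} [Fact p.Prime] [hq' : Fact q.Prime] (hpq : p ≠ q)
    (hA : IsEp p 2 A ⊤) (hAm : IsMaxEp p A ⊤) (hQ : IsMaxNormed ⊤ A {q} Q) (hq : q ∣ ♯𝐂(A)) :
    ∃ P, Syl p P ⊤ ∧ A ≤ P ∧ IsProd (Op' p 𝐂(P)) (𝐍(P) ⊓ 𝐍(Q)) 𝐍(P) ∧ P ≤ der 𝐍(Q) ∧
      (Narrow q Q → der P ≤ 𝐂(Q)) := by
  have e : piOf A = {p} := hA.piOf_eq two_ne_zero
  have hqA : q ∉ piOf A := by rw [e]; exact Ne.symm hpq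
  have c : NormedConstrained A :=
    plength_1_normed_constrained (hA.ne_bot two_ne_zero) hAm fun M hM => mFT_proper_plength1 p hM
  have tr := normed_constrained_rank2_trans hq'.out c hqA hq (by rw [Zc_eq_self hA.ab, hA.rank_eq])
  have sup := fun (P : Subgroup G) (hP : IsPGroup p P) (hle : A ≤ P) => normed_trans_superset hq'.out c hqA hle
    (Core.subnormalIn_of_isNilpotent hle (nil_of_isPGroup hP)).2 (e ▸ piGrp_singleton hP) tr
  obtain ⟨P, hP, hle, hm⟩ : ∃ P, Syl p P ⊤ ∧ A ≤ P ∧ IsMaxNormed ⊤ P {q} Q := by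
    obtain ⟨S, hS, hle⟩ := exists_syl_ge hA.le hA.isPGroup
    obtain ⟨Q0, h0, -⟩ := exists_maxNormed (A := S) (piGrp_bot {q}) (by rw [norm_bot]; exact le_top)
    obtain ⟨k, hk, rfl⟩ := tr Q0 Q ((sup S hS.isPGroup hle).2.2.1 Q0 h0) hQ
    exact ⟨k •ᶜ S, hS.conj_of_mem trivial,
      (conj_eq_of_mem_cent (Opi_le _ _ hk)).ge.trans (conj_mono k hle), IsMaxNormed.conj h0 k⟩
  obtain ⟨h1, -, -, h2⟩ := sup P hP.isPGroup hle
  obtain ⟨h3, h4⟩ := h2 Q hm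
  have h5 : P ≤ der 𝐍(Q) := (le_inf le_rfl (mFT_Sylow_der1 hP)).trans h3
  rw [h1, e] at h4
  refine ⟨P, hP, hle, h4, h5, fun hn => (der_le P).trans ?_⟩
  by_cases hQ1 : Q = ⊥
  · rw [hQ1, cent_bot]; exact le_top
  have hQq : IsPGroup q Q := hQ.1.2.1.isPGroup
  exact fun x hx => (Aut_narrow hQq (mFT_odd Q) hn le_rfl
    (mFT_sol (mFT_norm_proper hQ1 (mFT_pgroup_proper hQq))) (mFT_odd _)).1 x (h5 hx)
    ((hq'.out.coprime_iff_not_dvd.mpr fun h => hpq.symm (hP.piGrp.piElt hx q hq'.out h)).symm)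

end Cfsg.Agent.OO.Pf
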