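import Cfsg.Agent.Lib.OO.Pf.BG10_B

/-! # B&G section 10: Proposition 10.11 to Proposition 10.14 -/

set_option autoImplicit false
set_option linter.unusedSectionVars false

namespace Cfsg.Agent.OO.Pf

open Subgroup Cfsg.Agent.Coprime B7
open scoped Pointwise commutatorElement

universe u

variable {G : Type u} [Group G] [Finite G]

theorem B7.sup_inf_cent_eq_bot {A B P : Subgroup G} (hn : B ≤ 𝐍(A)) (hi : A ⊓ B = ⊥) (hA : P ≤ 𝐍(A))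
    (hB : P ≤ 𝐍(B)) (h1 : A ⊓ 𝐂(P) = ⊥) (h2 : B ⊓ 𝐂(P) = ⊥) : (A ⊔ B) ⊓ 𝐂(P) = ⊥ := by
  refine le_bot_iff.mp fun x ⟨hx, hc⟩ => ?_
  obtain ⟨a, ha, b, hb, rfl⟩ := (mem_sup_norm_left hn).mp hx
  have key : ∀ y ∈ P, a⁻¹ * (y * a * y⁻¹) = 1 := fun y hy => by
    have e : a⁻¹ * (y * a * y⁻¹) = b * (y * b * y⁻¹)⁻¹ := by
      have := mem_cent_iff.mp hc y hy
      calc a⁻¹ * (y * a * y⁻¹) = a⁻¹ * (y * (a * b)) * (b⁻¹ * y⁻¹) := by group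
        _ = b * (y * b * y⁻¹)⁻¹ := by rw [this]; group
    rw [← mem_bot, ← hi]
    exact ⟨A.mul_mem (A.inv_mem ha) (conj_mem_of_norm (hA hy) ha),
      e ▸ B.mul_mem hb (B.inv_mem (conj_mem_of_norm (hB hy) hb))⟩
  have hac : a ∈ 𝐂(P) := mem_cent_iff.mpr fun y hy => by
    have := key y hy
    rw [inv_mul_eq_one] at this
    conv_rhs => rw [this]
    group
  have hbc : b ∈ 𝐂(P) := (𝐂(P).mul_mem_cancel_left hac).mp hc
  exact mul_mem (h1.le ⟨ha, hac⟩) (h2.le ⟨hb, hbc⟩)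

theorem B7.exists_isEp_one_ne {p : ℕ} [Fact p.Prime] {A Z H : Subgroup G} (hA : IsEp p 2 A H)
    (hZ : IsEp p 1 Z A) : ∃ B, IsEp p 1 B A ∧ B ≠ Z := by
  obtain ⟨B, hB, d⟩ := IsEp.exists_dprod (m := 1) (n := 1) hA hZ
  exact ⟨B, hB, fun e => hZ.ne_bot one_ne_zero (by rw [← d.inf_eq, e, inf_idem])⟩

theorem B7.le_cent_of_isEp_one {p : ℕ} [Fact p.Prime] {D N H : Subgroup G} (hD : IsEp p 1 D H)
    (hN : IsPGroup p N) (hn : N ≤ 𝐍(D)) : N ≤ 𝐂(D) :=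
  le_cent_symm (hD.le_of_inf_ne_bot (inf_cent_ne_bot_of_isPGroup hN hD.isPGroup hn (hD.ne_bot one_ne_zero)))

variable [MinOdd G]

section OneMax
variable {M K : Subgroup G}

/-- Proposition 10.11(a) -/
theorem sigma'_not_uniq (hM : IsCoatom M) (hK : K ≤ M) (hs : PiGrp (sigmaS M)ᶜ K) : ¬ Uniq K := fun hu => by
  obtain ⟨E, hE, hle⟩ := exists_hall_ge (mmax_sol hM) hK hs
  obtain ⟨p, hp, hd, hmax⟩ := exists_max_prime (ne_bot_of_le_ne_bot hu.ne_bot hle)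
  have := Fact.mk hp
  have s := rank2_max_pcore_Sylow (mFT_odd E) (sol_of_le (mmax_sol hM) hE.le) ((rank_mono (Fit_le E)).trans
    (rank_le_two_of_alpha' hE.le (hE.piGrp.mono fun q hq h => hq (alpha_sub_sigma hM h)))) hmax
  have hs' := hE.piGrp p hp hd
  exact hs' ⟨hp, _, s.trans_hall hE hs', (hu.uniqMax hM hK).le_of_ne_top (hle.trans (Op_normal p E).2)
    (mFT_norm_proper (s.ne_bot hd) (mFT_pgroup_proper s.isPGroup))⟩

/-- Proposition 10.11(b) -/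
theorem sub'cent_sigma_rank1 (hM : IsCoatom M) (hK : K ≤ M) (hs : PiGrp (sigmaS M)ᶜ K) :
    rank (K ⊓ 𝐂(Ms M)) ≤ 1 := by
  by_contra h
  obtain ⟨p, hp, A, hA⟩ := le_rank_iff.mp (show 2 ≤ _ from not_le.mp h)
  have := Fact.mk hp
  have hAK : A ≤ K := hA.le.trans inf_le_left
  have hc : Ms M ≤ 𝐂(A) := le_cent_symm (hA.le.trans inf_le_right)
  have hu := sigma'_not_uniq hM (hAK.trans hK) (hs.of_le hAK)
  have hps : p ∉ sigmaS M := mem_of_isPGroup_of_piGrp hA.isPGroup (hA.ne_bot two_ne_zero) (hs.of_le hAK)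
  have hm : IsMaxEp p A ⊤ := by_contra fun h => hu (nonmaxElem2_Uniqueness hA.top h)
  have hr : rank (Fit M) ≤ 2 := (rank_mono (Fit_le M)).trans (rank_le_iff.mpr fun r hr => not_lt.mp fun h => by
    refine hu (cent_rank3_Uniqueness hA.rank_eq.ge (le_trans ?_ ((rp_le_rank r _).trans (rank_mono hc))))
    rw [rp_hall (Msigma_Hall hM) (alpha_sub_sigma hM ⟨hr.out, h⟩)]
    exact h)
  obtain ⟨q, hq, hd, hmax⟩ := exists_max_prime (mmax_neq1 hM)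
  have := Fact.mk hq
  have s := rank2_max_pcore_Sylow (mFT_odd M) (mmax_sol hM) hr hmax
  have hN : 𝐍(Op q M) = M := mmax_normal hM (Op_normal q M) (s.ne_bot hd)
  have hqs : q ∈ sigmaS M := ⟨hq, _, s, hN.le⟩
  have hQ : Op q M ≤ Ms M := Op_le_Opi hqs M
  obtain ⟨P, hP, -, -, h1, -⟩ := max_normed_2Elem_signaliser (Q := Op q M) (fun e : p = q => hps (e ▸ hqs)) hA.top hm
    ⟨⟨le_top, Op_piGrp q M, hAK.trans (hK.trans hN.ge)⟩, fun R hR hle =>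
      (sigma_Sylow_G hqs s).eq_of_le hle le_top hR.2.1.isPGroup⟩
    ((s.dvd_card_iff.mpr hd).trans (card_dvd (hQ.trans hc)))
  rw [hN] at h1
  have h2 : P ≤ Op p M :=
    le_Op_of_le_Fit hP.isPGroup (h1.trans (rank2_der1_sub_Fitting (mFT_odd M) (mmax_sol hM) hr))
  have s' : Syl p P M := hP.mono (h2.trans (Op_le p M)) le_top
  have e : Op p M = P := le_antisymm (Op_le_syl s') h2
  exact hps ⟨hp, P, s', (mmax_normal hM (e ▸ Op_normal p M) (s'.ne_bot ((hA.dvd_card two_ne_zero).trans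
    (card_dvd (inf_le_left.trans hK))))).le⟩

/-- Proposition 10.11(c) -/
theorem sub'cent_sigma_cyclic (hM : IsCoatom M) (_hK : K ≤ M) (hs : PiGrp (sigmaS M)ᶜ K) :
    IsCyclic ↥(K ⊓ 𝐂(Ms M) ⊓ der M) ∧ K ⊓ 𝐂(Ms M) ⊓ der M ⊴ M := by
  have hZ : Opi (sigmaS M)ᶜ (Fit M) ⊴ M := (Fit_normal M).Opi _
  have hc : IsCyclic (Opi (sigmaS M)ᶜ (Fit M)) := by
    rw [isCyclic_iff_rank_of_nil_of_odd (nil_of_le (Fit_nil M) (Opi_le _ _)) (mFT_odd _)]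
    refine le_trans (rank_mono (le_inf le_rfl ?_)) (sub'cent_sigma_rank1 hM hZ.1 (Opi_piGrp _ _))
    exact le_cent_symm (Opi_le_cent_of_normal hZ (Opi_piGrp _ _))
  have hY : K ⊓ 𝐂(Ms M) ⊓ der M ≤ M := inf_le_right.trans (der_le M)
  have h1 : K ⊓ 𝐂(Ms M) ⊓ der M ≤ Opi (sigmaS M)ᶜ (Fit M) := by
    refine le_Opi_of_nil (Fit_nil M) (le_trans (le_inf hY ?_) (cent_sub_Fitting (mmax_sol hM)))
      ((hs.inf_left _).inf_left _)
    rw [← (dprod_Opi_of_nil (sigmaS M) (Fit_nil M)).sup_eq]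
    exact le_cent_sup (inf_le_left.trans (inf_le_right.trans (cent_anti (Opi_le_of_normal _ (Fit_normal M)))))
      (inf_le_right.trans (commutator_le_centralizer_of_isCyclic hc hZ.2 hZ.2))
  exact ⟨isCyclic_of_le' hc h1, hY, hZ.2.trans (norm_le_norm_of_isCyclic hc h1)⟩

/-- Proposition 10.11(d) -/
theorem commG_sigma'_1Elem_cyclic {P : Subgroup G} {p : ℕ} [hp' : Fact p.Prime] (hM : IsCoatom M)
    (hK : K ≤ M) (hs : PiGrp (sigmaS M)ᶜ K) (hpK : ¬ p ∣ ♯K) (_hp : p ∉ sigmaS M)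
    (hP : IsEp p 1 P (M ⊓ 𝐍(K))) (hC : Ms M ⊓ 𝐂(P) = ⊥) (hab : Ab K) :
    ⁅K, P⁆ ≤ 𝐂(Ms M) ∧ IsCyclic ↥⁅K, P⁆ ∧ ⁅K, P⁆ ⊴ M := by
  have hPM : P ≤ M := hP.le.trans inf_le_left
  have hn : P ≤ 𝐍(K) := hP.le.trans inf_le_right
  have h0 : ⁅K, P⁆ ≤ K := commutator_le_left' hn
  have co : (♯K).Coprime ♯P := by
    rw [hP.card_one]; exact (hp'.out.coprime_iff_not_dvd.mpr hpK).symm
  have n1 : ⁅K, P⁆ ≤ 𝐍(Ms M) := h0.trans (hK.trans (Ms_normal M).2)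
  have n2 : P ≤ 𝐍(Ms M) := hPM.trans (Ms_normal M).2
  have hnil : Nil (Ms M ⊔ ⁅K, P⁆ : Subgroup G) := prime_Frobenius_sol_kernel_nil
    (le_norm_sup n2 (le_norm_commutator_right K P)) hP.prime_card (sup_inf_cent_eq_bot n1
      ((Ms_piGrp M).inf_eq_bot (hs.of_le h0)) n2 (le_norm_commutator_right K P) hC
      (coprime_abel_cent_TI hn co hab))
  have hc : ⁅K, P⁆ ≤ 𝐂(Ms M) := le_cent_of_nil_of_coprime hnil le_sup_right le_sup_left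
    ((Ms_piGrp M).coprime (hs.of_le h0)).symm
  obtain ⟨h1, h2⟩ := sub'cent_sigma_cyclic hM hK hs
  have h3 : ⁅K, P⁆ ≤ K ⊓ 𝐂(Ms M) ⊓ der M := le_inf (le_inf h0 hc) (commutator_mono hK hPM)
  exact ⟨hc, isCyclic_of_le' h1 h3, h3.trans h2.1, h2.2.trans (norm_le_norm_of_isCyclic h1 h3)⟩

end OneMax

/-- Lemma 10.12 -/
theorem sigma_disjoint {M H : Subgroup G} (hM : IsCoatom M) (hH : IsCoatom H) (hn : NotConj H M) :
    Ma M ⊓ Ms H = ⊥ ∧ Disjoint (alphaS M) (sigmaS H) ∧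
    (Nil (Ms M) → Ms M ⊓ Ms H = ⊥ ∧ Disjoint (sigmaS M) (sigmaS H)) := by
  have key : ∀ p ∈ sigmaS M, p ∈ sigmaS H → p ∉ alphaS M ∧ ¬ Nil (Ms M) := fun p h1 h2 => by
    have := Fact.mk h1.1
    obtain ⟨S, hS⟩ := exists_syl p M
    obtain ⟨T, hT⟩ := exists_syl p H
    obtain ⟨g, -, hg⟩ := (sigma_Sylow_G h2 hT).exists_le_conj' le_top hS.isPGroup
    replace hg : S ≤ g •ᶜ H := hg.trans (conj_mono g hT.1)
    have hne : g •ᶜ H ≠ M := fun e => hn g⁻¹ (conj_eq_iff_eq_inv_conj.mp e)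
    refine ⟨fun ha => hne (((rank3_Uniqueness (mFT_pgroup_proper hS.isPGroup)
      (rank_syl hS ▸ ha.2)).uniqMax hM hS.1).eq (isCoatom_conj hH g) hg), fun hnil => hne ?_⟩
    have hSs : S ≤ Ms M := (Msigma_Hall hM).le_of_normal_hall (Ms_normal M).2 hS.1
      (piGrp_of_isPGroup hS.isPGroup h1)
    refine (eq_mmax hM (isCoatom_conj hH g) ((Ms_normal M).2.trans (le_trans
      ((hS.mono hSs (Ms_normal M).1).hall.norm_le_norm_of_nil hnil) ?_))).symm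
    exact norm_sigma_Sylow ((sigmaS_conj H g).symm ▸ h2) ((sigma_Sylow_G h1 hS).mono hg le_top)
  have d1 : ∀ p ∈ alphaS M, p ∉ sigmaS H := fun p h1 h2 => (key p (alpha_sub_sigma hM h1) h2).1 h1
  refine ⟨inf_eq_bot_of_coprime_card ((Ma_piGrp M).coprime_of_disjoint (Ms_piGrp H) d1),
    Set.disjoint_left.mpr d1, fun hnil => ?_⟩
  have d2 : ∀ p ∈ sigmaS M, p ∉ sigmaS H := fun p h1 h2 => (key p h1 h2).2 hnil
  exact ⟨inf_eq_bot_of_coprime_card ((Ms_piGrp M).coprime_of_disjoint (Ms_piGrp H) d2),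
    Set.disjoint_left.mpr d2⟩

theorem B7.p2maxElem_cent_syl {A S : Subgroup G} {p : ℕ} [hp : Fact p.Prime] (hA : IsEp p 2 A S)
    (hAm : IsMaxEp p A S) (hS : Syl p S ⊤) (hab : ¬ Ab S) :
    ∃ A0 Y : Subgroup G, A0 ≤ A ∧ IsCyclic Y ∧ Ohm p (Zc S) ≤ Y ∧ IsDprod A0 Y (S ⊓ 𝐂(A)) := by
  have key : IsEp p 1 (Ohm p (Zc S)) A → ∃ A0, IsEp p 1 A0 A ∧ A0 ≠ Ohm p (Zc S) ∧ S ⊓ 𝐂(A0) = S ⊓ 𝐂(A) :=
    fun hZ => by
      obtain ⟨A0, h0, hne⟩ := exists_isEp_one_ne hA hZ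
      refine ⟨A0, h0, hne, ?_⟩
      rw [← (hA.dprod_of_ne h0 hZ hne).sup_eq, cent_sup, inf_comm 𝐂(A0), ← inf_assoc,
        inf_eq_left.mpr (le_cent_symm ((Ohm_le _ _).trans (Zc_le_cent S)))]
  by_cases hr : 2 < rp p S
  · obtain ⟨A0, h0, -, e⟩ := key (isEp_one_iff.mpr
      ⟨hAm.Ohm_Zc_le, (Ohm1_ucn_p2maxElem hS.isPGroup (mFT_odd S) hr hA hAm).2.1.1⟩)
    obtain ⟨h1, -, -, h2⟩ := narrow_cent_dprod hS.isPGroup (mFT_odd S) hr (fun _ => ⟨A, hA, hAm⟩) h0.card_one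
      (h0.le.trans hA.le) (by rw [e, hAm.rp_cent, hA.rp_eq])
    have hZ : Ohm p (Zc S) ≤ 𝐂(S) := (Ohm_le _ _).trans (Zc_le_cent S)
    exact ⟨A0, _, h0.le, h1, le_inf (le_inf ((Ohm_le _ _).trans (Zc_le S))
      (hZ.trans (cent_anti ((Ohm_le _ _).trans (Zn_le _ _))))) (hZ.trans (cent_anti (h0.le.trans hA.le))), e ▸ h2⟩
  obtain ⟨T, C, h1, h2, -, h4, h5, h6⟩ := mFT_rank2_Sylow_cprod hS (by rw [rank_eq_rp hS.isPGroup]; omega) hab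
  have hZT : Zc T ≤ C := h6.ge.trans (Ohm_le p C)
  have eZ : Zc S = C := by
    rw [h5.Zc_eq, Zc_eq_self (ab_of_isCyclic h4), sup_eq_right.mpr hZT]
  have cT := card_Zc_of_cube h2 h1
  obtain ⟨A0, h0, hne, e⟩ := key (isEp_one_iff.mpr ⟨hAm.Ohm_Zc_le, by rw [eZ, h6, cT]⟩)
  have hA0 : ¬ A0 ≤ C := fun h => hne (eZ ▸ (h0.of_le h).eq_Ohm_of_isCyclic h4)
  have hCS : C ≤ 𝐂(S) := eZ.ge.trans (Zc_le_cent S)
  have d : IsDprod A0 C (A0 ⊔ C) :=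
    IsDprod.of_sup (hCS.trans (cent_anti (h0.le.trans hA.le))) (h0.inf_eq_bot hA0)
  have hle : A0 ⊔ C ≤ S ⊓ 𝐂(A0) := sup_le (le_inf (h0.le.trans hA.le) h0.le_cent) (le_inf h5.right_le d.le_cent)
  refine ⟨A0, C, h0.le, h4, eZ ▸ Ohm_le p C, ?_⟩
  rw [← e, ← eq_of_le_of_card_le hle ?_]
  · exact d
  have c1 := h5.isProd.card
  rw [show T ⊓ C = Zc T from le_antisymm (inf_le_inf_left _ h5.le_cent) (le_inf inf_le_left hZT), cT, h2] at c1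
  have c2 := card_inf_mul_relIndex 𝐂(A0) S
  have c3 : p ≤ 𝐂(A0).relIndex S := Nat.le_of_dvd (relIndex_pos _ _) <| by
    obtain ⟨r, hr, hd⟩ := Nat.exists_prime_and_dvd (n := 𝐂(A0).relIndex S) fun h =>
      hA0 (eZ ▸ le_inf (h0.le.trans hA.le) (le_cent_symm (relIndex_eq_one.mp h)))
    exact (show r = p from hS.piGrp.relIndex _ r hr hd) ▸ hd
  rw [← d.card, h0.card_one, inf_comm]
  have hp0 := hp.out.pos
  refine Nat.le_of_mul_le_mul_right (c := p * p) ?_ (by positivity)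
  calc ♯(𝐂(A0) ⊓ S) * (p * p) ≤ ♯(𝐂(A0) ⊓ S) * 𝐂(A0).relIndex S * p := by
        rw [← mul_assoc]; gcongr
    _ = p * ♯C * (p * p) := by rw [c2, ← c1]; ring

/-- Lemma 10.13 -/
theorem basic_p2maxElem_structure {A P : Subgroup G} {p : ℕ} [hp : Fact p.Prime] (hA : IsEp p 2 A ⊤)
    (hAm : IsMaxEp p A ⊤) (hP : IsPGroup p P) (hAP : A ≤ P) (hab : ¬ Ab P) :
    IsEp p 1 (Ohm p (Zc P)) A ∧
    (∃ Z : Subgroup G, IsCyclic Z ∧ Ohm p (Zc P) ≤ Z ∧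
      ∀ A0, IsEp p 1 A0 A → A0 ≠ Ohm p (Zc P) → IsDprod A0 Z (P ⊓ 𝐂(A))) ∧
    ∀ A0 A1, IsEp p 1 A0 A → A0 ≠ Ohm p (Zc P) → IsEp p 1 A1 A → A1 ≠ Ohm p (Zc P) →
      ∃ g ∈ P ⊓ 𝐍(A), A1 = g •ᶜ A0 := by
  obtain ⟨S, hS, hPS⟩ := exists_syl_ge le_top hP
  have hAS := hAP.trans hPS
  have mS := hAm.mono hAS le_top
  have mP := hAm.mono hAP le_top
  obtain ⟨B, Y, hB, cY, hZY, d⟩ := p2maxElem_cent_syl (hA.of_le hAS) mS hS fun h => hab (ab_of_le h hPS)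
  replace d := d.inf_of_left_le (hB.trans hAP)
  rw [inf_right_comm, inf_eq_right.mpr hPS] at d
  have cY' : IsCyclic (Y ⊓ P : Subgroup G) := isCyclic_of_le' cY inf_le_left
  have hN : IsPGroup p (P ⊓ 𝐍(A) : Subgroup G) := hP.to_le inf_le_left
  have nc : ¬ P ⊓ 𝐍(A) ≤ 𝐂(A) := fun h => by
    have h1 : 𝐍(P ⊓ 𝐂(A)) ≤ 𝐍(A) := by
      conv_rhs => rw [← mP.Ohm_cent]
      exact norm_le_norm_Ohm p _
    have e : P ⊓ 𝐂(A) = P := eq_of_nil_of_inf_norm_le (nil_of_isPGroup hP) inf_le_left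
      (le_inf inf_le_left ((inf_le_inf_left P h1).trans h))
    exact hab (ab_of_le (d.ab (ab_of_le hA.ab hB) (ab_of_isCyclic cY')) e.ge)
  have cZ : P ≤ 𝐂(Ohm p (Zc P)) := le_cent_symm ((Ohm_le _ _).trans (Zc_le_cent P))
  have h1 : Ohm p (Zc S) ≠ ⊥ := Ohm_ne_bot (hS.isPGroup.to_le (Zc_le S))
    (Zc_ne_bot hS.nil (ne_bot_of_le_ne_bot (hA.ne_bot two_ne_zero) hAS))
  have h2 : Ohm p (Zc S) ≤ Ohm p (Zc P) := le_Ohm (le_inf (mS.Ohm_Zc_le.trans hAP)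
    ((Ohm_le _ _).trans ((Zc_le_cent S).trans (cent_anti hPS)))) (Ohm_abelem p (Zc_ab S))
  have hZ : IsEp p 1 (Ohm p (Zc P)) A := hA.one_of_lt_two
    (lt_of_le_of_ne mP.Ohm_Zc_le fun e => nc (e ▸ inf_le_left.trans cZ)) (ne_bot_of_le_ne_bot h1 h2)
  have h3 : Ohm p (Zc P) ≤ Y ⊓ P := le_inf (((eq_bot_or_eq_of_prime hZ.prime_card h2).resolve_left h1).ge.trans hZY)
    ((Ohm_le _ _).trans (Zc_le P))
  have dA := fun (X : Subgroup G) (h : IsEp p 1 X A) (hne : X ≠ Ohm p (Zc P)) => hA.dprod_of_ne h hZ hne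
  have nc' : ∀ X : Subgroup G, IsEp p 1 X A → X ≠ Ohm p (Zc P) → ¬ P ⊓ 𝐍(A) ≤ 𝐂(X) := fun X h hne hc =>
    nc ((le_cent_sup hc (inf_le_left.trans cZ)).trans (cent_anti (dA X h hne).sup_eq.ge))
  refine ⟨hZ, ⟨Y ⊓ P, cY', h3, fun A0 h0 hne => ⟨le_antisymm ?_ ?_, ?_, ?_⟩⟩, fun A0 A1 h0 hne0 h1 hne1 => ?_⟩
  · exact sup_le (le_inf (h0.le.trans hAP) (h0.le.trans hA.le_cent)) d.right_le
  · exact d.sup_eq.ge.trans (sup_le (hB.trans ((dA A0 h0 hne).sup_eq.ge.trans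
      (sup_le_sup_left h3 _))) le_sup_right)
  · exact d.right_le.trans (inf_le_right.trans (cent_anti h0.le))
  · exact h0.inf_eq_bot fun h => hne (eq_of_isCyclic_of_card_eq cY' h h3 (h0.card.trans hZ.card.symm))
  have hD : IsEp p 1 ⁅A, P ⊓ 𝐍(A)⁆ A := hA.one_of_lt_two (commutator_lt_of_isPGroup hN hA.isPGroup inf_le_right
    (hA.ne_bot two_ne_zero)) fun h => nc (commutator_eq_bot_iff'.mp h)
  have eD : ⁅A, P ⊓ 𝐍(A)⁆ = Ohm p (Zc P) := by_contra fun h =>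
    nc' _ hD h (le_cent_of_isEp_one hD hN (le_norm_commutator_right _ _))
  obtain ⟨a, ha, oa, rfl⟩ := h0.exists_zpowers
  obtain ⟨x, hx, hxa⟩ := SetLike.not_le_iff_exists.mp (nc' _ h0 hne0)
  rw [cent_zpowers, mem_cent1] at hxa
  have hz : ⁅x, a⁆ ∈ Ohm p (Zc P) := by
    rw [← eD, commutator_comm]
    exact commutator_mem_commutator hx ha
  have ez : zpowers ⁅x, a⁆ = Ohm p (Zc P) :=
    eq_zpowers_of_prime hZ.prime_card hz fun h => hxa (commutatorElement_eq_one_iff_mul_comm.mp h)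
  have cz : x * ⁅x, a⁆ = ⁅x, a⁆ * x := (mem_cent_iff.mp (cZ hx.1) _ hz).symm
  have hk : ∀ k : ℕ, x ^ k * a * (x ^ k)⁻¹ = ⁅x, a⁆ ^ k * a := fun k => by
    induction k with
    | zero => simp
    | succ k ih =>
      calc x ^ (k + 1) * a * (x ^ (k + 1))⁻¹ = x * (x ^ k * a * (x ^ k)⁻¹) * x⁻¹ := by group
        _ = (x * ⁅x, a⁆ ^ k) * a * x⁻¹ := by rw [ih]; group
        _ = ⁅x, a⁆ ^ k * (x * a * x⁻¹ * a⁻¹) * a := by rw [(Commute.pow_right cz k).eq]; group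
        _ = ⁅x, a⁆ ^ (k + 1) * a := by rw [pow_succ, commutatorElement_def]
  obtain ⟨z, hz', b, hb, e⟩ := (dA A1 h1 hne1).symm.mem_iff.mp ha
  obtain ⟨k, hk'⟩ := (Submonoid.mem_powers_iff _ _).mp (mem_powers_iff_mem_zpowers.mpr (ez.ge (inv_mem hz')))
  have hb1 : b ≠ 1 := fun e' => hne0 (h0.eq_of_le hZ (zpowers_le.mpr (by rwa [← e, e', mul_one])))
  exact ⟨x ^ k, pow_mem hx k, by
    rw [conj_zpowers, hk, hk', ← e, inv_mul_cancel_left, eq_zpowers_of_prime h1.prime_card hb hb1]⟩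

omit [MinOdd G] in
/-- Proposition 10.14(a) -/
theorem beta_not_narrow {p : ℕ} (hp : p ∈ betaS (⊤ : Subgroup G)) :
    (∀ A : Subgroup G, IsEp p 2 A ⊤ → ¬ IsMaxEp p A ⊤) ∧
    ∀ P : Subgroup G, Syl p P ⊤ → ∀ A, IsEp p 2 A P → ¬ IsMaxEp p A P :=
  have := Fact.mk hp.1
  ⟨fun _ hA hm => not_beta_of_maxEp hA hm hp,
    fun _ hP A hA hm => not_narrow_of_mem_beta hp hP fun _ => ⟨A, hA, hm⟩⟩

/-- Proposition 10.14(b) -/
theorem beta_noncyclic_uniq {p : ℕ} {R : Subgroup G} (hp : p ∈ betaS (⊤ : Subgroup G)) (hR : IsPGroup p R)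
    (hr : 1 < rank R) : Uniq R := by
  have := Fact.mk hp.1
  obtain ⟨A, hA⟩ := exists_isEp (show 2 ≤ _ from rank_eq_rp hR ▸ hr)
  exact (nonmaxElem2_Uniqueness hA.top ((beta_not_narrow hp).1 A hA.top)).mono hA.le (mFT_pgroup_proper hR)

/-- Proposition 10.14(c) -/
theorem beta_subnorm_uniq {p : ℕ} {P X : Subgroup G} (hp : p ∈ betaS (⊤ : Subgroup G)) (hP : Syl p P ⊤)
    (hX : X ≤ P) : Uniq (P ⊓ 𝐍(X)) := by
  have := Fact.mk hp.1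
  have hQ : IsPGroup p (P ⊓ 𝐍(X) : Subgroup G) := hP.isPGroup.to_le inf_le_left
  refine beta_noncyclic_uniq hp hQ (not_le.mp fun h => not_narrow_of_mem_beta hp hP (narrow_of_rp_le ?_))
  rw [rank_eq_rp hQ] at h
  rw [← eq_of_nil_of_inf_norm_le hP.nil inf_le_left (inf_le_inf_left P (norm_le_norm_of_isCyclic
    ((odd_pgroup_rank1_cyclic hQ (mFT_odd _)).mpr h) (le_inf hX (le_norm_self X))))]
  omega

/-- Proposition 10.14(d) -/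
theorem beta_norm_sub_mmax {M Y : Subgroup G} (hM : IsCoatom M) (hY : Y ≤ M) (hb : PiGrp (betaS M) Y)
    (hY1 : Y ≠ ⊥) : 𝐍(Y) ≤ M := by
  obtain ⟨q, hq, h1⟩ := exists_Op_ne_bot (sol_of_le (mmax_sol hM) hY) hY1
  have := Fact.mk hq
  have hqb : q ∈ betaS M := mem_of_isPGroup_of_piGrp (Op_isPGroup q Y) h1 (hb.of_le (Op_le q Y))
  obtain ⟨P, hP, hle⟩ := exists_syl_ge ((Op_le q Y).trans hY) (Op_isPGroup q Y)
  exact (norm_le_norm_Op q Y).trans (((beta_subnorm_uniq ((predI_sigma_beta hM).ge hqb).2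
    (sigma_Sylow_G (beta_sub_sigma hM hqb) hP) hle).uniqMax hM (inf_le_left.trans hP.1)).le_of_ne_top
    inf_le_right (mFT_norm_proper h1 (mFT_pgroup_proper (Op_isPGroup q Y))))

end Cfsg.Agent.OO.Pf
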