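import Cfsg.Agent.Lib.OO.BG10

/-! # B&G section 11: exceptional maximal subgroups -/

set_option autoImplicit false
set_option linter.unusedSectionVars false

namespace Cfsg.Agent.OO.Pf

open Subgroup Cfsg.Agent.Coprime B7
open scoped Pointwise

universe u

variable {G : Type u} [Group G] [Finite G]

theorem B7.exists_isEp_one_cent_ne_bot {p : ℕ} [Fact p.Prime] {A Q H : Subgroup G} (hA : IsEp p 2 A H)
    (h1 : Q ≠ ⊥) (hn : A ≤ 𝐍(Q)) (hc : (♯Q).Coprime ♯A) : ∃ X, IsEp p 1 X A ∧ Q ⊓ 𝐂(X) ≠ ⊥ := by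
  by_contra! h
  refine h1 (le_bot_iff.mp (coprime_abelian_gen_cent1 hA.ab (hA.not_isCyclic le_rfl) hn hc fun a ha h1 => ?_))
  rw [← cent_zpowers, h _ (isEp_zpowers ha (orderOf_eq_of_abelem hA.abelem ha h1))]

theorem B7.mem_of_sq_mem {M : Subgroup G} {g : G} (ho : Odd (orderOf g)) (h : g * g ∈ M) : g ∈ M := by
  obtain ⟨k, hk⟩ := ho
  have : g = ((g * g) ^ k)⁻¹ := by
    rw [eq_inv_iff_mul_eq_one, ← pow_two, ← pow_mul, ← pow_succ', ← hk, pow_orderOf_eq_one]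
  exact this ▸ inv_mem (pow_mem h k)

variable [MinOdd G]

theorem sigma'_Sylow_contra {M P : Subgroup G} {p : ℕ} [Fact p.Prime] (hP : Syl p P M) (hp : p ∉ sigmaS M) :
    ¬ 𝐍(P) ≤ M := fun h => hp ⟨Fact.out, P, hP, h⟩

variable {p : ℕ} [hp : Fact p.Prime] {M A0 A : Subgroup G}

theorem p_rank_exceptional (hM : IsCoatom M) (hE : ExceptionalMax p M A0 A) : rp p M = 2 :=
  sigma'_norm_mmax_rank2 hM hE.ep0.isPGroup hE.norm_le hE.not_sigma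

theorem exceptional_pmaxElem (hM : IsCoatom M) (hE : ExceptionalMax p M A0 A) : IsMaxEp p A ⊤ :=
  sigma'_rank2_max hM hE.not_sigma (p_rank_exceptional hM hE) hE.ep

/-- Lemma 11.1 -/
theorem exceptional_TIsigmaJ (hM : IsCoatom M) (hE : ExceptionalMax p M A0 A) {g : G} {q : ℕ}
    [hq : Fact q.Prime] {Q1 Q2 : Subgroup G} (hg : g ∉ M) (_hA : A ≤ g •ᶜ M) (h1 : Syl q Q1 (Ms M))
    (hn1 : A ≤ 𝐍(Q1)) (h2 : Syl q Q2 (g •ᶜ Ms M)) (hn2 : A ≤ 𝐍(Q2)) :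
    Q1 ⊓ Q2 = ⊥ ∧ ∀ X, IsEp p 1 X A → Q1 ⊓ 𝐂(X) = ⊥ ∨ Q2 ⊓ 𝐂(X) = ⊥ := by
  by_cases hQ : Q1 = ⊥
  · exact ⟨by rw [hQ, bot_inf_eq], fun X _ => Or.inl (by rw [hQ, bot_inf_eq])⟩
  have hs : q ∈ sigmaS M := mem_of_isPGroup_of_piGrp h1.isPGroup hQ ((Ms_piGrp M).of_le h1.1)
  have s1 := h1.trans_hall (Msigma_Hall hM) hs
  have mx : ∀ Q : Subgroup G, Syl q Q ⊤ → A ≤ 𝐍(Q) → IsMaxNormed ⊤ A {q} Q := fun Q s n =>
    ⟨⟨le_top, s.piGrp, n⟩, fun R hR hle => s.eq_of_le hle le_top hR.2.1.isPGroup⟩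
  have key : ∀ H : Subgroup G, A ≤ H → H ≠ ⊤ → Q1 ⊓ H = ⊥ ∨ Q2 ⊓ H = ⊥ := fun H hAH hH => by
    by_contra! h
    obtain ⟨k, hk, e⟩ := normed_constrained_meet_trans hq.out (plength_1_normed_constrained
      (hE.ep.ne_bot two_ne_zero) (exceptional_pmaxElem hM hE) fun L hL => mFT_proper_plength1 p hL)
      (by rw [hE.ep.piOf_eq two_ne_zero]; exact fun e : q = p => hE.not_sigma (e ▸ hs)) hAH hH
      (mx Q1 (sigma_Sylow_G hs s1) hn1)
      (mx Q2 (h2.trans_hall (conj_top g ▸ (Msigma_Hall_G hM).conj g) hs) hn2) h.1 h.2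
    have hkM : k ∈ M := hE.norm_le (cent_le_norm _ (cent_anti hE.ep0.le (Opi_le _ _ hk)))
    exact hg (inv_mem_iff.mp (sigma_Sylow_trans hs (e ▸ s1.conj_of_mem hkM)
      (le_conj_iff_inv_conj_le.mp (h2.1.trans (conj_mono g (Ms_normal M).1)))))
  refine ⟨?_, fun X hX => key _ (le_cent_symm (hX.le.trans hE.ep.le_cent))
    (mFT_cent_proper (hX.ne_bot one_ne_zero))⟩
  rcases key M hE.ep.le hM.1 with h | h
  · exact absurd (inf_eq_left.mpr s1.1 ▸ h) hQ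
  · exact le_bot_iff.mp (h ▸ le_inf inf_le_right (inf_le_left.trans s1.1))

/-- Corollary 11.2 -/
theorem exceptional_TI_MsigmaJ (hM : IsCoatom M) (hE : ExceptionalMax p M A0 A) {g : G} (hg : g ∉ M)
    (hA : A ≤ g •ᶜ M) : Ms M ⊓ g •ᶜ M = ⊥ ∧ Ms M ⊓ 𝐂(g •ᶜ A0) = ⊥ := by
  suffices h : Ms M ⊓ g •ᶜ M = ⊥ from ⟨h, le_bot_iff.mp (h ▸ inf_le_inf_left _ (by
    rw [cent_conj]; exact conj_mono g ((cent_le_norm A0).trans hE.norm_le)))⟩
  by_contra h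
  obtain ⟨q, hq, hd⟩ := exists_prime_dvd h
  have := Fact.mk hq
  have hA' : PiGrp (sigmaS M)ᶜ A := piGrp_of_isPGroup hE.ep.isPGroup hE.not_sigma
  have n1 : A ≤ 𝐍(Ms M) := hE.ep.le.trans (Ms_normal M).2
  have hs := sol_of_le (mmax_sol hM) (Ms_normal M).1
  have hH : Hall (sigmaS M) (g •ᶜ Ms M) (g •ᶜ M) := (Msigma_Hall hM).conj g
  have n2 : g •ᶜ M ≤ 𝐍(g •ᶜ Ms M) := conj_le_norm_conj.mpr (Ms_normal M).2
  obtain ⟨Q, hQ, nQ⟩ := coprime_Hall_exists {q} (le_norm_inf n1 (le_norm_of_le hA))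
    (((Ms_piGrp M).inf_left _).coprime hA') (sol_of_le hs inf_le_left)
  obtain ⟨Q1, s1, n1', l1⟩ := coprime_Hall_subset n1 ((Ms_piGrp M).coprime hA') hs
    (hQ.le.trans inf_le_left) hQ.piGrp nQ
  obtain ⟨Q2, s2, n2', l2⟩ := coprime_Hall_subset (hA.trans n2) (hH.piGrp.coprime hA') (sol_conj.mpr hs)
    (hH.le_of_normal_hall n2 (hQ.le.trans inf_le_right) ((Ms_piGrp M).of_le (hQ.le.trans inf_le_left)))
    hQ.piGrp nQ
  exact hQ.syl.ne_bot hd (le_bot_iff.mp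
    ((exceptional_TIsigmaJ hM hE hg hA s1.syl n1' s2.syl n2').1 ▸ le_inf l1 l2))

/-- Theorem 11.3 -/
theorem exceptional_sigma_nil (hM : IsCoatom M) (hE : ExceptionalMax p M A0 A) : Nil (Ms M) := by
  obtain ⟨P, hP, hAP⟩ := exists_syl_ge hE.ep.le hE.ep.isPGroup
  obtain ⟨g, hg, hgM⟩ := SetLike.not_le_iff_exists.mp (sigma'_Sylow_contra hP hE.not_sigma)
  refine prime_Frobenius_sol_kernel_nil (R := g •ᶜ A0)
    ((conj_le_of_mem_norm hg (hE.ep0.le.trans hAP)).trans (hP.1.trans (Ms_normal M).2))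
    (by rw [card_conj]; exact hE.ep0.prime_card) (exceptional_TI_MsigmaJ hM hE hgM ?_).2
  exact hAP.trans ((conj_eq_of_mem_norm hg).ge.trans (conj_mono g hP.1))

/-- Corollary 11.4 -/
theorem exceptional_sigma_uniq (hM : IsCoatom M) (hE : ExceptionalMax p M A0 A) {H : Subgroup G}
    (hH : IsCoatom H) (hAH : A ≤ H) (h : Ms H ⊓ Ms M ≠ ⊥) : H = M := by
  rw [inf_comm] at h
  obtain ⟨g, rfl⟩ : ∃ g : G, H = g •ᶜ M := by
    by_contra! hn
    exact h ((sigma_disjoint hM hH hn).2.2 (exceptional_sigma_nil hM hE)).1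
  refine conj_eq_of_mem (by_contra fun hg => h (le_bot_iff.mp ?_))
  exact (exceptional_TI_MsigmaJ hM hE hg hAH).1 ▸ inf_le_inf_left _ (Ms_normal _).1

/-- Theorem 11.5 -/
theorem exceptional_Sylow_abelian (hM : IsCoatom M) (hE : ExceptionalMax p M A0 A) {P : Subgroup G}
    (hP : Syl p P M) : Ab P := by
  obtain ⟨P', hP', hAP⟩ := exists_syl_ge hE.ep.le hE.ep.isPGroup
  obtain ⟨m, -, rfl⟩ := hP'.exists_conj' hP
  rw [ab_conj]
  clear hP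
  by_contra hab
  obtain ⟨g, hg, hgM⟩ := SetLike.not_le_iff_exists.mp (sigma'_Sylow_contra hP' hE.not_sigma)
  obtain ⟨q, hq, hd⟩ := exists_prime_dvd (Msigma_neq1 hM)
  have := Fact.mk hq
  have co : (♯(Ms M)).Coprime ♯P' := (Ms_piGrp M).coprime (piGrp_of_isPGroup hP'.isPGroup hE.not_sigma)
  obtain ⟨Q, hQ, nQ⟩ := coprime_Hall_exists {q} (hP'.1.trans (Ms_normal M).2) co
    (sol_of_le (mmax_sol hM) (Ms_normal M).1)
  have h1 := hQ.syl.ne_bot hd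
  have co' : (♯Q).Coprime ♯A := coprime_card_mono co hQ.le hAP
  have nQ' : P' ≤ 𝐍(g •ᶜ Q) := (conj_eq_of_mem_norm hg).ge.trans (conj_le_norm_conj.mpr nQ)
  obtain ⟨X1, e1, c1⟩ := exists_isEp_one_cent_ne_bot hE.ep h1 (hAP.trans nQ) co'
  obtain ⟨X2, e2, c2⟩ := exists_isEp_one_cent_ne_bot hE.ep (fun h => h1 (conj_eq_bot_iff.mp h))
    (hAP.trans nQ') (by rwa [card_conj])
  have reg := (exceptional_TIsigmaJ hM hE hgM (hAP.trans ((conj_eq_of_mem_norm hg).ge.trans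
    (conj_mono g hP'.1))) hQ.syl (hAP.trans nQ) (hQ.syl.conj g) (hAP.trans nQ')).2
  obtain ⟨hZ, -, tr⟩ := basic_p2maxElem_structure hE.ep.top (exceptional_pmaxElem hM hE) hP'.isPGroup hAP hab
  have eZ : g •ᶜ Q ⊓ 𝐂(Ohm p (Zc P')) = g •ᶜ (Q ⊓ 𝐂(Ohm p (Zc P'))) := by
    rw [conj_inf, ← cent_conj, conj_eq_of_mem_norm (norm_le_norm_Ohm p _ (norm_le_norm_Zc P' hg))]
  have z1 : Q ⊓ 𝐂(Ohm p (Zc P')) = ⊥ := (reg _ hZ).elim id fun h => conj_eq_bot_iff.mp (eZ ▸ h)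
  obtain ⟨x, hx, rfl⟩ := tr X1 X2 e1 (fun e => c1 (e ▸ z1)) e2 fun e => c2 (by rw [e, eZ, z1, conj_bot])
  refine c1 ((conj_eq_bot_iff (g := x)).mp ?_)
  rw [conj_inf, ← cent_conj, conj_eq_of_mem_norm (nQ hx.1)]
  exact (reg _ e2).resolve_right c2

/-- Corollary 11.6 -/
theorem exceptional_structure (hM : IsCoatom M) (hE : ExceptionalMax p M A0 A) {P : Subgroup G}
    (hP : Syl p P M) (hAP : A ≤ P) :
    A = Ohm p P ∧ Ms M ⊓ 𝐂(A) = ⊥ ∧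
    ∃ A1 A2, IsEp p 1 A1 A ∧ IsEp p 1 A2 A ∧ A1 ≠ A2 ∧ Ms M ⊓ 𝐂(A1) = ⊥ ∧ Ms M ⊓ 𝐂(A2) = ⊥ := by
  have e : A = Ohm p P := (hE.ep.of_le hAP).eq_Ohm_of_ab (exceptional_Sylow_abelian hM hE hP)
    ((rp_syl hP).trans (p_rank_exceptional hM hE)).le
  obtain ⟨g, hg, hgM⟩ := SetLike.not_le_iff_exists.mp (sigma'_Sylow_contra hP hE.not_sigma)
  replace hg : g ∈ 𝐍(A) := e ▸ norm_le_norm_Ohm p P hg
  have key : ∀ x ∈ 𝐍(A), x ∉ M → Ms M ⊓ 𝐂(x •ᶜ A0) = ⊥ := fun x hx hxM =>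
    (exceptional_TI_MsigmaJ hM hE hxM ((conj_eq_of_mem_norm hx).ge.trans (conj_mono x hE.ep.le))).2
  refine ⟨e, le_bot_iff.mp (key g hg hgM ▸ inf_le_inf_left _ (cent_anti (hE.ep0.conj_of_norm hg).le)),
    _, _, hE.ep0.conj_of_norm hg, hE.ep0.conj_of_norm (mul_mem hg hg), fun h => hgM (hE.norm_le ?_),
    key g hg hgM, key _ (mul_mem hg hg) fun h => hgM (mem_of_sq_mem (mFT_odd_orderOf g) h)⟩
  rw [← conj_conj, conj_inj] at h
  exact conj_eq_self_iff.mp h.symm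

/-- Theorem 11.7 -/
theorem exceptional_mul_sigma_normal (hM : IsCoatom M) (hE : ExceptionalMax p M A0 A) :
    Ms M ⊔ A ⊴ M := by
  obtain ⟨P, hP, hAP⟩ := exists_syl_ge hE.ep.le hE.ep.isPGroup
  obtain ⟨E, hall, hPE⟩ := exists_hall_ge (π := (sigmaS M)ᶜ) (mmax_sol hM) hP.1
    (piGrp_of_isPGroup hP.isPGroup hE.not_sigma)
  obtain ⟨eA, -, A1, A2, e1, e2, hne, r1, r2⟩ := exceptional_structure hM hE hP hAP
  have hs := sol_of_le (mmax_sol hM) hall.le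
  have ge := fun m => rank2_ge_pcore_Hall m (mFT_odd E) hs ((rank_mono (Fit_le E)).trans
    (rank_le_two_of_alpha' hall.le (hall.piGrp.mono fun q hq h => hq (alpha_sub_sigma hM h))))
  have cent : ∀ (q : ℕ) [Fact q.Prime] (Q : Subgroup G), q ≠ p → Syl q Q E → A ≤ 𝐍(Q) → A ≤ 𝐂(Q) := by
    intro q hq Q hqp sE nQ
    by_contra nc
    have h1 : Q ≠ ⊥ := fun h => nc (by rw [h, cent_bot]; exact le_top)
    have hqs : q ∉ sigmaS M := mem_of_isPGroup_of_piGrp sE.isPGroup h1 (hall.piGrp.of_le sE.1)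
    have sM : Syl q Q M := sE.trans_hall hall hqs
    have co : (♯Q).Coprime ♯A := coprime_of_isPGroup_ne sE.isPGroup hE.ep.isPGroup hqp
    by_cases hC : Q ⊓ 𝐂(A) = ⊥
    · have nZ : A ≤ 𝐍(Zc Q) := le_norm_Zc nQ
      have hZM : Zc Q ≤ M := (Zc_le Q).trans sM.1
      have nrm : ∀ X, IsEp p 1 X A → Ms M ⊓ 𝐂(X) = ⊥ → ⁅Zc Q, X⁆ ⊴ M := fun X hX r =>
        (commG_sigma'_1Elem_cyclic hM hZM (hall.piGrp.of_le ((Zc_le Q).trans sE.1))
          ((piGrp_compl_singleton hp.out).mp (piGrp_compl_of_isPGroup (sE.isPGroup.to_le (Zc_le Q)) hqp))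
          hE.not_sigma (hX.of_le (hX.le.trans (le_inf hE.ep.le nZ))) r (Zc_ab Q)).2.2
      have n := (nrm A1 e1 r1).sup (nrm A2 e2 r2)
      have eZ : ⁅Zc Q, A1⁆ ⊔ ⁅Zc Q, A2⁆ = Zc Q := by
        refine le_antisymm (sup_le (commutator_le_left' (e1.le.trans nZ)) (commutator_le_left' (e2.le.trans nZ)))
          ((coprime_cent_prod nZ (coprime_card_mono co (Zc_le Q) le_rfl) (Or.inr (sol_of_ab hE.ep.ab))).ge.trans
            (sup_le ?_ ((inf_le_inf_right _ (Zc_le Q)).trans (hC.le.trans bot_le))))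
        have d := (hE.ep.dprod_of_ne e1 e2 hne).sup_eq
        rw [commutator_comm, ← d]
        exact commutator_sup_le (d.le.trans (hE.ep.le.trans n.2)) ((commutator_comm _ _).le.trans le_sup_left)
          ((commutator_comm _ _).le.trans le_sup_right)
      rw [eZ] at n
      exact sigma'_Sylow_contra sM hqs
        ((norm_le_norm_Zc Q).trans (mmax_normal hM n (Zc_ne_bot sE.nil h1)).le)
    have hCq : IsPGroup q (Q ⊓ 𝐂(A) : Subgroup G) := sE.isPGroup.to_le inf_le_left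
    have hr : 2 ≤ rp q Q := by
      by_contra h
      have hc : IsCyclic Q := (odd_pgroup_rank1_cyclic sE.isPGroup (mFT_odd Q)).mpr (by omega)
      obtain ⟨Y, hY⟩ := exists_isEp_one_of_isPGroup hCq hC
      refine nc (coprime_odd_faithful_Ohm1 sE.isPGroup nQ co (mFT_odd Q) ?_)
      rw [← (hY.mono inf_le_left).eq_Ohm_of_isCyclic hc]
      exact le_cent_symm (hY.le.trans inf_le_right)
    obtain ⟨B, hB⟩ := exists_isEp hr
    have mB : IsMaxEp q B ⊤ := sigma'_rank2_max hM hqs (le_antisymm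
      (not_lt.mp fun h => hqs (alpha_sub_sigma hM ⟨hq.out, h⟩)) (rp_syl sM ▸ hr)) (hB.mono sM.1)
    obtain ⟨R, hR, hQR⟩ := exists_maxNormed sE.piGrp nQ
    obtain ⟨S, -, hAS, -, hS, -⟩ := max_normed_2Elem_signaliser hqp.symm hE.ep.top (exceptional_pmaxElem hM hE)
      hR ((dvd_card_of_isPGroup hCq hC).trans (card_dvd inf_le_right))
    have hRq : IsPGroup q R := hR.1.2.1.isPGroup
    refine nc fun x hx => cent_anti hQR ((Aut_narrow hRq (mFT_odd R)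
      (fun _ => ⟨B, hB.mono hQR, mB.mono (hB.le.trans hQR) le_top⟩) le_rfl
      (mFT_sol (mFT_norm_proper (ne_bot_of_le_ne_bot h1 hQR) (mFT_pgroup_proper hRq))) (mFT_odd _)).1 x
      (hS (hAS hx)) (hq.out.coprime_iff_not_dvd.mpr fun h => hqp (hE.ep.piGrp.piElt hx q hq.out h)).symm)
  have hL := ge p
  have hPL : P ≤ Opi {q | p ≤ q} E :=
    hL.le_of_normal_hall (Opi_normal _ _).2 hPE (piGrp_of_isPGroup hP.isPGroup (le_refl p))
  have sL : Syl p P (Opi {q | p ≤ q} E) := hP.mono hPL (hL.le.trans hall.le)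
  have nL : Opi {q | p ≤ q} E ≤ 𝐍(A) := le_of_forall_syl fun q hq hd => by
    by_cases e : q = p
    · exact ⟨P, e ▸ sL, le_norm_of_ab (exceptional_Sylow_abelian hM hE hP) hAP⟩
    have := Fact.mk hq
    have hK := ge (p + 1)
    obtain ⟨Q, hQ, nQ⟩ := coprime_Hall_exists {q} (((hAP.trans hPE).trans (Opi_normal {q | p + 1 ≤ q} E).2))
      (hK.piGrp.coprime (piGrp_of_isPGroup hE.ep.isPGroup (Nat.not_succ_le_self p))) (sol_of_le hs hK.le)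
    have sE : Syl q Q E :=
      hQ.syl.trans_hall hK (lt_of_le_of_ne (show p ≤ q from hL.piGrp q hq hd) (Ne.symm e))
    exact ⟨Q, sE.mono (hQ.le.trans (Opi_mono (fun r hr => Nat.le_of_succ_le hr) E)) hL.le,
      le_norm_of_le_cent (le_cent_symm (cent q Q e sE nQ))⟩
  have eA' : A = Ohm p (Op p (Opi {q | p ≤ q} E)) :=
    le_antisymm (le_Ohm (le_Op ⟨hAP.trans hPL, nL⟩ hE.ep.isPGroup) hE.ep.abelem)
      ((Ohm_mono p (Op_le_syl sL)).trans eA.ge)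
  have nE : E ≤ 𝐍(A) := eA' ▸ (((Opi_normal _ E).Op p).Ohm p).2
  refine ⟨sup_le (Ms_normal M).1 hE.ep.le, ((Msigma_Hall hM).sup_compl hall).ge.trans ?_⟩
  exact sup_le (le_norm_of_le le_sup_left) (le_norm_sup (hall.le.trans (Ms_normal M).2) nE)

end Cfsg.Agent.OO.Pf
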