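import Cfsg.Agent.Lib.OO.BG8

/-! # B&G section 9 -/

set_option autoImplicit false
set_option linter.unusedSectionVars false

namespace Cfsg.Agent.OO.Pf

open Subgroup Cfsg.Agent.Coprime B7
open scoped Pointwise

universe u

variable {G : Type u} [Group G] [Finite G]

namespace B7
variable {A B D E H K M P Q R X Y : Subgroup G} {p q : ℕ} {π : Set ℕ}

/-- a `p'`-subgroup normalized by a Sylow `p`-subgroup lies in the `p'`-core -/
theorem le_op'_of_syl_norm [Fact p.Prime] (hs : Sol X) (hP : Syl p P X) (hY : Y ≤ X)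
    (hY' : PiGrp ({p} : Set ℕ)ᶜ Y) (hn : P ≤ 𝐍(Y)) : Y ≤ Op' p X := by
  have hT := hP.inf_normal (Op'p_normal p X)
  have hn' : P ⊓ Op'p p X ≤ 𝐍(Y) := inf_le_left.trans hn
  rw [← centralizer_sup_commutator hn' (coprime_of_isPGroup hT.isPGroup hY') (Or.inl hT.sol)]
  refine sup_le ?_ (commutator_le_op' hY hY' hn' inf_le_right)
  exact (hall_Op'_Op'p p X).le_of_normal_hall ((Op'p_le p X).trans (Opi_normal _ X).2)
    ((inf_le_inf_right _ hY).trans (solvable_p_constrained p hs _ hT)) (hY'.inf_left _)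

theorem le_cent_of_rank2 (ho : Odd ♯H) (hs : Sol H) (hK : K ⊴ H) (hr : rank K ≤ 2) (hP : P ≤ der H)
    (hc : (♯P).Coprime ♯K) : P ≤ 𝐂(K) := by
  suffices h : ∀ V, V ⊴ H → V ≤ K → P ≤ 𝐂(V) from h K hK le_rfl
  intro V
  induction V using Core.subgroup_induction_lt with
  | h V ih =>
  intro hV hVK
  by_cases h0 : V = ⊥
  · rw [h0, cent_bot]; exact le_top
  obtain ⟨X, -, hX⟩ := exists_chief_below hV (NormalIn.bot H) (bot_lt_iff_ne_bot.mpr h0)
  obtain ⟨q, hq, hab⟩ := sol_chief_abelem hs hX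
  have := Fact.mk hq
  exact le_centralizer_of_commutator_le ((commutator_mono le_rfl hP).trans
    (rank2_der1_cent_chief ho hs hK ((rp_le_rank q K).trans hr) hX (abelem_isPGroup hab) hVK))
    (ih X hX.1 hX.2.2.1 (hX.1.le.trans hVK)) (coprime_card_mono hc le_rfl (hX.1.le.trans hVK))

theorem two_le_rank_inf_cent [hp : Fact p.Prime] (hE : IsEp p 3 E H) (hD : IsEp p 2 D K) (hn : E ≤ 𝐍(D)) :
    2 ≤ rank (E ⊓ 𝐂(D)) := by
  obtain ⟨n, hn'⟩ := exists_isEp_of_abelem (abelem_of_le hE.abelem (inf_le_left (b := 𝐂(D)))) le_rfl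
  rw [hn'.rank_eq]
  by_contra hlt
  refine logn_quotient_cent_abelem hn hD.abelem hD.card.le ?_
  have h1 := card_mul_relIndex (inf_le_left : E ⊓ 𝐂(D) ≤ E)
  rw [hn'.card, hE.card] at h1
  refine Nat.dvd_of_mul_dvd_mul_left (pow_pos hp.out.pos n) ?_
  rw [h1, ← pow_add]
  exact pow_dvd_pow p (by omega)

variable [MinOdd G]

/-- choice of a second maximal subgroup with a large `p`-intersection -/
theorem exists_max_inter [Fact p.Prime] (hA : IsPGroup p A) (hA1 : A ≠ ⊥) (hAM : A ≤ M) (hH : IsCoatom H)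
    (hne : H ≠ M) (hAH : A ≤ H) : ∃ H R, IsCoatom H ∧ H ≠ M ∧ A ≤ R ∧ Syl p R (H ⊓ M) ∧
      (Syl p R M ∨ 𝐍(R) ≤ M) := by
  obtain ⟨R, hAR, ⟨hRp, hRM, H, hH, hne, hRH⟩, hmax⟩ := Core.exists_maximal_ge
    (P := fun R => IsPGroup p R ∧ R ≤ M ∧ ∃ H, IsCoatom H ∧ H ≠ M ∧ R ≤ H) ⟨hA, hAM, H, hH, hne, hAH⟩
  refine ⟨H, R, hH, hne, hAR, syl_of_max (le_inf hRH hRM) hRp fun U h1 h2 h3 =>
    hmax U ⟨h3, h2.trans inf_le_right, H, hH, hne, h2.trans inf_le_left⟩ h1, ?_⟩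
  obtain ⟨Q, hQ, hRQ⟩ := exists_syl_ge hRM hRp
  rcases hRQ.eq_or_lt with rfl | hlt
  · exact Or.inl hQ
  obtain ⟨D, hD, hle⟩ := mmax_exists (mFT_norm_proper (ne_bot_of_le_ne_bot hA1 hAR) (mFT_pgroup_proper hRp))
  have hlt2 := lt_inf_norm_of_nil hQ.nil hlt
  refine Or.inr (hle.trans (le_of_eq ?_))
  by_contra hDM
  exact hlt2.ne' (hmax _ ⟨hQ.isPGroup.to_inf_left, inf_le_left.trans hQ.1, D, hD, hDM,
    inf_le_right.trans hle⟩ hlt2.le)

theorem ne_bot_of_not_cyclic (h : ¬ IsCyclic B) : B ≠ ⊥ := by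
  rintro rfl
  exact h inferInstance

end B7

variable [MinOdd G]

/-- Theorem 9.1(b) -/
theorem noncyclic_normed_sub_Uniqueness {p : ℕ} [Fact p.Prime] {M B : Subgroup G} (hM : IsCoatom M)
    (hBM : B ≤ M) (hB : IsElementaryAbelian p B) (hc : ¬ IsCyclic B)
    (h : ∀ K, IsNormed ⊤ B ({p} : Set ℕ)ᶜ K → K ≤ M) : Uniq B := by
  refine uniq_of_forall hM hBM fun H0 hH0 hBH0 => ?_
  by_contra hne0
  obtain ⟨H, R, hH, hne, hBR, hR, hRM⟩ :=
    exists_max_inter (abelem_isPGroup hB) (ne_bot_of_not_cyclic hc) hBM hH0 hne0 hBH0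
  have hRH : R ≤ H := hR.1.trans inf_le_left
  have hR1 : R ≠ ⊥ := ne_bot_of_le_ne_bot (ne_bot_of_not_cyclic hc) hBR
  have hH' : Op' p H ≤ M := h _ ⟨le_top, Opi_piGrp _ _, (hBR.trans hRH).trans (Opi_normal _ H).2⟩
  have hN : 𝐍(R) ≤ M := by
    rcases hRM with hRM | hRM
    swap
    · exact hRM
    by_cases h0 : Op' p M = ⊥
    · exact (norm_le_norm_center_puig R).trans (norm_center_puig hM hRM hR1 h0).le
    refine le_trans (fun x hx => mem_norm_of_conj_le ?_) (mmax_normal hM (Opi_normal _ M) h0).le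
    have hn : R ≤ 𝐍(x •ᶜ Op' p M) := by
      rw [← conj_eq_of_mem_norm hx]
      exact conj_le_norm_conj.mpr (hRM.1.trans (Opi_normal _ M).2)
    exact le_op'_of_syl_norm (mmax_sol hM) hRM (h _ ⟨le_top, (Opi_piGrp _ _).conj x, hBR.trans hn⟩)
      ((Opi_piGrp _ _).conj x) hn
  have hRH' : Syl p R H := IsSylowIn.of_syl_norm hRH
    (hR.mono (le_inf hRH (le_norm_self R)) (inf_le_inf_left _ hN))
  have hF : Fit H ≤ R ⊔ Op' p H := by
    rw [← (dprod_Fit p H).sup_eq]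
    exact sup_le_sup (Op_le_syl hRH') (Opi_le_of_normal _ (Fit_normal H))
  have hRM' : R ⊔ Op' p H ≤ M := sup_le (hR.1.trans inf_le_right) hH'
  by_cases hr : 3 ≤ rank (Fit H)
  · exact hne (((Fitting_Uniqueness hH hr).uniqMax hM (hF.trans hRM')).eq hH (Fit_le H))
  have hn : R ⊔ Op' p H ⊴ H := normalIn_of_der_le
    ((rank2_der1_sub_Fitting (mFT_odd H) (mmax_sol hH) (by omega)).trans hF) (sup_le hRH (Opi_le _ _))
  refine hne (eq_mmax hH hM ?_)
  rw [← ((hRH'.mono le_sup_left hn.1).frattini hn).sup_eq]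
  exact sup_le hRM' (inf_le_right.trans hN)

/-- Theorem 9.1(a) -/
theorem noncyclic_cent1_sub_Uniqueness {p : ℕ} [Fact p.Prime] {M B : Subgroup G} (hM : IsCoatom M)
    (hBM : B ≤ M) (hB : IsElementaryAbelian p B) (hc : ¬ IsCyclic B)
    (h : ∀ b ∈ B, b ≠ 1 → 𝐂[b] ≤ M) : Uniq B :=
  noncyclic_normed_sub_Uniqueness hM hBM hB hc fun _ hK => le_of_forall_centralizer_le hB.1 hc hK.2.2
    (coprime_of_isPGroup (abelem_isPGroup hB) hK.2.1) fun b hb hb1 => inf_le_right.trans (h b hb hb1)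

/-- Corollary 9.2 -/
theorem cent_uniq_Uniqueness {K L : Subgroup G} (hL : Uniq L) (hK : K ≤ 𝐂(L)) (hr : 2 ≤ rank K) :
    Uniq K := by
  obtain ⟨p, hp, B, hB⟩ := le_rank_iff.mp hr
  have := Fact.mk hp
  have hL1 := hL.ne_bot
  obtain ⟨H, hH⟩ := hL
  exact (noncyclic_cent1_sub_Uniqueness hH.1 ((hB.le.trans hK).trans ((cent_le_norm L).trans hH.norm_le))
    hB.abelem (hB.not_isCyclic le_rfl) fun b hb hb1 => hH.le_of_ne_top (le_cent1_iff.mpr (hK (hB.le hb)))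
      (mFT_cent1_proper hb1)).mono hB.le (ne_top_of_le_ne_top (mFT_cent_proper hL1) hK)

/-- Corollary 9.3 -/
theorem any_cent_rank3_Uniquness {p : ℕ} [hp : Fact p.Prime] {A B : Subgroup G} (hA : Ab A)
    (hpA : IsPGroup p A) (hr : 3 ≤ rank A) (hu : Uniq A) (hpB : IsPGroup p B) (hc : ¬ IsCyclic B)
    (hC : 3 ≤ rp p 𝐂(B)) : Uniq B := by
  obtain ⟨C, hC⟩ := exists_isEp hC
  obtain ⟨E, hE⟩ := exists_isEp (rank_eq_rp hpA ▸ hr)
  obtain ⟨P, hP, hAP⟩ := exists_syl_ge le_top hpA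
  obtain ⟨g, -, hg⟩ := hP.exists_conj_le le_top hC.isPGroup
  obtain ⟨D, hD, hDP⟩ := odd_normal_p2Elem_exists hP.isPGroup (mFT_odd P)
    fun h => hE.not_isCyclic (by norm_num) (isCyclic_of_le' h (hE.le.trans hAP))
  have h1 : Uniq (E ⊓ 𝐂(D)) := cent_uniq_Uniqueness hu ((inf_le_left.trans hE.le).trans hA.le_cent)
    (two_le_rank_inf_cent hE hD ((hE.le.trans hAP).trans hDP.2))
  have h2 : Uniq D := cent_uniq_Uniqueness h1 (le_cent_symm inf_le_right) hD.rank_eq.ge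
  have h3 : Uniq (g •ᶜ C ⊓ 𝐂(D)) := cent_uniq_Uniqueness h2 inf_le_right
    (two_le_rank_inf_cent (hC.conj g) hD (hg.trans hDP.2))
  have h4 : Uniq C := by
    simpa only [inv_conj_conj] using (h3.mono inf_le_left (mFT_pgroup_proper (hC.conj g).isPGroup)).conj g⁻¹
  refine cent_uniq_Uniqueness h4 (le_cent_symm hC.le) ?_
  rw [rank_eq_rp hpB]
  exact not_le.mp fun h => hc ((isCyclic_iff_rp_of_odd hpB (mFT_odd B)).mpr h)

/-- Lemma 9.4 -/
theorem any_rank3_Fitting_Uniqueness {p : ℕ} [hp : Fact p.Prime] {M P : Subgroup G} (hM : IsCoatom M)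
    (hr : 3 ≤ rp p (Fit M)) (hP : IsPGroup p P) (hrP : 3 ≤ rank P) : Uniq P := by
  obtain ⟨B, hB⟩ := exists_isEp (rank_eq_rp hP ▸ hrP)
  refine Uniq.mono ?_ hB.le (mFT_pgroup_proper hP)
  suffices h : ∃ A : Subgroup G, Ab A ∧ IsPGroup p A ∧ 3 ≤ rank A ∧ Uniq A by
    obtain ⟨A, h1, h2, h3, h4⟩ := h
    exact any_cent_rank3_Uniquness h1 h2 h3 h4 hB.isPGroup (hB.not_isCyclic (by norm_num))
      (hB.of_le hB.le_cent).le_rp
  by_cases hpF : IsPGroup p (Fit M)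
  · obtain ⟨P, hP⟩ := exists_syl p M
    obtain ⟨A, hA⟩ := rank3_SCN3 hP.isPGroup (mFT_odd P)
      (hr.trans (rp_mono p (hP.le_of_normal (Fit_normal M) hpF)))
    exact ⟨A, hA.ab, hP.isPGroup.to_le hA.le, hA.2, (SCN_Fitting_Uniqueness hM hpF hP hr hA).2.2⟩
  · obtain ⟨A, hA⟩ := exists_isEp hr
    obtain ⟨A0, hA0, hle⟩ := exists_isMaxEp_ge hA.le hA.abelem
    have h1 := (hA.of_le hle).le_rank hp.out
    exact ⟨A0, hA0.ab, hA0.isPGroup, h1, cent_uniq_Uniqueness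
      (non_pcore_Fitting_Uniqueness hM hpF hA0 (hA.of_le hle).le_rp) (le_cent_symm inf_le_right) (by omega)⟩

theorem B7.uniqMax_Op {q : ℕ} [Fact q.Prime] {M : Subgroup G} (hM : IsCoatom M) (hr : 3 ≤ rp q (Fit M)) :
    UniqMax (Op q M) M :=
  (any_rank3_Fitting_Uniqueness hM hr (Op_isPGroup q M) (by rwa [rank_syl (syl_Op_Fit q M)])).uniqMax hM
    (Op_le q M)

theorem B7.exists_max_prime {M : Subgroup G} (h : M ≠ ⊥) :
    ∃ q : ℕ, q.Prime ∧ q ∣ ♯M ∧ ∀ r : ℕ, r.Prime → r ∣ ♯M → r ≤ q := by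
  have hne : (♯M).primeFactors.Nonempty := Nat.nonempty_primeFactors.mpr (one_lt_card h)
  have := Nat.mem_primeFactors.mp (Finset.max'_mem _ hne)
  exact ⟨_, this.1, this.2.1, fun r hr hd => Finset.le_max' _ _ (Nat.mem_primeFactors.mpr ⟨hr, hd, this.2.2⟩)⟩

theorem B7.commutator_norm_ne_bot {p : ℕ} [Fact p.Prime] {P : Subgroup G} (hP : Syl p P ⊤) (h1 : P ≠ ⊥) :
    ⁅P, 𝐍(P)⁆ ≠ ⊥ := by
  intro h
  have hs := Burnside_normal_complement hP (inf_le_right.trans (commutator_eq_bot_iff'.mp h))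
  refine mFT_norm_proper (H := Op' p ⊤) (fun e => mFT_pgroup_proper hP.isPGroup (hs.right_eq_iff.mpr e))
    (fun e => h1 (hs.left_eq_iff.mp e)) (top_le_iff.mp hs.normal.2)

/-- Lemma 9.5 -/
theorem SCN_3_Uniqueness {p : ℕ} [hp : Fact p.Prime] {A : Subgroup G} (hA : IsSCN3p p A) : Uniq A := by
  by_contra hu
  have tr := fun q hq => Thompson_transitivity (q := q) hq hA
  obtain ⟨P, hP, hA⟩ := hA
  have hAp : IsPGroup p A := hP.isPGroup.to_le hA.le
  have cstrA := SCN_normed_constrained hP ⟨hA.1, by have := hA.2; omega⟩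
  have e := piOf_isPGroup hAp cstrA.1
  have F2 : ∀ (M : Subgroup G) (q : ℕ) [Fact q.Prime], IsCoatom M → 3 ≤ rp q (Fit M) → q ≠ p :=
    fun M q _ hM h e => hu (any_rank3_Fitting_Uniqueness hM (by subst e; exact h) hAp hA.2)
  have sNP : ∀ M, IsCoatom M → 𝐂(A) ≤ M → 𝐍(P) ≤ M := by
    intro M hM hCM
    have sNR : ∀ R, A ≤ R → R ≤ P → R ≤ M → 𝐍(R) ≤ M := by
      intro R hAR hRP hRM
      obtain ⟨q, hq, hqp, Q, hQ, hNQ⟩ :
          ∃ q : ℕ, q.Prime ∧ q ≠ p ∧ ∃ Q, IsMaxNormed ⊤ R {q} Q ∧ 𝐍(Q) ≤ M := by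
        by_cases hr : 3 ≤ rank (Fit M)
        · obtain ⟨q, hq, hr⟩ := le_rank_iff_rp.mp hr
          have := Fact.mk hq
          obtain ⟨Q, hQ, hle⟩ := exists_maxNormed (Op_piGrp q M) (hRM.trans (Op_normal q M).2)
          have u := uniqMax_Op hM hr
          exact ⟨q, hq, F2 M q hM hr, Q, hQ, (u.mono hle (mFT_pgroup_proper hQ.1.2.1.isPGroup)).norm_le⟩
        · obtain ⟨q, hq, hd, hmax⟩ := exists_max_prime (mmax_neq1 hM)
          have := Fact.mk hq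
          have s := rank2_max_pcore_Sylow (mFT_odd M) (mmax_sol hM) (by omega) hmax
          have hN := mmax_normal hM (Op_normal q M) (s.ne_bot hd)
          have s' := syl_top_of_norm_le s hN.le
          refine ⟨q, hq, ?_, Op q M, ⟨⟨le_top, s.piGrp, hRM.trans hN.ge⟩, fun Q hQ hle =>
            s'.eq_of_le hle le_top hQ.2.1.isPGroup⟩, hN.le⟩
          rintro rfl
          refine hr (hA.2.trans ((rank_mono hA.le).trans ?_))
          rw [rank_syl hP, ← rank_syl s']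
          exact rank_mono (Op_le_Fit q M)
      have hRp : IsPGroup p R := hP.isPGroup.to_le hRP
      obtain ⟨-, trR, -, -⟩ := normed_trans_superset hq cstrA (by rw [e]; exact hqp) hAR
        (Core.subnormalIn_of_isNilpotent hAR (nil_of_isPGroup hRp)).2 (e ▸ piGrp_singleton hRp)
        (by rw [e]; exact tr q hq hqp)
      intro x hx
      obtain ⟨k, hk, e⟩ := trR Q _ hQ (cent_core_acts_max_norm hx hQ)
      have h1 : k⁻¹ * x ∈ M := hNQ (conj_eq_self_iff.mp (by rw [← conj_conj, e, inv_conj_conj]))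
      exact (M.mul_mem_cancel_left (inv_mem (hCM (cent_anti hAR (Opi_le _ _ hk))))).mp h1
    exact sNR P hA.le le_rfl (hA.normal.2.trans (sNR A le_rfl hA.le (hA.ab.le_cent.trans hCM)))
  set P0 := ⁅P, 𝐍(P)⁆ with hP0
  have ntP0 : P0 ≠ ⊥ := commutator_norm_ne_bot hP (ne_bot_of_le_ne_bot cstrA.1 hA.le)
  have hP0P : P0 ≤ P := commutator_le_left' le_rfl
  have hP0p : IsPGroup p P0 := hP.isPGroup.to_le hP0P
  have hA1 := isEp_Ohm_of_ab (p := p) hA.ab
  have hA3 : 3 ≤ rp p A := rank_eq_rp hAp ▸ hA.2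
  have exL : ∀ M B, IsCoatom M → 𝐂(A) ≤ M → B ≤ Ohm p A → ¬ IsCyclic B →
      ∃ L, IsCoatom L ∧ L ≠ M ∧ 𝐂(B) ≤ L := fun M B hM hCM hB hc => by
    by_contra hne
    refine hu ((noncyclic_cent1_sub_Uniqueness hM (((hB.trans hA1.le).trans hA.ab.le_cent).trans hCM)
      (abelem_of_le hA1.abelem hB) hc fun b hb hb1 => ?_).mono (hB.trans hA1.le) cstrA.2.1)
    obtain ⟨L, hL, hle⟩ := mmax_exists (mFT_cent1_proper hb1)
    by_cases hLM : L = M
    · exact hLM ▸ hle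
    · exact absurd ⟨L, hL, hLM, (cent_le_cent1 hb).trans hle⟩ hne
  have uN : ∀ M, IsCoatom M → 𝐂(A) ≤ M → UniqMax 𝐍(P0) M := by
    intro M hM hCM
    have hDM : Op' p (Fit M) ⊴ M := (Fit_normal M).Opi _
    have cD : Op' p (Fit M) ≤ 𝐂(P0) := by
      refine le_of_forall_hyperplane hA1.ab hA1.abelem.2 (hA1.ne_bot (by omega))
        ((hA1.le.trans (hA.ab.le_cent.trans hCM)).trans hDM.2)
        (coprime_of_isPGroup hA1.isPGroup (Opi_piGrp _ _)) fun B hB hi => ?_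
      obtain ⟨n, hn⟩ := exists_isEp_of_abelem (abelem_of_le hA1.abelem hB) hB
      have h1 := card_mul_relIndex hB
      rw [hi, hn.card, hA1.card, ← pow_succ] at h1
      have h2 := Nat.pow_right_injective hp.out.two_le h1
      obtain ⟨L, hL, hLM, hCL⟩ := exL M B hM hCM hB (hn.not_isCyclic (by omega))
      have hNL : 𝐍(P) ≤ M ⊓ L :=
        le_inf (sNP M hM hCM) (sNP L hL ((cent_anti (hB.trans hA1.le)).trans hCL))
      refine (inf_le_inf_left _ hCL).trans (le_cent_symm (le_cent_of_rank2 (mFT_odd _)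
        (sol_of_le (mmax_sol hM) inf_le_left) (hDM.inf_inf L) (not_lt.mp fun hlt => ?_)
        (commutator_mono ((le_norm_self P).trans hNL) hNL)
        (coprime_of_isPGroup hP0p ((Opi_piGrp _ _).inf_left _))))
      obtain ⟨q, hq, E, hE⟩ := le_rank_iff.mp (Nat.succ_le_of_lt hlt)
      have := Fact.mk hq
      have hEF : E ≤ Fit M := (hE.le.trans inf_le_left).trans (Opi_le _ _)
      exact hLM (((any_rank3_Fitting_Uniqueness hM (hE.of_le hEF).le_rp hE.isPGroup hE.rank_eq.ge).uniqMax hM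
        (hEF.trans (Fit_le M))).eq hL (hE.le.trans inf_le_right))
    by_cases hr : 3 ≤ rank (Fit M)
    · obtain ⟨q, hq, hr⟩ := le_rank_iff_rp.mp hr
      have := Fact.mk hq
      refine (uniqMax_Op hM hr).mono (le_norm_of_le_cent (le_trans ?_ cD))
        (mFT_norm_proper ntP0 (mFT_pgroup_proper hP0p))
      rw [← Op_Fit]
      exact Op_le_Op' (F2 M q hM hr) _
    have hNM := sNP M hM hCM
    have hPM : P ≤ M := (le_norm_self P).trans hNM
    have hn : Fit M ⊔ P ⊴ M := normalIn_of_der_le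
      ((rank2_der1_sub_Fitting (mFT_odd M) (mmax_sol hM) (by omega)).trans le_sup_left) (sup_le (Fit_le M) hPM)
    have hN0 : 𝐍(P) ≤ 𝐍(P0) := le_norm_commutator_right _ _
    rw [mmax_normal hM ⟨hP0P.trans hPM, ?_⟩ ntP0]
    · exact uniqMax_self hM
    rw [← ((hP.mono le_sup_right le_top).frattini hn).sup_eq, ← (dprod_Fit p M).sup_eq]
    exact sup_le (sup_le (sup_le (((Op_le_syl (hP.mono hPM le_top)).trans (le_norm_self P)).trans hN0)
      (le_norm_of_le_cent cD)) ((le_norm_self P).trans hN0)) (inf_le_right.trans hN0)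
  obtain ⟨M, hM, hCM⟩ := mmax_exists (mFT_cent_proper cstrA.1)
  obtain ⟨L, hL, hLM, hCL⟩ := exL M _ hM hCM le_rfl (hA1.not_isCyclic (by omega))
  exact hLM ((uN M hM hCM).eq hL (uN L hL ((cent_anti hA1.le).trans hCL)).le)

/-- Theorem 9.6, first assertion -/
theorem rank3_Uniqueness {K : Subgroup G} (hK : K ≠ ⊤) (hr : 3 ≤ rank K) : Uniq K := by
  obtain ⟨p, hp, B, hB⟩ := le_rank_iff.mp hr
  have := Fact.mk hp
  obtain ⟨P, hP, hBP⟩ := exists_syl_ge le_top hB.isPGroup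
  obtain ⟨A, hA⟩ := rank3_SCN3 hP.isPGroup (mFT_odd P) (hB.of_le hBP).le_rp
  exact (any_cent_rank3_Uniquness hA.ab (hP.isPGroup.to_le hA.le) hA.2 (SCN_3_Uniqueness ⟨P, hP, hA⟩)
    hB.isPGroup (hB.not_isCyclic (by norm_num)) (hB.of_le hB.le_cent).le_rp).mono hB.le hK

/-- Theorem 9.6, second assertion -/
theorem cent_rank3_Uniqueness {K : Subgroup G} (hr : 2 ≤ rank K) (hC : 3 ≤ rank 𝐂(K)) : Uniq K :=
  cent_uniq_Uniqueness (rank3_Uniqueness (mFT_cent_proper (rank_pos_iff.mp (by omega))) hC)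
    (le_cent_symm le_rfl) hr

/-- Theorem 9.6, final observation -/
theorem nonmaxElem2_Uniqueness {p : ℕ} [Fact p.Prime] {A : Subgroup G} (hA : IsEp p 2 A ⊤)
    (hm : ¬ IsMaxEp p A ⊤) : Uniq A := by
  rw [hA.isMaxEp_iff, top_inf_eq] at hm
  exact cent_rank3_Uniqueness hA.rank_eq.ge ((not_le.mp hm).trans_le (rp_le_rank p _))

end Cfsg.Agent.OO.Pf
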