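import Cfsg.Agent.Lib.OO.BG6
import Cfsg.Agent.Lib.OO.BG9
import Cfsg.Agent.Lib.OO.BG10
import Cfsg.Agent.Lib.OO.BG11

/-! # B&G section 12, part A (12.1 – 12.4) -/

set_option autoImplicit false
set_option linter.unusedSectionVars false
set_option linter.unusedVariables false

namespace Cfsg.Agent.OO.Pf

open Subgroup Cfsg.Agent.Coprime
open scoped Pointwise commutatorElement

universe u

variable {G : Type u} [Group G] [Finite G]

namespace B12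
variable {A B E H K L M N P Q R V X Y : Subgroup G} {p q : ℕ} {π : Set ℕ}

theorem tau1_prime (h : p ∈ tau1S M) : p.Prime := h.1
theorem tau2_prime (h : p ∈ tau2S M) : p.Prime := h.1
theorem tau3_prime (h : p ∈ tau3S M) : p.Prime := h.1
theorem tau1_not_sigma (h : p ∈ tau1S M) : p ∉ sigmaS M := h.2.1
theorem tau2_not_sigma (h : p ∈ tau2S M) : p ∉ sigmaS M := h.2.1
theorem tau3_not_sigma (h : p ∈ tau3S M) : p ∉ sigmaS M := h.2.1
theorem tau1_not_tau2 (h : p ∈ tau1S M) : p ∉ tau2S M := fun h' => by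
  have := h.2.2.1.symm.trans h'.2.2; omega
theorem tau3_not_tau2 (h : p ∈ tau3S M) : p ∉ tau2S M := fun h' => by
  have := h.2.2.1.symm.trans h'.2.2; omega
theorem tau1_not_tau3 (h : p ∈ tau1S M) : p ∉ tau3S M := fun h' => h.2.2.2 h'.2.2.2

theorem rank_le_of_forall {k : ℕ} (h : ∀ p, p.Prime → p ∣ ♯H → rp p H ≤ k) : rank H ≤ k :=
  rank_le_iff.2 fun p hp => by
    by_cases hd : p ∣ ♯H
    · exact h p hp.out hd
    · rw [rp_eq_zero_iff.2 hd]; exact Nat.zero_le _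

/-- `[A, K] ≤ V` when `A ≤ N ⊴ L`, `N / V` is a `p`-group and `K ≤ L` is a `p'`-group normalized by `A` -/
theorem commutator_le_of_section (hN : N ⊴ L) (hV : N ≤ 𝐍(V)) (hi : IsPiNum {p} (V.relIndex N))
    (hA : A ≤ N) (hK : K ≤ L) (hK' : PiGrp ({p} : Set ℕ)ᶜ K) (hn : A ≤ 𝐍(K)) : ⁅A, K⁆ ≤ K ⊓ V := by
  have h1 := commutator_le_right' hn
  exact le_inf h1 ((hK'.of_le h1).le_of_relIndex
    ((commutator_mono hA hK).trans hN.commutator_le) hV hi.compl_compl)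

theorem ab_of_nil (hN : Nil N) (h : ∀ (q : ℕ) (_ : Fact q.Prime), q ∣ ♯N → Ab (Op q N)) : Ab N := by
  refine ab_iff_le_cent.2 (le_of_forall_isPGroup fun q _ Q hQ hq => ?_)
  by_cases hd : q ∣ ♯N
  · have h1 := dprod_Op_of_nil q hN
    rw [h1.toCprod.cent_eq]
    exact (le_Op_of_nil hN hQ hq).trans (le_inf (h q inferInstance hd).le_cent (le_cent_symm h1.le_cent))
  · rw [show Q = ⊥ from by_contra fun e => hd ((dvd_card_of_isPGroup hq e).trans (card_dvd hQ))]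
    exact bot_le

theorem exists_ne_of_not_uniqMax (hH : H ≠ ⊤) (h : ¬ UniqMax H M) :
    ∃ L, IsCoatom L ∧ H ≤ L ∧ L ≠ M := by
  by_contra! h1
  obtain ⟨L, hL, hHL⟩ := mmax_exists hH
  obtain rfl := h1 L hL hHL
  exact h ⟨hL, hHL, h1⟩

theorem uniqMax_of_forall (hH : H ≠ ⊤) (h : ∀ L, IsCoatom L → H ≤ L → L = M) : UniqMax H M :=
  by_contra fun h1 => by
    obtain ⟨L, a, b, c⟩ := exists_ne_of_not_uniqMax hH h1
    exact c (h L a b)

theorem eq_of_uniq (h : Uniq H) (hM : IsCoatom M) (hL : IsCoatom L) (h1 : H ≤ M) (h2 : H ≤ L) : L = M :=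
  (h.uniqMax hM h1).eq hL h2

variable [MinOdd G]

theorem rp_le_two (hM : IsCoatom M) (hp : p.Prime) (h : p ∉ sigmaS M) : rp p M ≤ 2 :=
  not_lt.1 fun h1 => h (alpha_sub_sigma hM ⟨hp, h1⟩)

theorem mem_tau (hM : IsCoatom M) (hp : p.Prime) (hd : p ∣ ♯M) (h : p ∉ sigmaS M) :
    p ∈ tau1S M ∨ p ∈ tau2S M ∨ p ∈ tau3S M := by
  have := Fact.mk hp
  have h1 := rp_le_two hM hp h
  have h2 := rp_pos_iff.2 hd
  by_cases h3 : rp p M = 2
  · exact Or.inr (Or.inl ⟨hp, h, h3⟩)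
  by_cases h4 : p ∣ ♯(der M)
  · exact Or.inr (Or.inr ⟨hp, h, by omega, h4⟩)
  · exact Or.inl ⟨hp, h, by omega, h4⟩

theorem mem_tau_of_dvd (hM : IsCoatom M) (hE : Hall (sigmaS M)ᶜ E M) (hp : p.Prime) (hd : p ∣ ♯E) :
    p ∈ tau1S M ∨ p ∈ tau2S M ∨ p ∈ tau3S M :=
  mem_tau hM hp (hd.trans (card_dvd hE.le)) (hE.piGrp p hp hd)

theorem tau2_of_le_rp (hM : IsCoatom M) (hp : p.Prime) (h : p ∉ sigmaS M) (hr : 2 ≤ rp p M) :
    p ∈ tau2S M := ⟨hp, h, le_antisymm (rp_le_two hM hp h) hr⟩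

theorem rank_compl (hM : IsCoatom M) (hK : K ≤ M) (hs : PiGrp (sigmaS M)ᶜ K) : rank K ≤ 2 :=
  rank_le_of_forall fun p hp hd =>
    have := Fact.mk hp
    (rp_mono p hK).trans (rp_le_two hM hp (hs p hp hd))

theorem le_Ms (hM : IsCoatom M) (hK : K ≤ M) (hs : PiGrp (sigmaS M) K) : K ≤ Ms M :=
  (Msigma_Hall hM).le_of_normal_hall (Ms_normal M).norm hK hs

theorem not_mem_beta (hM : IsCoatom M) (h : p ∉ betaS (⊤ : Subgroup G)) : p ∉ betaS M := fun h' =>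
  h (predI_sigma_beta hM ▸ h' : p ∈ sigmaS M ∩ betaS ⊤).2

theorem norm_ne_top [Fact p.Prime] (hX : IsPGroup p X) (h1 : X ≠ ⊥) : 𝐍(X) ≠ ⊤ :=
  mFT_norm_proper h1 (mFT_pgroup_proper hX)

theorem isCyclic_of_rp [Fact p.Prime] (hP : IsPGroup p P) (hle : P ≤ M) (h : rp p M ≤ 1) : IsCyclic P :=
  (isCyclic_iff_rp_of_odd hP (mFT_odd P)).2 ((rp_mono p hle).trans h)

theorem exists_isEp_two [Fact p.Prime] (hP : IsPGroup p P) (h : ¬ IsCyclic P) : ∃ A, IsEp p 2 A P :=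
  exists_isEp (by have := (isCyclic_iff_rp_of_odd hP (mFT_odd P)).not.1 h; omega)

end B12

open B12

theorem tau1S_conj (M : Subgroup G) (g : G) : tau1S (g •ᶜ M) = tau1S M := by
  ext p
  refine and_congr_right fun hp => ?_
  have := Fact.mk hp
  rw [sigmaS_conj, rp_conj, der_conj, card_conj]

theorem tau2S_conj (M : Subgroup G) (g : G) : tau2S (g •ᶜ M) = tau2S M := by
  ext p
  refine and_congr_right fun hp => ?_
  have := Fact.mk hp
  rw [sigmaS_conj, rp_conj]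

theorem tau3S_conj (M : Subgroup G) (g : G) : tau3S (g •ᶜ M) = tau3S M := by
  ext p
  refine and_congr_right fun hp => ?_
  have := Fact.mk hp
  rw [sigmaS_conj, rp_conj, der_conj, card_conj]

variable [MinOdd G]

theorem partition_pi_mmax {M : Subgroup G} (hM : IsCoatom M) :
    piOf M = tau1S M ∪ tau2S M ∪ tau3S M ∪ sigmaS M := by
  ext p
  constructor
  · rintro ⟨hp, hd⟩
    by_cases h : p ∈ sigmaS M
    · exact Or.inr h
    · exact Or.inl (or_assoc.2 (mem_tau hM hp hd h))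
  · rintro (((h | h) | h) | h)
    · exact ⟨h.1, have := Fact.mk h.1; rp_pos_iff.1 (by rw [h.2.2.1]; norm_num)⟩
    · exact ⟨h.1, have := Fact.mk h.1; rp_pos_iff.1 (by rw [h.2.2]; norm_num)⟩
    · exact ⟨h.1, have := Fact.mk h.1; rp_pos_iff.1 (by rw [h.2.2.1]; norm_num)⟩
    · exact sigma_sub_pi hM h

theorem partition_pi_sigma_compl {M E : Subgroup G} (hM : IsCoatom M) (hE : Hall (sigmaS M)ᶜ E M) :
    piOf E = tau1S M ∪ tau2S M ∪ tau3S M := by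
  rw [hE.piOf_eq, partition_pi_mmax hM]
  ext p
  constructor
  · rintro ⟨h | h, h'⟩
    exacts [h, absurd h h']
  · intro h
    refine ⟨Or.inl h, ?_⟩
    rcases h with (h | h) | h
    exacts [h.2.1, h.2.1, h.2.1]

theorem sdprod_sigma {M E : Subgroup G} (hM : IsCoatom M) (hE : Hall (sigmaS M)ᶜ E M) :
    IsSdprod (Ms M) E M := (Msigma_Hall hM).sdprod (Ms_normal M).norm hE

theorem coprime_sigma_compl {M E : Subgroup G} (hE : Hall (sigmaS M)ᶜ E M) :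
    (♯(Ms M)).Coprime ♯E := (Ms_piGrp M).coprime hE.piGrp

theorem der1_sigma_compl {M E : Subgroup G} (hM : IsCoatom M) (hE : Hall (sigmaS M)ᶜ E M) :
    der M ⊓ E = der E := by
  rw [inf_comm, pprod_focal_coprime (sdprod_sigma hM hE).sup_eq (Ms_normal M) le_rfl
    (coprime_sigma_compl hE), inf_eq_right.2 (der_le E)]

theorem rp_sigma_compl {M E : Subgroup G} {p : ℕ} [Fact p.Prime] (hM : IsCoatom M)
    (hE : Hall (sigmaS M)ᶜ E M) (hp : p ∉ sigmaS M) : rp p E = rp p M := rp_hall hE hp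

theorem B12.dvd_der_iff {M E : Subgroup G} {p : ℕ} (hM : IsCoatom M) (hE : Hall (sigmaS M)ᶜ E M)
    (hp : p.Prime) (h : p ∉ sigmaS M) : p ∣ ♯(der E) ↔ p ∣ ♯(der M) := by
  rw [← der1_sigma_compl hM hE]
  exact (hE.normal_inf (der_normal M)).dvd_card_iff hp h

theorem B12.mem_piOf_compl {M E : Subgroup G} {p : ℕ} (hM : IsCoatom M) (hE : Hall (sigmaS M)ᶜ E M)
    (h : p ∈ tau1S M ∨ p ∈ tau2S M ∨ p ∈ tau3S M) : p ∈ piOf E := by
  rw [partition_pi_sigma_compl hM hE]; exact or_assoc.2 h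

theorem tau1E {M E : Subgroup G} {p : ℕ} (hM : IsCoatom M) (hE : Hall (sigmaS M)ᶜ E M) :
    p ∈ tau1S M ↔ p ∈ piOf E ∧ rp p E = 1 ∧ p ∉ piOf (der E) := by
  constructor
  · intro h
    have := Fact.mk h.1
    exact ⟨mem_piOf_compl hM hE (Or.inl h), (rp_hall hE h.2.1).trans h.2.2.1,
      fun h' => h.2.2.2 ((dvd_der_iff hM hE h.1 h.2.1).1 h'.2)⟩
  · rintro ⟨⟨hp, hd⟩, h1, h2⟩
    have := Fact.mk hp
    have h3 := hE.piGrp p hp hd
    exact ⟨hp, h3, (rp_hall hE h3).symm.trans h1, fun h => h2 ⟨hp, (dvd_der_iff hM hE hp h3).2 h⟩⟩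

theorem tau2E {M E : Subgroup G} {p : ℕ} (hM : IsCoatom M) (hE : Hall (sigmaS M)ᶜ E M) :
    p ∈ tau2S M ↔ p ∈ piOf E ∧ rp p E = 2 := by
  constructor
  · intro h
    have := Fact.mk h.1
    exact ⟨mem_piOf_compl hM hE (Or.inr (Or.inl h)), (rp_hall hE h.2.1).trans h.2.2⟩
  · rintro ⟨⟨hp, hd⟩, h1⟩
    have := Fact.mk hp
    have h3 := hE.piGrp p hp hd
    exact ⟨hp, h3, (rp_hall hE h3).symm.trans h1⟩

theorem tau3E {M E : Subgroup G} {p : ℕ} (hM : IsCoatom M) (hE : Hall (sigmaS M)ᶜ E M) :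
    p ∈ tau3S M ↔ p ∈ piOf (der E) ∧ rp p E = 1 := by
  constructor
  · intro h
    have := Fact.mk h.1
    exact ⟨⟨h.1, (dvd_der_iff hM hE h.1 h.2.1).2 h.2.2.2⟩, (rp_hall hE h.2.1).trans h.2.2.1⟩
  · rintro ⟨⟨hp, hd⟩, h1⟩
    have := Fact.mk hp
    have h3 := hE.piGrp p hp (hd.trans (card_dvd (der_le E)))
    exact ⟨hp, h3, (rp_hall hE h3).symm.trans h1, (dvd_der_iff hM hE hp h3).1 hd⟩

theorem ex_sigma_compl {M F : Subgroup G} (hM : IsCoatom M) (hF : F ≤ M) (hs : PiGrp (sigmaS M)ᶜ F) :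
    ∃ E, Hall (sigmaS M)ᶜ E M ∧ F ≤ E := exists_hall_ge (mmax_sol hM) hF hs

theorem B12.compl_sol {M E : Subgroup G} (hM : IsCoatom M) (hE : Hall (sigmaS M)ᶜ E M) : Sol E :=
  sol_of_le (mmax_sol hM) hE.le

theorem ex_tau13_compl {M E F : Subgroup G} (hM : IsCoatom M) (hE : Hall (sigmaS M)ᶜ E M) (hF : F ≤ E)
    (hs : PiGrp (tau13S M) F) : ∃ E1 E3, Hall (tau1S M) E1 E ∧ Hall (tau3S M) E3 E ∧ F ≤ E3 ⊔ E1 := by
  obtain ⟨H, hH, hFH⟩ := exists_hall_ge (compl_sol hM hE) hF hs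
  have hs' := sol_of_le (compl_sol hM hE) hH.le
  obtain ⟨E1, h1⟩ := exists_hall (tau1S M) hs'
  obtain ⟨E3, h3⟩ := exists_hall (tau3S M) hs'
  refine ⟨E1, E3, h1.trans hH Set.subset_union_left, h3.trans hH Set.subset_union_right, ?_⟩
  rwa [h3.sup_compl (h1.congr fun p hp hd => ⟨tau1_not_tau3, (hH.piGrp p hp hd).resolve_right⟩)]

theorem ex_tau2_compl {M E E1 E3 : Subgroup G} (hM : IsCoatom M) (hE : Hall (sigmaS M)ᶜ E M)
    (h1 : Hall (tau1S M) E1 E) (h3 : Hall (tau3S M) E3 E) : ∃ E2, SigmaCompl M E E1 E2 E3 := by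
  obtain ⟨H, hH, hFH⟩ := exists_hall_ge (π := tau1S M ∪ tau2S M) (compl_sol hM hE) h1.le
    (h1.piGrp.mono Set.subset_union_left)
  obtain ⟨E2, h2⟩ := exists_hall (tau2S M) (sol_of_le (compl_sol hM hE) hH.le)
  have := h2.isProd_compl ((h1.mono hFH hH.le).congr fun p hp hd =>
    ⟨tau1_not_tau2, (hH.piGrp p hp hd).resolve_right⟩)
  exact ⟨E2, hE, h1, h2.trans hH Set.subset_union_right, h3, this.sup_eq ▸ this⟩

theorem ex_tau23_compl {M E E1 : Subgroup G} (hM : IsCoatom M) (hE : Hall (sigmaS M)ᶜ E M)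
    (h1 : Hall (tau1S M) E1 E) : ∃ E2 E3, SigmaCompl M E E1 E2 E3 := by
  obtain ⟨E3, h3⟩ := exists_hall (tau3S M) (compl_sol hM hE)
  obtain ⟨E2, h2⟩ := ex_tau2_compl hM hE h1 h3
  exact ⟨E2, E3, h2⟩

theorem B12.ex_compl {M E : Subgroup G} (hM : IsCoatom M) (hE : Hall (sigmaS M)ᶜ E M) :
    ∃ E1 E2 E3, SigmaCompl M E E1 E2 E3 := by
  obtain ⟨E1, h1⟩ := exists_hall (tau1S M) (compl_sol hM hE)
  exact ⟨E1, ex_tau23_compl hM hE h1⟩

theorem ex_tau2Elem {M E : Subgroup G} {p : ℕ} (hM : IsCoatom M) (hE : Hall (sigmaS M)ᶜ E M)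
    (hp : p ∈ tau2S M) : ∃ A, IsEp p 2 A E ∧ IsEp p 2 A M := by
  have := Fact.mk hp.1
  obtain ⟨A, hA⟩ := exists_isEp (((tau2E hM hE).1 hp).2).ge
  exact ⟨A, hA, hA.mono hE.le⟩

theorem der1_sigma_compl_nil {M E : Subgroup G} (hM : IsCoatom M) (hE : Hall (sigmaS M)ᶜ E M) :
    Nil (der E) :=
  beta'_der1_nil hM ((hE.piGrp.of_le (der_le E)).mono (Set.compl_subset_compl.2 (beta_sub_sigma hM)))
    (der_mono hE.le)

theorem tau2_not_beta {M : Subgroup G} {p : ℕ} (hM : IsCoatom M) (hp : p ∈ tau2S M) :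
    p ∉ betaS (⊤ : Subgroup G) ∧ ∀ A, IsEp p 2 A M → IsMaxEp p A ⊤ :=
  have := Fact.mk hp.1
  ⟨sigma'_rank2_beta' hM hp.2.1 hp.2.2, fun _ hA => sigma'_rank2_max hM hp.2.1 hp.2.2 hA⟩

theorem B12.rank_tau13 {M K : Subgroup G} (hK : K ≤ M) (hs : PiGrp (tau13S M) K) : rank K ≤ 1 :=
  rank_le_of_forall fun p hp hd =>
    have := Fact.mk hp
    (rp_mono p hK).trans (by rcases hs p hp hd with h | h <;> exact h.2.2.1.le)

theorem B12.der_tau1' {M E : Subgroup G} (hE : Hall (sigmaS M)ᶜ E M) : PiGrp (tau1S M)ᶜ (der E) :=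
  fun p hp hd h => h.2.2.2 (hd.trans (card_dvd (der_mono hE.le)))

theorem tau1_cyclic {M E E1 : Subgroup G} (hM : IsCoatom M) (hE : Hall (sigmaS M)ᶜ E M)
    (h1 : Hall (tau1S M) E1 E) : IsCyclic E1 := by
  refine (isCyclic_iff_rank_of_ab (ab_iff_der.2 ?_)).2
    (rank_tau13 (h1.le.trans hE.le) (h1.piGrp.mono Set.subset_union_left))
  exact (h1.piGrp.of_le (der_le E1)).eq_bot ((der_tau1' hE).of_le (der_mono h1.le))

theorem B12.tau3_le_der {M E E3 : Subgroup G} (hM : IsCoatom M) (hE : Hall (sigmaS M)ᶜ E M)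
    (h3 : Hall (tau3S M) E3 E) : E3 ≤ der E := by
  refine le_of_forall_syl fun q hq hd => ?_
  have := Fact.mk hq
  have h := h3.piGrp q hq hd
  obtain ⟨Q, hQ⟩ := exists_syl q E3
  have hQE := hQ.trans_hall h3 h
  refine ⟨Q, hQ, (cyclic_Sylow_tiVsub_der1 hQE
    (isCyclic_of_rp hQ.isPGroup (hQE.le.trans hE.le) h.2.2.1.le)).resolve_left ?_⟩
  exact (hQE.inf_normal (der_normal E)).ne_bot ((tau3E hM hE).1 h).1.2

theorem tau3_cyclic {M E E3 : Subgroup G} (hM : IsCoatom M) (hE : Hall (sigmaS M)ᶜ E M)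
    (h3 : Hall (tau3S M) E3 E) : IsCyclic E3 :=
  (isCyclic_iff_rank_of_nil_of_odd (nil_of_le (der1_sigma_compl_nil hM hE) (tau3_le_der hM hE h3))
    (mFT_odd _)).2 (rank_tau13 (h3.le.trans hE.le) (h3.piGrp.mono Set.subset_union_right))

theorem B12.tau3_normal {M E E3 : Subgroup G} (hM : IsCoatom M) (hE : Hall (sigmaS M)ᶜ E M)
    (h3 : Hall (tau3S M) E3 E) : E3 ⊴ E :=
  (der_normal E).char_trans (tau3_le_der hM hE h3)
    ((h3.mono (tau3_le_der hM hE h3) (der_le E)).norm_le_norm_of_nil (der1_sigma_compl_nil hM hE))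

theorem sigma_compl_context {M E E1 E2 E3 : Subgroup G} (hM : IsCoatom M) (hE : SigmaCompl M E E1 E2 E3) :
    (E3 ≤ der E ∧ E3 ⊴ E) ∧ (E2 = ⊥ → E1 ≠ ⊥) ∧ (IsCyclic E1 ∧ IsCyclic E3) ∧
    (IsSdprod E2 E1 (E2 ⊔ E1) ∧ IsSdprod E3 (E2 ⊔ E1) E ∧
      IsSdprod E3 E2 (E3 ⊔ E2) ∧ IsSdprod (E3 ⊔ E2) E1 E) ∧ E3 ⊓ 𝐂(E) = ⊥ := by
  obtain ⟨hE, h1, h2, h3, h21⟩ := hE
  have a1 := tau3_le_der hM hE h3
  have a2 := tau3_normal hM hE h3
  have hle : E2 ⊔ E1 ≤ E := sup_le h2.le h1.le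
  have p21 : PiGrp (tau1S M ∪ tau2S M) (E2 ⊔ E1) :=
    h21.piGrp (h2.piGrp.mono Set.subset_union_right) (h1.piGrp.mono Set.subset_union_left)
  have c21 : (♯E2).Coprime ♯E1 := h2.piGrp.coprime_of_disjoint h1.piGrp fun p h h' => tau1_not_tau2 h' h
  have s21 : IsSdprod E2 E1 (E2 ⊔ E1) := IsSdprod.of_coprime (le_sup_right.trans (le_norm_of_der_le
    ((h2.mono le_sup_left hle).le_of_normal (der_normal _) fun p hp hd =>
      (p21 p hp (hd.trans (card_dvd (der_le _)))).resolve_left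
        (der_tau1' hE p hp (hd.trans (card_dvd (der_mono hle))))) le_sup_left)) c21
  have hall : ∀ H ≤ E, ∀ π : Set ℕ, PiGrp π H → (tau1S M ∩ π ≠ ∅ → E1 ≤ H) →
      (tau2S M ∩ π ≠ ∅ → E2 ≤ H) → (tau3S M ∩ π ≠ ∅ → E3 ≤ H) → Hall π H E := by
    intro H hH π hπ b1 b2 b3
    refine IsPiHallOf.of_pi hH hπ fun p hp hd h => ?_
    rcases mem_tau_of_dvd hM hE hp (hd.trans (relIndex_dvd_card _ _)) with h' | h' | h'
    · exact h1.compl p hp (hd.trans (relIndex_dvd_of_le_left _ (b1 (Set.Nonempty.ne_empty ⟨p, h', h⟩)))) h'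
    · exact h2.compl p hp (hd.trans (relIndex_dvd_of_le_left _ (b2 (Set.Nonempty.ne_empty ⟨p, h', h⟩)))) h'
    · exact h3.compl p hp (hd.trans (relIndex_dvd_of_le_left _ (b3 (Set.Nonempty.ne_empty ⟨p, h', h⟩)))) h'
  have s3 : IsSdprod E3 (E2 ⊔ E1) E := h3.sdprod a2.norm (hall _ hle _
    (p21.mono fun p hp h => hp.elim (fun h' => tau1_not_tau3 h' h) (tau3_not_tau2 h))
    (fun _ => le_sup_right) (fun _ => le_sup_left) (fun h => absurd (Set.inter_compl_self _) h))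
  have s32 : IsSdprod E3 E2 (E3 ⊔ E2) := IsSdprod.of_coprime (h2.le.trans a2.norm)
    (h3.piGrp.coprime_of_disjoint h2.piGrp fun p => tau3_not_tau2)
  have hle' : E3 ⊔ E2 ≤ E := sup_le h3.le h2.le
  have h32 : Hall (tau1S M)ᶜ (E3 ⊔ E2) E := hall _ hle' _
    (s32.piGrp (h3.piGrp.mono fun p h h' => tau1_not_tau3 h' h)
      (h2.piGrp.mono fun p h h' => tau1_not_tau2 h' h))
    (fun h => absurd (Set.inter_compl_self _) h) (fun _ => le_sup_right) (fun _ => le_sup_left)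
  have c3 := tau3_cyclic hM hE h3
  refine ⟨⟨a1, a2⟩, fun e2 e1 => ?_, ⟨tau1_cyclic hM hE h1, c3⟩, ⟨s21, s3, s32, h32.sdprod'
    (le_norm_of_der_le (h32.le_of_normal (der_normal E) (der_tau1' hE)) hle') h1⟩, ?_⟩
  · have e3 := s3.left_eq_iff.2 (by rw [e2, e1, bot_sup_eq])
    have e : E = ⊥ := by_contra fun h => (der_lt (compl_sol hM hE) h).not_ge (e3 ▸ a1)
    exact (der_lt (mmax_sol hM) (mmax_neq1 hM)).not_ge
      (((sdprod_sigma hM hE).left_eq_iff.2 e).ge.trans (Msigma_der1 hM))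
  · have := (coprime_der1_sdprod s3 (s3.coprime_of_left h3.isHallIn) (sol_of_ab (ab_of_isCyclic c3)) a1).2
    rw [ab_iff_der.1 (ab_of_isCyclic c3)] at this
    exact eq_bot_iff.2 ((inf_le_inf_left _ (cent_anti hle)).trans this)

theorem prime_class_mmax_norm {M X : Subgroup G} {p : ℕ} [hp : Fact p.Prime] (hM : IsCoatom M)
    (hX : IsPGroup p X) (hN : 𝐍(X) ≤ M) : p ∈ sigmaS M ∨ p ∈ tau2S M :=
  or_iff_not_imp_left.2 fun h => ⟨hp.out, h, sigma'_norm_mmax_rank2 hM hX hN h⟩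

theorem B12.eq_conj_cent {M X : Subgroup G} {p : ℕ} {g : G} (hM : IsCoatom M) (hp : p ∈ sigmaS M)
    (hX : IsPGroup p X) (h1 : X ≤ M) (h2 : X ≤ g •ᶜ M) : ∃ c ∈ 𝐂(X), g •ᶜ M = c •ᶜ M := by
  simpa using (sigma_group_trans hM hp hX).2.1.2 1 g (by simpa using h1) h2

theorem mmax_norm_notJ {M Mstar X : Subgroup G} {p : ℕ} [Fact p.Prime] (hM : IsCoatom M)
    (hMs : IsCoatom Mstar) (hX : IsPGroup p X) (hXM : X ≤ M) (hN : 𝐍(X) ≤ Mstar)
    (h : (p ∈ sigmaS M ∧ M ≠ Mstar) ∨ p ∈ tau1S M ∨ p ∈ tau3S M) : NotConj Mstar M := by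
  rintro g rfl
  have h1 := prime_class_mmax_norm hMs hX hN
  rw [sigmaS_conj, tau2S_conj] at h1
  rcases h with ⟨h, hne⟩ | h | h
  · obtain ⟨c, hc, e⟩ := eq_conj_cent hM h hX hXM ((le_norm_self X).trans hN)
    refine hne ?_
    rw [eq_comm, conj_eq_iff_eq_inv_conj, conj_eq_of_mem (inv_mem (hN (cent_le_norm X hc)))] at e
    exact e
  · exact h1.elim h.2.1 (tau1_not_tau2 h)
  · exact h1.elim h.2.1 (tau3_not_tau2 h)

theorem B12.not_conj_of_sigma {M L : Subgroup G} {p : ℕ} (h1 : p ∈ sigmaS L) (h2 : p ∉ sigmaS M) :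
    NotConj L M := by
  rintro g rfl
  exact h2 (sigmaS_conj M g ▸ h1)

theorem B12.normal_Ms_sup {M A : Subgroup G} {p : ℕ} [Fact p.Prime] (h : Ms M ⊔ A ⊴ M) (hA : IsPGroup p A) :
    IsPiNum {p} ((Ms M).relIndex (Ms M ⊔ A)) := by
  rw [relIndex_sup_eq' (Or.inr ((le_sup_right.trans h.le).trans (Ms_normal M).norm))]
  exact (piGrp_singleton hA).relIndex _

theorem nonuniq_p2Elem_cent_sigma {M Mstar A A0 : Subgroup G} {p : ℕ} [Fact p.Prime] (hM : IsCoatom M)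
    (hMs : IsCoatom Mstar) (hne : Mstar ≠ M) (hA : IsEp p 2 A (M ⊓ Mstar)) (hA0 : IsEp p 1 A0 A)
    (hN : 𝐍(A0) ≤ Mstar) :
    (p ∉ sigmaS M → A ≤ 𝐂(Ms M ⊓ Mstar)) ∧ (p ∉ alphaS M → A ≤ 𝐂(Ma M ⊓ Mstar)) := by
  have hAM := hA.le.trans inf_le_left
  have hAM' := hA.le.trans inf_le_right
  have key : ∀ K, K ≤ Ms M ⊓ Mstar → PiGrp ({p} : Set ℕ)ᶜ K → A ≤ 𝐍(K) →
      (p ∈ sigmaS Mstar → NotConj Mstar M) → A ≤ 𝐂(K) := by
    intro K hK hK' hn hc
    rw [← commutator_eq_bot_iff, eq_bot_iff]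
    by_cases hs : p ∈ sigmaS Mstar
    · have hV := Ma_normal Mstar
      obtain ⟨N, n1, n2, n3⟩ := exists_quo_eq_normal hV (((der_normal Mstar).quo (Ma Mstar)).Op p)
      have h1 : A ≤ der Mstar :=
        (le_Ms hMs hAM' (piGrp_of_isPGroup hA.isPGroup hs)).trans (Msigma_der1 hMs)
      refine (commutator_le_of_section n2 (n2.le.trans hV.norm)
        ((isPGroup_quo_iff (n2.le.trans hV.norm)).1 (n3 ▸ Op_isPGroup p _)) ?_
        (hK.trans inf_le_right) hK' hn).trans ?_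
      · rw [← quo_le_quo_iff (hAM'.trans hV.norm) n1, n3]
        exact le_Op_of_nil (Malpha_quo_nil hMs) (quo_mono _ h1) (isPGroup_quo hA.isPGroup _)
      · rw [← (sigma_disjoint hMs hM (hc hs).symm).1]
        exact le_inf inf_le_right (inf_le_left.trans (hK.trans inf_le_left))
    · have hE : ExceptionalMax p Mstar A0 A := ⟨hs, hA.mono inf_le_right, hA0, hN⟩
      have h1 := exceptional_mul_sigma_normal hMs hE
      refine (commutator_le_of_section h1 (h1.le.trans (Ms_normal _).norm)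
        (normal_Ms_sup h1 hA.isPGroup) le_sup_right (hK.trans inf_le_right) hK' hn).trans ?_
      have h2 : Ms M ⊓ Ms Mstar = ⊥ := by_contra fun h =>
        hne (exceptional_sigma_uniq hMs hE hM hAM h).symm
      exact h2 ▸ inf_le_inf_right _ (hK.trans inf_le_left)
  have ha : p ∉ sigmaS M → A ≤ 𝐂(Ms M ⊓ Mstar) := fun h => key _ le_rfl
    (((Ms_piGrp M).inf_left _).mono fun q hq e => h (e ▸ hq))
    (le_norm_inf (hAM.trans (Ms_normal M).norm) (le_norm_of_le hAM')) fun h' => not_conj_of_sigma h' h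
  refine ⟨ha, fun h => ?_⟩
  by_cases hs : p ∈ sigmaS M
  · exact key _ (inf_le_inf_right _ (Malpha_sub_Msigma hM))
      (((Ma_piGrp M).inf_left _).mono fun q hq e => h (e ▸ hq))
      (le_norm_inf (hAM.trans (Ma_normal M).norm) (le_norm_of_le hAM')) fun _ =>
      mmax_norm_notJ hM hMs hA0.isPGroup (hA0.le.trans hAM) hN (Or.inl ⟨hs, hne.symm⟩)
  · exact (ha hs).trans (cent_anti (inf_le_inf_right _ (Malpha_sub_Msigma hM)))

theorem B12.gen_cent {A H K : Subgroup G} {p : ℕ} [Fact p.Prime] (hA : IsEp p 2 A ⊤) (hn : A ≤ 𝐍(H))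
    (hc : PiGrp ({p} : Set ℕ)ᶜ H) (h : ∀ X, IsEp p 1 X A → H ⊓ 𝐂(X) ≤ K) : H ≤ K :=
  coprime_abelian_gen_cent1 hA.ab (hA.not_isCyclic le_rfl) hn (coprime_of_isPGroup hA.isPGroup hc).symm
    fun a ha h1 => cent_zpowers a ▸ h _ (isEp_zpowers ha (orderOf_eq_of_abelem hA.abelem ha h1))

theorem p2Elem_mmax {M A : Subgroup G} {p : ℕ} [Fact p.Prime] (hM : IsCoatom M) (hA : IsEp p 2 A M) :
    𝐂(A) ≤ M ∧ ((∀ A0, IsEp p 1 A0 A → ¬ UniqMax 𝐍(A0) M) →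
      p ∈ sigmaS M ∧ Ma M = ⊥ ∧ Nil (Ms M)) := by
  by_cases h : ∀ A0, IsEp p 1 A0 A → ¬ UniqMax 𝐍(A0) M
  swap
  · push Not at h
    obtain ⟨A0, h1, h2⟩ := h
    exact ⟨((cent_anti h1.le).trans (cent_le_norm A0)).trans h2.le, fun h => absurd h2 (h A0 h1)⟩
  have hX : ∀ X, IsEp p 1 X A → ∃ L, IsCoatom L ∧ 𝐍(X) ≤ L ∧ L ≠ M ∧ IsEp p 2 A (M ⊓ L) := fun X hX => by
    obtain ⟨L, a, b, c⟩ := exists_ne_of_not_uniqMax (norm_ne_top hX.isPGroup (hX.ne_bot one_ne_zero)) (h X hX)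
    exact ⟨L, a, b, c, hA.of_le (le_inf hA.le ((le_norm_of_ab hA.ab hX.le).trans b))⟩
  have hr : ∀ K X, IsEp p 1 X A → K ≤ M ⊓ 𝐍(X) → rank K ≤ 2 := fun K X hX' hK => by
    obtain ⟨L, a, b, c, -⟩ := hX X hX'
    by_contra hh
    exact c (eq_of_uniq (rank3_Uniqueness (ne_top_of_le_mmax hM (hK.trans inf_le_left)) (by omega)) hM a
      (hK.trans inf_le_left) (hK.trans (inf_le_right.trans b)))
  obtain ⟨X₀, hX₀⟩ := hA.exists_le one_le_two
  have hr2 := hr (M ⊓ 𝐂(A)) X₀ hX₀ (inf_le_inf_left _ ((cent_anti hX₀.le).trans (cent_le_norm _)))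
  have hs : p ∈ sigmaS M := by_contra fun hs => by
    have h1 : Ms M ≤ 𝐂(A) := gen_cent hA.top (hA.le.trans (Ms_normal M).norm)
      ((Ms_piGrp M).mono fun q hq e => hs (e ▸ hq)) fun X hX' => by
        obtain ⟨L, a, b, c, d⟩ := hX X hX'
        exact (inf_le_inf_left _ ((cent_le_norm X).trans b)).trans
          (le_cent_symm ((nonuniq_p2Elem_cent_sigma hM a c d hX' b).1 hs))
    have h2 := sub'cent_sigma_rank1 hM hA.le (piGrp_of_isPGroup hA.isPGroup hs)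
    rw [inf_eq_left.2 (le_cent_symm h1), hA.rank_eq] at h2
    omega
  obtain ⟨P, hP, hAP⟩ := exists_syl_ge (le_Ms hM hA.le (piGrp_of_isPGroup hA.isPGroup hs)) hA.isPGroup
  have hPM := hP.trans_hall (Msigma_Hall hM) hs
  have hZ : Ohm p (Zc P) ≤ A := ((hA.of_le hAP).isMaxEp_iff.2 ((rp_mono p (inf_le_inf_right _ hPM.le)).trans
    ((rp_le_rank p _).trans hr2))).Ohm_Zc_le
  have hZ1 : Ohm p (Zc P) ≠ ⊥ := Ohm_ne_bot (hP.isPGroup.to_le (Zc_le P))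
    (Zc_ne_bot hP.nil fun e => hA.ne_bot two_ne_zero (eq_bot_iff.2 (e ▸ hAP)))
  obtain ⟨X, hX'⟩ := exists_isEp_one_of_isPGroup (hA.isPGroup.to_le hZ) hZ1
  have ha : p ∉ alphaS M := fun ha => by
    have := hr P X (hX'.mono hZ) (le_inf hPM.le (le_norm_of_le_cent (le_cent_symm
      (hX'.le.trans ((Ohm_le p _).trans (Zc_le_cent P))))))
    rw [rank_syl hPM] at this
    exact absurd ha.2 (by omega)
  have h1 : Ma M ≤ 𝐂(A) := gen_cent hA.top (hA.le.trans (Ma_normal M).norm)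
    ((Ma_piGrp M).mono fun q hq e => ha (e ▸ hq)) fun X hX' => by
      obtain ⟨L, a, b, c, d⟩ := hX X hX'
      exact (inf_le_inf_left _ ((cent_le_norm X).trans b)).trans
        (le_cent_symm ((nonuniq_p2Elem_cent_sigma hM a c d hX' b).2 ha))
  have h2 : Ma M = ⊥ := by_contra fun h2 => by
    obtain ⟨q, hq, hd⟩ := exists_prime_dvd h2
    have := Fact.mk hq
    have h3 := Ma_piGrp M q hq hd
    have h4 := (rp_le_rank q _).trans ((rank_mono (le_inf (Ma_normal M).le h1)).trans hr2)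
    rw [rp_hall (Malpha_Hall hM) h3] at h4
    exact absurd h3.2 (by omega)
  have h3 : Nil (Ms M) := by
    have := Malpha_quo_nil hM
    rw [h2] at this
    exact nil_of_le (Group.nilpotent_of_mulEquiv (quoBotEquiv (der M)).symm) (Msigma_der1 hM)
  refine ⟨?_, fun _ => ⟨hs, h2, h3⟩⟩
  have h4 : Ohm p (Zc P) ⊴ M := by
    rw [syl_eq_Op_of_nil h3 hP]
    exact ((Ms_normal M).Op p).Zc.Ohm p
  exact ((cent_anti hZ).trans (cent_le_norm _)).trans (mmax_normal hM h4 hZ1).le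

end Cfsg.Agent.OO.Pf
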