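import Cfsg.Agent.Lib.OO.BG5
import Cfsg.Agent.Lib.OO.BGAB
import Cfsg.Agent.Lib.Coprime.AxB

/-! # B&G section 6 -/

set_option autoImplicit false
set_option linter.unusedSectionVars false
set_option linter.unusedVariables false

namespace Cfsg.Agent.OO.Pf

open Subgroup Cfsg.Agent.Coprime
open scoped Pointwise commutatorElement

universe u v w

variable {G : Type u} [Group G] [Finite G]

variable {A E H K L Q S U : Subgroup G} {p : ℕ}

theorem odd_p_abelian_constrained (p : ℕ) [Fact p.Prime] (ho : Odd ♯H) (hs : Sol H) :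
    PAbConstrained p H :=
  p_stable_abelian_constrained (solvable_p_constrained p hs) (odd_p_stable p ho hs)

theorem coprime_der1_sdprod (h : IsSdprod K H L) (hc : (♯K).Coprime ♯H) (hs : Sol K) (hK : K ≤ der L) :
    ⁅K, H⁆ = K ∧ K ⊓ 𝐂(H) ≤ der K := by
  have h1 : K ≤ der K ⊔ ⁅K, H⁆ := by
    have a1 : der K ⊔ ⁅K, H⁆ ≤ K := sup_le (der_le K) h.commutator_le
    have a2 := sup_inf_of_le_left (A := der K ⊔ ⁅K, H⁆) (B := der H) (Or.inr ((der_le H).trans
      (le_norm_sup (h.le_norm.trans (norm_le_norm_der K)) (le_norm_commutator_right K H)))) a1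
    rw [← h.der_eq, inf_eq_right.2 hK, eq_bot_iff.2 ((inf_le_inf_right K (der_le H)).trans
      (inf_comm H K ▸ h.inf_eq.le)), sup_bot_eq] at a2
    exact a2.le
  have hn := le_norm_commutator_left K H
  have h2 : ⁅K, H⁆ = K := by
    refine le_antisymm h.commutator_le ((quo_eq_bot_iff hn).1 (by_contra fun h3 => ?_))
    refine (der_lt (sol_quo hs _) h3).not_ge ?_
    rwa [← quo_der hn, quo_le_quo_iff_le_sup hn ((der_le K).trans hn)]
  exact ⟨h2, inf_centralizer_le_commutator h.le_norm hc.symm h2⟩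

theorem prime_nil_der1_factor (hn : Nil (der L)) (hp : ((der L).relIndex L).Prime) :
    IsHallIn (der L) L ∧ ∀ H, IsSdprod (der L) H L → der L = ⁅L, H⁆ := by
  obtain ⟨p, hpe⟩ : ∃ p, p = (der L).relIndex L := ⟨_, rfl⟩
  rw [← hpe] at hp
  have := Fact.mk hp
  have hN := (der_normal L).Opi ({p} : Set ℕ)ᶜ
  have h1 : der L ≤ Op' p (der L) := by
    have hc := covBy_of_relIndex_prime (der_le L) (hpe ▸ hp)
    obtain ⟨x, hx, hx'⟩ := SetLike.exists_of_lt hc.lt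
    have a1 : zpowers x ⊔ der L = L := (hc.eq_or_eq le_sup_right
      (sup_le (zpowers_le.2 hx) (der_le L))).resolve_left fun e =>
        hx' (e ▸ mem_sup_left (mem_zpowers x))
    have a2 : IsPGroup p (L ⁒ Op' p (der L) : Subgroup _) := by
      rw [isPGroup_quo_iff hN.norm, ← relIndex_mul_relIndex _ _ _ (Opi_le _ _) (der_le L), ← hpe]
      exact isPiNum_mul_iff.2 ⟨by simpa using (hall_Opi_of_nil ({p} : Set ℕ)ᶜ hn).compl,
        (isPiNum_prime hp).2 rfl⟩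
    have a3 := eq_of_le_sup_der (K := zpowers x ⁒ Op' p (der L)) (nil_of_isPGroup a2)
      (quo_mono _ (zpowers_le.2 hx)) (by
        rw [← quo_der hN.norm, ← quo_sup ((zpowers_le.2 hx).trans hN.norm) ((der_le L).trans hN.norm), a1])
    rw [← ab_quo_iff hN.norm, ← a3]
    exact ab_quo (ab_of_isCyclic inferInstance) _
  have h2 : IsHallIn (der L) L := ⟨der_le L, hpe ▸ ((Nat.Prime.coprime_iff_not_dvd hp).2
    fun h => not_dvd_Op' (der L) (h.trans (card_dvd h1))).symm⟩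
  refine ⟨h2, fun H hH => le_antisymm ?_ (commutator_mono le_rfl hH.right_le)⟩
  rw [← (coprime_der1_sdprod hH (hH.coprime_of_left h2) (sol_of_nil hn) le_rfl).1]
  exact commutator_mono (der_le L) le_rfl

theorem pprod_focal_coprime (h : K ⊔ U = L) (hK : K ⊴ L) (hH : H ≤ U) (hc : (♯K).Coprime ♯H) :
    H ⊓ der L = H ⊓ der U := by
  have hU : U ≤ L := h ▸ le_sup_right
  refine le_antisymm (le_inf inf_le_left ?_) (inf_le_inf_left _ (der_mono hU))
  have hUn := hU.trans hK.norm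
  have h1 : der L ≤ der U ⊔ K := by
    rw [← quo_le_quo_iff_le_sup ((der_le L).trans hK.norm) ((der_le U).trans hUn), quo_der hK.norm,
      quo_der hUn, ← h, quo_self_sup hUn]
  have h2 : H ⊓ der L ≤ der U ⊔ K ⊓ U := by
    rw [← sup_inf_of_le_left (Or.inl ((der_le U).trans hUn)) (der_le U)]
    exact le_inf (inf_le_right.trans h1) (inf_le_left.trans hH)
  refine le_of_coprime_relIndex h2 ((sup_le (der_le U) inf_le_right).trans (der_normal U).norm) ?_
  rw [relIndex_sup_eq' (Or.inr (inf_le_right.trans (der_normal U).norm))]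
  exact (coprime_card_mono hc.symm inf_le_left inf_le_left).coprime_dvd_right (relIndex_dvd_card _ _)

theorem pprod_trans_coprime (h : K ⊔ U = L) (hK : K ⊴ L) (hH : H ≤ U) (hc : (♯K).Coprime ♯H) (hs : Sol L)
    {g : G} (hg : g ∈ L) (hgH : g •ᶜ H ≤ U) : ∃ u ∈ U, ∃ c ∈ K ⊓ 𝐂(H), g = u * c := by
  have hU : U ≤ L := h ▸ le_sup_right
  have hUn := hU.trans hK.norm
  obtain ⟨u, hu, k, hk, rfl⟩ := (mem_sup_norm_right hUn).1 (show g ∈ U ⊔ K by rwa [sup_comm, h])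
  have h1 : k •ᶜ H ≤ U := by
    rwa [← conj_conj, conj_le_iff_le_inv_conj, conj_eq_of_mem (U.inv_mem hu)] at hgH
  have hc' := coprime_card_mono hc (inf_le_left (b := U)) le_rfl
  have h2 := IsSdprod.of_coprime (le_norm_inf (hH.trans hUn) (le_norm_of_le hH)) hc'
  obtain ⟨w, hw, h3⟩ := h2.exists_le_conj hc' (L := k •ᶜ H) (by
      rw [← sup_inf_of_le_right (Or.inr (hH.trans hUn)) hH]
      exact le_inf (conj_le_of_mem (mem_sup_left hk) le_sup_right) h1)
    (by rwa [card_conj]) (Or.inl (sol_of_le hs (inf_le_right.trans hU)))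
  rw [le_conj_iff_inv_conj_le, conj_conj] at h3
  have h4 : w⁻¹ * k ∈ K := K.mul_mem (K.inv_mem hw.1) hk
  refine ⟨u * w, U.mul_mem hu hw.2, w⁻¹ * k, mem_inf.2 ⟨h4, ?_⟩, by group⟩
  exact le_cent_of_coprime (A := K ⊓ 𝐍(H)) inf_le_right
    (le_norm_inf (hH.trans hUn) (le_norm_of_le (le_norm_self H)))
    (coprime_card_mono hc inf_le_left le_rfl) (mem_inf.2 ⟨h4, mem_norm_of_conj_le h3⟩)

theorem pprod_norm_coprime_prod (h : K ⊔ U = L) (hK : K ⊴ L) (hH : H ≤ U) (hc : (♯K).Coprime ♯H)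
    (hs : Sol L) : IsProd (K ⊓ 𝐂(H)) (U ⊓ 𝐍(H)) (L ⊓ 𝐍(H)) := by
  refine IsProd.symm (IsProd.of_forall (inf_le_inf_right _ (h ▸ le_sup_right))
    (inf_le_inf hK.le (cent_le_norm H)) fun g hg => ?_)
  obtain ⟨u, hu, c, hc, rfl⟩ := pprod_trans_coprime h hK hH hc hs hg.1
    ((conj_eq_of_mem_norm hg.2).le.trans hH)
  exact ⟨u, mem_inf.2 ⟨hu, (mul_mem_cancel_right (cent_le_norm H hc.2)).1 hg.2⟩, c, hc, rfl⟩

section Plength1
variable [Fact p.Prime]

theorem plength1_Sylow_prod (hS : Syl p S H) (hl : PLen1 p H) : Op' p H ⊔ S = Op'p p H :=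
  (sdprod_Op'p (hS.mono ((plen1_iff_syl hS).1 hl) (Op'p_le p H))).sup_eq

theorem plength1_Frattini (hS : Syl p S H) (hl : PLen1 p H) : Op' p H ⊔ H ⊓ 𝐍(S) = H := by
  have := ((hS.mono ((plen1_iff_syl hS).1 hl) (Op'p_le p H)).frattini (Op'p_normal p H)).sup_eq
  rwa [← plength1_Sylow_prod hS hl, sup_assoc, sup_eq_right.2 (le_inf hS.le (le_norm_self S))] at this

theorem plength1_Sylow_sub_der1 (hS : Syl p S H) (hl : PLen1 p H) (h : S ≤ der H) :
    S ≤ der (H ⊓ 𝐍(S)) := by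
  have := pprod_focal_coprime (plength1_Frattini hS hl) (Opi_normal _ H) (le_inf hS.le (le_norm_self S))
    (coprime_of_isPGroup hS.isPGroup (Op'_piGrp p H)).symm
  rw [inf_eq_left.2 h] at this
  exact this.le.trans inf_le_right

theorem plength1_Sylow_trans (hS : Syl p S H) (hl : PLen1 p H) (hs : Sol H) {Y : Subgroup G} (hY : Y ≤ S)
    {g : G} (hg : g ∈ H) (hgY : g •ᶜ Y ≤ S) : ∃ u ∈ H ⊓ 𝐍(S), ∃ c ∈ H ⊓ 𝐂(Y), g = u * c := by
  have h1 := le_inf hS.le (le_norm_self S)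
  obtain ⟨u, hu, c, hc, h⟩ := pprod_trans_coprime (plength1_Frattini hS hl) (Opi_normal _ H) (hY.trans h1)
    (coprime_of_isPGroup (hS.isPGroup.to_le hY) (Op'_piGrp p H)).symm hs hg (hgY.trans h1)
  exact ⟨u, hu, c, inf_le_inf_right _ (Opi_le _ H) hc, h⟩

theorem plength1_Sylow_Jsub (hS : Syl p S H) (hl : PLen1 p H) (hs : Sol H) (hQ : Q ≤ H)
    (hp : IsPGroup p Q) : ∃ x ∈ H ⊓ 𝐂(Q ⊓ S), x •ᶜ Q ≤ S := by
  obtain ⟨g, hg, h⟩ := hS.exists_conj_le hQ hp
  obtain ⟨u, hu, c, hc, rfl⟩ := plength1_Sylow_trans hS hl hs (Y := Q ⊓ S) inf_le_right hg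
    ((conj_mono g inf_le_left).trans h)
  refine ⟨c, hc, ?_⟩
  rwa [← conj_conj, conj_le_iff_le_inv_conj, conj_eq_of_mem_norm (inv_mem hu.2)] at h

theorem plength1_norm_pmaxElem (hE : IsMaxEp p E H) (hp : Odd p) (hs : Sol H) (hl : PLen1 p H)
    (hL : L ≤ H) (hn : E ≤ 𝐍(L)) (hpL : ¬ p ∣ ♯L) : L ≤ Op' p H := by
  obtain ⟨S, hS, hES⟩ := exists_syl_ge hE.le hE.isPGroup
  have hK := Opi_normal ({p} : Set ℕ)ᶜ H
  have hi : Op' p H ⊓ S = ⊥ := (Op'_piGrp p H).inf_eq_bot' hS.piGrp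
  have e := eq_Op_of_syl (plength1_pcore_quo_Sylow.1 hl) (hS.quo hK.norm)
  have hL' : PiGrp ({p} : Set ℕ)ᶜ (L ⁒ Op' p H) := ((piGrp_compl_singleton Fact.out).2 hpL).quo _
  have hS' := isPGroup_quo hS.isPGroup (Op' p H)
  have hLS : L ⁒ Op' p H ≤ 𝐍(S ⁒ Op' p H) := e ▸ (quo_mono _ hL).trans (Op_normal p _).norm
  have h1 : E ⁒ Op' p H ≤ 𝐂(L ⁒ Op' p H) := by
    rw [← commutator_eq_bot_iff, eq_bot_iff, ← (piGrp_singleton hS').inf_eq_bot hL']
    exact le_inf ((commutator_mono (quo_mono _ hES) le_rfl).trans (commutator_le_left' hLS))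
      (commutator_le_right' (quo_le_norm _ hn))
  have h2 := coprime_odd_faithful_cent_abelem (abelem_quo hE.abelem _) (quo_mono _ hES) hS' hLS
    (coprime_of_isPGroup hS' hL') (by
      obtain ⟨n, hn⟩ := IsPGroup.iff_card.1 hS'
      exact hn ▸ hp.pow) fun z hz hzp => by
      obtain ⟨x, hx, rfl⟩ := (mem_quo_of_le (hS.le.trans hK.norm)).1 hz.1
      have hxn := hK.norm (hS.le hx)
      refine h1 (coset_mem_quo _ (hE.mem_of_cent (hS.le hx) (fun b hb => ?_) ?_))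
      · have := (coset_mem_cent_iff hxn (hE.le.trans hK.norm)).1 hz.2 b hb
        exact (commutatorElement_eq_one_iff_mul_comm.1 (mem_bot.1 (hi ▸ mem_inf.2 ⟨this,
          commutator_le_of_le le_rfl hES (commutator_mem_commutator hx hb)⟩))).symm
      · rw [← coset_pow hxn, coset_eq_one_iff (pow_mem hxn p)] at hzp
        exact mem_bot.1 (hi ▸ mem_inf.2 ⟨hzp, pow_mem hx p⟩)
  rw [e] at h2
  have h3 := (le_inf (quo_mono _ hL) h2).trans
    (cent_Op_le_of_Op'_eq_bot (sol_quo hs _) (Opi_quo_Opi _ H))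
  exact (quo_eq_bot_iff (hL.trans hK.norm)).1 (((Op_piGrp p _).of_le h3).eq_bot hL')

end Plength1

end Cfsg.Agent.OO.Pf
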