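import Cfsg.Agent.Lib.OO.Pf.BG7_A
import Cfsg.Agent.Lib.OO.BG6
import Cfsg.Agent.Lib.Coprime.SylowOrbit

/-! # B&G section 7: Proposition 7.5 and Theorem 7.6 -/

set_option autoImplicit false
set_option linter.unusedSectionVars false

namespace Cfsg.Agent.OO.Pf

open Subgroup Cfsg.Agent.Coprime B7
open scoped Pointwise

universe u

variable {G : Type u} [Group G] [Finite G]

namespace B7
variable {A B H K P Q R X Y : Subgroup G} {p : ℕ}

theorem relIndex_cent1_lt (hn : P ≤ 𝐍(B)) {b : G} (hb : b ∈ B) (h1 : b ≠ 1) : 𝐂[b].relIndex P < ♯B := by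
  let _ : MulAction P G := MulAction.compHom G ((MulAut.conj (G := G)).comp P.subtype)
  have h2 : MulAction.stabilizer P b = 𝐂[b].subgroupOf P := by
    ext r
    rw [MulAction.mem_stabilizer_iff, mem_subgroupOf, mem_cent1_iff_conj]
    rfl
  have h3 : MulAction.orbit P b ⊂ (B : Set G) := by
    refine ⟨?_, fun h => ?_⟩
    · rintro _ ⟨r, rfl⟩
      exact conj_mem_of_norm (hn r.2) hb
    · obtain ⟨r, hr⟩ := h B.one_mem
      exact h1 (conj_eq_one_iff.mp hr)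
  rw [relIndex, ← h2, MulAction.index_stabilizer]
  exact Set.ncard_lt_ncard h3

theorem le_norm_of_card_le [hp : Fact p.Prime] (hP : IsPGroup p P) (hQ : Q ≤ P) (h : ♯P ≤ ♯Q * p) :
    P ≤ 𝐍(Q) := by
  obtain ⟨n, hn⟩ := PGrp.exists_relIndex_eq_pow (H := Q) hP
  rw [← card_mul_relIndex hQ, hn] at h
  have h2 : n ≤ 1 := (Nat.pow_le_pow_iff_right hp.out.one_lt).mp
    ((Nat.le_of_mul_le_mul_left h (card_pos' Q)).trans_eq (pow_one p).symm)
  interval_cases n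
  · exact le_norm_of_le (relIndex_eq_one.mp hn)
  · exact le_normalizer_of_relIndex_prime hP hQ (hn.trans (pow_one p))

/-- a `p'`-subgroup normalized by a subgroup of `O_{p',p}(X)` -/
theorem commutator_le_op' [Fact p.Prime] (hY : Y ≤ X) (hY' : PiGrp ({p} : Set ℕ)ᶜ Y) (hn : A ≤ 𝐍(Y))
    (hA : A ≤ Op'p p X) : ⁅Y, A⁆ ≤ Op' p X :=
  (hall_Op'_Op'p p X).le_of_normal_hall ((Op'p_le p X).trans (Opi_normal _ X).2)
    ((commutator_mono le_rfl hA).trans (commutator_le_right' (hY.trans (Op'p_normal p X).2)))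
    (hY'.of_le (commutator_le_left' hn))

theorem le_op'_cent_of_scn [Fact p.Prime] (hs : Sol X) (hP : Syl p P X) (hA : IsSCN P A)
    (hY : Y ≤ X ⊓ 𝐂(A)) (hY' : PiGrp ({p} : Set ℕ)ᶜ Y) : Y ≤ Op' p (X ⊓ 𝐂(A)) := by
  have h1 : Syl p A (X ⊓ 𝐂(A)) := by
    have := hP.inf_of_norm (N := X ⊓ 𝐂(A)) inf_le_left
      (le_norm_inf (le_norm_of_le hP.1) (le_norm_cent (scn_normal hA).2))
    rwa [← inf_assoc, inf_eq_left.mpr hP.1, scn_cent hA] at this
  obtain ⟨H, hH, hle⟩ := exists_hall_ge (sol_of_le hs inf_le_left) hY hY'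
  refine hle.trans (le_Opi ⟨hH.le, ?_⟩ hH.piGrp)
  rw [← h1.hall.sup_compl hH]
  exact sup_le (le_norm_of_le_cent (le_cent_symm (hH.le.trans inf_le_right))) (le_norm_self H)

theorem le_op'_of_scn [Fact p.Prime] (ho : Odd ♯X) (hs : Sol X) (hP : Syl p P X) (hA : IsSCN P A)
    (hY : Y ≤ X) (hY' : PiGrp ({p} : Set ℕ)ᶜ Y) (hn : A ≤ 𝐍(Y)) : Y ≤ Op' p X := by
  have hAp : IsPGroup p A := hP.isPGroup.to_le (scn_le hA)
  rw [← centralizer_sup_commutator hn (coprime_of_isPGroup hAp hY') (Or.inl (sol_of_isPGroup hAp))]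
  refine sup_le ?_ (commutator_le_op' hY hY' hn
    (odd_p_abelian_constrained p ho hs P A hP (scn_ab hA) (scn_normal hA)))
  exact (le_op'_cent_of_scn hs hP hA (inf_le_inf_right _ hY) (hY'.inf_left _)).trans
    (op'_cent_le hs ((scn_le hA).trans hP.1) hAp)

theorem le_op'_of_cent1 [Fact p.Prime] (hs : Sol X) {b : G} (hb : b ∈ X) (hp : IsPGroup p (zpowers b))
    (hY : Y ≤ X) (h : Y ≤ Op' p 𝐂[b]) : Y ≤ Op' p X := by
  refine le_trans ?_ (op'_cent_le hs (zpowers_le.mpr hb) hp)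
  rw [cent_zpowers]
  exact le_opi_of_le h (le_inf hY (h.trans (Opi_le _ _))) inf_le_right

end B7

variable [MinOdd G]

/-- Proposition 7.5(a) -/
theorem plength_1_normed_constrained {p : ℕ} [hp : Fact p.Prime] {A : Subgroup G} (hA : A ≠ ⊥)
    (hE : IsMaxEp p A ⊤) (hl : ∀ M : Subgroup G, M ≠ ⊤ → PLen1 p M) : NormedConstrained A := by
  refine ⟨hA, mFT_pgroup_proper hE.isPGroup, fun X Y hAX hX hY => ?_⟩
  rw [piOf_isPGroup hE.isPGroup hA] at hY ⊢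
  exact plength1_norm_pmaxElem (hE.mono hAX le_top)
    (Odd.of_dvd_nat (mFT_odd A) (dvd_card_of_isPGroup hE.isPGroup hA)) (mFT_sol hX) (hl X hX) hY.1 hY.2.2
    ((piGrp_compl_singleton hp.out).mp hY.2.1)

/-- Proposition 7.5(b) -/
theorem SCN_normed_constrained {p : ℕ} [hp : Fact p.Prime] {P A : Subgroup G} (hP : Syl p P ⊤)
    (hA : IsSCNn 2 P A) : NormedConstrained A := by
  have hAp : IsPGroup p A := hP.isPGroup.to_le hA.le
  have hA1 : A ≠ ⊥ := rank_pos_iff.mp (by have := hA.le_rank; omega)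
  obtain ⟨B, hB, hBP⟩ : ∃ B, IsEp p 2 B A ∧ B ⊴ P := by
    obtain ⟨B, h1, h2, h3⟩ := normal_pgroup hP.isPGroup (hA.normal.Ohm p) (k := 2) (by
      rw [card_Ohm_of_ab hA.ab, ← rank_eq_rp hAp]
      exact pow_dvd_pow p hA.le_rank)
    exact ⟨B, ⟨h1.trans (Ohm_le p A), abelem_of_le (Ohm_abelem p hA.ab) h1, h3⟩, h2⟩
  obtain ⟨z, hz, hz1⟩ := exists_mem_ne_one (inf_cent_ne_bot_of_nil hP.nil hBP (hB.ne_bot two_ne_zero))
  have hPz : P ≤ 𝐂[z] := le_cent1_iff.mpr hz.2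
  have hpb : ∀ b ∈ B, IsPGroup p (zpowers b) := fun b hb => hB.isPGroup.to_le (zpowers_le.mpr hb)
  have hAb : ∀ b ∈ B, A ≤ 𝐂[b] := fun b hb => hA.ab.le_cent.trans (cent_le_cent1 (hB.le hb))
  have key : ∀ b ∈ B, b ≠ 1 → ∀ Y, Y ≤ 𝐂[b] → PiGrp ({p} : Set ℕ)ᶜ Y → A ≤ 𝐍(Y) → Y ≤ Op' p 𝐂[b] := by
    intro b hb hb1 Y hY hY' hn
    have hs : Sol 𝐂[b] := mFT_sol (mFT_cent1_proper hb1)
    obtain ⟨P2, hP2, hle⟩ := exists_syl_ge (p := p) (Q := P ⊓ 𝐂[b]) inf_le_right hP.isPGroup.to_inf_left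
    have hn2 : P2 ≤ 𝐍(P ⊓ 𝐂[b]) := by
      refine le_norm_of_card_le hP2.isPGroup hle ?_
      refine (Nat.le_of_dvd (card_pos' P) (hP.card_dvd le_top hP2.isPGroup)).trans ?_
      rw [← card_inf_mul_relIndex 𝐂[b] P, inf_comm]
      refine Nat.mul_le_mul_left _ ?_
      have h1 := relIndex_cent1_lt hBP.2 hb hb1
      obtain ⟨n, hn⟩ := PGrp.exists_relIndex_eq_pow (H := 𝐂[b]) hP.isPGroup
      rw [hn, hB.card, Nat.pow_lt_pow_iff_right hp.out.one_lt] at h1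
      rw [hn]
      exact (Nat.pow_le_pow_right hp.out.pos (Nat.le_of_lt_succ h1)).trans_eq (pow_one p)
    have hzZ : zpowers z ≤ Zc (P ⊓ 𝐂[b]) :=
      zpowers_le.mpr ⟨⟨hBP.1 hz.1, hAb b hb (hB.le hz.1)⟩, cent_anti inf_le_left hz.2⟩
    have hzO : zpowers z ≤ Op'p p 𝐂[b] :=
      hzZ.trans (odd_p_abelian_constrained p (mFT_odd _) hs P2 _ hP2 (Zc_ab _) (NormalIn.Zc ⟨hle, hn2⟩))
    have hzn : zpowers z ≤ 𝐍(Y) := (zpowers_le.mpr (hB.le hz.1)).trans hn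
    rw [← centralizer_sup_commutator hzn (coprime_of_isPGroup (hpb z hz.1) hY')
      (Or.inl (sol_of_isPGroup (hpb z hz.1)))]
    refine sup_le ?_ (commutator_le_op' hY hY' hzn hzO)
    rw [cent_zpowers]
    refine le_op'_of_cent1 hs (hAb b hb (hB.le hz.1)) (hpb z hz.1) (inf_le_left.trans hY) ?_
    exact le_op'_of_scn (mFT_odd _) (mFT_sol (mFT_cent1_proper hz1)) (hP.mono hPz le_top) hA.scn
      inf_le_right (hY'.inf_left _) (le_norm_inf hn (le_norm_of_le (hAb z hz.1)))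
  refine ⟨hA1, mFT_pgroup_proper hAp, fun X Y hAX hX hY => ?_⟩
  rw [piOf_isPGroup hAp hA1] at hY ⊢
  refine le_of_forall_centralizer_le hB.ab (hB.not_isCyclic le_rfl) (hB.le.trans hY.2.2)
    (coprime_of_isPGroup hB.isPGroup hY.2.1) fun b hb hb1 => ?_
  exact le_op'_of_cent1 (mFT_sol hX) (hAX (hB.le hb)) (hpb b hb) (inf_le_left.trans hY.1)
    (key b hb hb1 _ inf_le_right (hY.2.1.inf_left _) (le_norm_inf hY.2.2 (le_norm_of_le (hAb b hb))))

/-- Theorem 7.6 (Thompson transitivity) -/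
theorem Thompson_transitivity {p q : ℕ} [Fact p.Prime] (hq : q.Prime) {A : Subgroup G} (hA : IsSCN3p p A)
    (hqp : q ≠ p) : NormTrans (Op' p 𝐂(A)) A q := by
  obtain ⟨P, hP, hA⟩ := hA
  have c := SCN_normed_constrained hP ⟨hA.1, by have := hA.2; omega⟩
  have e := piOf_isPGroup (hP.isPGroup.to_le hA.le) c.1
  have := normed_constrained_rank3_trans hq c (by rw [e]; exact hqp) (by rw [Zc_eq_self hA.ab]; exact hA.2)
  rwa [e] at this

end Cfsg.Agent.OO.Pf
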