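import Cfsg.Agent.Lib.OO.Pf.BG12_A
import Cfsg.Agent.Lib.OO.BG7
import Cfsg.Agent.Lib.Coprime.Gaschuetz

/-! # B&G section 12, part B (12.5 – 12.8) -/

set_option autoImplicit false
set_option linter.unusedSectionVars false
set_option linter.unusedVariables false

namespace Cfsg.Agent.OO.Pf

open Subgroup Cfsg.Agent.Coprime B12
open scoped Pointwise commutatorElement

universe u

variable {G : Type u} [Group G] [Finite G] [MinOdd G]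

theorem B12.exists_exc {M A : Subgroup G} {p : ℕ} [Fact p.Prime] (hM : IsCoatom M) (hp : p ∈ tau2S M)
    (hA : IsEp p 2 A M) : ∃ A0, ExceptionalMax p M A0 A := by
  by_contra! h
  exact hp.2.1 ((p2Elem_mmax hM hA).2 fun A0 h0 hu => h A0 ⟨hp.2.1, hA, h0, hu.le⟩).1

theorem tau2_Msigma_nil {M : Subgroup G} {p : ℕ} (hM : IsCoatom M) (hp : p ∈ tau2S M) : Nil (Ms M) := by
  have := Fact.mk hp.1
  obtain ⟨A, hA⟩ := exists_isEp hp.2.2.ge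
  obtain ⟨A0, h⟩ := exists_exc hM hp hA
  exact exceptional_sigma_nil hM h

theorem B12.Ms_p' {M : Subgroup G} {p : ℕ} (h : p ∉ sigmaS M) : PiGrp ({p} : Set ℕ)ᶜ (Ms M) :=
  (Ms_piGrp M).mono fun q hq e => h (e ▸ hq)

theorem tau2_context {M A : Subgroup G} {p : ℕ} (hM : IsCoatom M) (hp : p ∈ tau2S M) (hA : IsEp p 2 A M) :
    (∀ P, Syl p P M → Ab P ∧ (A ≤ P → Ohm p P = A ∧ ¬ 𝐍(P) ≤ M)) ∧
    Ms M ⊔ A ⊴ M ∧ Ms M ⊓ 𝐂(A) = ⊥ ∧
    (∀ Mstar, IsCoatom Mstar → A ≤ Mstar → Mstar ≠ M → Ms M ⊓ Mstar = ⊥) ∧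
    ∃ A1, IsEp p 1 A1 A ∧ Ms M ⊓ 𝐂(A1) = ⊥ := by
  have := Fact.mk hp.1
  obtain ⟨A0, h⟩ := exists_exc hM hp hA
  obtain ⟨P, hP, hAP⟩ := exists_syl_ge hA.le hA.isPGroup
  obtain ⟨-, hC, A1, -, h1, -, -, h2, -⟩ := exceptional_structure hM h hP hAP
  refine ⟨fun P hP => ⟨exceptional_Sylow_abelian hM h hP, fun hAP =>
    ⟨(exceptional_structure hM h hP hAP).1.symm, sigma'_Sylow_contra hP hp.2.1⟩⟩,
    exceptional_mul_sigma_normal hM h, hC, fun L hL hAL hne => ?_, A1, h1, h2⟩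
  rw [eq_bot_iff, ← hC]
  refine le_inf inf_le_left (le_cent_symm ?_)
  by_cases h0 : ∃ X, IsEp p 1 X A ∧ 𝐍(X) ≤ L
  · obtain ⟨X, a, b⟩ := h0
    exact (nonuniq_p2Elem_cent_sigma hM hL hne (hA.of_le (le_inf hA.le hAL)) a b).1 hp.2.1
  · obtain ⟨a, -, b⟩ := (p2Elem_mmax hL (hA.of_le hAL)).2 fun X hX hu => h0 ⟨X, hX, hu.le⟩
    rw [← commutator_eq_bot_iff, eq_bot_iff]
    exact (commutator_le_of_section (V := ⊥) ((Ms_normal L).Op p) (NormalIn.bot _).norm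
      ((Op_piGrp p _).relIndex _) (le_Op_of_nil b (le_Ms hL hAL (piGrp_of_isPGroup hA.isPGroup a))
      hA.isPGroup) inf_le_right ((Ms_p' hp.2.1).inf_left _)
      (le_norm_inf (hA.le.trans (Ms_normal M).norm) (le_norm_of_le hAL))).trans inf_le_right

theorem tau2_compl_context {M E A : Subgroup G} {p : ℕ} (hM : IsCoatom M) (hE : Hall (sigmaS M)ᶜ E M)
    (hp : p ∈ tau2S M) (hA : IsEp p 2 A E) :
    (A ⊴ E ∧ ∀ X, IsEp p 1 X E ↔ IsEp p 1 X A) ∧ (𝐂(A) ≤ E ∧ M ⊓ 𝐍(A) = E ∧ ¬ 𝐍(A) ≤ M) ∧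
    ∀ X, IsEp p 1 X E → Ms M ⊓ 𝐂(X) ≠ ⊥ → UniqMax 𝐂(X) M := by
  have := Fact.mk hp.1
  have hAM := hA.mono hE.le
  obtain ⟨hS, hn, hC, hI, -⟩ := tau2_context hM hp hAM
  have hsd := sdprod_sigma hM hE
  have hN : A ⊴ E := by
    have := hn.inf_right hE.le
    rwa [sup_inf_of_le_right (Or.inr (hAM.le.trans (Ms_normal M).norm)) hA.le, hsd.inf_eq, bot_sup_eq] at this
  have hX : ∀ X, IsEp p 1 X E → IsEp p 1 X A := fun X hX => by
    obtain ⟨P, hP, hle⟩ := exists_syl_ge ((sup_le hA.le hX.le).trans hE.le)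
      (isPGroup_sup hA.isPGroup hX.isPGroup (Or.inr (hX.le.trans hN.norm)))
    exact hX.of_le (((hS P hP).2 (le_sup_left.trans hle)).1 ▸ (hX.of_le (le_sup_right.trans hle)).le_Ohm)
  have hNE : M ⊓ 𝐍(A) = E := by
    have h1 := (hsd.inf_of_right_le hN.norm).sup_eq
    have h2 : Ms M ⊓ 𝐍(A) = ⊥ := eq_bot_iff.2 (hC ▸ le_inf inf_le_left (le_cent_of_coprime inf_le_right
      (le_norm_inf (hAM.le.trans (Ms_normal M).norm) (le_norm_of_le (le_norm_self A)))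
      (coprime_of_isPGroup hA.isPGroup ((Ms_p' hp.2.1).inf_left _)).symm))
    rw [← h1, h2, bot_sup_eq]
  refine ⟨⟨hN, fun X => ⟨hX X, fun h => h.mono hA.le⟩⟩,
    ⟨hNE ▸ le_inf (p2Elem_mmax hM hAM).1 (cent_le_norm A), hNE, fun h => ?_⟩, fun X h1 h2 => ?_⟩
  · obtain ⟨P, hP, hAP⟩ := exists_syl_ge hAM.le hA.isPGroup
    obtain ⟨a, b⟩ := (hS P hP).2 hAP
    exact b ((norm_le_norm_Ohm p P).trans (a ▸ h))
  · refine uniqMax_of_forall (mFT_cent_proper (h1.ne_bot one_ne_zero)) fun L hL hle => by_contra fun hne => ?_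
    exact h2 (eq_bot_iff.2 (hI L hL (((hA.le_cent).trans (cent_anti (hX X h1).le)).trans hle) hne ▸
      inf_le_inf_left _ hle))

theorem B12.regular_of_cent {M A X : Subgroup G} {p q : ℕ} (hM : IsCoatom M) (hp : p ∈ tau2S M)
    (hA : IsEp p 2 A M) (hq : q ∈ tau1S M ∨ q ∈ tau3S M) (hX : IsPGroup q X) (h1 : X ≠ ⊥)
    (hc : X ≤ 𝐂(A)) : Ms M ⊓ 𝐂(X) = ⊥ := by
  have := Fact.mk (hq.elim tau1_prime tau3_prime)
  obtain ⟨L, hL, hle⟩ := mmax_exists (norm_ne_top hX h1)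
  have hle' := (cent_le_norm X).trans hle
  have hne : L ≠ M := by
    rintro rfl
    rcases prime_class_mmax_norm hL hX hle with h | h
    exacts [hq.elim (fun a => a.2.1 h) (fun a => a.2.1 h),
      hq.elim (fun a => tau1_not_tau2 a h) (fun a => tau3_not_tau2 a h)]
  exact eq_bot_iff.2 ((tau2_context hM hp hA).2.2.2.1 L hL ((le_cent_symm hc).trans hle') hne ▸
    inf_le_inf_left _ hle')

theorem B12.tau3_cent {M E E3 A : Subgroup G} {p : ℕ} (hM : IsCoatom M) (hE : Hall (sigmaS M)ᶜ E M)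
    (h3 : Hall (tau3S M) E3 E) (hp : p ∈ tau2S M) (hA : IsEp p 2 A E) : E3 ≤ 𝐂(A) :=
  have := Fact.mk hp.1
  le_cent_of_coprime (h3.le.trans (tau2_compl_context hM hE hp hA).1.1.norm)
    (hA.le.trans (tau3_normal hM hE h3).norm)
    (h3.piGrp.coprime_of_disjoint (piGrp_of_isPGroup hA.isPGroup hp) fun q => tau3_not_tau2)

theorem B12.isPGroup_of_prime {X : Subgroup G} (h : (♯X).Prime) : IsPGroup ♯X X :=
  isPGroup_of_card_prime_pow (pow_one _).symm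

theorem B12.ne_bot_of_prime {X : Subgroup G} (h : (♯X).Prime) : X ≠ ⊥ := ne_bot_of_prime_dvd h dvd_rfl

theorem tau2_regular {M E E1 E2 E3 A : Subgroup G} {p : ℕ} (hM : IsCoatom M)
    (hE : SigmaCompl M E E1 E2 E3) (hp : p ∈ tau2S M) (hA : IsEp p 2 A E) :
    Semiregular (Ms M) E3 ∧ Semiregular (Ms M) (E1 ⊓ 𝐂(A)) ∧
    ∀ Mstar, IsCoatom Mstar → NotConj Mstar M →
      Ms M ⊓ Ms Mstar = ⊥ ∧ Disjoint (sigmaS M) (sigmaS Mstar) :=
  ⟨semiregular_of_prime_subgroup fun X hX h => regular_of_cent hM hp (hA.mono hE.hallE.le)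
      (Or.inr (hE.hall3.piGrp _ h (card_dvd hX))) (isPGroup_of_prime h) (ne_bot_of_prime h)
      (hX.trans (tau3_cent hM hE.hallE hE.hall3 hp hA)),
    semiregular_of_prime_subgroup fun X hX h => regular_of_cent hM hp (hA.mono hE.hallE.le)
      (Or.inl (hE.hall1.piGrp _ h (card_dvd (hX.trans inf_le_left)))) (isPGroup_of_prime h)
      (ne_bot_of_prime h) (hX.trans inf_le_right),
    fun L hL hn => (sigma_disjoint hM hL hn).2.2 (tau2_Msigma_nil hM hp)⟩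

theorem B12.not_ab_syl {P S : Subgroup G} {p : ℕ} [Fact p.Prime] (hP : IsPGroup p P) (hab : ¬ Ab P)
    (hS : Syl p S ⊤) : ¬ Ab S := fun h => by
  obtain ⟨g, -, hg⟩ := hS.exists_conj_le le_top hP
  exact hab (ab_conj.1 (ab_of_le h hg))

/-- two elementary subgroups of type `τ₂` for different primes commute -/
theorem B12.tau2_cent_tau2 {M E A B : Subgroup G} {p q : ℕ} (hM : IsCoatom M) (hE : Hall (sigmaS M)ᶜ E M)
    (hp : p ∈ tau2S M) (hA : IsEp p 2 A E) (hq : q ∈ tau2S M) (hB : IsEp q 2 B E) (hne : p ≠ q) :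
    A ≤ 𝐂(B) :=
  have := Fact.mk hp.1
  have := Fact.mk hq.1
  le_cent_of_coprime (hA.le.trans (tau2_compl_context hM hE hq hB).1.1.norm)
    (hB.le.trans (tau2_compl_context hM hE hp hA).1.1.norm)
    (coprime_of_isPGroup_ne hA.isPGroup hB.isPGroup hne)

theorem B12.le_cent_of_coprime_elts {P H K : Subgroup G} {q : ℕ} (hq : q.Prime) (hP : P ≤ H)
    (hP' : PiGrp ({q} : Set ℕ)ᶜ P) (h : ∀ x ∈ H, (orderOf x).Coprime q → x ∈ K) : P ≤ K := fun x hx =>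
  h x (hP hx) ((Nat.Prime.coprime_iff_not_dvd hq).2 ((isPiNum_compl_singleton hq).1 (hP'.piElt hx))).symm

theorem B12.nonabelian_tau2_eq {M E A P0 : Subgroup G} {p : ℕ} (hM : IsCoatom M) (hE : Hall (sigmaS M)ᶜ E M)
    (hp : p ∈ tau2S M) (hA : IsEp p 2 A E) (hP : IsPGroup p P0) (hab : ¬ Ab P0) : tau2S M = {p} := by
  have := Fact.mk hp.1
  refine Set.eq_singleton_iff_unique_mem.2 ⟨hp, fun q hq => by_contra fun hne => ?_⟩
  have := Fact.mk hq.1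
  obtain ⟨B, hB, hBM⟩ := ex_tau2Elem hM hE hq
  have hAB := tau2_cent_tau2 hM hE hp hA hq hB (Ne.symm hne)
  obtain ⟨Q, hQ, hBQ⟩ := B7.exists_maxNormed hB.piGrp (le_norm_of_le_cent hAB)
  obtain ⟨P, hP', -, -, hPQ, -⟩ := max_normed_2Elem_signaliser (Ne.symm hne) hA.top
    ((tau2_not_beta hM hp).2 A (hA.mono hE.le)) hQ ((hB.of_le (le_cent_symm hAB)).dvd_card two_ne_zero)
  have hQq := hQ.1.2.1.isPGroup
  have hN := norm_ne_top hQq fun e => hB.ne_bot two_ne_zero (eq_bot_iff.2 (e ▸ hBQ))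
  have h1 := (Aut_narrow hQq (mFT_odd _) (fun _ => ⟨B, hB.of_le hBQ,
    ((tau2_not_beta hM hq).2 B hBM).mono hBQ le_top⟩) le_rfl (mFT_sol hN) (mFT_odd _)).1
  have h2 : P ≤ M := (le_cent_of_coprime_elts hq.1 hPQ (piGrp_compl_of_isPGroup hP'.isPGroup (Ne.symm hne))
    h1).trans ((cent_anti hBQ).trans (p2Elem_mmax hM hBM).1)
  exact not_ab_syl hP hab hP' ((tau2_context hM hp (hA.mono hE.le)).1 P (hP'.mono h2 le_top)).1

theorem nonabelian_tau2 {M E A P0 : Subgroup G} {p : ℕ} (hM : IsCoatom M) (hE : Hall (sigmaS M)ᶜ E M)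
    (hp : p ∈ tau2S M) (hA : IsEp p 2 A E) (hP : IsPGroup p P0) (hab : ¬ Ab P0) :
    tau2S M = {p} ∧ (♯(A ⊓ 𝐂(Ms M)) = p ∧ IsDprod (Ms M) (A ⊓ 𝐂(Ms M)) (Fit M)) ∧
    (∀ X, IsEp p 1 X E → X ≠ A ⊓ 𝐂(Ms M) → Ms M ⊓ 𝐂(X) = ⊥ ∧ ¬ 𝐂(X) ≤ M) ∧
    ∃ E0, IsSdprod (A ⊓ 𝐂(Ms M)) E0 E ∧ ∀ x ∈ Ms M, x ≠ 1 → piOf (E0 ⊓ 𝐂[x]) ⊆ tau1S M := by
  have := Fact.mk hp.1
  have ht := nonabelian_tau2_eq hM hE hp hA hP hab
  have hAM := hA.mono hE.le
  obtain ⟨hSyl, -, hC, -, -⟩ := tau2_context hM hp hAM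
  obtain ⟨⟨hAE, hX⟩, ⟨hCE, -, -⟩, hU⟩ := tau2_compl_context hM hE hp hA
  obtain ⟨P, hPE, hAP⟩ := exists_syl_ge hA.le hA.isPGroup
  have hPM := hPE.trans_hall hE hp.2.1
  have hPab := (hSyl P hPM).1
  obtain ⟨S, hS, hPS⟩ := exists_syl_ge le_top hPE.isPGroup
  have hSab := not_ab_syl hP hab hS
  have hSM : S ⊓ M = P := hPM.eq_of_le (le_inf hPS hPM.le) inf_le_right hS.isPGroup.to_inf_left
  obtain ⟨hZ0, ⟨Z, hZ, -, hZd⟩, htr⟩ := basic_p2maxElem_structure hA.top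
    ((tau2_not_beta hM hp).2 A hAM) hS.isPGroup (hAP.trans hPS) hSab
  have hCS : S ⊓ 𝐂(A) = P := le_antisymm (hSM ▸ inf_le_inf_left _ (hCE.trans hE.le))
    (le_inf hPS (hPab.le_cent.trans (cent_anti hAP)))
  have hZ0M : ¬ 𝐂(Ohm p (Zc S)) ≤ M := fun h => hSab (ab_of_le hPab (hSM ▸ le_inf le_rfl ((le_cent_symm
    ((Ohm_le p _).trans (Zc_le_cent S))).trans h)))
  have hn := hAM.le.trans (Ms_normal M).norm
  obtain ⟨A0, hA0, hC0⟩ : ∃ A0, IsEp p 1 A0 A ∧ Ms M ⊓ 𝐂(A0) ≠ ⊥ := by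
    by_contra! h
    exact Msigma_neq1 hM (eq_bot_iff.2 (gen_cent hA.top hn (Ms_p' hp.2.1) fun X hX => (h X hX).le))
  have hU0 := hU A0 (hA0.mono hA.le) hC0
  have hne0 : A0 ≠ Ohm p (Zc S) := fun e => hZ0M (e ▸ hU0.le)
  have hc : ∀ X, IsEp p 1 X A → X ≠ A0 → Ms M ⊓ 𝐂(X) = ⊥ ∧ ¬ 𝐂(X) ≤ M := fun X h1 h2 => by
    have h3 : ¬ 𝐂(X) ≤ M := fun h => by
      obtain ⟨g, hg, rfl⟩ := htr A0 X hA0 hne0 h1 fun e => hZ0M (e ▸ h)
      have h4 := (hU0.conj g).eq hM (cent_conj g A0 ▸ h)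
      have h5 : g ∈ P := hSM ▸ ⟨hg.1, (conj_mmax_eq_iff hM).1 h4.symm⟩
      exact h2 (conj_eq_of_mem_norm (le_norm_of_ab hPab (hA0.le.trans hAP) h5))
    exact ⟨by_contra fun h => h3 (hU X (h1.mono hA.le) h).le, h3⟩
  have hM0 : Ms M ≤ 𝐂(A0) := gen_cent hA.top hn (Ms_p' hp.2.1) fun X h1 => by
    by_cases h2 : X = A0
    · exact h2 ▸ inf_le_right
    · exact (hc X h1 h2).1 ▸ bot_le
  have e0 : A ⊓ 𝐂(Ms M) = A0 := by
    have h1 := le_inf hA0.le (le_cent_symm hM0)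
    refine (hA0.eq_of_le (hA.one_of_lt_two (lt_of_le_of_ne inf_le_left fun e => Msigma_neq1 hM ?_)
      fun e => hA0.ne_bot one_ne_zero (eq_bot_iff.2 (e ▸ h1))) h1).symm
    exact (inf_eq_left.2 (le_cent_symm (inf_eq_left.1 e))).symm.trans hC
  have n0 : A0 ⊴ E := ⟨hA0.le.trans hA.le, e0 ▸
    le_norm_inf hAE.norm (le_norm_cent (hE.le.trans (Ms_normal M).norm))⟩
  have n0M : A0 ⊴ M := ⟨n0.le.trans hE.le, (sdprod_sigma hM hE).sup_eq ▸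
    sup_le (le_norm_of_le_cent hM0) n0.norm⟩
  have hd := hZd A0 hA0 hne0
  rw [hCS] at hd
  rw [e0]
  refine ⟨ht, ⟨hA0.card_one, ?_⟩, fun X h1 => hc X ((hX X).1 h1), ?_⟩
  · have h1 := dprod_Opi_of_nil (sigmaS M) (Fit_nil M)
    have hF := Fit_normal M
    have e1 : Opi (sigmaS M) (Fit M) = Ms M := le_antisymm (Opi_le_of_normal _ hF) (le_Opi_of_nil (Fit_nil M)
      (le_Fit (Ms_normal M) (tau2_Msigma_nil hM hp)) (Ms_piGrp M))
    rw [e1] at h1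
    set Y := Opi (sigmaS M)ᶜ (Fit M)
    have nY : Y ⊴ M := hF.Opi _
    have hYn : Nil Y := nil_of_le (Fit_nil M) (Opi_le _ _)
    have hYc : IsCyclic Y := (isCyclic_iff_rank_of_nil_of_odd hYn (mFT_odd _)).2
      (inf_eq_left.2 h1.le_cent ▸ sub'cent_sigma_rank1 hM nY.le (Opi_piGrp _ _))
    have hYp : IsPGroup p Y := PiGrp.isPGroup fun q hq hd => by
      have := Fact.mk hq
      exact ht ▸ (prime_class_mmax_norm hM (Op_isPGroup q Y) (mmax_normal hM (nY.Op q)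
        ((syl_Op_of_nil q hYn).ne_bot hd)).le).resolve_left (Opi_piGrp _ _ q hq hd)
    have h0Y : A0 ≤ Y := le_Opi_of_nil (Fit_nil M) (le_Fit n0M (nil_of_ab hA0.ab))
      (piGrp_of_isPGroup hA0.isPGroup hp.2.1)
    have h2 := hd.inf_of_left_le h0Y
    rw [inf_eq_right.2 (hPM.le_of_normal nY hYp)] at h2
    have h3 : Z ⊓ Y = ⊥ := by_contra fun h => hp.1.one_lt.ne' (Nat.Coprime.eq_one_of_dvd
      (hA0.card_one ▸ h2.coprime_of_isCyclic hYc) (dvd_card_of_isPGroup hYp.to_inf_right h))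
    rwa [← h2.sup_eq, h3, sup_bot_eq] at h1
  · obtain ⟨E0, h1, h2⟩ := gaschuetz_in hA0.ab n0.norm hPE.le (inf_comm A0 Z ▸ hd.inf_eq)
      (sup_comm A0 Z ▸ hd.sup_eq) (hA0.card_one ▸ (Nat.Prime.coprime_iff_not_dvd hp.1).2 hPE.not_dvd)
    have hE0 : E0 ≤ E := h2 ▸ le_sup_left
    refine ⟨E0, ⟨sup_comm E0 A0 ▸ h2, hE0.trans n0.norm, inf_comm E0 A0 ▸ h1⟩, fun x hx hx1 q hq => ?_⟩
    have := Fact.mk hq.1
    obtain ⟨X, hX'⟩ := exists_isEp_one hq.2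
    have hXE := hX'.mono (inf_le_left.trans hE0)
    have h3 : Ms M ⊓ 𝐂(X) ≠ ⊥ := fun e => hx1 (mem_bot.1 (e ▸
      ⟨hx, le_cent1_iff.1 (hX'.le.trans inf_le_right)⟩))
    rcases mem_tau_of_dvd hM hE hq.1 (hXE.dvd_card one_ne_zero) with h | h | h
    · exact h
    · obtain rfl : q = p := by simpa [ht] using h
      refine absurd (hc X ((hX X).1 hXE) ?_).1 h3
      rintro rfl
      exact hX'.ne_bot one_ne_zero (eq_bot_iff.2 (h1 ▸ le_inf (hX'.le.trans inf_le_left) le_rfl))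
    · obtain ⟨E3, h4⟩ := exists_hall (tau3S M) (compl_sol hM hE)
      exact absurd (regular_of_cent hM hp hAM (Or.inr h) hX'.isPGroup (hX'.ne_bot one_ne_zero)
        ((h4.le_of_normal_hall (tau3_normal hM hE h4).norm hXE.le (piGrp_of_isPGroup hX'.isPGroup h)).trans
        (tau3_cent hM hE h4 hp hA))) h3

end Cfsg.Agent.OO.Pf
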