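import Cfsg.Agent.Lib.OO.Pf.BG12_B

/-! # B&G section 12, part C (12.8 – 12.11) -/

set_option autoImplicit false
set_option linter.unusedSectionVars false
set_option linter.unusedVariables false

namespace Cfsg.Agent.OO.Pf

open Subgroup Cfsg.Agent.Coprime B12
open scoped Pointwise commutatorElement

universe u

variable {G : Type u} [Group G] [Finite G]

namespace B12
variable {A B E H K L M N P Q R S V X Y : Subgroup G} {p q : ℕ} {π : Set ℕ}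

theorem cent_of_nil (hN : Nil N) (hA : A ≤ N) (hπ : PiGrp π A) (h : Opi π N ≤ 𝐂(A)) : N ≤ 𝐂(A) := by
  have h1 := dprod_Opi_of_nil π hN
  rw [← h1.sup_eq]
  exact sup_le h (h1.le_cent.trans (cent_anti (le_Opi_of_nil hN hA hπ)))

theorem cent_of_nil_hall (hN : Nil N) (hA : Hall π A N) (h : Ab A) : N ≤ 𝐂(A) :=
  cent_of_nil hN hA.le hA.piGrp (hall_eq_Opi_of_nil hN hA ▸ h.le_cent)

theorem norm_of_der_le_cent (h : der 𝐍(S) ≤ 𝐂(S)) (hX : X ≤ 𝐍(S)) :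
    S ⊓ 𝐂(X) ⊴ 𝐍(S) ∧ ⁅S, X⁆ ⊴ 𝐍(S) := by
  have h1 : 𝐍(S) ≤ 𝐍(X ⊔ 𝐂(S)) := le_norm_of_der_le (h.trans le_sup_right) (sup_le hX (cent_le_norm S))
  have e : ⁅𝐂(S), S⁆ = ⊥ := commutator_eq_bot_iff.2 le_rfl
  constructor
  · refine ⟨inf_le_left.trans (le_norm_self S), ?_⟩
    have : S ⊓ 𝐂(X) = S ⊓ 𝐂(X ⊔ 𝐂(S)) := by
      rw [cent_sup, inf_comm 𝐂(X), ← inf_assoc, inf_eq_left.2 (le_cent_symm le_rfl)]
    rw [this]
    exact le_norm_inf le_rfl (le_norm_cent h1)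
  · refine ⟨(commutator_le_left' hX).trans (le_norm_self S), ?_⟩
    have : ⁅S, X⁆ = ⁅X ⊔ 𝐂(S), S⁆ := by
      rw [commutator_sup_left (Or.inl (le_norm_cent hX)) (e ▸ (NormalIn.bot X).norm), e, sup_bot_eq,
        commutator_comm]
    rw [this]
    exact le_norm_commutator h1 le_rfl

theorem eq_of_lt_two [Fact p.Prime] (hA : IsEp p 2 A H) (hX : IsEp p 1 X K) (h1 : X ≤ Y) (h2 : Y < A) :
    Y = X :=
  (hX.eq_of_le (hA.one_of_lt_two h2 fun e => hX.ne_bot one_ne_zero (eq_bot_iff.2 (e ▸ h1))) h1).symm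

theorem not_le_of_dvd [Fact q.Prime] (hQ : Syl q Q E) (h : q ∣ (E ⊓ K).relIndex E) : ¬ Q ≤ K := fun h1 =>
  hQ.not_dvd (h.trans (relIndex_dvd_of_le_left _ (le_inf hQ.le h1)))

end B12

variable [MinOdd G]

theorem B12.syl_mmax_of_ab {M E A S : Subgroup G} {p : ℕ} (hM : IsCoatom M)
    (hE : Hall (sigmaS M)ᶜ E M) (hp : p ∈ tau2S M) (hA : IsEp p 2 A E) (hS : Syl p S ⊤) (hAS : A ≤ S)
    (hab : Ab S) : S ≤ E ∧ Ohm p S = A ∧ ¬ 𝐍(S) ≤ M := by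
  have := Fact.mk hp.1
  have h1 : S ≤ E := (hab.le_cent.trans (cent_anti hAS)).trans (tau2_compl_context hM hE hp hA).2.1.1
  exact ⟨h1, ((tau2_context hM hp (hA.mono hE.le)).1 S (hS.mono (h1.trans hE.le) le_top)).2 hAS⟩

theorem abelian_tau2_sub_Fitting {M E A S : Subgroup G} {p : ℕ} (hM : IsCoatom M)
    (hE : Hall (sigmaS M)ᶜ E M) (hp : p ∈ tau2S M) (hA : IsEp p 2 A E) (hS : Syl p S ⊤) (hAS : A ≤ S)
    (hab : Ab S) : S ≤ der 𝐍(S) ∧ der 𝐍(S) ≤ Fit E ∧ Fit E ≤ 𝐂(S) ∧ 𝐂(S) ≤ E := by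
  have := Fact.mk hp.1
  obtain ⟨⟨hAE, -⟩, ⟨hCE, -, -⟩, -⟩ := tau2_compl_context hM hE hp hA
  obtain ⟨hSE, hO, -⟩ := syl_mmax_of_ab hM hE hp hA hS hAS hab
  have hc := hab.le_cent.trans (cent_anti hAS)
  have h1 : Fit 𝐍(A) ≤ E := (cent_of_nil (Fit_nil _) (le_Fit (normalIn_norm A) (nil_of_ab hA.ab)) hA.piGrp
    (((hS.mono (hc.trans (cent_le_norm A)) le_top).le_of_normal ((Fit_normal _).Opi _)
      (Opi_piGrp _ _).isPGroup).trans hc)).trans hCE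
  have h2 : der 𝐍(S) ≤ Fit E := (der_mono ((norm_le_norm_Ohm p S).trans (hO ▸ le_rfl))).trans
    ((rank2_der1_sub_Fitting (mFT_odd _) (mFT_sol (norm_ne_top hA.isPGroup (hA.ne_bot two_ne_zero)))
      (rank_compl hM (h1.trans hE.le) (hE.piGrp.of_le h1))).trans (Fit_le_Fit hAE.norm h1))
  have h3 := mFT_Sylow_der1 hS
  exact ⟨h3, h2, cent_of_nil_hall (Fit_nil E) (hS.mono (h3.trans h2) le_top).hall hab,
    (cent_anti hAS).trans hCE⟩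

/-- if one Sylow subgroup for a prime in `τ₂(M)` is abelian, all are -/
theorem B12.ab_of_tau2 {M E A S Q : Subgroup G} {p q : ℕ} (hM : IsCoatom M)
    (hE : Hall (sigmaS M)ᶜ E M) (hp : p ∈ tau2S M) (hS : Syl p S ⊤) (hab : Ab S) (hq : q ∈ tau2S M)
    (hQ : IsPGroup q Q) : Ab Q := by_contra fun h => by
  have := Fact.mk hp.1
  obtain ⟨B, hB, -⟩ := ex_tau2Elem hM hE hq
  obtain rfl : p = q := by simpa [nonabelian_tau2_eq hM hE hq hB hQ h] using hp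
  exact not_ab_syl hQ h hS hab

theorem abelian_tau2 {M E E1 E2 E3 A S : Subgroup G} {p : ℕ} (hM : IsCoatom M)
    (hE : SigmaCompl M E E1 E2 E3) (hp : p ∈ tau2S M) (hA : IsEp p 2 A E) (hS : Syl p S ⊤) (hAS : A ≤ S)
    (hab : Ab S) :
    (E2 ⊴ E ∧ Ab E2) ∧ Hall (tau2S M) E2 ⊤ ∧
    (𝐍(A) = 𝐍(S) ∧ 𝐍(S) = 𝐍(E2) ∧ 𝐍(E2) = 𝐍(E3 ⊔ E2) ∧ 𝐍(E3 ⊔ E2) = 𝐍(Fit E)) ∧
    (∀ X, X ≤ E1 → (♯X).Prime → Ms M ⊓ 𝐂(X) = ⊥ → X ≤ Zc E) ∧
    ∀ X, X ≤ 𝐍(S) → S ⊓ 𝐂(X) ⊴ 𝐍(S) ∧ ⁅S, X⁆ ⊴ 𝐍(S) := by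
  have := Fact.mk hp.1
  obtain ⟨⟨-, n3⟩, -, ⟨c1, c3⟩, ⟨-, -, s32, sE⟩, -⟩ := sigma_compl_context hM hE
  obtain ⟨hE, h1, h2, h3, -⟩ := hE
  obtain ⟨a1, a2, a3, a4⟩ := abelian_tau2_sub_Fitting hM hE hp hA hS hAS hab
  obtain ⟨hSE, hO, hNS⟩ := syl_mmax_of_ab hM hE hp hA hS hAS hab
  have hF := Fit_nil E
  have hK : Hall (tau2S M) (Opi (tau2S M) (Fit E)) ⊤ := IsPiHallOf.of_pi le_top (Opi_piGrp _ _)
    fun q hq hd h => by
      have := Fact.mk hq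
      obtain ⟨B, hB, -⟩ := ex_tau2Elem hM hE h
      obtain ⟨Q, hQ, hBQ⟩ := exists_syl_ge le_top hB.isPGroup
      obtain ⟨b1, b2, -⟩ := abelian_tau2_sub_Fitting hM hE h hB hQ hBQ
        (ab_of_tau2 (A := A) hM hE hp hS hab h hQ.isPGroup)
      exact hQ.not_dvd (hd.trans (relIndex_dvd_of_le_left _
        (le_Opi_of_nil hF (b1.trans b2) (piGrp_of_isPGroup hQ.isPGroup h))))
  have nK : Opi (tau2S M) (Fit E) ⊴ E := (Fit_normal E).Opi _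
  have l2 := Opi_le (tau2S M) (Fit E)
  have eK := (hK.mono nK.le le_top).eq_of_normal nK.norm h2
  rw [← eK] at hK nK l2
  have ab2 : Ab E2 := ab_of_nil (nil_of_le hF l2) fun q _ hd =>
    ab_of_tau2 (A := A) hM hE hp hS hab (h2.piGrp q Fact.out hd) (Op_isPGroup q _)
  have l3 : E3 ≤ Fit E := le_Fit n3 (nil_of_ab (ab_of_isCyclic c3))
  have h2' := h2.mono l2 (Fit_le E)
  have h3' := h3.mono l3 (Fit_le E)
  have hSF := hS.mono (a1.trans a2) le_top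
  have nS : E ≤ 𝐍(S) := (Fit_normal E).norm.trans (hSF.hall.norm_le_norm_of_nil hF)
  have b1 : 𝐍(S) ≤ 𝐍(Fit E) := by
    have := Fit_inf_normal (H := E) (K := 𝐂(S)) ⟨a4, le_norm_cent nS⟩
    rw [inf_eq_left.2 a3] at this
    rw [this]
    exact le_norm_Fit (norm_le_norm_cent S)
  have b2 : 𝐍(Fit E) ≤ 𝐍(E3 ⊔ E2) := le_norm_sup (h3'.norm_le_norm_of_nil hF) (h2'.norm_le_norm_of_nil hF)
  have b3 : 𝐍(E3 ⊔ E2) ≤ 𝐍(E2) := (h2'.mono le_sup_right (sup_le l3 l2)).norm_le_norm_of_nil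
    (nil_of_le hF (sup_le l3 l2))
  have hS2 : S ≤ E2 := h2.le_of_normal_hall nK.norm hSE (piGrp_of_isPGroup hS.isPGroup hp)
  have b4 : 𝐍(E2) ≤ 𝐍(S) := (hS.mono hS2 le_top).hall.norm_le_norm_of_nil (nil_of_ab ab2)
  have hc := hab.le_cent.trans (cent_anti hAS)
  have b5 : 𝐍(A) = 𝐍(S) := le_antisymm ((norm_le_norm_cent A).trans ((hS.mono hc le_top).norm_le_norm_of_normal
    ((tau2_compl_context hM hE hp hA).2.1.1.trans nS))) ((norm_le_norm_Ohm p S).trans (hO ▸ le_rfl))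
  have b6 : 𝐍(S) = 𝐍(E3 ⊔ E2) := le_antisymm (b1.trans b2) (b3.trans b4)
  refine ⟨⟨nK, ab2⟩, hK, ⟨b5, le_antisymm (b6.le.trans b3) b4, le_antisymm (b4.trans b6.le) b3,
    le_antisymm (b6.ge.trans b1) b2⟩, fun X hX hr hC => ?_, fun X => norm_of_der_le_cent (a2.trans a3)⟩
  have := Fact.mk hr
  have hXE := hX.trans h1.le
  have hr1 := h1.piGrp _ hr (card_dvd hX)
  have cK : Fit E ≤ 𝐂(E3 ⊔ E2) := le_cent_sup (cent_of_nil_hall hF h3' (ab_of_isCyclic c3))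
    (cent_of_nil_hall hF h2' ab2)
  have hXK := hXE.trans sE.normal.norm
  obtain ⟨-, -, n⟩ := commG_sigma'_1Elem_cyclic hM (sE.left_le.trans hE.le) (hE.piGrp.of_le sE.left_le)
    ((s32.piGrp (h3.piGrp.mono fun p h h' => tau1_not_tau3 h' h)
      (h2.piGrp.mono fun p h h' => tau1_not_tau2 h' h)).not_dvd hr fun h => h hr1) hr1.2.1
    (isEp_one_iff.2 ⟨le_inf (hXE.trans hE.le) hXK, rfl⟩) hC (ab_iff_le_cent.2 ((sup_le l3 l2).trans cK))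
  have e : ⁅E3 ⊔ E2, X⁆ = ⊥ := by_contra fun h => hNS (b6 ▸ mmax_normal hM n h ▸
    (norm_of_der_le_cent (b6 ▸ a2.trans cK) hXK).2.norm)
  refine le_inf hXE (sE.sup_eq ▸ le_cent_sup (commutator_eq_bot_iff'.1 e) ?_)
  exact hX.trans (ab_of_isCyclic c1).le_cent

theorem tau1_act_tau2 {M E A Q : Subgroup G} {p q : ℕ} (hM : IsCoatom M) (hE : Hall (sigmaS M)ᶜ E M)
    (hp : p ∈ tau2S M) (hA : IsEp p 2 A E) (hq : q ∈ tau1S M) (hQ : IsEp q 1 Q E)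
    (hC : Ms M ⊓ 𝐂(Q) = ⊥) (hAQ : ⁅A, Q⁆ ≠ ⊥) :
    (IsEp p 1 ⁅A, Q⁆ A ∧ A ⊓ 𝐂(Ms M) = ⁅A, Q⁆ ∧ ⁅A, Q⁆ ⊴ M) ∧ NotConj ⁅A, Q⁆ (A ⊓ 𝐂(Q)) ∧
    IsEp p 1 (A ⊓ 𝐂(Q)) A ∧ ¬ 𝐂(A ⊓ 𝐂(Q)) ≤ M := by
  have := Fact.mk hp.1
  have := Fact.mk hq.1
  have hne : p ≠ q := fun e => tau1_not_tau2 hq (e ▸ hp)
  have hAM := hA.mono hE.le
  have hn := hQ.le.trans (tau2_compl_context hM hE hp hA).1.1.norm
  obtain ⟨a1, a2, a3⟩ := commG_sigma'_1Elem_cyclic hM hAM.le (hE.piGrp.of_le hA.le)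
    (hA.piGrp.not_dvd hq.1 hne.symm) hq.2.1 (hQ.of_le (le_inf (hQ.le.trans hE.le) hn)) hC hA.ab
  have hd := coprime_abelian_cent_dprod hn (coprime_of_isPGroup_ne hA.isPGroup hQ.isPGroup hne) hA.ab
  have h0 : IsEp p 1 ⁅A, Q⁆ A := hA.one_of_lt_two (lt_of_le_of_ne hd.left_le
    fun e => hA.not_isCyclic le_rfl (e ▸ a2)) hAQ
  have h1 : IsEp p 1 (A ⊓ 𝐂(Q)) A := isEp_one_iff.2 ⟨inf_le_left, by
    have := hd.card
    rw [h0.card_one, hA.card, pow_two] at this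
    exact Nat.eq_of_mul_eq_mul_left hp.1.pos this⟩
  have e0 : A ⊓ 𝐂(Ms M) = ⁅A, Q⁆ := eq_of_lt_two hA h0 (le_inf h0.le a1) (lt_of_le_of_ne inf_le_left
    fun e => Msigma_neq1 hM ((inf_eq_left.2 (le_cent_symm (inf_eq_left.1 e))).symm.trans
      (tau2_context hM hp hAM).2.2.1))
  have hne' : ¬ ⁅A, Q⁆ ≤ 𝐂(Q) := fun h => hAQ (by rw [← hd.inf_eq, inf_eq_left.2 (le_inf h0.le h)])
  refine ⟨⟨h0, e0, a3⟩, fun g hg => ?_, h1, ?_⟩
  · have hN := mmax_normal hM a3 hAQ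
    have hc : g •ᶜ Q ≤ 𝐂(⁅A, Q⁆) := hg ▸ conj_le_cent_conj.2 (le_cent_symm inf_le_right)
    obtain ⟨T, hT, hQT⟩ := exists_syl_ge (hQ.le.trans hE.le) hQ.isPGroup
    obtain ⟨m, hm, hm'⟩ := hT.exists_conj_le ((hc.trans (cent_le_norm _)).trans hN.le) (hQ.conj g).isPGroup
    have e := eq_of_isCyclic_of_card_eq (isCyclic_of_rp hT.isPGroup hT.le hq.2.2.1.le) hQT hm'
      (by rw [card_conj, card_conj])
    exact hne' (le_cent_symm (e.le.trans (conj_le_of_mem_norm (le_norm_cent a3.norm hm) hc)))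
  · obtain ⟨S, hS, hAS⟩ := exists_syl_ge le_top hA.isPGroup
    have hab : ¬ Ab S := fun h => by
      obtain ⟨E1, b1, b2⟩ := exists_hall_ge (compl_sol hM hE) hQ.le (piGrp_of_isPGroup hQ.isPGroup hq)
      obtain ⟨E2, E3, b3⟩ := ex_tau23_compl hM hE b1
      exact hAQ (commutator_eq_bot_iff'.2 ((((abelian_tau2 hM b3 hp hA hS hAS h).2.2.2.1 Q b2
        hQ.prime_card hC).trans inf_le_right).trans (cent_anti hA.le)))
    exact ((nonabelian_tau2 hM hE hp hA hS.isPGroup hab).2.2.1 _ (h1.mono hA.le)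
      fun e => hne' (e0 ▸ e ▸ inf_le_right)).2

theorem B12.ab_of_not_sigma {M Q : Subgroup G} {q : ℕ} [hq : Fact q.Prime] (hM : IsCoatom M) (hQ : IsPGroup q Q)
    (hle : Q ≤ M) (h : q ∉ sigmaS M) : Ab Q := by
  by_cases h1 : rp q M ≤ 1
  · exact ab_of_isCyclic (isCyclic_of_rp hQ hle h1)
  · have h2 := tau2_of_le_rp hM hq.out h (by omega)
    obtain ⟨A, hA⟩ := exists_isEp h2.2.2.ge
    obtain ⟨P, hP, hQP⟩ := exists_syl_ge hle hQ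
    exact ab_of_le ((tau2_context hM h2 hA).1 P hP).1 hQP

theorem sigma'_nil_abelian {M N : Subgroup G} (hM : IsCoatom M) (hN : N ≤ M) (hs : PiGrp (sigmaS M)ᶜ N)
    (hn : Nil N) : Ab N :=
  ab_of_nil hn fun q _ hd => ab_of_not_sigma hM (Op_isPGroup q N) ((Op_le q N).trans hN) (hs q Fact.out hd)

theorem der_mmax_compl_abelian {M E : Subgroup G} (hM : IsCoatom M) (hE : Hall (sigmaS M)ᶜ E M) :
    Ab (der E) :=
  sigma'_nil_abelian hM ((der_le E).trans hE.le) (hE.piGrp.of_le (der_le E)) (der1_sigma_compl_nil hM hE)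

theorem tau2_compl_abelian {M E E2 : Subgroup G} (hM : IsCoatom M) (hE : Hall (sigmaS M)ᶜ E M)
    (h2 : Hall (tau2S M) E2 E) : Ab E2 := by
  by_cases h : E2 = ⊥
  · exact h ▸ ab_bot
  obtain ⟨p, hp, hd⟩ := exists_prime_dvd h
  have := Fact.mk hp
  have ht := h2.piGrp p hp hd
  obtain ⟨A, hA, -⟩ := ex_tau2Elem hM hE ht
  obtain ⟨S, hS, hAS⟩ := exists_syl_ge le_top hA.isPGroup
  by_cases hab : Ab S
  · obtain ⟨E1, E2', E3, h'⟩ := ex_compl hM hE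
    obtain ⟨⟨a, b⟩, -⟩ := abelian_tau2 hM h' ht hA hS hAS hab
    exact h'.hall2.eq_of_normal a.norm h2 ▸ b
  · exact ab_of_not_sigma hM (PiGrp.isPGroup (nonabelian_tau2_eq hM hE ht hA hS.isPGroup hab ▸ h2.piGrp))
      (h2.le.trans hE.le) ht.2.1

theorem B12.tau2_cent {M E E2 A : Subgroup G} {p : ℕ} (hM : IsCoatom M) (hE : Hall (sigmaS M)ᶜ E M)
    (h2 : Hall (tau2S M) E2 E) (hp : p ∈ tau2S M) (hA : IsEp p 2 A E) : E2 ≤ 𝐂(A) :=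
  have := Fact.mk hp.1
  (tau2_compl_abelian hM hE h2).le_cent.trans (cent_anti (h2.le_of_normal
    (tau2_compl_context hM hE hp hA).1.1 (piGrp_of_isPGroup hA.isPGroup hp)))

theorem tau1_cent_tau2Elem_factor {M E A : Subgroup G} {p : ℕ} (hM : IsCoatom M)
    (hE : Hall (sigmaS M)ᶜ E M) (hp : p ∈ tau2S M) (hA : IsEp p 2 A E) :
    (∀ E1 E2 E3, SigmaCompl M E E1 E2 E3 → E3 ⊔ E2 ≤ E ⊓ 𝐂(A)) ∧ E ⊓ 𝐂(A) ⊴ E ∧
    IsPiNum (tau1S M) ((E ⊓ 𝐂(A)).relIndex E) := by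
  have h : ∀ E1 E2 E3, SigmaCompl M E E1 E2 E3 → E3 ⊔ E2 ≤ E ⊓ 𝐂(A) := fun E1 E2 E3 h =>
    sup_le (le_inf h.hall3.le (tau3_cent hM hE h.hall3 hp hA)) (le_inf h.hall2.le (tau2_cent hM hE h.hall2 hp hA))
  obtain ⟨E1, E2, E3, h'⟩ := ex_compl hM hE
  exact ⟨h, (tau2_compl_context hM hE hp hA).1.1.cent, fun q hq hd => h'.hall1.piGrp q hq
    ((sigma_compl_context hM h').2.2.2.1.2.2.2.relIndex_left ▸
      hd.trans (relIndex_dvd_of_le_left _ (h _ _ _ h')))⟩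

theorem norm_noncyclic_sigma {M P : Subgroup G} {p : ℕ} (hM : IsCoatom M) (hp : p ∈ sigmaS M)
    (hP : IsPGroup p P) (hPM : P ≤ M) (hc : ¬ IsCyclic P) : 𝐍(P) ≤ M := by
  have := Fact.mk hp.1
  obtain ⟨A, hA⟩ := exists_isEp_two hP hc
  rw [← ((sigma_group_trans hM hp hP).2.2 hPM).sup_eq]
  exact sup_le ((cent_anti hA.le).trans (p2Elem_mmax hM (hA.mono hPM)).1) inf_le_left

theorem B12.exists_tau2_hall {M K : Subgroup G} (hM : IsCoatom M) (hK : K ≤ M) (h : PiGrp (tau2S M) K) :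
    ∃ E E2, Hall (sigmaS M)ᶜ E M ∧ Hall (tau2S M) E2 E ∧ K ≤ E2 := by
  obtain ⟨E, hE, h1⟩ := ex_sigma_compl hM hK (h.mono fun p => tau2_not_sigma)
  obtain ⟨E2, h2, h3⟩ := exists_hall_ge (compl_sol hM hE) h1 h
  exact ⟨E, E2, hE, h2, h3⟩

theorem cent1_nreg_sigma_uniq {M : Subgroup G} {x : G} (hM : IsCoatom M) (hx : x ∈ M) (hx1 : x ≠ 1)
    (ht : PiElt (tau2S M) x) (hC : Ms M ⊓ 𝐂[x] ≠ ⊥) : UniqMax 𝐂[x] M := by
  obtain ⟨E, E2, hE, h2, h3⟩ := exists_tau2_hall hM (zpowers_le.2 hx) (piGrp_zpowers.2 ht)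
  obtain ⟨p, hp, hd⟩ := Nat.exists_prime_and_dvd (mt orderOf_eq_one_iff.1 hx1)
  have hp2 := ht p hp hd
  obtain ⟨A, hA, hAM⟩ := ex_tau2Elem hM hE hp2
  refine uniqMax_of_forall (mFT_cent1_proper hx1) fun L hL hle => by_contra fun hne => hC (eq_bot_iff.2 ?_)
  rw [← (tau2_context hM hp2 hAM).2.2.2.1 L hL
    ((le_cent1_iff.2 (tau2_cent hM hE h2 hp2 hA (zpowers_le.1 h3))).trans hle) hne]
  exact inf_le_inf_left _ hle

theorem B12.Ohm_compl {M E A : Subgroup G} {p : ℕ} (hM : IsCoatom M) (hE : Hall (sigmaS M)ᶜ E M)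
    (hp : p ∈ tau2S M) (hA : IsEp p 2 A E) : Ohm p E = A := by
  have := Fact.mk hp.1
  refine le_antisymm (Ohm_le_iff.2 fun x hx h => ?_) hA.le_Ohm
  by_cases h1 : x = 1
  · exact h1 ▸ one_mem A
  · exact zpowers_le.1 (((tau2_compl_context hM hE hp hA).1.2 _).1
      (isEp_zpowers hx (orderOf_eq_prime h h1))).le

theorem B12.le_der_of_tau3 {M Q : Subgroup G} {q : ℕ} (hM : IsCoatom M) (hq : q ∈ tau3S M)
    (hQ : IsPGroup q Q) (hle : Q ≤ M) : Q ≤ der M := by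
  have := Fact.mk hq.1
  obtain ⟨P, hP, hQP⟩ := exists_syl_ge hle hQ
  exact hQP.trans ((cyclic_Sylow_tiVsub_der1 hP (isCyclic_of_rp hP.isPGroup hP.le hq.2.2.1.le)).resolve_left
    ((hP.inf_normal (der_normal M)).ne_bot hq.2.2.2))

theorem B12.le_der_of_sigma {M Q : Subgroup G} {q : ℕ} (hM : IsCoatom M) (hq : q ∈ sigmaS M)
    (hQ : IsPGroup q Q) (hle : Q ≤ M) : Q ≤ der M :=
  have := Fact.mk hq.1
  (le_Ms hM hle (piGrp_of_isPGroup hQ hq)).trans (Msigma_der1 hM)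

theorem primes_norm_tau2Elem {M E A Mstar : Subgroup G} {p : ℕ} (hM : IsCoatom M)
    (hE : Hall (sigmaS M)ᶜ E M) (hp : p ∈ tau2S M) (hA : IsEp p 2 A E) (hMs : IsCoatom Mstar)
    (hN : 𝐍(A) ≤ Mstar) :
    tau2S M ⊆ sigmaS Mstar \ betaS Mstar ∧
    primes ((E ⊓ 𝐂(A)).relIndex E) ⊆ tau1S Mstar ∪ tau2S Mstar ∧
    ∀ q ∈ primes ((E ⊓ 𝐂(A)).relIndex E), q ∈ piOf (E ⊓ 𝐂(A)) →
      q ∈ tau2S Mstar ∧ (∃ P, Syl p P ⊤ ∧ P ⊴ Mstar) ∧ ∃ Q, Syl q Q ⊤ ∧ Q ≤ Mstar ∧ Ab Q := by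
  have := Fact.mk hp.1
  have hAE := (tau2_compl_context hM hE hp hA).1.1
  have ha : tau2S M ⊆ sigmaS Mstar \ betaS Mstar := fun q hq => by
    have := Fact.mk hq.1
    refine ⟨by_contra fun h => ?_, not_mem_beta hMs (tau2_not_beta hM hq).1⟩
    obtain ⟨B, hB, hAB⟩ : ∃ B, IsEp q 2 B E ∧ A ≤ 𝐂(B) := by
      by_cases e : p = q
      · exact ⟨A, e ▸ hA, hA.le_cent⟩
      · obtain ⟨B, hB, -⟩ := ex_tau2Elem hM hE hq
        exact ⟨B, hB, tau2_cent_tau2 hM hE hp hA hq hB e⟩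
    have e : Ohm p 𝐂(B) = A := le_antisymm (Ohm_compl hM hE hp hA ▸
      Ohm_mono p (tau2_compl_context hM hE hq hB).2.1.1) (hA.of_le hAB).le_Ohm
    have h1 : 𝐍(B) ≤ Mstar := ((norm_le_norm_cent B).trans (e ▸ norm_le_norm_Ohm p _)).trans hN
    obtain ⟨E', hE', h2⟩ := ex_sigma_compl hMs ((le_norm_self B).trans h1) (piGrp_of_isPGroup hB.isPGroup h)
    exact (tau2_compl_context hMs hE' ((prime_class_mmax_norm hMs hB.isPGroup h1).resolve_left h)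
      (hB.of_le h2)).2.1.2.2 h1
  have hb : p ∉ betaS (⊤ : Subgroup G) := (tau2_not_beta hM hp).1
  have key : ∀ q, q ∈ primes ((E ⊓ 𝐂(A)).relIndex E) → ∀ Q, Syl q Q E → q ∈ tau1S M ∧ ¬ Q ≤ 𝐂(A) ∧
      ∀ H, IsCoatom H → p ∈ sigmaS H → A ≤ H → ¬ Q ≤ der H := fun q hq Q hQ => by
    have := Fact.mk hq.1
    have h1 := (tau1_cent_tau2Elem_factor hM hE hp hA).2.2 q hq.1 hq.2
    have h2 := not_le_of_dvd hQ hq.2
    exact ⟨h1, h2, fun H hH hs hAH h => h2 ((beta_max_pdiv hH (not_mem_beta hH hb)).1.le_cent hA.isPGroup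
      (le_der_of_sigma hH hs hA.isPGroup hAH) (piGrp_compl_of_isPGroup hQ.isPGroup
      fun e => tau1_not_tau2 h1 (e ▸ hp)) h (hQ.le.trans hAE.norm))⟩
  have hAM' : A ≤ Mstar := (le_norm_self A).trans hN
  refine ⟨ha, fun q hq => ?_, fun q hq hq' => ?_⟩
  · have := Fact.mk hq.1
    obtain ⟨Q, hQ⟩ := exists_syl q E
    have h := (key q hq Q hQ).2.2 _ hMs (ha hp).1 hAM'
    have hQM := (hQ.le.trans hAE.norm).trans hN
    rcases mem_tau hMs hq.1 ((hq.2.trans (relIndex_dvd_card _ _)).trans (card_dvd (hAE.norm.trans hN)))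
      (fun h' => h (le_der_of_sigma hMs h' hQ.isPGroup hQM)) with h' | h' | h'
    exacts [Or.inl h', Or.inr h', absurd (le_der_of_tau3 hMs h' hQ.isPGroup hQM) h]
  have := Fact.mk hq.1
  obtain ⟨Q, hQ⟩ := exists_syl q E
  obtain ⟨h1, h2, h3⟩ := key q hq Q hQ
  have hQc := isCyclic_of_rp hQ.isPGroup (hQ.le.trans hE.le) h1.2.2.1.le
  obtain ⟨Q1, hQ1⟩ := exists_isEp_one_of_isPGroup hQ.isPGroup.to_inf_left
    ((hQ.inf_normal hAE.cent).ne_bot hq'.2)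
  have hQ1Q : Q1 ≤ Q := hQ1.le.trans inf_le_left
  have hQ1C : Q1 ≤ 𝐂(A) := hQ1.le.trans (inf_le_right.trans inf_le_right)
  obtain ⟨H, hH, hNH⟩ := mmax_exists (norm_ne_top hQ1.isPGroup (hQ1.ne_bot one_ne_zero))
  have hAH : A ≤ H := (le_norm_of_le_cent (le_cent_symm hQ1C)).trans hNH
  have hQH : Q ≤ H := (le_norm_of_ab (ab_of_isCyclic hQc) hQ1Q).trans hNH
  have hn := hQ.le.trans hAE.norm
  have hq2 : q ∈ tau2S H := (prime_class_mmax_norm hH hQ1.isPGroup hNH).resolve_left fun h => by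
    by_cases hs : p ∈ sigmaS H
    · exact h3 H hH hs hAH (le_der_of_sigma hH h hQ.isPGroup hQH)
    · exact h2 (le_cent_symm (commutator_eq_bot_iff.1 (eq_bot_iff.2 ((hA.piGrp.inf_eq_bot (Ms_p' hs)) ▸
        le_inf (commutator_le_left' hn) ((commutator_mono hAH (le_Ms hH hQH
          (piGrp_of_isPGroup hQ.isPGroup h))).trans (commutator_le_right' (Ms_normal H).norm))))))
  have hs : p ∈ sigmaS H := by_contra fun hs => by
    obtain ⟨E', E2, a, b, c⟩ := exists_tau2_hall hH (sup_le hAH hQH) (PiGrp.sup (piGrp_of_isPGroup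
      hA.isPGroup (tau2_of_le_rp hH hp.1 hs (hA.of_le hAH).le_rp)) (piGrp_of_isPGroup hQ.isPGroup hq2)
      (Or.inr hn))
    exact h2 (le_cent_mono (tau2_compl_abelian hH a b).le_cent (le_sup_right.trans c) (le_sup_left.trans c))
  have hnil := tau2_Msigma_nil hH hq2
  obtain rfl : Mstar = H := by
    by_contra hne
    refine Set.disjoint_left.1 ((sigma_disjoint hH hMs ?_).2.2 hnil).2 hs (ha hp).1
    rintro g rfl
    obtain ⟨c, hc, e⟩ := eq_conj_cent hH hs hA.isPGroup hAH hAM'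
    exact hne (e.trans (conj_eq_of_mem ((p2Elem_mmax hH (hA.of_le hAH)).1 hc)))
  refine ⟨hq2, ⟨_, (syl_Op_of_nil p hnil).trans_hall (Msigma_Hall_G hH) hs, (Ms_normal _).Op p⟩, ?_⟩
  obtain ⟨E', hE', hQE'⟩ := ex_sigma_compl hH hQH (piGrp_of_isPGroup hQ.isPGroup hq2.2.1)
  obtain ⟨B, hB, hBH⟩ := ex_tau2Elem hH hE' hq2
  obtain ⟨S, hS, hBS⟩ := exists_syl_ge le_top hB.isPGroup
  have hab : Ab S := by_contra fun hab => by
    obtain ⟨-, -, a, E0, b, -⟩ := nonabelian_tau2 hH hE' hq2 hB hS.isPGroup hab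
    have e : Q1 = B ⊓ 𝐂(Ms Mstar) := by_contra fun e => hA.ne_bot two_ne_zero (eq_bot_iff.2
      ((a Q1 (hQ1.of_le (hQ1Q.trans hQE')) e).1 ▸
        le_inf (le_Ms hH hAH (piGrp_of_isPGroup hA.isPGroup hs)) (le_cent_symm hQ1C)))
    rw [← e] at b
    have c := b.of_left_le hQ1Q hQE'
    have d : E0 ⊓ Q = ⊥ := by_contra fun d => hQ1.ne_bot one_ne_zero (by
      rw [← c.inf_eq, inf_eq_left.2 (le_of_isCyclic_of_card_dvd hQc hQ1Q inf_le_right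
        (hQ1.card_one ▸ dvd_card_of_isPGroup hQ.isPGroup.to_inf_right d))])
    exact h2 (c.left_eq_iff.2 d ▸ hQ1C)
  exact ⟨S, hS, (hab.le_cent.trans (cent_anti hBS)).trans (p2Elem_mmax hH hBH).1, hab⟩

end Cfsg.Agent.OO.Pf
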