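import Cfsg.Agent.Lib.OO.Pf.BG12_C

/-! # B&G section 12, part D (12.12 – 12.14) -/

set_option autoImplicit false
set_option linter.unusedSectionVars false
set_option linter.unusedVariables false

namespace Cfsg.Agent.OO.Pf

open Subgroup Cfsg.Agent.Coprime B12
open scoped Pointwise commutatorElement

universe u

variable {G : Type u} [Group G] [Finite G]

namespace B12
variable {A B E H K L M N P Q R S V X Y : Subgroup G} {p q n : ℕ} {π : Set ℕ}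

theorem expo_dvd_iff : expo E ∣ n ↔ ∀ x ∈ E, x ^ n = 1 := by
  rw [Monoid.exponent_dvd_iff_forall_pow_eq_one]
  exact ⟨fun h x hx => congrArg Subtype.val (h ⟨x, hx⟩), fun h x => Subtype.ext (h x x.2)⟩

theorem pow_expo {x : G} (hx : x ∈ E) : x ^ expo E = 1 := expo_dvd_iff.1 dvd_rfl x hx

theorem expo_mono (h : H ≤ K) : expo H ∣ expo K := expo_dvd_iff.2 fun x hx => pow_expo (h hx)

theorem pow_eq_one_of_dvd {x : G} {m : ℕ} (h : x ^ m = 1) (hd : m ∣ n) : x ^ n = 1 := by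
  obtain ⟨k, rfl⟩ := hd
  rw [pow_mul, h, one_pow]

theorem expo_eq_of_syl (hle : H ≤ E) (h : ∀ q : ℕ, q.Prime → q ∣ ♯E → ∃ Q, Syl q Q E ∧ ∀ x ∈ Q, x ^ expo H = 1) :
    expo H = expo E := by
  refine Nat.dvd_antisymm (expo_mono hle) (expo_dvd_iff.2 fun x hx => mem_bot.1
    (mem_of_forall_constt_mem fun q hq hd => ?_))
  have := Fact.mk hq
  obtain ⟨Q, hQ, h1⟩ := h q hq ((hd.trans (orderOf_pow_dvd _)).trans (orderOf_dvd_card hx))
  obtain ⟨g, -, hg⟩ := hQ.exists_conj_le (zpowers_le.2 (constt_mem {q} hx))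
    (isPGroup_zpowers_iff.2 (piElt_constt _ x))
  have h2 := h1 _ (hg (conj_mem_conj (mem_zpowers _)))
  rw [conj_pow, mul_inv_eq_one, mul_eq_left] at h2
  rw [constt_pow, h2]
  exact one_mem _

theorem ne_bot_of_expo (h : expo H = expo E) (h1 : E ≠ ⊥) : H ≠ ⊥ := by
  rintro rfl
  obtain ⟨x, hx, hx1⟩ := exists_mem_ne_one h1
  have := pow_expo hx
  rw [← h, show expo (⊥ : Subgroup G) = 1 from Monoid.exp_eq_one_of_subsingleton, pow_one] at this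
  exact hx1 this

theorem le_of_cyclic_quo [Fact q.Prime] (hQ : IsPGroup q Q) (hab : Ab Q) (hc : IsCyclic (Q ⁒ Y))
    (hY : Y < R) (hR : R ≤ Q) (hB : B ≤ Q) (hB' : IsElementaryAbelian q B) : B ≤ R := by
  have hn := le_norm_of_ab hab (hY.le.trans hR)
  rw [← quo_le_quo_iff (hB.trans hn) hY.le]
  refine le_of_isCyclic_of_card_dvd hc (quo_mono _ hB) (quo_mono _ hR) ?_
  rw [card_eq_pow_rp (abelem_quo hB' Y)]
  exact ((pow_dvd_pow q (rp_le_one_of_isCyclic (isCyclic_of_le' hc (quo_mono _ hB)))).trans (pow_one q).dvd).trans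
    (dvd_card_of_isPGroup (isPGroup_quo (hQ.to_le hR) Y) (quo_ne_bot (hR.trans hn) hY.not_ge))

theorem card_dvd_or_dvd [Fact p.Prime] (hA : IsPGroup p A) (hB : IsPGroup p B) : ♯A ∣ ♯B ∨ ♯B ∣ ♯A := by
  obtain ⟨a, ha⟩ := IsPGroup.iff_card.1 hA
  obtain ⟨b, hb⟩ := IsPGroup.iff_card.1 hB
  rw [ha, hb]
  exact (le_total a b).imp (pow_dvd_pow p) (pow_dvd_pow p)

theorem pow_card {x : G} (hx : x ∈ A) : x ^ ♯A = 1 := orderOf_dvd_iff_pow_eq_one.1 (orderOf_dvd_card hx)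

theorem pow_card_of_dprod (h : IsDprod A B S) (hd : ♯B ∣ ♯A) : ∀ y ∈ S, y ^ ♯A = 1 := fun y hy => by
  obtain ⟨a, ha, b, hb, rfl⟩ := h.mem_iff.1 hy
  rw [(show Commute a b from mem_cent_iff.1 (h.le_cent hb) a ha).mul_pow, pow_card ha,
    pow_eq_one_of_dvd (pow_card hb) hd, one_mul]

end B12

variable [MinOdd G]

theorem B12.regular_of_norm {M E A S X : Subgroup G} {p : ℕ} (hM : IsCoatom M)
    (hE : Hall (sigmaS M)ᶜ E M) (hp : p ∈ tau2S M) (hA : IsEp p 2 A E) (hS : ¬ 𝐍(S) ≤ M)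
    (hX : IsEp p 1 X E) (hn : 𝐍(S) ≤ 𝐍(X)) : Ms M ⊓ 𝐂(X) = ⊥ := by_contra fun h =>
  hS (hn.trans ((norm_le_norm_cent X).trans ((tau2_compl_context hM hE hp hA).2.2 X hX h).norm_le))

theorem B12.semiregular_cyclic {K Z X : Subgroup G} {p : ℕ} [Fact p.Prime] (hZ : IsCyclic Z) (hp : IsPGroup p Z)
    (hX : IsEp p 1 X Z) (h : K ⊓ 𝐂(X) = ⊥) : Semiregular K Z :=
  semiregular_of_prime_subgroup fun Y hY hq => by
    rwa [eq_of_isCyclic_of_card_eq hZ hY hX.le (hX.card_one ▸ (piGrp_singleton hp) _ hq (card_dvd hY))]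

/-- the cyclic subgroups `Z_p` in the proof of Theorem 12.12 -/
theorem B12.exists_cyclic_regular {M E A S : Subgroup G} {p : ℕ} (hM : IsCoatom M)
    (hE : Hall (sigmaS M)ᶜ E M) (hp : p ∈ tau2S M) (hA : IsEp p 2 A E) (hS : Syl p S ⊤) (hAS : A ≤ S)
    (hab : Ab S) (h : ∀ e ∈ E, e ≠ 1 → PiElt (tau13S M) e → Ms M ⊓ 𝐂[e] = ⊥) :
    ∃ Z ≤ S, E ≤ 𝐍(Z) ∧ Semiregular (Ms M) Z ∧ IsCyclic Z ∧ ∀ y ∈ S, y ^ ♯Z = 1 := by
  have := Fact.mk hp.1
  obtain ⟨hSE, hO, hNS⟩ := syl_mmax_of_ab hM hE hp hA hS hAS hab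
  obtain ⟨E1, E2, E3, hc⟩ := ex_compl hM hE
  obtain ⟨-, -, ⟨hN, -⟩, -, hf⟩ := abelian_tau2 hM hc hp hA hS hAS hab
  have hAE := (tau2_compl_context hM hE hp hA).1.1
  have hn : E ≤ 𝐍(S) := hN ▸ hAE.norm
  by_cases hC : E ≤ 𝐂(A)
  · have hCS : E ≤ 𝐂(S) := le_of_forall_isPGroup fun q _ Q hQ hq => by
      by_cases e : p = q
      · subst e
        exact ((hS.mono hSE le_top).le_of_normal_syl hn hQ hq).trans hab.le_cent
      · exact coprime_odd_faithful_Ohm1 hS.isPGroup (hQ.trans hn) (coprime_of_isPGroup_ne hS.isPGroup hq e)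
          (mFT_odd _) (hO ▸ hQ.trans hC)
    have hex : ∃ n, ∀ y ∈ S, y ^ p ^ n = 1 := by
      obtain ⟨n, hn⟩ := IsPGroup.iff_card.1 hS.isPGroup
      exact ⟨n, fun y hy => hn ▸ pow_card hy⟩
    classical
    obtain ⟨m, hm⟩ : ∃ m, Nat.find hex = m + 1 := Nat.exists_eq_succ_of_ne_zero fun e => by
      have := Nat.find_spec hex
      rw [e] at this
      exact hA.ne_bot two_ne_zero (eq_bot_iff.2 fun x hx => by simpa using this x (hAS hx))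
    have h1 : ∀ y ∈ S, y ^ p ^ (m + 1) = 1 := hm ▸ Nat.find_spec hex
    have hB : Mho p m S ≤ A := Mho_le_iff.2 fun x hx => hO ▸ mem_Ohm (pow_mem hx _)
      (by rw [← pow_mul, ← pow_succ, h1 x hx])
    obtain ⟨X, hX, hXC⟩ : ∃ X, IsEp p 1 X (Mho p m S) ∧ Ms M ⊓ 𝐂(X) = ⊥ := by
      rcases hB.eq_or_lt with e | e
      · exact e ▸ (tau2_context hM hp (hA.mono hE.le)).2.2.2.2
      · have h2 := hA.one_of_lt_two e fun e' => Nat.find_min hex (hm ▸ m.lt_succ_self)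
          fun y hy => mem_bot.1 (e' ▸ pow_mem_Mho p m hy)
        exact ⟨_, h2.self, regular_of_norm hM hE hp hA hNS (h2.mono hA.le) (norm_le_norm_Mho p m S)⟩
    obtain ⟨b, hb, hb1, rfl⟩ := hX.exists_zpowers
    obtain ⟨y, hy, rfl⟩ := (mem_Mho_iff_of_ab hab).1 hb
    have h2 : orderOf y = p ^ (m + 1) := orderOf_eq_prime_pow (fun e => hp.1.one_lt.ne
      (by rw [← hb1, e, orderOf_one])) (h1 y hy)
    have hle := zpowers_le.2 hy
    exact ⟨_, hle, le_norm_of_le_cent (hCS.trans (cent_anti hle)), semiregular_cyclic inferInstance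
      (hS.isPGroup.to_le hle) (hX.of_le (zpowers_le.2 (pow_mem (mem_zpowers y) _))) hXC, inferInstance,
      fun z hz => by rw [Nat.card_zpowers, h2, h1 z hz]⟩
  obtain ⟨q, hq, hd⟩ := Nat.exists_prime_and_dvd (n := (E ⊓ 𝐂(A)).relIndex E)
    fun e => hC ((relIndex_eq_one.1 e).trans inf_le_right)
  have := Fact.mk hq
  have hq1 := (tau1_cent_tau2Elem_factor hM hE hp hA).2.2 q hq hd
  have hne : p ≠ q := fun e => tau1_not_tau2 hq1 (e ▸ hp)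
  obtain ⟨L, hL, hNL⟩ := mmax_exists (norm_ne_top hA.isPGroup (hA.ne_bot two_ne_zero))
  obtain ⟨hq2, ⟨P, hP, nP⟩, -⟩ := (primes_norm_tau2Elem hM hE hp hA hL hNL).2.2 q ⟨hq, hd⟩ (by
    obtain ⟨X, hX⟩ := exists_isEp_one (hd.trans (relIndex_dvd_card _ _))
    obtain ⟨F1, b1, b2⟩ := exists_hall_ge (compl_sol hM hE) hX.le (piGrp_of_isPGroup hX.isPGroup hq1)
    obtain ⟨F2, F3, b3⟩ := ex_tau23_compl hM hE b1
    obtain ⟨x, hx, hx1, rfl⟩ := hX.exists_zpowers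
    have := (abelian_tau2 hM b3 hp hA hS hAS hab).2.2.2.1 _ b2 hX.prime_card (cent_zpowers x ▸ h x hx
      (fun e => hq.one_lt.ne (by rw [← hx1, e, orderOf_one])) (by rw [PiElt, hx1]; exact (isPiNum_prime hq).2 (Or.inl hq1)))
    exact ⟨hq, (hX.of_le (this.trans (inf_le_inf_left _ (cent_anti hA.le)))).dvd_card one_ne_zero⟩)
  have hEL := hAE.norm.trans hNL
  obtain rfl : S = P := (hP.mono nP.le le_top).eq_of_normal nP.norm (hS.mono (hSE.trans hEL) le_top)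
  obtain ⟨Q1, hQ1⟩ := exists_syl q E
  obtain ⟨Q, hQ, hQ1Q⟩ := exists_syl_ge (hQ1.le.trans hEL) hQ1.isPGroup
  have hQab := ab_of_not_sigma hL hQ.isPGroup hQ.le hq2.2.1
  have hQn := hQ.le.trans nP.norm
  obtain ⟨Y, hY, hYc, hYS⟩ : ∃ Y ≤ Q, IsCyclic (Q ⁒ Y) ∧ S ⊓ 𝐂(Y) ≠ ⊥ := by
    by_contra! h'
    exact hA.ne_bot two_ne_zero (eq_bot_iff.2 (hAS.trans (coprime_abelian_gen_cent hQab hQn
      (coprime_of_isPGroup_ne hS.isPGroup hQ.isPGroup hne) fun B b1 b2 => (h' B b1 b2).le)))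
  have hY1 : ⁅S, Y⁆ ≠ ⊥ := fun e => by
    have h1 : Y ≤ 𝐂(A) := (commutator_eq_bot_iff'.1 e).trans (cent_anti hAS)
    have h2 : Y ≤ Q1 := (hQ1.eq_of_le (le_inf hQ1Q hQ1.le) inf_le_right hQ.isPGroup.to_inf_left) ▸
      le_inf hY (h1.trans (tau2_compl_context hM hE hp hA).2.1.1)
    obtain ⟨B, hB⟩ := exists_isEp ((rp_syl hQ).trans hq2.2.2).ge
    exact hB.not_isCyclic le_rfl (isCyclic_of_rp hB.isPGroup ((le_of_cyclic_quo hQ.isPGroup hQab hYc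
      (lt_of_le_of_ne h2 fun e => not_le_of_dvd hQ1 hd (e ▸ h1)) hQ1Q hB.le hB.abelem).trans
      (hQ1.le.trans hE.le)) hq1.2.2.1.le)
  have hdp := coprime_abelian_cent_dprod (hY.trans hQn)
    (coprime_of_isPGroup_ne hS.isPGroup (hQ.isPGroup.to_le hY) hne) hab
  obtain ⟨n1, n2⟩ := hf Y (hY.trans hQn)
  have key : ∀ W W', IsDprod W W' S → W ≠ ⊥ → W' ≠ ⊥ → W ⊴ 𝐍(S) → ♯W' ∣ ♯W →
      ∃ Z ≤ S, E ≤ 𝐍(Z) ∧ Semiregular (Ms M) Z ∧ IsCyclic Z ∧ ∀ y ∈ S, y ^ ♯Z = 1 := by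
    intro W W' a1 a2 a3 a4 a5
    have pW := hS.isPGroup.to_le a1.left_le
    have r1 := rp_pos_iff.2 (dvd_card_of_isPGroup (hS.isPGroup.to_le a1.right_le) a3)
    have r2 := (a1.rp_eq (p := p)).symm.trans_le ((rp_mono p (hSE.trans hE.le)).trans hp.2.2.le)
    have cW : IsCyclic W := isCyclic_of_rp pW le_rfl (by omega)
    obtain ⟨X, hX⟩ := exists_isEp_one_of_isPGroup pW a2
    exact ⟨W, a1.left_le, hn.trans a4.norm, semiregular_cyclic cW pW hX (regular_of_norm hM hE hp hA hNS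
      (hX.mono (a1.left_le.trans hSE)) (a4.norm.trans (norm_le_norm_of_isCyclic cW hX.le))), cW,
      pow_card_of_dprod a1 a5⟩
  rcases card_dvd_or_dvd (hS.isPGroup.to_le hdp.left_le) (hS.isPGroup.to_le hdp.right_le) with e | e
  exacts [key _ _ hdp.symm hYS hY1 n1 e, key _ _ hdp hY1 hYS n2 e]

theorem FTtypeF_complement {M E : Subgroup G} (hM : IsCoatom M) (hE : Hall (sigmaS M)ᶜ E M) (hE1 : E ≠ ⊥)
    (h : ∀ e ∈ E, e ≠ 1 → PiElt (tau13S M) e → Ms M ⊓ 𝐂[e] = ⊥) :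
    (∃ A0, A0 ⊴ E ∧ Ab A0 ∧ ∀ x ∈ Ms M, x ≠ 1 → E ⊓ 𝐂[x] ≤ A0) ∧
    ∃ E0, E0 ≤ E ∧ expo E0 = expo E ∧ IsFrob (Ms M ⊔ E0) (Ms M) E0 := by
  have hreg : ∀ e ∈ E, (orderOf e).Prime → orderOf e ∉ tau2S M → Ms M ⊓ 𝐂[e] = ⊥ := fun e he hq h2 =>
    h e he (fun e1 => hq.one_lt.ne (by rw [e1, orderOf_one])) ((isPiNum_prime hq).2 (by
      rcases mem_tau_of_dvd hM hE hq (orderOf_dvd_card he) with a | a | a
      exacts [Or.inl a, absurd a h2, Or.inr a]))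
  have h2 : ∀ x ∈ Ms M, x ≠ 1 → PiGrp (tau2S M) (E ⊓ 𝐂[x]) := fun x hx hx1 q hq hd => by_contra fun h2 => by
    obtain ⟨e, he, rfl⟩ := cauchy hq hd
    exact hx1 (mem_bot.1 (hreg e he.1 hq h2 ▸ ⟨hx, mem_cent1_comm.1 he.2⟩))
  have frob : ∀ E0 ≤ E, expo E0 = expo E → Semiregular (Ms M) E0 →
      ∃ E0, E0 ≤ E ∧ expo E0 = expo E ∧ IsFrob (Ms M ⊔ E0) (Ms M) E0 := fun E0 a b c =>
    ⟨E0, a, b, c.isFrob ((a.trans hE.le).trans (Ms_normal M).norm) (Msigma_neq1 hM) (ne_bot_of_expo b hE1)⟩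
  by_cases hab : ∃ p ∈ tau2S M, ∃ P : Subgroup G, IsPGroup p P ∧ ¬ Ab P
  · obtain ⟨p, hp, P, hP, hab⟩ := hab
    have := Fact.mk hp.1
    obtain ⟨A, hA, hAM⟩ := ex_tau2Elem hM hE hp
    obtain ⟨-, ⟨a1, -⟩, -, E0, a2, a3⟩ := nonabelian_tau2 hM hE hp hA hP hab
    have h3 : ∀ x ∈ Ms M, x ≠ 1 → E0 ⊓ 𝐂[x] = ⊥ := fun x hx hx1 =>
      ((h2 x hx hx1).of_le (inf_le_inf_right _ a2.right_le)).eq_bot
        ((piGrp_iff_piOf_subset.2 (a3 x hx hx1)).mono fun q => tau1_not_tau2)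
    have h0 : IsEp p 1 (A ⊓ 𝐂(Ms M)) A := isEp_one_iff.2 ⟨inf_le_left, a1⟩
    refine ⟨⟨_, a2.normal, h0.ab, fun x hx hx1 => ?_⟩, frob E0 a2.right_le
      (expo_eq_of_syl a2.right_le fun q hq hd => ?_) (Semiregular.symm h3)⟩
    · have := a2.of_left_le (le_inf a2.left_le (inf_le_right.trans (cent_le_cent1 hx))) inf_le_left
      rw [← this.sup_eq, ← inf_assoc, inf_eq_left.2 a2.right_le, h3 x hx hx1, sup_bot_eq]
    have := Fact.mk hq
    by_cases e : q = p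
    · subst e
      obtain ⟨Q, hQ, hAQ⟩ := exists_syl_ge hA.le hA.isPGroup
      refine ⟨Q, hQ, fun x hx => ?_⟩
      obtain ⟨a, ha, b, hb, rfl⟩ := (a2.of_left_le (inf_le_left.trans hAQ) hQ.le).mem_iff.1 hx
      have hd : q ∣ ♯E0 := Nat.dvd_of_mul_dvd_mul_left hq.pos (by
        rw [← pow_two, ← hA.card, ← a1, a2.card]; exact card_dvd hA.le)
      obtain ⟨z, hz, hz1⟩ := cauchy hq hd
      rw [(show Commute a b from ab_iff.1 (ab_of_not_sigma hM hQ.isPGroup (hQ.le.trans hE.le) hp.2.1)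
        a (hAQ ha.1) b hb.2).mul_pow, pow_expo hb.1, mul_one]
      exact pow_eq_one_of_dvd (a1 ▸ pow_card ha) (hz1 ▸ orderOf_dvd_iff_pow_eq_one.2 (pow_expo hz))
    · obtain ⟨Q, hQ⟩ := exists_syl q E0
      exact ⟨Q, hQ.trans a2.right_le (by
        rw [a2.relIndex_right, a1]; exact fun h => e ((Nat.prime_dvd_prime_iff_eq hq hp.1).1 h)),
        fun x hx => pow_expo (hQ.le hx)⟩
  push Not at hab
  obtain ⟨E1, E2, E3, hc⟩ := ex_compl hM hE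
  have hZ : ∀ p ∈ tau2S M, E2 ⊴ E ∧ ∃ S, Syl p S E ∧
      ∃ Z ≤ S, E ≤ 𝐍(Z) ∧ Semiregular (Ms M) Z ∧ IsCyclic Z ∧ ∀ y ∈ S, y ^ ♯Z = 1 := fun p hp => by
    have := Fact.mk hp.1
    obtain ⟨A, hA, hAM⟩ := ex_tau2Elem hM hE hp
    obtain ⟨S, hS, hAS⟩ := exists_syl_ge le_top hA.isPGroup
    have hab' := hab p hp S hS.isPGroup
    exact ⟨(abelian_tau2 hM hc hp hA hS hAS hab').1.1, S, hS.mono
      (syl_mmax_of_ab hM hE hp hA hS hAS hab').1 le_top, exists_cyclic_regular hM hE hp hA hS hAS hab' h⟩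
  have n2 : E2 ⊴ E := by
    by_cases e : E2 = ⊥
    · exact e ▸ NormalIn.bot E
    · obtain ⟨p, hp, hd⟩ := exists_prime_dvd e
      exact (hZ p (hc.hall2.piGrp p hp hd)).1
  have ab2 := tau2_compl_abelian hM hE hc.hall2
  refine ⟨⟨E2, n2, ab2, fun x hx hx1 => hc.hall2.le_of_normal_hall n2.norm inf_le_left (h2 x hx hx1)⟩, ?_⟩
  choose S hS Z z1 z2 z3 z4 z5 using fun p : tau2S M => (hZ p p.2).2
  obtain ⟨V, hV⟩ := exists_hall (tau2S M)ᶜ (compl_sol hM hE)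
  have zp : ∀ p : tau2S M, IsPGroup p (Z p) := fun p => (hS p).isPGroup.to_le (z1 p)
  have z6 : ∀ p, Z p ≤ E2 := fun p =>
    have := Fact.mk p.2.1
    hc.hall2.le_of_normal_hall n2.norm ((z1 p).trans (hS p).le) (piGrp_of_isPGroup (zp p) p.2)
  have hW : ⨆ p, Z p ≤ E2 := iSup_le z6
  have sd : IsSdprod (⨆ p, Z p) V ((⨆ p, Z p) ⊔ V) := IsSdprod.of_coprime (hV.le.trans (le_norm_iSup z2))
    ((hc.hall2.piGrp.of_le hW).coprime hV.piGrp)
  have hle : (⨆ p, Z p) ⊔ V ≤ E := sup_le (hW.trans n2.le) hV.le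
  refine frob _ hle (expo_eq_of_syl hle fun q hq hd => ?_) (semiregular_of_prime_order fun x hx hq => ?_)
  · have := Fact.mk hq
    by_cases e : q ∈ tau2S M
    · have := z4 ⟨q, e⟩
      exact ⟨_, hS ⟨q, e⟩, fun y hy => pow_eq_one_of_dvd (z5 ⟨q, e⟩ y hy) (IsCyclic.exponent_eq_card.symm.dvd.trans
        (expo_mono ((le_iSup Z _).trans le_sup_left)))⟩
    · obtain ⟨Q, hQ⟩ := exists_syl q V
      exact ⟨Q, hQ.trans_hall hV e, fun y hy => pow_expo (mem_sup_right (hQ.le hy))⟩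
  by_cases e : orderOf x ∈ tau2S M
  swap
  · exact hreg x (hle hx) hq e
  have := Fact.mk hq
  have h1 := (sd.hall_left (hc.hall2.piGrp.of_le hW) hV.piGrp).mem_of_normal sd.normal.norm hx
    ((isPiNum_prime hq).2 e)
  have sd' : IsSdprod (Z ⟨_, e⟩) (Op' (orderOf x) E2) _ := IsSdprod.of_coprime
    (((Opi_le _ _).trans n2.le).trans (z2 _)) (coprime_of_isPGroup (zp ⟨_, e⟩) (Op'_piGrp _ _))
  refine z3 ⟨_, e⟩ x ((sd'.hall_left (piGrp_singleton (zp ⟨_, e⟩)) (Op'_piGrp _ _)).mem_of_normal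
    sd'.normal.norm ((iSup_le fun r => ?_ : ⨆ p, Z p ≤ _) h1) ((isPiNum_prime hq).2 rfl))
    fun e1 => hq.one_lt.ne (by rw [e1, orderOf_one])
  by_cases e' : r = ⟨_, e⟩
  · exact e' ▸ le_sup_left
  · have := Fact.mk r.2.1
    exact (le_Opi_of_nil (nil_of_ab ab2) (z6 r) (piGrp_compl_of_isPGroup (zp r)
      fun e'' => e' (Subtype.ext e''))).trans le_sup_right

theorem B12.rank2_syl {p : ℕ} [hp : Fact p.Prime] {P : Subgroup G} (hP : Syl p P ⊤) (hr : rank P ≤ 2)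
    (hab : ¬ Ab P) : ∃ S ≤ P, ¬ Ab S ∧ (∀ x ∈ S, x ^ p = 1) ∧ IsEp p 1 (Zc S) S ∧ der S ≤ Zc S ∧
      Ohm p (Zc P) = Zc S ∧ der P ≤ Zc P := by
  obtain ⟨S, C, a1, a2, a3, a4, a5, a6⟩ := mFT_rank2_Sylow_cprod hP (by omega) hab
  have pS := hP.isPGroup.to_le a5.left_le
  have hZC : Zc S ≤ C := a6 ▸ Ohm_le p C
  have hZ : IsEp p 1 (Zc S) S := (a6 ▸ isEp_Ohm_of_isCyclic a4 ((dvd_card_of_isPGroup (pS.to_le (Zc_le S))
    (Zc_ne_bot (nil_of_isPGroup pS) fun e => a1 (e ▸ ab_bot))).trans (card_dvd hZC))).of_le (Zc_le S)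
  have hd : der S ≤ Zc S := (ab_quo_iff (Zc_normal S).norm).1 (IsPGroup.isMulCommutative_of_card_eq_prime_sq
    (p := p) (Nat.eq_of_mul_eq_mul_left hp.out.pos (by
      rw [← hZ.card_one, card_mul_card_quo (Zc_normal S), a2, hZ.card_one]; ring)))
  have e : Zc P = C := by rw [a5.Zc_eq, Zc_eq_self (ab_of_isCyclic a4), sup_eq_right.2 hZC]
  refine ⟨S, a5.left_le, a1, expo_dvd_iff.1 a3, hZ, hd, e ▸ a6, ?_⟩
  rw [a5.der_eq, ab_iff_der.1 (ab_of_isCyclic a4), sup_bot_eq, e]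
  exact hd.trans hZC

theorem nonabelian_Uniqueness {p : ℕ} [hp : Fact p.Prime] {P : Subgroup G} (hP : IsPGroup p P) (hab : ¬ Ab P) :
    Uniq P := by
  obtain ⟨M, hM, hPM⟩ := mmax_exists (mFT_pgroup_proper hP)
  refine ⟨M, hM, hPM, fun L hL hPL => by_contra fun hne => ?_⟩
  obtain ⟨P, hP, hle⟩ := exists_syl_ge (le_inf hPL hPM) hP
  replace hab : ¬ Ab P := fun h => hab (ab_of_le h hle)
  have hN : ∀ H, IsCoatom H → P ≤ H → 𝐍(P) ≤ H := fun H hH h => norm_noncyclic_sigma hH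
    (by_contra fun hs => hab (ab_of_not_sigma hH hP.isPGroup h hs)) hP.isPGroup h fun hc => hab (ab_of_isCyclic hc)
  have hPL := hP.le.trans inf_le_left
  have hPM := hP.le.trans inf_le_right
  have hS : Syl p P ⊤ := IsSylowIn.of_syl_norm le_top (hP.mono (le_inf le_top (le_norm_self P))
    (inf_le_right.trans (le_inf (hN L hL hPL) (hN M hM hPM))))
  have hr : rank P ≤ 2 := by_contra fun h =>
    hne (eq_of_uniq (rank3_Uniqueness (mFT_pgroup_proper hP.isPGroup) (by omega)) hM hL hPM hPL)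
  obtain ⟨S, hSP, b1, b2, b3, b4, b5, -⟩ := rank2_syl hS hr hab
  obtain ⟨A, hA⟩ := exists_isEp_two hP.isPGroup fun hc => hab (ab_of_isCyclic hc)
  have pS := hP.isPGroup.to_le hSP
  have key : ∀ M L, IsCoatom M → IsCoatom L → L ≠ M → P ≤ M → P ≤ L →
      ∃ A0, IsEp p 1 A0 A ∧ A0 ≠ Ohm p (Zc P) ∧ UniqMax 𝐍(A0) M := by
    intro M L hM hL hne hPM hPL
    obtain ⟨c1, c2⟩ := nonuniq_norm_Sylow_pprod hM hL hne hS (le_inf (hN L hL hPL) (hN M hM hPM))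
    have e : Mb M = Ma M := by rw [Mb, Ma, c2]
    rw [e] at c1
    have ha : PiGrp ({p} : Set ℕ)ᶜ (Ma M) := (Ma_piGrp M).mono fun q hq e => by
      obtain rfl : q = p := e
      exact absurd hq.2 (by rw [← rank_syl (hS.mono hPM le_top)]; omega)
    obtain ⟨A0, d1, d2⟩ : ∃ A0, IsEp p 1 A0 A ∧ UniqMax 𝐍(A0) M := by
      by_contra! h
      rw [((p2Elem_mmax hM (hA.mono hPM)).2 h).2.1, bot_sup_eq] at c1
      exact hne (eq_mmax hM hL (c1 ▸ inf_le_left)).symm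
    refine ⟨A0, d1, fun e => hne (d2.eq hL ?_), d2⟩
    rw [e, b5] at d2 ⊢
    have hZ := (Zc_le S).trans hSP
    rw [← inf_eq_right.2 d2.le, ← (pprod_norm_coprime_prod c1 (Ma_normal M) (hZ.trans (le_inf hPL hPM))
      (coprime_of_isPGroup b3.isPGroup ha).symm (mmax_sol hM)).sup_eq]
    refine sup_le ?_ (inf_le_left.trans inf_le_left)
    have nZ := (Zc_normal S).norm
    have nK : S ≤ 𝐍(Ma M ⊓ 𝐂(Zc S)) :=
      le_norm_inf ((hSP.trans hPM).trans (Ma_normal M).norm) (le_norm_cent nZ)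
    rw [← quo_le_quo_iff (le_norm_of_le_cent inf_le_right) (hZ.trans hPL)]
    refine coprime_abelian_gen_cent1 (ab_quo_of_der_le b4) (fun h => b1 (cyclic_center_factor_abelian le_rfl h))
      (quo_le_norm _ nK) (coprime_quo (coprime_of_isPGroup pS (ha.inf_left _)).symm _ _) fun a ha' h1 => ?_
    obtain ⟨x, hx, rfl⟩ := (mem_quo_of_le nZ).1 ha'
    have hxS := zpowers_le.2 hx
    have hxZ : x ∉ Zc S := fun h => h1 (coset_eq_one h)
    rw [← cent_zpowers, ← quo_zpowers (nZ hx), ← quo_inf_cent_of_norm (hxS.trans nZ) (hxS.trans nK)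
      (coprime_of_isPGroup (pS.to_le hxS) ((ha.inf_left _).inf_right _)).symm (Or.inr inferInstance)]
    refine quo_mono _ (le_trans ?_ (p2Elem_mmax hL ((b3.sup_one (isEp_zpowers hx
      (orderOf_eq_prime (b2 x hx) fun e => hxZ (e ▸ one_mem _))) (hxS.trans (le_cent_Zc S))
      fun h => hxZ (zpowers_le.1 h)).mono (hSP.trans hPL))).1)
    exact le_cent_sup (inf_le_left.trans inf_le_right) inf_le_right
  obtain ⟨A0, c1, c2, c3⟩ := key M L hM hL hne hPM hPL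
  obtain ⟨A1, d1, d2, d3⟩ := key L M hL hM (Ne.symm hne) hPL hPM
  obtain ⟨g, hg, rfl⟩ := (basic_p2maxElem_structure hA.top (hA.top.isMaxEp (rank_syl hS ▸ hr)) hP.isPGroup
    hA.le hab).2.2 A0 A1 c1 c2 d1 d2
  have := (c3.conj g).eq hL (norm_conj g A0 ▸ d3.le)
  exact hne (this.trans (conj_eq_of_mem (hPM hg.1)))

theorem cent_der_sigma_uniq {M X : Subgroup G} {p : ℕ} [hp : Fact p.Prime] (hM : IsCoatom M) (hX : IsEp p 1 X M)
    (h : p ∈ betaS M ∨ X ≤ der (Ms M)) :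
    UniqMax 𝐂(X) M ∧ ∀ P, Syl p P (Ms M) → UniqMax P M := by
  have hs : p ∈ sigmaS M := h.elim (fun h => beta_sub_sigma hM h) fun h =>
    mem_of_isPGroup_of_piGrp hX.isPGroup (hX.ne_bot one_ne_zero) ((Ms_piGrp M).of_le (h.trans (der_le _)))
  obtain ⟨P, hP, hXP⟩ := exists_syl_ge (le_Ms hM hX.le (piGrp_of_isPGroup hX.isPGroup hs)) hX.isPGroup
  have hPM := hP.trans_hall (Msigma_Hall hM) hs
  have hC := mFT_cent_proper (hX.ne_bot one_ne_zero)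
  suffices h : UniqMax 𝐂(X) M ∧ UniqMax P M by
    refine ⟨h.1, fun Q hQ => ?_⟩
    obtain ⟨g, hg, rfl⟩ := hP.exists_conj' hQ
    simpa only [conj_eq_of_mem ((Ms_normal M).le hg)] using h.2.conj g
  by_cases hr : rp p (P ⊓ 𝐂(X)) ≤ 2
  swap
  · have := (rank3_Uniqueness (mFT_pgroup_proper hP.isPGroup.to_inf_left)
      ((show 3 ≤ rp p (P ⊓ 𝐂(X)) by omega).trans (rp_le_rank p _))).uniqMax hM (inf_le_left.trans hPM.le)
    exact ⟨this.mono inf_le_right hC, this.mono inf_le_left (mFT_pgroup_proper hP.isPGroup)⟩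
  have hn : Narrow p P := fun h => (narrow_centP hP.isPGroup (mFT_odd _) h).2 ⟨X, hXP, hX.card_one, hr⟩ h
  have hb : p ∉ betaS M := by
    rintro ⟨-, Q, hQ, h⟩
    obtain ⟨g, -, rfl⟩ := hPM.exists_conj' hQ
    exact h (narrow_conj.2 hn)
  have sd := (beta_max_pdiv hM hb).2.1.sdprod hP
  have hXd : X ≤ der P := (le_inf hXP (h.resolve_left hb)).trans ((pprod_focal_coprime sd.sup_eq sd.normal le_rfl
    (coprime_of_isPGroup hP.isPGroup (Op'_piGrp _ _)).symm).le.trans inf_le_right)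
  have hab : ¬ Ab P := fun h => hX.ne_bot one_ne_zero (eq_bot_iff.2 (ab_iff_der.1 h ▸ hXd))
  have hu := (nonabelian_Uniqueness hP.isPGroup hab).uniqMax hM hPM.le
  have hr2 : rp p P ≤ 2 := by_contra fun h => hX.ne_bot one_ne_zero (by
    rw [← (narrow_cent_dprod hP.isPGroup (mFT_odd _) (by omega) hn hX.card_one hXP hr).2.1, inf_eq_left.2 hXd])
  obtain ⟨-, -, -, -, -, -, -, hd⟩ := rank2_syl (hP.trans_hall (Msigma_Hall_G hM) hs)
    (rank_eq_rp hP.isPGroup ▸ hr2) hab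
  exact ⟨hu.mono (le_cent_symm (hXd.trans (hd.trans (Zc_le_cent P)))) hC, hu⟩

end Cfsg.Agent.OO.Pf
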