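import Cfsg.Agent.Lib.OO.Pf.BG12_D

/-! # B&G section 12, part E (12.15 – 12.19) -/

set_option autoImplicit false
set_option linter.unusedSectionVars false
set_option linter.unusedVariables false

namespace Cfsg.Agent.OO.Pf

open Subgroup Cfsg.Agent.Coprime B12
open scoped Pointwise commutatorElement

universe u

variable {G : Type u} [Group G] [Finite G]

theorem B12.relIndex_of_sup {K U L : Subgroup G} {π : Set ℕ} (h : K ⊔ U = L) (hK : K ⊴ L) (hπ : PiGrp π K) :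
    IsPiNum π (U.relIndex L) := by
  rw [← h, relIndex_sup_eq (Or.inr ((h ▸ le_sup_right : U ≤ L).trans hK.norm))]
  exact hπ.relIndex U

theorem B12.syl_of_sup {K U L R : Subgroup G} {p : ℕ} [hp : Fact p.Prime] (h : K ⊔ U = L) (hK : K ⊴ L)
    (hπ : PiGrp ({p} : Set ℕ)ᶜ K) (hR : Syl p R U) : Syl p R L :=
  (hR.hall.trans_of_relIndex (h ▸ le_sup_right) (relIndex_of_sup h hK hπ)).syl

theorem B12.not_dvd_der_of_sup {K U L V : Subgroup G} {p : ℕ} [hp : Fact p.Prime] (h : K ⊔ U = L) (hK : K ⊴ L)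
    (hπ : PiGrp ({p} : Set ℕ)ᶜ K) (hV : U ≤ V) (h' : ¬ p ∣ ♯(der V)) : ¬ p ∣ ♯(der L) := by
  obtain ⟨R, hR⟩ := exists_syl p U
  rw [← ((syl_of_sup h hK hπ hR).inf_normal (der_normal L)).eq_bot_iff,
    pprod_focal_coprime h hK hR.le (coprime_of_isPGroup hR.isPGroup hπ).symm]
  exact hR.piGrp.inf_eq_bot (((piGrp_compl_singleton hp.out).2 h').of_le (der_mono hV))

theorem B12.Mb_p' {M : Subgroup G} {p : ℕ} (h : p ∉ betaS M) : PiGrp ({p} : Set ℕ)ᶜ (Mb M) :=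
  (Mb_piGrp M).mono fun q hq e => h (e ▸ hq)

variable [MinOdd G]

theorem sigma_subgroup_embedding {M X Mstar : Subgroup G} {q : ℕ} (hM : IsCoatom M) (hq : q ∈ sigmaS M)
    (hXM : X ≤ M) (hX : IsPGroup q X) (hX1 : X ≠ ⊥) (hMs : IsCoatom Mstar) (hN : 𝐍(X) ≤ Mstar)
    (hne : Mstar ≠ M) :
    NotConj Mstar M ∧ (∀ S, Syl q S (M ⊓ Mstar) → X ≤ S → 𝐍(S) ≤ M ∧ Syl q S Mstar) ∧
    (q ∈ sigmaS Mstar → Mb Mstar ⊔ (M ⊓ Mstar) = Mstar ∧ tau1S Mstar ⊆ tau1S M ∪ alphaS M ∧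
      Mb M = Ma M ∧ Mb M ≠ ⊥) ∧
    (q ∉ sigmaS Mstar → q ∈ tau2S Mstar ∧ piOf M ∩ sigmaS Mstar ⊆ betaS Mstar ∧
      Hall (sigmaS Mstar)ᶜ (M ⊓ Mstar) Mstar) := by
  have := Fact.mk hq.1
  have hnc := mmax_norm_notJ hM hMs hX hXM hN (Or.inl ⟨hq, hne.symm⟩)
  have hb : ∀ S, Syl q S (M ⊓ Mstar) → X ≤ S → 𝐍(S) ≤ M ∧ Syl q S Mstar := fun S hS hXS => by
    have h1 := hS.le.trans inf_le_left
    have h2 := hS.le.trans inf_le_right
    have h3 : 𝐍(S) ≤ M := by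
      by_cases hc : IsCyclic S
      · exact norm_sigma_Sylow hq (IsSylowIn.of_syl_norm h1 (hS.mono (le_inf h1 (le_norm_self S))
          (inf_le_inf_left _ ((norm_le_norm_of_isCyclic hc hXS).trans hN))))
      · exact norm_noncyclic_sigma hM hq hS.isPGroup h1 hc
    exact ⟨h3, IsSylowIn.of_syl_norm h2 (hS.mono (le_inf h2 (le_norm_self S))
      (le_inf (inf_le_right.trans h3) inf_le_left))⟩
  obtain ⟨S, hS, hXS⟩ := exists_syl_ge (le_inf hXM ((le_norm_self X).trans hN)) hX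
  obtain ⟨h1, h2⟩ := hb S hS hXS
  refine ⟨hnc, hb, fun hs => ?_, fun hs => ?_⟩
  · have h3 := norm_sigma_Sylow hs h2
    have h4 := sigma_Sylow_G hs h2
    obtain ⟨a1, a2⟩ := nonuniq_norm_Sylow_pprod hM hMs hne h4 (le_inf h3 h1)
    obtain ⟨b1, -⟩ := nonuniq_norm_Sylow_pprod hMs hM hne.symm h4 (le_inf h1 h3)
    refine ⟨b1, fun p hp => or_iff_not_imp_right.2 fun ha => ?_, by rw [Mb, Ma, a2], fun e => ?_⟩
    · have := Fact.mk hp.1
      rw [inf_comm] at a1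
      have c1 := Mb_p' (a2 ▸ ha : p ∉ betaS M)
      obtain ⟨R, hR⟩ := exists_syl p (M ⊓ Mstar)
      have c2 := syl_of_sup a1 (Mb_normal M) c1 hR
      have c3 := (rp_syl (syl_of_sup b1 (Mb_normal _) (Mb_p' fun h => hp.2.1 (beta_sub_sigma hMs h)) hR)).trans
        hp.2.2.1
      have c4 := not_dvd_der_of_sup a1 (Mb_normal M) c1 inf_le_right hp.2.2.2
      exact ⟨hp.1, fun h => c4 ((rp_pos_iff.1 (by omega)).trans
        (card_dvd (le_der_of_sigma hM h hR.isPGroup c2.le))), (rp_syl c2).symm.trans c3, c4⟩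
    · rw [e, bot_sup_eq] at a1
      exact hne (eq_mmax hM hMs (a1 ▸ inf_le_left)).symm
  have ht := (prime_class_mmax_norm hMs hX hN).resolve_left hs
  obtain ⟨A, hA⟩ := exists_isEp ((rp_syl h2).trans ht.2.2).ge
  obtain ⟨E, hE, hSE⟩ := ex_sigma_compl hMs h2.le (piGrp_of_isPGroup hS.isPGroup hs)
  have hAM : A ≤ M := hA.le.trans (hS.le.trans inf_le_left)
  obtain ⟨⟨c1, -⟩, ⟨c2, -, -⟩, -⟩ := tau2_compl_context hMs hE ht (hA.mono hSE)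
  obtain ⟨-, -, c3, c4, -⟩ := tau2_context hMs ht (hA.mono h2.le)
  refine ⟨ht, fun p hp => by_contra fun hb' => ?_, ?_⟩
  · have := Fact.mk hp.1.1
    have hqb := (tau2_not_beta hMs ht).1
    rcases lt_trichotomy p q with h | h | h
    · obtain ⟨T, hT, h3⟩ := (beta'_cent_Sylow hMs hb' (not_mem_beta hMs hqb) hA.isPGroup
        (Or.inr ⟨h, hA.le.trans h2.le⟩)).1
      exact sigma_Sylow_neq1 hMs hp.2 (hT.trans_hall (Msigma_Hall hMs) hp.2)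
        (eq_bot_iff.2 (c3 ▸ le_inf hT.le (le_cent_symm h3)))
    · exact hs (h ▸ hp.2)
    · have d1 : p ∉ sigmaS M := Set.disjoint_left.1
        ((sigma_disjoint hMs hM hnc.symm).2.2 (tau2_Msigma_nil hMs ht)).2 hp.2
      have d2 : p ∣ ♯(Op' q M) := ((Nat.Prime.dvd_mul hp.1.1).1 (card_mul_relIndex (Opi_le _ M) ▸ hp.1.2)).resolve_right
        fun hd => h.not_ge ((beta_max_pdiv hM (not_mem_beta hM hqb)).2.2 p hp.1.1 hd)
      obtain ⟨P, hP, hn⟩ := coprime_Hall_exists {p} (hAM.trans (Opi_normal _ M).norm)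
        (coprime_of_isPGroup hA.isPGroup (Op'_piGrp q M)).symm (sol_of_le (mmax_sol hM) (Opi_le _ M))
      have d3 : P ≤ E := (commutator_eq_bot_iff'.1 (eq_bot_iff.2 (hP.piGrp.inf_eq_bot (Ms_p' d1) ▸
        le_inf (commutator_le_right' hn) ((commutator_mono (le_Ms hM hAM (piGrp_of_isPGroup hA.isPGroup hq))
        (hP.le.trans (Opi_le _ M))).trans (Ms_normal M).commutator_le)))).trans c2
      exact hE.piGrp p hp.1.1 ((hP.syl.dvd_card_iff.2 d2).trans (card_dvd d3)) hp.2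
  · have d1 : E ≤ M := c1.norm.trans (norm_noncyclic_sigma hM hq hA.isPGroup hAM (hA.not_isCyclic le_rfl))
    have := ((sdprod_sigma hMs hE).inf_of_right_le d1).sup_eq
    rw [c4 M hM hAM hne.symm, bot_sup_eq, inf_comm] at this
    exact this ▸ hE

theorem B12.sigma_Jsub_aux {M Y X : Subgroup G} {q : ℕ} (hM : IsCoatom M) (hY : PiGrp (sigmaS M) Y)
    (hq : q ∈ sigmaS M) (hX : IsPGroup q X) (hX1 : X ≠ ⊥) (hXY : X ≤ Y) (hn : 𝐍(Y) ≤ 𝐍(X)) (hXM : X ≤ M) :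
    (∃ x : G, x •ᶜ Y ≤ Ms M) ∧
    ∀ (p : ℕ) (H : Subgroup G), p ∈ piOf M → p ∉ sigmaS M →
      p ∉ betaS (⊤ : Subgroup G) → IsCoatom H → Y ≤ H → NotConj H M →
      rp p (H ⊓ 𝐍(Y)) ≤ 1 ∧ (p ∈ tau1S M → p ∉ piOf (der (H ⊓ 𝐍(Y)))) := by
  have := Fact.mk hq.1
  have pre : ∀ (p : ℕ) (_ : Fact p.Prime) (H : Subgroup G), p ∉ sigmaS M → IsCoatom H → Y ≤ H → H ≠ M →
      rp p (M ⊓ H) ≤ 1 := fun p hp H hs hH hYH hne => by_contra fun h => by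
    obtain ⟨A, hA⟩ := exists_isEp (show 2 ≤ rp p (M ⊓ H) by omega)
    have hAM := hA.mono inf_le_left
    exact hX1 (eq_bot_iff.2 ((tau2_context hM (tau2_of_le_rp hM hp.out hs hAM.le_rp) hAM).2.2.2.1 H hH
      (hA.le.trans inf_le_right) hne ▸ le_inf (le_Ms hM hXM (piGrp_of_isPGroup hX hq)) (hXY.trans hYH)))
  by_cases hN : 𝐍(X) ≤ M
  · refine ⟨⟨1, by simpa using le_Ms hM ((le_norm_self Y).trans (hn.trans hN)) hY⟩,
      fun p H hp hs hb hH hYH hc => ?_⟩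
    have := Fact.mk hp.1
    have h1 : H ⊓ 𝐍(Y) ≤ M := inf_le_right.trans (hn.trans hN)
    exact ⟨(rp_mono p (le_inf h1 inf_le_left)).trans (pre p this H hs hH hYH hc.ne),
      fun h h' => h.2.2.2 (h'.2.trans (card_dvd (der_mono h1)))⟩
  obtain ⟨L, hL, hNL⟩ := mmax_exists (norm_ne_top hX hX1)
  have hne : L ≠ M := fun e => hN (e ▸ hNL)
  obtain ⟨a1, -, a2, a3⟩ := sigma_subgroup_embedding hM hq hXM hX hX1 hL hNL hne
  obtain ⟨K, nK, hK, b1, b2⟩ : ∃ K, K ⊴ L ∧ K ⊔ (M ⊓ L) = L ∧ PiGrp (sigmaS M)ᶜ K ∧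
      ∀ p ∈ piOf M, p ∉ betaS (⊤ : Subgroup G) → PiGrp ({p} : Set ℕ)ᶜ K := by
    by_cases hs : q ∈ sigmaS L
    · exact ⟨_, Mb_normal L, (a2 hs).1, (Mb_piGrp L).mono fun r hr => Set.disjoint_left.1
        (sigma_disjoint hL hM a1.symm).2.1 (beta_sub_alpha L hr), fun p _ hb => Mb_p' (not_mem_beta hL hb)⟩
    · obtain ⟨c1, c2, c3⟩ := a3 hs
      exact ⟨_, Ms_normal L, (sdprod_sigma hL c3).sup_eq, (Ms_piGrp L).mono fun r hr => Set.disjoint_left.1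
        ((sigma_disjoint hL hM a1.symm).2.2 (tau2_Msigma_nil hL c1)).2 hr,
        fun p hp hb => Ms_p' fun h => not_mem_beta hL hb (c2 ⟨hp, h⟩)⟩
  have hYL : Y ≤ L := (le_norm_self Y).trans (hn.trans hNL)
  refine ⟨?_, fun p H hp hs hb hH hYH hc => ?_⟩
  · obtain ⟨T, hT⟩ := exists_hall (sigmaS M) (sol_of_le (mmax_sol hM) (inf_le_left : M ⊓ L ≤ M))
    obtain ⟨g, -, hg⟩ := (hT.trans_of_relIndex inf_le_right (relIndex_of_sup hK nK b1)).exists_conj_le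
      (mmax_sol hL) hYL hY
    exact ⟨g, hg.trans (le_Ms hM (hT.le.trans inf_le_left) hT.piGrp)⟩
  have := Fact.mk hp.1
  have h1 : H ⊓ 𝐍(Y) ≤ L := inf_le_right.trans (hn.trans hNL)
  refine ⟨(rp_mono p h1).trans ((rp_eq_of_not_dvd inf_le_right ((isPiNum_compl_singleton hp.1).1
    (relIndex_of_sup hK nK (b2 p hp hb)))).ge.trans (pre p this L hs hL hYL hne)), fun h h' => ?_⟩
  exact not_dvd_der_of_sup hK nK (b2 p hp hb) inf_le_left h.2.2.2 (h'.2.trans (card_dvd (der_mono h1)))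

theorem sigma_Jsub {M Y : Subgroup G} (hM : IsCoatom M) (hY : PiGrp (sigmaS M) Y) (hY1 : Y ≠ ⊥) :
    (∃ x : G, x •ᶜ Y ≤ Ms M) ∧
    ∀ (E : Subgroup G) (p : ℕ) (H : Subgroup G), Hall (sigmaS M)ᶜ E M → p ∈ piOf E →
      p ∉ betaS (⊤ : Subgroup G) → IsCoatom H → Y ≤ H → NotConj H M →
      rp p (H ⊓ 𝐍(Y)) ≤ 1 ∧ (p ∈ tau1S M → p ∉ piOf (der (H ⊓ 𝐍(Y)))) := by
  have hY' : Y ≠ ⊤ := by
    rintro rfl
    exact (der_lt (mmax_sol hM) (mmax_neq1 hM)).not_ge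
      ((le_Ms hM le_rfl (hY.of_le le_top)).trans (Msigma_der1 hM))
  obtain ⟨q, hq, hX1⟩ := exists_Op_ne_bot (mFT_sol hY') hY1
  have := Fact.mk hq
  have hs := mem_of_isPGroup_of_piGrp (Op_isPGroup q Y) hX1 (hY.of_le (Op_le q Y))
  obtain ⟨g, hg⟩ := (sigma_group_trans hM hs (Op_isPGroup q Y)).2.1.1
  obtain ⟨⟨x, hx⟩, h⟩ := sigma_Jsub_aux (isCoatom_conj hM g) (sigmaS_conj M g ▸ hY) (sigmaS_conj M g ▸ hs)
    (Op_isPGroup q Y) hX1 (Op_le q Y) (norm_le_norm_Op q Y) hg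
  refine ⟨⟨g⁻¹ * x, ?_⟩, fun E p H hE hp hb hH hYH hc => ?_⟩
  · rwa [Ms_conj, le_conj_iff_inv_conj_le, conj_conj] at hx
  · rw [← tau1S_conj M g]
    refine h p H (piOf_conj g M ▸ piOf_mono hE.le hp) (sigmaS_conj M g ▸ hE.piGrp p hp.1 hp.2) hb hH hYH
      fun k => ?_
    rw [conj_conj]
    exact hc _

theorem sigma_compl_embedding {M E : Subgroup G} (hM : IsCoatom M) (hE : Hall (sigmaS M)ᶜ E M) :
    Ms M ⊓ 𝐂(E) ≤ der (Ms M) ∧ ⁅Ms M, E⁆ = Ms M ∧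
    ∀ g : G, g ∉ M → IsCyclic ↥(Ms M ⊓ g •ᶜ M) ∧ PiGrp (betaS M)ᶜ (Ms M ⊓ g •ᶜ M) ∧
      der (Ms M) ⊓ g •ᶜ M = ⊥ := by
  obtain ⟨a1, a2⟩ := coprime_der1_sdprod (sdprod_sigma hM hE) (coprime_sigma_compl hE)
    (sol_of_le (mmax_sol hM) (Ms_normal M).le) (Msigma_der1 hM)
  refine ⟨a2, a1, fun g hg => ?_⟩
  have hle : Ms M ⊓ g •ᶜ M ≤ M := inf_le_left.trans (Ms_normal M).le
  have key : ∀ (p n : ℕ) (_ : Fact p.Prime) X, n ≠ 0 → IsEp p n X (Ms M ⊓ g •ᶜ M) → ¬ 𝐂(X) ≤ M := by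
    intro p n _ X hn hX h
    obtain ⟨c, hc, e⟩ := eq_conj_cent hM (Ms_piGrp M p Fact.out ((hX.mono inf_le_left).dvd_card hn)) hX.isPGroup
      (hX.le.trans hle) (hX.le.trans inf_le_right)
    exact hg ((conj_mmax_eq_iff hM).1 (e.trans (conj_eq_of_mem (h hc))))
  have h1 : der (Ms M) ⊓ g •ᶜ M = ⊥ := by_contra fun h => by
    obtain ⟨p, hp, hd⟩ := exists_prime_dvd h
    have := Fact.mk hp
    obtain ⟨X, hX⟩ := exists_isEp_one hd
    have hX' := hX.mono (inf_le_inf_right _ (der_le _))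
    exact key p 1 this X one_ne_zero hX' (cent_der_sigma_uniq hM (hX'.mono hle)
      (Or.inr (hX.le.trans inf_le_left))).1.le
  refine ⟨(isCyclic_iff_rank_of_ab (ab_iff_der.2 (eq_bot_iff.2 (h1 ▸ le_inf (der_mono inf_le_left)
    ((der_le _).trans inf_le_right))))).2 (rank_le_iff.2 fun p hp => by_contra fun h => ?_),
    fun p hp hd h => ?_, h1⟩
  · obtain ⟨A, hA⟩ := exists_isEp (show 2 ≤ rp p (Ms M ⊓ g •ᶜ M) by omega)
    exact key p 2 hp A two_ne_zero hA (p2Elem_mmax hM (hA.mono hle)).1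
  · have := Fact.mk hp
    obtain ⟨X, hX⟩ := exists_isEp_one hd
    exact key p 1 this X one_ne_zero hX (cent_der_sigma_uniq hM (hX.mono hle) (Or.inl h)).1.le

omit [MinOdd G] in
theorem B12.cent_of_frob {K R H : Subgroup G} (h : IsFrob (K ⊔ R) K R) (hn : K ⊔ R ≤ 𝐍(H))
    (hc : (♯H).Coprime ♯(K ⊔ R)) (hs : Sol H) (h' : H ⊓ 𝐂(R) ≤ 𝐂(K)) : K ≤ 𝐂(H) := by
  have h1 := (Frobenius_Wielandt_fixpoint h hn hc hs).1
  rw [cent_sup, inf_comm 𝐂(K), ← inf_assoc, inf_eq_left.2 h'] at h1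
  exact le_cent_symm (inf_eq_left.1 (eq_of_le_of_card_le inf_le_left
    (Nat.eq_of_mul_eq_mul_left (pow_pos (card_pos' _) _) h1).le))

theorem cent_Malpha_reg_tau1 {M P Q : Subgroup G} {p q : ℕ} [Fact q.Prime] (hM : IsCoatom M)
    (hp : p ∈ tau1S M) (hqp : q ≠ p) (hP : IsEp p 1 P M) (hQ1 : Q ≠ ⊥) (hPQ : P ≤ 𝐍(Q))
    (hC : Q ⊓ 𝐂(P) = ⊥) (hN : ¬ UniqMax 𝐍(Q) M) :
    (Ma M ≠ ⊥ → q ∉ alphaS M → Q ≤ M → IsPGroup q Q → Ma M ⊓ 𝐂(P) ≠ ⊥ ∧ Ma M ⊓ 𝐂(P ⊔ Q) = ⊥) ∧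
    (Syl q Q M → alphaS M = betaS M ∧ Ma M ≠ ⊥ ∧ q ∉ alphaS M ∧ Ma M ⊓ 𝐂(P) ≠ ⊥ ∧
      Ma M ⊓ 𝐂(P ⊔ Q) = ⊥) := by
  have := Fact.mk hp.1
  have hpa : p ∉ alphaS M := fun h => hp.2.1 (alpha_sub_sigma hM h)
  have hu : ∀ K, IsPGroup q Q → K ≤ M ⊓ 𝐍(Q) → ¬ Uniq K := fun K hQ hK h =>
    hN ((h.uniqMax hM (hK.trans inf_le_left)).mono (hK.trans inf_le_right) (norm_ne_top hQ hQ1))
  have ha : Ma M ≠ ⊥ → q ∉ alphaS M → Q ≤ M → IsPGroup q Q → Ma M ⊓ 𝐂(P) ≠ ⊥ ∧ Ma M ⊓ 𝐂(P ⊔ Q) = ⊥ := by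
    intro h1 h2 hQM hQ
    have hsol := sol_of_le (mmax_sol hM) (Ma_normal M).le
    have rQ : ∀ (r : ℕ) (_ : Fact r.Prime) R, Syl r R (Ma M) → r ∣ ♯(Ma M) → ¬ Q ≤ 𝐂(R) := fun r _ R hR hd h => by
      have h3 := Ma_piGrp M r Fact.out hd
      refine hu _ hQ (inf_le_inf_left _ (cent_le_norm Q)) (cent_alpha'_uniq hM hQM (piGrp_of_isPGroup hQ h2) ?_)
      have := rank_mono (le_inf hR.le (le_cent_symm h))
      rw [rank_syl (hR.trans_hall (Malpha_Hall hM) h3)] at this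
      exact (le_of_lt h3.2).trans this
    have rP : rank (Ma M ⊓ 𝐂(P)) ≤ 1 := by_contra fun h => by
      have := ((cent_alpha'_uniq hM hP.le (piGrp_of_isPGroup hP.isPGroup hpa) (by omega)).uniqMax hM
        inf_le_left).le_of_ne_top (inf_le_right.trans (cent_le_norm P))
        (norm_ne_top hP.isPGroup (hP.ne_bot one_ne_zero))
      exact (prime_class_mmax_norm hM hP.isPGroup this).elim hp.2.1 (tau1_not_tau2 hp)
    have hF := (semiregular_prime hP.prime_card hC).isFrob hPQ hQ1 (hP.ne_bot one_ne_zero)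
    have hn : Q ⊔ P ≤ 𝐍(Ma M) := (sup_le hQM hP.le).trans (Ma_normal M).norm
    have hc : (♯(Ma M)).Coprime ♯(Q ⊔ P) := (Ma_piGrp M).coprime
      (PiGrp.sup (piGrp_of_isPGroup hQ h2) (piGrp_of_isPGroup hP.isPGroup hpa) (Or.inr hPQ))
    refine ⟨fun e => ?_, by_contra fun e => ?_⟩
    · obtain ⟨r, hr, hd⟩ := exists_prime_dvd h1
      have := Fact.mk hr
      obtain ⟨R, hR⟩ := exists_syl r (Ma M)
      exact rQ r this R hR hd ((cent_of_frob hF hn hc hsol (e ▸ bot_le)).trans (cent_anti hR.le))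
    obtain ⟨r, hr, hd⟩ := exists_prime_dvd e
    have := Fact.mk hr
    obtain ⟨X, hX⟩ := exists_isEp_one hd
    have hXC : X ≤ 𝐂(P ⊔ Q) := hX.le.trans inf_le_right
    obtain ⟨R, hR, nR, hXR⟩ := coprime_Hall_subset hn hc hsol (hX.le.trans inf_le_left) hX.piGrp
      (le_norm_of_le_cent (le_cent_symm (sup_comm P Q ▸ hXC)))
    have pR := hR.syl.isPGroup
    obtain ⟨R1, b1, -, b2, -, -, b3, b4⟩ := critical_odd pR (mFT_odd _)
      fun e => hX.ne_bot one_ne_zero (eq_bot_iff.2 (e ▸ hXR))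
    have hd' := hd.trans (card_dvd inf_le_left)
    have c1 : IsCyclic ↥(R ⊓ 𝐂(P)) := isCyclic_of_rp pR.to_inf_left (inf_le_inf_right _ hR.le)
      ((rp_le_rank r _).trans rP)
    have c2 := (hX.of_le (le_inf hXR (hXC.trans (cent_anti le_sup_left)))).eq_Ohm_of_isCyclic c1
    have c3 := cent_of_frob hF (nR.trans b2) (coprime_card_mono hc (b1.trans hR.le) le_rfl)
      (sol_of_isPGroup (pR.to_le b1)) (le_trans (c2 ▸ le_Ohm_of_pow (inf_le_inf_right _ b1)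
        fun x hx => b3 ▸ pow_expo hx.1) (hXC.trans (cent_anti le_sup_right)))
    refine rQ r this R hR.syl hd' fun x hx => b4 x (nR (mem_sup_left hx)) ?_ (c3 hx)
    exact (Nat.Coprime.coprime_dvd_left hd' (Nat.Coprime.coprime_dvd_right
      (orderOf_dvd_card (mem_sup_left hx)) hc)).symm
  refine ⟨ha, fun hQ => ?_⟩
  have hQN : Q ≤ M ⊓ 𝐍(Q) := le_inf hQ.le (le_norm_self Q)
  have h2 : q ∉ alphaS M := fun h => hu Q hQ.isPGroup hQN
    (rank3_Uniqueness (mFT_pgroup_proper hQ.isPGroup) (rank_syl hQ ▸ h.2))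
  have h3 : Q ≤ der M := by
    have := coprime_cent_prod hPQ (coprime_of_isPGroup_ne hQ.isPGroup hP.isPGroup hqp) (Or.inl hQ.sol)
    rw [hC, sup_bot_eq] at this
    exact this ▸ commutator_mono hQ.le hP.le
  have h1 : Ma M ≠ ⊥ := fun e => by
    have := Malpha_quo_nil hM
    rw [e] at this
    have hn : Nil (der M) := Group.nilpotent_of_mulEquiv (quoBotEquiv (der M)).symm
    rw [mmax_normal hM ((der_normal M).char_trans h3
      ((hQ.mono h3 (der_le M)).hall.norm_le_norm_of_nil hn)) hQ1] at hN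
    exact hN (uniqMax_self hM)
  refine ⟨Set.Subset.antisymm (fun r hr => by_contra fun hb => ?_) (beta_sub_alpha M), h1, h2,
    ha h1 h2 hQ.le hQ.isPGroup⟩
  have := Fact.mk hr.1
  exact hu _ hQ.isPGroup (inf_le_inf_left _ (cent_le_norm Q)) ((beta'_cent_Sylow hM hb
    (fun h => h2 (beta_sub_alpha M h)) hQ.isPGroup (Or.inl ⟨fun e => h2 (e ▸ hr), h3⟩)).2.1 hr)

theorem der_compl_cent_beta' {M E : Subgroup G} (hM : IsCoatom M) (hE : Hall (sigmaS M)ᶜ E M) :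
    ∃ H, Hall (betaS M)ᶜ H (Ms M) ∧ der E ≤ 𝐂(H) := by
  have h1 := hE.piGrp.of_le (der_le E)
  obtain ⟨K, hK, h2⟩ := exists_hall_ge (sol_of_le (mmax_sol hM) (der_le M)) (der_mono hE.le)
    (h1.mono (Set.compl_subset_compl.2 (beta_sub_sigma hM)))
  exact ⟨K ⊓ Ms M, hK.inf_normal ((Ms_normal M).mono (Msigma_der1 hM) (der_le M)),
    le_cent_of_nil_of_coprime (beta'_der1_nil hM hK.piGrp hK.le) h2 inf_le_left
      (((Ms_piGrp M).inf_right K).coprime h1).symm⟩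

end Cfsg.Agent.OO.Pf
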