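import Cfsg.Agent.Lib.OO.Quo
import Cfsg.Agent.Lib.OO.BG6
import Cfsg.Agent.Lib.OO.BG9
import Cfsg.Agent.Lib.OO.BG10
import Cfsg.Agent.Lib.OO.BG11
import Cfsg.Agent.Lib.OO.BG12

/-! # B&G section 13, first part (13.1 - 13.7) -/

set_option autoImplicit false
set_option linter.unusedSectionVars false

namespace Cfsg.Agent.OO.Pf

open Subgroup Cfsg.Agent.Coprime
open scoped Pointwise

universe u

variable {G : Type u} [Group G] [Finite G]

namespace B13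
variable {A B D E H K L M N P Q R S X Y : Subgroup G} {p q : ℕ} {π : Set ℕ}

theorem normal_sup_syl [Fact p.Prime] (hN : N ⊴ H) (hD : D ⊴ H) (hnil : Nil (D ⁒ N))
    (hS : Syl p S D) : N ⊔ S ⊴ H := by
  have h1 : D ≤ 𝐍(N) := hD.1.trans hN.2
  refine ⟨sup_le hN.1 (hS.le.trans hD.1), ?_⟩
  rw [sup_comm]
  refine le_norm_sup_of_quo hN.2 (hS.le.trans h1) ?_
  rw [syl_eq_Op_of_nil hnil (hS.quo h1)]
  exact ((hD.quo N).Op p).2

theorem frattini_nil_quo [Fact p.Prime] (hN : N ⊴ H) (hD : D ⊴ H) (hND : N ≤ D)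
    (hnil : Nil (D ⁒ N)) (hS : Syl p S D) : N ⊔ (H ⊓ 𝐍(S)) = H := by
  have h1 := ((hS.mono le_sup_right (sup_le hND hS.le)).frattini
    (normal_sup_syl hN hD hnil hS)).sup_eq
  rwa [sup_assoc, sup_eq_right.2 (le_inf (hS.le.trans hD.1) le_normalizer)] at h1

theorem der_le_sup (hN : N ⊴ H) (h : N ⊔ L = H) : der H ≤ der L ⊔ N := by
  have hL : L ≤ 𝐍(N) := (le_sup_right.trans h.le).trans hN.2
  rw [← quo_le_quo_iff_le_sup ((der_le H).trans hN.2) ((der_le L).trans hL), quo_der hN.2,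
    quo_der hL, ← h, quo_self_sup hL]

theorem relIndex_dvd_of_sup (hN : N ⊴ H) (h : N ⊔ L = H) : L.relIndex H ∣ ♯N := by
  rw [← h, relIndex_sup_eq (Or.inr ((le_sup_right.trans h.le).trans hN.2))]
  exact relIndex_dvd_card L N

theorem exists_syl_not_cent (hn : A ≤ 𝐍(K)) (hc : (♯K).Coprime ♯A) (hs : Sol K)
    (h : ¬ A ≤ 𝐂(K)) : ∃ (q : ℕ) (_ : Fact q.Prime) (S : Subgroup G),
      Syl q S K ∧ A ≤ 𝐍(S) ∧ ¬ A ≤ 𝐂(S) := by
  by_contra! h'
  refine h (le_cent_symm (le_of_forall_syl fun q hq _ => ?_))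
  have := Fact.mk hq
  obtain ⟨S, hS, hAS⟩ := coprime_Hall_exists {q} hn hc hs
  exact ⟨S, hS.syl, le_cent_symm (h' q this S hS.syl hAS)⟩

theorem exists_inv_syl (q : ℕ) [Fact q.Prime] (hn : A ≤ 𝐍(K)) (hc : (♯K).Coprime ♯A) (hs : Sol K) :
    ∃ S, Syl q S K ∧ A ≤ 𝐍(S) :=
  (coprime_Hall_exists {q} hn hc hs).imp fun _ h => ⟨h.1.syl, h.2⟩

theorem le_cent_of_isCyclic [Fact p.Prime] (hP : IsPGroup p P) (hc : IsCyclic P) (hn : A ≤ 𝐍(P))
    (hA : (♯P).Coprime ♯A) (h : P ⊓ 𝐂(A) ≠ ⊥) : A ≤ 𝐂(P) := by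
  refine coprime_abelian_faithful_Ohm1 hn hA (ab_of_isCyclic hc) fun x hx ho => ?_
  obtain ⟨Z, hZ⟩ := exists_isEp_one_of_isPGroup hP.to_inf_left h
  have h1 : orderOf x = p := mem_of_isPGroup_of_piGrp (π := {orderOf x})
    (hP.to_le (zpowers_le.2 hx)) (mt zpowers_eq_bot.1 fun e => by simp [e] at ho; exact ho.ne_one rfl)
    (piGrp_zpowers.2 ((isPiNum_prime ho).2 rfl)) |>.symm
  have h2 := eq_of_isCyclic_of_card_eq hc (zpowers_le.2 hx) (hZ.le.trans inf_le_left)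
    (by rw [Nat.card_zpowers, h1, hZ.card_one])
  exact (hZ.le (h2 ▸ mem_zpowers x)).2

theorem commutator_eq_of_cent_bot (hn : A ≤ 𝐍(K)) (hc : (♯K).Coprime ♯A) (hs : Sol K ∨ Sol A)
    (h : K ⊓ 𝐂(A) = ⊥) : ⁅K, A⁆ = K := by
  have := coprime_cent_prod hn hc hs
  rwa [h, sup_bot_eq] at this

theorem isEp_one_of_prime (h : X ≤ H) (hp : (♯X).Prime) : IsEp ♯X 1 X H :=
  have := Fact.mk hp
  isEp_one_iff.2 ⟨h, rfl⟩

variable [MinOdd G]

theorem ne_bot_of_norm_le (hH : IsCoatom H) (h : 𝐍(P) ≤ H) : P ≠ ⊥ := fun e =>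
  hH.1 (top_le_iff.1 (by rwa [e, norm_bot] at h))

theorem exists_mmax_norm [Fact p.Prime] (hP : IsPGroup p P) (h : P ≠ ⊥) :
    ∃ H, IsCoatom H ∧ 𝐍(P) ≤ H := mmax_exists (mFT_norm_proper h (mFT_pgroup_proper hP))

theorem not_sigma (hE : Hall (sigmaS M)ᶜ E M) (hp : p ∈ piOf E) : p ∉ sigmaS M :=
  hE.piGrp.mem hp

theorem mem_piOf_tau13 (hM : IsCoatom M) (hE : Hall (sigmaS M)ᶜ E M) (hp : p ∈ tau13S M) :
    p ∈ piOf E := by
  rw [partition_pi_sigma_compl hM hE]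
  exact hp.elim (fun h => .inl (.inl h)) .inr

theorem mem_tau13 (hM : IsCoatom M) (hE : Hall (sigmaS M)ᶜ E M) (hp : p ∈ piOf E)
    (h2 : p ∉ tau2S M) : p ∈ tau13S M := by
  rw [partition_pi_sigma_compl hM hE] at hp
  rcases hp with (h | h) | h
  exacts [.inl h, absurd h h2, .inr h]

theorem rp_tau13 (hp : p ∈ tau13S M) : rp p M = 1 := hp.elim (fun h => h.2.2.1) fun h => h.2.2.1

theorem tau13_prime (hp : p ∈ tau13S M) : p.Prime := hp.elim (fun h => h.1) fun h => h.1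

theorem tau13_not_sigma (hp : p ∈ tau13S M) : p ∉ sigmaS M := hp.elim (fun h => h.2.1) fun h => h.2.1

theorem isCyclic_tau13 [Fact p.Prime] (hp : p ∈ tau13S M) (hP : IsPGroup p P) (h : P ≤ M) :
    IsCyclic P :=
  (isCyclic_iff_rp_of_odd hP (mFT_odd P)).2 ((rp_mono p h).trans (rp_tau13 hp).le)

theorem coprime_Ms (hK : K ≤ Ms M) (hX : PiGrp (sigmaS M)ᶜ X) : (♯K).Coprime ♯X :=
  ((Ms_piGrp M).of_le hK).coprime hX

theorem sol_Ms (hM : IsCoatom M) (hK : K ≤ Ms M) : Sol K :=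
  sol_of_le (mmax_sol hM) (hK.trans (Ms_normal M).1)

theorem notConj_conj (h : NotConj L M) (g : G) : NotConj L (g •ᶜ M) := fun k e =>
  h (k * g) (by rw [e, conj_conj])

theorem exists_sigmaCompl (hM : IsCoatom M) (hP : P ≤ M) (h : PiGrp (tau1S M) P) :
    ∃ E E1 E2 E3, SigmaCompl M E E1 E2 E3 ∧ P ≤ E1 := by
  obtain ⟨E, hE, hPE⟩ := ex_sigma_compl hM hP (h.mono fun _ h => h.2.1)
  obtain ⟨E1, h1, hP1⟩ := exists_hall_ge (sol_of_le (mmax_sol hM) hE.le) hPE h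
  obtain ⟨E2, E3, h⟩ := ex_tau23_compl hM hE h1
  exact ⟨E, E1, E2, E3, h, hP1⟩

/-- if `E₃` does not act regularly on `M_σ` then `E₂ = 1` -/
theorem tau2_eq_bot {E1 E2 E3 : Subgroup G} (hM : IsCoatom M) (hE : SigmaCompl M E E1 E2 E3)
    (h : ¬ Semiregular (Ms M) E3) : E2 = ⊥ := by
  by_contra h2
  obtain ⟨p, hp, hd⟩ := exists_prime_dvd h2
  have h3 := hE.hall2.piGrp p hp hd
  obtain ⟨A, hA, -⟩ := ex_tau2Elem hM hE.hallE h3
  exact h (tau2_regular hM hE h3 hA).1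

end B13

open B13

variable [MinOdd G]

theorem Msigma_setI_mmax_central {M E H : Subgroup G} {p : ℕ} (hM : IsCoatom M)
    (hE : Hall (sigmaS M)ᶜ E M) (hH : IsCoatom H) (hpE : p ∈ piOf E) (hpH : p ∈ piOf H)
    (ht : p ∉ tau1S H) (hc : ⁅Ms M ⊓ H, M ⊓ H⁆ ≠ ⊥) (hn : NotConj H M) :
    (∀ P, P ≤ M ⊓ H → IsPGroup p P → P ≤ 𝐂(Ms M ⊓ H)) ∧ p ∉ tau2S H ∧
    (p ∈ tau1S M → p ∈ betaS (⊤ : Subgroup G)) := by
  have := Fact.mk hpE.1
  have hK : M ⊓ H ≤ 𝐍(Ms M ⊓ H) :=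
    le_norm_inf (inf_le_left.trans (Ms_normal M).2) (le_norm_of_le inf_le_right)
  obtain ⟨q, hq, hqd⟩ := exists_prime_dvd hc
  have := Fact.mk hq
  obtain ⟨Y, hY⟩ := exists_syl q (der H)
  have hqs : q ∈ sigmaS M :=
    (Ms_piGrp M).of_le ((commutator_le_left' hK).trans inf_le_left) q hq hqd
  have hJ := (sigma_Jsub hM (piGrp_of_isPGroup hY.isPGroup hqs)
    (hY.ne_bot (hqd.trans (card_dvd (commutator_mono inf_le_right inf_le_right))))).2 E p H hE hpE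
  have hF := frattini_nil_quo (Mb_normal H) (der_normal H) (Mbeta_der1 hH) (Mbeta_quo_nil hH) hY
  have hb : p ∉ betaS (⊤ : Subgroup G) → ¬ p ∣ ♯(Mb H) := fun h => (Mb_piGrp H).not_dvd hpE.1
    fun h' => h ((predI_sigma_beta hH).ge h').2
  have h2 : p ∉ tau2S H := fun h => by
    have h1 := (tau2_not_beta hH h).1
    have h3 := (hJ h1 hH (hY.le.trans (der_le H)) hn).1
    rw [rp_eq_of_not_dvd inf_le_left fun e => hb h1 (e.trans (relIndex_dvd_of_sup (Mb_normal H) hF)),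
      h.2.2] at h3
    omega
  have h3 : p ∈ tau3S H ∨ p ∈ sigmaS H := by
    rw [partition_pi_mmax hH] at hpH
    rcases hpH with ((h | h) | h) | h
    exacts [absurd h ht, absurd h h2, .inl h, .inr h]
  obtain ⟨S, hS⟩ := exists_syl p H
  have hSd : S ≤ der H := by
    rcases h3 with h | h
    · exact (cyclic_Sylow_tiVsub_der1 hS (isCyclic_tau13 (.inr h) hS.isPGroup hS.le)).resolve_left
        ((hS.inf_normal (der_normal H)).ne_bot h.2.2.2)
    · exact ((Msigma_Hall hH).le_of_normal_hall (Ms_normal H).2 hS.le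
        (piGrp_of_isPGroup hS.isPGroup h)).trans (Msigma_der1 hH)
  refine ⟨fun P hP hp => ?_, h2, fun h => by_contra fun h' => ?_⟩
  · have h4 := normal_sup_syl (Ma_normal H) (der_normal H) (Malpha_quo_nil hH)
      (hS.mono hSd (der_le H))
    obtain ⟨g, hg, hPg⟩ := hS.exists_le_conj' (hP.trans inf_le_right) hp
    have h5 : P ≤ Ma H ⊔ S := hPg.trans (conj_le_of_mem_norm (h4.2 hg) le_sup_right)
    have h6 : PiGrp (sigmaS M)ᶜ (Ma H ⊔ S) := PiGrp.sup ((Ma_piGrp H).mono fun r hr =>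
      Set.disjoint_left.1 (sigma_disjoint hH hM hn.symm).2.1 hr)
        (piGrp_of_isPGroup hS.isPGroup (not_sigma hE hpE)) (.inr (hS.le.trans (Ma_normal H).2))
    refine commutator_eq_bot_iff'.1 (eq_bot_iff.2 ((le_inf ?_ ?_).trans
      ((Ms_piGrp M).inf_eq_bot h6).le))
    · exact (commutator_le_left' (hP.trans hK)).trans inf_le_left
    · exact (commutator_mono inf_le_right h5).trans (commutator_le_right' h4.2)
  · refine (hJ h' hH (hY.le.trans (der_le H)) hn).2 h ⟨hpE.1, ?_⟩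
    have h4 : p ∣ ♯(der H) := (hS.dvd_card_iff.2 hpH.2).trans (card_dvd hSd)
    have h5 := h4.trans ((card_dvd (der_le_sup (Mb_normal H) hF)).trans (card_sup_dvd
      (.inl ((der_le _).trans (inf_le_left.trans (Mb_normal H).2)))))
    exact ((Nat.Prime.dvd_mul hpE.1).1 h5).resolve_right (hb h')

theorem cent_norm_tau13_mmax {M E P H : Subgroup G} {p : ℕ} (hM : IsCoatom M)
    (hE : Hall (sigmaS M)ᶜ E M) (hp : p ∈ tau13S M) (hPM : P ≤ M) (hP : IsPGroup p P)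
    (hH : IsCoatom H) (hN : 𝐍(P) ≤ H) :
    (∀ P1, P1 ≤ M ⊓ H → IsPGroup p P1 → P1 ≤ 𝐂(Ms M ⊓ H)) ∧
    (∀ X, X ≤ E ⊓ H → PiGrp (tau1S H)ᶜ X → X ≤ 𝐂(Ms M ⊓ H)) ∧
    (⁅Ms M ⊓ H, M ⊓ H⁆ ≠ ⊥ → p ∈ sigmaS H ∧ (p ∈ tau1S M → p ∈ betaS H)) := by
  have := Fact.mk (tau13_prime hp)
  by_cases hc : ⁅Ms M ⊓ H, M ⊓ H⁆ = ⊥
  · have h1 := commutator_eq_bot_iff'.1 hc
    exact ⟨fun _ h _ => h.trans h1, fun _ h _ => (h.trans (inf_le_inf_right _ hE.le)).trans h1,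
      fun h => absurd hc h⟩
  have h1 := prime_class_mmax_norm hH hP hN
  have hn := mmax_norm_notJ hM hH hP hPM hN (.inr hp)
  obtain ⟨h2, h3, h4⟩ := Msigma_setI_mmax_central hM hE hH (mem_piOf_tau13 hM hE hp)
    ⟨this.out, (dvd_card_of_isPGroup hP (ne_bot_of_norm_le hH hN)).trans
      (card_dvd (le_normalizer.trans hN))⟩
    (fun h => h1.elim h.2.1 fun h' => by have := h.2.2.1; have := h'.2.2; omega) hc hn
  refine ⟨h2, fun X hX hX' => le_of_forall_syl fun q hq hd => ?_, fun _ =>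
    ⟨h1.resolve_right h3, fun h => (predI_sigma_beta hH).le ⟨h1.resolve_right h3, h4 h⟩⟩⟩
  have := Fact.mk hq
  obtain ⟨Q, hQ⟩ := exists_syl q X
  exact ⟨Q, hQ, (Msigma_setI_mmax_central hM hE hH
    ⟨hq, hd.trans (card_dvd (hX.trans inf_le_left))⟩
    ⟨hq, hd.trans (card_dvd (hX.trans inf_le_right))⟩ (hX' q hq hd) hc hn).1 Q
    ((hQ.le.trans hX).trans (inf_le_inf_right _ hE.le)) hQ.isPGroup⟩

theorem cyclic_primact_Msigma {M E P : Subgroup G} {p : ℕ} [hp : Fact p.Prime] (hM : IsCoatom M)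
    (hE : Hall (sigmaS M)ᶜ E M) (hP : Syl p P E) (hc : IsCyclic P) : Semiprime (Ms M) P := by
  refine semiprime_of_prime_subgroup fun X hX ho => ?_
  have h1 : X ≠ ⊥ := ne_bot_of_prime_dvd ho dvd_rfl
  have h2 := hP.isPGroup.to_le hX
  have h3 : p ∈ piOf E := ⟨hp.out, (dvd_card_of_isPGroup h2 h1).trans (card_dvd (hX.trans hP.le))⟩
  obtain ⟨H, hH, hN⟩ := exists_mmax_norm h2 h1
  refine (inf_le_inf_left _ ((cent_le_norm X).trans hN)).trans (le_cent_symm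
    ((cent_norm_tau13_mmax hM hE (mem_tau13 hM hE h3 fun h => ?_) ((hX.trans hP.le).trans hE.le) h2
      hH hN).1 P (le_inf (hP.le.trans hE.le) ((le_norm_of_ab (ab_of_isCyclic hc) hX).trans hN))
      hP.isPGroup))
  have h4 := rp_le_one_of_isCyclic (p := p) hc
  rw [rp_syl hP, ((tau2E hM hE).1 h).2] at h4
  omega

theorem tau3_primact_Msigma {M E E3 : Subgroup G} (hM : IsCoatom M) (hE : Hall (sigmaS M)ᶜ E M)
    (h3 : Hall (tau3S M) E3 E) : Semiprime (Ms M) E3 := by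
  obtain ⟨E1, h1⟩ := exists_hall (tau1S M) (sol_of_le (mmax_sol hM) hE.le)
  obtain ⟨E2, h2⟩ := ex_tau2_compl hM hE h1 h3
  obtain ⟨⟨h4, h5⟩, -, ⟨-, h6⟩, -⟩ := sigma_compl_context hM h2
  refine semiprime_of_prime_subgroup fun X hX ho => ?_
  have := Fact.mk ho
  have h7 := (isEp_one_of_prime hX ho).isPGroup
  obtain ⟨H, hH, hN⟩ := exists_mmax_norm h7 (ne_bot_of_prime_dvd ho dvd_rfl)
  have h8 : E ≤ H := (h5.2.trans (norm_le_norm_of_isCyclic h6 hX)).trans hN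
  exact (inf_le_inf_left _ ((cent_le_norm X).trans hN)).trans (le_cent_symm
    ((cent_norm_tau13_mmax hM hE (.inr (h3.piGrp _ ho (card_dvd hX))) ((hX.trans h3.le).trans hE.le)
      h7 hH hN).2.1 E3 (le_inf h3.le (h3.le.trans h8)) fun q _ hd h =>
        h.2.2.2 (hd.trans (card_dvd (h4.trans (der_mono h8))))))

theorem B13.cent_tau1_aux {M E P R S : Subgroup G} {p r q : ℕ} [hr : Fact r.Prime] [hq : Fact q.Prime]
    (hM : IsCoatom M) (hE : Hall (sigmaS M)ᶜ E M) (hp : p ∈ tau1S M) (hP : IsEp p 1 P E)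
    (hR : IsEp r 1 R (E ⊓ 𝐂(P))) (hS : IsPGroup q S) (hSC : S ≤ Ms M ⊓ 𝐂(P)) (hRS : R ≤ 𝐍(S))
    (h : ¬ R ≤ 𝐂(S)) :
    q ∉ alphaS M ∧ r ∈ tau1S M ∧ Ma M ⊓ 𝐂(R) ≠ ⊥ ∧ Ma M ⊓ 𝐂(R ⊔ ⁅S, R⁆) = ⊥ := by
  have := Fact.mk hp.1
  obtain ⟨H, hH, hN⟩ := exists_mmax_norm hP.isPGroup (hP.ne_bot one_ne_zero)
  have hCH := (cent_le_norm P).trans hN
  have hRE := hR.le.trans inf_le_left
  have hRH := (hR.le.trans inf_le_right).trans hCH
  have hSH : S ≤ Ms M ⊓ H := hSC.trans (inf_le_inf_left _ hCH)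
  have hSM : S ≤ M := (hSC.trans inf_le_left).trans (Ms_normal M).1
  have hQ1 : ⁅S, R⁆ ≠ ⊥ := fun e => h (commutator_eq_bot_iff'.1 e)
  have hQS : ⁅S, R⁆ ≤ S := commutator_le_left' hRS
  have hQ := hS.to_le hQS
  obtain ⟨-, h1, h2⟩ := cent_norm_tau13_mmax hM hE (.inl hp) (hP.le.trans hE.le) hP.isPGroup hH hN
  have hb := (h2 fun e => hQ1 (eq_bot_iff.2 ((commutator_mono hSH
    (le_inf (hRE.trans hE.le) hRH)).trans e.le))).2 hp
  have hr1 : r ∈ tau1S H := by_contra fun h' => h ((h1 R (le_inf hRE hRH)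
    (piGrp_of_isPGroup hR.isPGroup h')).trans (cent_anti hSH))
  have hn := mmax_norm_notJ hM hH hP.isPGroup (hP.le.trans hE.le) hN (.inr (.inl hp))
  have hqs : q ∈ sigmaS M := mem_of_isPGroup_of_piGrp hQ hQ1
    ((Ms_piGrp M).of_le (hQS.trans (hSC.trans inf_le_left)))
  have hrs : r ∉ sigmaS M := not_sigma hE ⟨hr.out, (hR.of_le hRE).dvd_card one_ne_zero⟩
  have hqr : q ≠ r := fun e => hrs (e ▸ hqs)
  have hab : Ab S := by_contra fun h' => hn.ne (((nonabelian_Uniqueness hS h').uniqMax hM hSM).eq hH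
    (hSH.trans inf_le_right))
  have hC := coprime_abel_cent_TI hRS (coprime_of_isPGroup_ne hS hR.isPGroup hqr) hab
  have hRQ := le_norm_commutator_right S R
  have hPa : P ≤ Ma H := ((Mbeta_Hall hH).le_of_normal_hall (Mb_normal H).2 (le_normalizer.trans hN)
    (piGrp_of_isPGroup hP.isPGroup hb)).trans (Mbeta_sub_Malpha H)
  have hu : UniqMax 𝐍(⁅S, R⁆) H := by_contra fun h' => hP.ne_bot one_ne_zero (eq_bot_iff.2
    ((le_inf hPa (le_cent_sup (le_cent_symm (hR.le.trans inf_le_right))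
      (le_cent_symm (hQS.trans (hSC.trans inf_le_right))))).trans
      ((cent_Malpha_reg_tau1 hH hr1 hqr (hR.of_le hRH) hQ1 hRQ hC h').1
        (fun e => hP.ne_bot one_ne_zero (eq_bot_iff.2 (hPa.trans e.le)))
        (fun h => Set.disjoint_left.1 (sigma_disjoint hH hM hn.symm).2.1 h hqs)
        (hQS.trans (hSH.trans inf_le_right)) hQ).2.le))
  obtain ⟨-, -, h3, h4⟩ := sigma_subgroup_embedding hM hqs (hQS.trans hSM) hQ hQ1 hH hu.le hn.ne
  have hqH : q ∈ sigmaS H := by_contra fun h' => (h4 h').2.2.piGrp p hp.1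
    ((hP.of_le (le_inf (hP.le.trans hE.le) (le_normalizer.trans hN))).dvd_card one_ne_zero)
    (beta_sub_sigma hH hb)
  obtain ⟨-, h5, h6, h7⟩ := h3 hqH
  have h8 : q ∉ alphaS M := fun h => Set.disjoint_left.1 (sigma_disjoint hM hH hn).2.1 h hqH
  have h9 : r ∈ tau1S M := (h5 hr1).resolve_right fun h => hrs (alpha_sub_sigma hM h)
  exact ⟨h8, h9, (cent_Malpha_reg_tau1 hM h9 hqr (hR.of_le (hRE.trans hE.le)) hQ1 hRQ hC
    (fun h => hn.ne (h.eq hH hu.le))).1 (h6 ▸ h7) h8 (hQS.trans hSM) hQ⟩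

theorem B13.cent_tau1_alpha {M E P R : Subgroup G} {p r : ℕ} [hr : Fact r.Prime]
    (hM : IsCoatom M) (hE : Hall (sigmaS M)ᶜ E M) (hp : p ∈ tau1S M) (hP : IsEp p 1 P E)
    (hR : IsEp r 1 R (E ⊓ 𝐂(P))) : R ≤ 𝐂(Ma M ⊓ 𝐂(P)) := by
  by_contra h
  have h1 : Ma M ⊓ 𝐂(P) ≤ Ms M := inf_le_left.trans (Malpha_sub_Msigma hM)
  obtain ⟨q, _, S, hS, hn, hc⟩ := exists_syl_not_cent (le_norm_inf
    ((hR.le.trans inf_le_left).trans (hE.le.trans (Ma_normal M).2))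
    (le_norm_of_le (hR.le.trans inf_le_right)))
    (coprime_Ms h1 (hE.piGrp.of_le (hR.le.trans inf_le_left))) (sol_Ms hM h1) h
  exact (cent_tau1_aux hM hE hp hP hR hS.isPGroup (hS.le.trans (le_inf h1 inf_le_right)) hn hc).1
    (mem_of_isPGroup_of_piGrp hS.isPGroup (fun e => hc (by simp [e]))
      ((Ma_piGrp M).of_le (hS.le.trans inf_le_left)))

theorem cent_tau1Elem_Msigma {M E P R : Subgroup G} {p r : ℕ} [Fact r.Prime] (hM : IsCoatom M)
    (hE : Hall (sigmaS M)ᶜ E M) (hp : p ∈ tau1S M) (hP : IsEp p 1 P E) (hR : IsEp r 1 R (E ⊓ 𝐂(P))) :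
    Ms M ⊓ 𝐂(P) ≤ Ms M ⊓ 𝐂(R) := by
  have := Fact.mk hp.1
  refine le_inf inf_le_left (le_cent_symm (by_contra fun h => ?_))
  obtain ⟨q, _, S, hS, hn, hc⟩ := exists_syl_not_cent (le_norm_inf
    ((hR.le.trans inf_le_left).trans (hE.le.trans (Ms_normal M).2))
    (le_norm_of_le (hR.le.trans inf_le_right)))
    (coprime_Ms inf_le_left (hE.piGrp.of_le (hR.le.trans inf_le_left))) (sol_Ms hM inf_le_left) h
  obtain ⟨-, h1, h2, h3⟩ := cent_tau1_aux hM hE hp hP hR hS.isPGroup hS.le hn hc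
  have h4 := le_cent_symm (cent_tau1_alpha hM hE hp hP hR)
  have h5 := le_cent_symm (cent_tau1_alpha hM hE h1 (hR.of_le (hR.le.trans inf_le_left))
    (hP.of_le (le_inf hP.le (le_cent_symm (hR.le.trans inf_le_right)))))
  have h6 : S ≤ 𝐍(Ma M ⊓ 𝐂(P)) := le_norm_inf ((hS.le.trans inf_le_left).trans
    ((Ms_normal M).1.trans (Ma_normal M).2)) (le_norm_of_le (hS.le.trans inf_le_right))
  have h7 : ⁅S, R⁆ ≤ 𝐂(Ma M ⊓ 𝐂(P)) := (commutator_mono le_rfl (le_cent_symm h4)).trans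
    (commutator_le_right' (le_norm_cent h6))
  exact h2 (eq_bot_iff.2 ((le_inf inf_le_left (le_cent_sup inf_le_right
    ((le_inf inf_le_left h5).trans (le_cent_symm h7)))).trans h3.le))

theorem tau1_primact_Msigma {M E E1 : Subgroup G} (hM : IsCoatom M) (hE : Hall (sigmaS M)ᶜ E M)
    (h1 : Hall (tau1S M) E1 E) : Semiprime (Ms M) E1 := by
  have hc := tau1_cyclic hM hE h1
  refine semiprime_of_prime_subgroup fun X hX ho => le_cent_symm (le_of_forall_syl fun r hr hd => ?_)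
  have := Fact.mk hr
  obtain ⟨S, hS⟩ := exists_syl r E1
  obtain ⟨R, hR⟩ := exists_isEp_one_of_isPGroup hS.isPGroup (hS.ne_bot hd)
  refine ⟨S, hS, le_cent_symm ((cent_tau1Elem_Msigma hM hE (h1.piGrp _ ho (card_dvd hX))
    (isEp_one_of_prime (hX.trans h1.le) ho) (hR.of_le (le_inf ((hR.le.trans hS.le).trans h1.le)
      (le_cent_mono (ab_of_isCyclic hc).le_cent (hR.le.trans hS.le) hX)))).trans ?_)⟩
  rw [(cyclic_primact_Msigma hM hE (hS.trans_hall h1 (h1.piGrp r hr hd))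
    (isCyclic_of_le' hc hS.le)).inf_cent hR.le (hR.ne_bot one_ne_zero)]
  exact inf_le_right

theorem cent_cent_Msigma_tau1_uniq {M E E1 P X : Subgroup G} {q : ℕ} [hq : Fact q.Prime]
    (hM : IsCoatom M) (hE : Hall (sigmaS M)ᶜ E M) (h1 : Hall (tau1S M) E1 E) (hP : P ≤ E1)
    (hP1 : P ≠ ⊥) (hX : IsEp q 1 X (Ms M ⊓ 𝐂(P))) :
    UniqMax 𝐂(X) M ∧ ∀ S, Syl q S (Ms M) → UniqMax S M := by
  have hXs := hX.le.trans inf_le_left
  refine cent_der_sigma_uniq hM (hX.of_le (hXs.trans (Ms_normal M).1)) (by_contra fun h => ?_)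
  rw [not_or] at h
  have hpr := tau1_primact_Msigma hM hE h1
  rw [hpr.inf_cent hP hP1] at hX
  obtain ⟨E2, E3, h2⟩ := ex_tau23_compl hM hE h1
  obtain ⟨⟨h3, -⟩, -, -, ⟨-, h4, -⟩, -⟩ := sigma_compl_context hM h2
  obtain ⟨K, hK, hKE⟩ := der_compl_cent_beta' hM hE
  obtain ⟨T, hT⟩ := exists_syl q K
  have hn : E1 ≤ 𝐍(Ms M) := (h1.le.trans hE.le).trans (Ms_normal M).2
  have hc := coprime_Ms (M := M) le_rfl (hE.piGrp.of_le h1.le)
  obtain ⟨S, hS, hSn⟩ := exists_inv_syl q (K := Ms M ⊓ 𝐂(der E))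
    (le_norm_inf hn (le_norm_cent (h1.le.trans (der_normal E).2)))
    (coprime_card_mono hc inf_le_left le_rfl) (sol_Ms hM inf_le_left)
  have hT' := hT.trans_hall hK h.1
  have hS' : Syl q S (Ms M) := hT'.of_card_eq (hS.le.trans inf_le_left) (hS.card_eq_card
    (hT'.mono (le_inf hT'.le (hT.le.trans (le_cent_symm hKE))) inf_le_left))
  obtain ⟨S', h5, h6, h7⟩ := coprime_Hall_subset hn hc (sol_Ms hM le_rfl) hXs hX.piGrp
    (le_norm_of_le_cent (le_cent_symm (hX.le.trans inf_le_right)))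
  obtain ⟨c, hc', rfl⟩ := coprime_Hall_trans hn hc (sol_Ms hM le_rfl) h5 h6 hS'.hall hSn
  rw [le_conj_iff_inv_conj_le] at h7
  set Y := c⁻¹ •ᶜ X with hY
  have hY1 : Y ≤ Ms M ⊓ 𝐂(E1) := conj_le_of_mem (inv_mem hc') hX.le
  have hY2 : Y ≤ 𝐂(der E) := (h7.trans hS.le).trans inf_le_right
  have hY3 : ¬ Y ≤ 𝐂(E) := fun e => h.2 (by
    have := conj_mono c ((le_inf (hY1.trans inf_le_left) e).trans (sigma_compl_embedding hM hE).1)
    rwa [hY, conj_inv_conj, (der_normal _).conj_eq hc'.1] at this)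
  have h8 : E2 ≠ ⊥ := fun e => hY3 (by
    rw [← h4.sup_eq, e, bot_sup_eq]
    exact le_cent_sup (hY2.trans (cent_anti h3)) (hY1.trans inf_le_right))
  obtain ⟨p, hp, hd⟩ := exists_prime_dvd h8
  have := Fact.mk hp
  have h9 := h2.hall2.piGrp p hp hd
  obtain ⟨A, hA, hA'⟩ := ex_tau2Elem hM hE h9
  obtain ⟨P0, hP0, hP0'⟩ := exists_prime_order_mem hP1
  have hP2 := isEp_zpowers (h1.le (hP hP0)) rfl
  have h10 : A ⊓ 𝐂(E1) ≤ 𝐂(Y) := fun x hx => by
    by_cases e : x = 1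
    · exact e ▸ one_mem _
    refine le_cent_symm ((hY1.trans ((inf_le_inf_left _ (cent_anti (zpowers_le.2 (hP hP0)))).trans
      (cent_tau1Elem_Msigma hM hE ((isPiNum_prime hP0').1 (h1.piGrp.piElt (hP hP0))) hP2
        (isEp_zpowers (mem_inf.2 ⟨hA.le hx.1, cent_anti (zpowers_le.2 (hP hP0)) hx.2⟩)
          (orderOf_eq_of_abelem hA.abelem hx.1 e))))).trans inf_le_right) (mem_zpowers x)
  have h11 := coprime_cent_prod (h1.le.trans (tau2_compl_context hM hE h9 hA).1.1.2)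
    ((piGrp_of_isPGroup hA.isPGroup h9).coprime_of_disjoint h1.piGrp fun r h h' => by
      have := h.2.2; have := h'.2.2.1; omega) (.inl (sol_of_ab hA.ab))
  have h12 : A ≤ 𝐂(Y) := h11.ge.trans
    (sup_le ((commutator_mono hA.le h1.le).trans (le_cent_symm hY2)) h10)
  exact hX.ne_bot one_ne_zero (conj_eq_bot_iff.1 (eq_bot_iff.2 ((le_inf (hY1.trans inf_le_left)
    (le_cent_symm h12)).trans (tau2_context hM h9 hA').2.2.1.le)))

theorem tau13_primact_Msigma {M E E1 E2 E3 : Subgroup G} (hM : IsCoatom M)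
    (hE : SigmaCompl M E E1 E2 E3) (h : ¬ Semiregular E3 E1) : Semiprime (Ms M) (E3 ⊔ E1) := by
  obtain ⟨P, hP, hp, h1⟩ : ∃ P ≤ E1, (♯P).Prime ∧ E3 ⊓ 𝐂(P) ≠ ⊥ := by
    by_contra! h'
    exact h (semiregular_of_prime_subgroup h')
  obtain ⟨r, hr, hd⟩ := exists_prime_dvd h1
  have := Fact.mk hr
  obtain ⟨R, hR⟩ := exists_isEp_one hd
  have hR3 := hR.le.trans inf_le_left
  have hR1 := hR.ne_bot one_ne_zero
  have hP1 : P ≠ ⊥ := ne_bot_of_prime_dvd hp dvd_rfl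
  obtain ⟨⟨-, h3⟩, -, ⟨c1, c3⟩, ⟨-, h4, -⟩, h5⟩ := sigma_compl_context hM hE
  have hpr1 := tau1_primact_Msigma hM hE.hallE hE.hall1
  have hpr3 := tau3_primact_Msigma hM hE.hallE hE.hall3
  have hco : (♯E3).Coprime ♯E1 := hE.hall3.piGrp.coprime_of_disjoint hE.hall1.piGrp
    fun _ h h' => h'.2.2.2 h.2.2.2
  have h6 := cent_tau1Elem_Msigma hM hE.hallE (hE.hall1.piGrp _ hp (card_dvd hP))
    (isEp_one_of_prime (hP.trans hE.hall1.le) hp) (hR.mono (inf_le_inf_right _ hE.hall3.le))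
  rw [hpr1.inf_cent hP hP1, hpr3.inf_cent hR3 hR1] at h6
  have h7 : Ms M ⊓ 𝐂(E3) ≤ 𝐂(E1) := by
    by_contra h7
    have h8 : ¬ Semiregular (Ms M) E3 := fun e => h7 (by
      rw [e.inf_cent le_rfl fun e => hR1 (eq_bot_iff.2 (hR3.trans e.le))]; exact bot_le)
    obtain ⟨H, hH, hN⟩ := exists_mmax_norm hR.isPGroup hR1
    have hEH : E ≤ H := (h3.2.trans (norm_le_norm_of_isCyclic c3 hR3)).trans hN
    have h9 : Ms M ⊓ 𝐂(E3) ≤ Ms M ⊓ H :=
      inf_le_inf_left _ (((cent_anti hR3).trans (cent_le_norm R)).trans hN)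
    have hr3 := hE.hall3.piGrp r hr ((hR.of_le hR3).dvd_card one_ne_zero)
    obtain ⟨-, h10, h11⟩ := cent_norm_tau13_mmax hM hE.hallE (.inr hr3)
      ((hR3.trans hE.hall3.le).trans hE.hallE.le) hR.isPGroup hH hN
    have h12 : PiGrp (tau1S H) E1 := fun s hs hd => by_contra fun h' => by
      have := Fact.mk hs
      obtain ⟨X, hX⟩ := exists_isEp_one hd
      refine h7 ((le_inf inf_le_left (h9.trans (le_cent_symm (h10 X (hX.le.trans (le_inf hE.hall1.le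
        (hE.hall1.le.trans hEH))) (piGrp_of_isPGroup hX.isPGroup h'))))).trans ?_)
      rw [hpr1.inf_cent hX.le (hX.ne_bot one_ne_zero)]
      exact inf_le_right
    obtain ⟨F, F1, F2, F3, hF, hF1⟩ := exists_sigmaCompl hH (hE.hall1.le.trans hEH) h12
    have h13 : R ≤ Ms H := (Msigma_Hall hH).le_of_normal_hall (Ms_normal H).2
      (le_normalizer.trans hN) (piGrp_of_isPGroup hR.isPGroup (h11 fun e => h7
        (h9.trans (le_cent_mono (commutator_eq_bot_iff.1 e) le_rfl (le_inf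
          (hE.hall1.le.trans hE.hallE.le) (hE.hall1.le.trans hEH))))).1)
    have h14 := le_inf h13 (hR.le.trans inf_le_right)
    rw [(tau1_primact_Msigma hH hF.hallE hF.hall1).inf_cent (hP.trans hF1) hP1] at h14
    refine hR1 (eq_bot_iff.2 ((le_inf hR3 ?_).trans h5.le))
    rw [← h4.sup_eq, tau2_eq_bot hM hE h8, bot_sup_eq]
    exact le_cent_sup (hR3.trans (ab_of_isCyclic c3).le_cent)
      ((h14.trans inf_le_right).trans (cent_anti hF1))
  have hn : E1 ≤ 𝐍(E3) := hE.hall1.le.trans h3.2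
  have hle : E3 ⊔ E1 ≤ E := sup_le hE.hall3.le hE.hall1.le
  refine semiprime_of_prime_subgroup fun X hX ho => ?_
  rcases (Nat.Prime.dvd_mul ho).1 ((card_dvd hX).trans (card_sup_dvd (.inr hn))) with e | e
  · have := Fact.mk ho
    rw [hpr3.inf_cent (hE.hall3.le_of_normal_hall h3.2 (hX.trans hle) (piGrp_of_isPGroup
      (isEp_one_of_prime hX ho).isPGroup (hE.hall3.piGrp _ ho e))) (ne_bot_of_prime_dvd ho dvd_rfl)]
    exact le_cent_sup inf_le_right h7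
  · have := Fact.mk ho
    obtain ⟨g, hg, hXg⟩ := (hE.hall1.mono le_sup_right hle).exists_le_conj
      (sol_of_le (mmax_sol hM) (hle.trans hE.hallE.le)) hX
      (piGrp_of_isPGroup (isEp_one_of_prime hX ho).isPGroup (hE.hall1.piGrp _ ho e))
    have h8 := (hpr1.conj g).inf_cent hXg (ne_bot_of_prime_dvd ho dvd_rfl)
    have h9 := conj_mono g (le_cent_sup (h6.trans inf_le_right) inf_le_right)
    rw [conj_inf, ← cent_conj, ← cent_conj, conj_eq_of_mem hg, ← h8,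
      (Ms_normal M).conj_eq (hE.hallE.le (hle hg))] at h9
    exact h9

end Cfsg.Agent.OO.Pf
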