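import Cfsg.Agent.Lib.OO.Pf.BG13_A

/-! # B&G section 13, second part (13.8 - 13.13) -/

set_option autoImplicit false
set_option linter.unusedSectionVars false

namespace Cfsg.Agent.OO.Pf

open Subgroup Cfsg.Agent.Coprime
open scoped Pointwise

universe u

variable {G : Type u} [Group G] [Finite G] [MinOdd G]

namespace B13
variable {E H K L M O P Q R S X Y : Subgroup G} {p q r s t : ℕ}

/-- 13.4 without the choice of a complement -/
theorem cent_tau1' [Fact r.Prime] (hM : IsCoatom M) (hp : p ∈ tau1S M) (hP : IsEp p 1 P M)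
    (hR : IsEp r 1 R (M ⊓ 𝐂(P))) (hr : r ∉ sigmaS M) : Ms M ⊓ 𝐂(P) ≤ 𝐂(R) := by
  have := Fact.mk hp.1
  obtain ⟨E, hE, h⟩ := ex_sigma_compl hM (sup_le hP.le (hR.le.trans inf_le_left))
    (PiGrp.sup (piGrp_of_isPGroup hP.isPGroup hp.2.1) (piGrp_of_isPGroup hR.isPGroup hr)
      (.inr (le_norm_of_le_cent (hR.le.trans inf_le_right))))
  exact (cent_tau1Elem_Msigma hM hE hp (hP.of_le (le_sup_left.trans h))
    (hR.of_le (le_inf (le_sup_right.trans h) (hR.le.trans inf_le_right)))).trans inf_le_right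

/-- 13.6 without the choice of a complement -/
theorem cent_uniq' [Fact q.Prime] (hM : IsCoatom M) (hp : p ∈ tau1S M) (hP : IsEp p 1 P M)
    (hX : IsEp q 1 X (Ms M ⊓ 𝐂(P))) : UniqMax 𝐂(X) M ∧ ∀ S, Syl q S (Ms M) → UniqMax S M := by
  have := Fact.mk hp.1
  obtain ⟨E, E1, E2, E3, hE, h⟩ := exists_sigmaCompl hM hP.le (piGrp_of_isPGroup hP.isPGroup hp)
  exact cent_cent_Msigma_tau1_uniq hM hE.hallE hE.hall1 h (hP.ne_bot one_ne_zero) hX

theorem asym_mid [Fact s.Prime] [Fact t.Prime] (hM : IsCoatom M) (hL : IsCoatom L) (hn : NotConj L M)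
    (hp : p ∈ tau1S M) (hp' : p ∈ tau1S L) (hP : IsEp p 1 P L) (hs : s ∈ betaS M)
    (hO : IsPGroup s O) (hO1 : O ≠ ⊥) (hOP : O ≤ 𝐂(P)) (hY : IsEp t 1 Y (Ma L ⊓ 𝐂(P)))
    (hYO : Y ≤ 𝐍(O)) : O ≤ L := by
  obtain ⟨g, hg⟩ := (sigma_group_trans hM (beta_sub_sigma hM hs) hO).2.1.1
  have hM' := isCoatom_conj hM g
  rw [← betaS_conj M g] at hs
  rw [← tau1S_conj M g] at hp
  have h1 := beta_norm_sub_mmax hM' hg (piGrp_of_isPGroup hO hs) hO1
  have h2 : t ∈ alphaS L := mem_of_isPGroup_of_piGrp hY.isPGroup (hY.ne_bot one_ne_zero)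
    ((Ma_piGrp L).of_le (hY.le.trans inf_le_left))
  have h3 := cent_tau1' hM' hp (hP.of_le ((le_norm_of_le_cent (le_cent_symm hOP)).trans h1))
    (hY.of_le (le_inf (hYO.trans h1) (hY.le.trans inf_le_right)))
    (Set.disjoint_left.1 (sigma_disjoint hL hM' (notConj_conj hn g).symm).2.1 h2)
  exact ((le_inf ((Msigma_Hall hM').le_of_normal_hall (Ms_normal _).2 hg
    (piGrp_of_isPGroup hO (beta_sub_sigma hM' hs))) hOP).trans h3).trans
    (cent_uniq' hL hp' hP (hY.mono (inf_le_inf_right _ (Malpha_sub_Msigma hL)))).1.le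

theorem asym_fin [Fact q.Prime] [Fact r.Prime] (hM : IsCoatom M) (hL : IsCoatom L) (hn : NotConj L M)
    (hp : p ∈ tau1S M) (hP : IsEp p 1 P (M ⊓ L)) (hQ : Syl q Q M) (hPQ : P ≤ 𝐍(Q))
    (hC : Q ⊓ 𝐂(P) = ⊥) (hN : 𝐍(Q) ≤ L) (hqp : q ≠ p) (hqa : q ∉ alphaS M)
    (h1 : Ma M ⊓ 𝐂(P ⊔ Q) = ⊥) (hr : r ∈ betaS L) (hd : r ∣ ♯(M ⊓ 𝐂(P))) : Ma M ⊓ 𝐂(P) = ⊥ := by
  have := Fact.mk hp.1
  have hPM := hP.le.trans inf_le_left
  have hPL := hP.le.trans inf_le_right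
  have hQL : Q ≤ L := le_normalizer.trans hN
  have h2 := commutator_eq_of_cent_bot hPQ (coprime_of_isPGroup_ne hQ.isPGroup hP.isPGroup hqp)
    (.inl hQ.sol) hC
  have h3 := frattini_nil_quo (Ma_normal M) (der_normal M)
    ((Malpha_sub_Msigma hM).trans (Msigma_der1 hM)) (Malpha_quo_nil hM)
    (hQ.mono (h2.ge.trans (commutator_mono hQ.le hPM)) (der_le M))
  have hrs : r ∉ sigmaS M :=
    Set.disjoint_left.1 (sigma_disjoint hL hM hn.symm).2.1 (beta_sub_alpha L hr)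
  have h4 := quo_inf_cent_of_norm (N := Ma M) (H := M ⊓ 𝐍(Q)) (hPM.trans (Ma_normal M).2)
    (le_norm_of_le (le_inf hPM hPQ))
    (coprime_Ms (inf_le_left.trans (Malpha_sub_Msigma hM)) (piGrp_of_isPGroup hP.isPGroup hp.2.1))
    (.inr (sol_of_ab hP.ab))
  have h5 : (M ⊓ 𝐂(P)) ⁒ Ma M ≤ (M ⊓ 𝐍(Q) ⊓ 𝐂(P)) ⁒ Ma M := by
    rw [h4, ← quo_self_sup (H := M ⊓ 𝐍(Q)) (inf_le_left.trans (Ma_normal M).2), h3]
    exact quo_inf_cent_le _ _ _
  rw [← card_inf_mul_card_quo (N := Ma M) (inf_le_left.trans (Ma_normal M).2)] at hd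
  obtain ⟨R, hR⟩ := exists_isEp_one (((((Nat.Prime.dvd_mul Fact.out).1 hd).resolve_left
    (((Ma_piGrp M).inf_left _).not_dvd Fact.out fun h => hrs (alpha_sub_sigma hM h))).trans
    (card_dvd h5)).trans (card_quo_dvd _ _))
  have h6 := ((cent_tau1' hM hp (hP.of_le hPM) (hR.mono (inf_le_inf_right _ inf_le_left)) hrs).trans
    (cent_le_norm R)).trans (beta_norm_sub_mmax hL ((hR.le.trans (inf_le_left.trans inf_le_right)).trans hN)
      (piGrp_of_isPGroup hR.isPGroup hr) (hR.ne_bot one_ne_zero))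
  have hn1 : Q ≤ 𝐍(Ma M ⊓ L) := le_norm_inf (hQ.le.trans (Ma_normal M).2) (le_norm_of_le hQL)
  have hc : (♯(Ma M ⊓ L)).Coprime ♯Q :=
    ((Ma_piGrp M).inf_left _).coprime (piGrp_of_isPGroup hQ.isPGroup hqa)
  have h7 : ⁅Ma M ⊓ L, Q⁆ ≤ Ma M ⊓ L := commutator_le_left' hn1
  have hQd : Q ≤ der L := h2.ge.trans (commutator_mono hQL hPL)
  have h8 : ⁅⁅Ma M ⊓ L, Q⁆, Q⁆ ≤ Ma L := (quo_le_cent_iff ((h7.trans inf_le_right).trans
    (Ma_normal L).2) (hQL.trans (Ma_normal L).2)).1 (le_cent_of_nil_of_coprime (Malpha_quo_nil hL)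
      (quo_mono _ (commutator_mono inf_le_right hQL)) (quo_mono _ hQd)
      (coprime_quo (coprime_card_mono hc h7 le_rfl) _ _))
  have h9 := coprime_commGG1P hn1 hc (.inr hQ.sol) (eq_bot_iff.2 ((le_inf ((commutator_le_left'
    (le_norm_commutator_right _ _)).trans (h7.trans inf_le_left)) (h8.trans
      (Malpha_sub_Msigma hL))).trans (sigma_disjoint hM hL hn).1.le))
  exact eq_bot_iff.2 ((le_inf inf_le_left (le_cent_sup inf_le_right ((le_inf inf_le_left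
    ((inf_le_inf_right _ (Malpha_sub_Msigma hM)).trans h6)).trans (le_cent_symm h9)))).trans h1.le)

theorem asym_pre [Fact q.Prime] (hM : IsCoatom M) (hL : IsCoatom L) (hn : NotConj L M)
    (hp : p ∈ tau1S M) (hP : IsEp p 1 P (M ⊓ L)) (hQ : Syl q Q (M ⊓ L)) (hPQ : P ≤ 𝐍(Q))
    (hC : Q ⊓ 𝐂(P) = ⊥) (hN : 𝐍(Q) ≤ L) : Syl q Q M ∧ q ≠ p ∧ alphaS M = betaS M ∧ q ∉ alphaS M ∧
      Ma M ⊓ 𝐂(P) ≠ ⊥ ∧ Ma M ⊓ 𝐂(P ⊔ Q) = ⊥ := by
  have h1 := ne_bot_of_norm_le hL hN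
  have h2 : Syl q Q M := IsSylowIn.of_syl_norm (hQ.le.trans inf_le_left)
    (hQ.mono (le_inf (hQ.le.trans inf_le_left) le_normalizer) (inf_le_inf_left _ hN))
  have h3 : q ≠ p := by
    rintro rfl
    exact inf_cent_ne_bot_of_isPGroup hP.isPGroup hQ.isPGroup hPQ h1 hC
  obtain ⟨h4, -, h5⟩ := (cent_Malpha_reg_tau1 hM hp h3 (hP.mono inf_le_left) h1 hPQ hC
    fun h => hn.ne (h.eq hL hN)).2 h2
  exact ⟨h2, h3, h4, h5⟩

theorem asym_aux [Fact q.Prime] [Fact s.Prime] (hM : IsCoatom M) (hL : IsCoatom L)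
    (hn : NotConj M L) (hp : p ∈ tau1S M) (hp' : p ∈ tau1S L) (hP : IsEp p 1 P (L ⊓ M))
    (hQ : Syl q Q (L ⊓ M)) (hPQ : P ≤ 𝐍(Q)) (hC : Q ⊓ 𝐂(P) = ⊥) (hN : 𝐍(Q) ≤ M) {π : Set ℕ}
    (hH : Hall π H 𝐂(P)) (hπ : betaS L ⊆ π) (hs : s ∈ betaS M) (h : Op s H ≠ ⊥) : False := by
  have := Fact.mk hp.1
  obtain ⟨h1, h2, h3, h4, h5, h6⟩ := asym_pre hL hM hn hp' hP hQ hPQ hC hN
  obtain ⟨t, ht, hd⟩ := exists_prime_dvd h5
  have := Fact.mk ht
  obtain ⟨Y, hY⟩ := exists_isEp_one hd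
  obtain ⟨c, hc, hYc⟩ := hH.exists_le_conj (mFT_sol (mFT_cent_proper (hP.ne_bot one_ne_zero)))
    (hY.le.trans inf_le_right) (((Ma_piGrp L).of_le (hY.le.trans inf_le_left)).mono (h3 ▸ hπ))
  have h7 : Op s (c •ᶜ H) ≤ 𝐂(P) := (Op_le _ _).trans (conj_le_of_mem hc hH.le)
  have h8 : Op s (c •ᶜ H) ≠ ⊥ := by rwa [Op_conj, Ne, conj_eq_bot_iff]
  exact h5 (asym_fin hL hM hn hp' hP h1 hPQ hC hN h2 h4 h6 hs
    ((dvd_card_of_isPGroup (Op_isPGroup _ _) h8).trans (card_dvd (le_inf (asym_mid hM hL hn.symm hp hp'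
      (hP.mono inf_le_left) hs (Op_isPGroup _ _) h8 h7 hY (hYc.trans (Op_normal _ _).2)) h7))))

end B13

open B13

theorem tau1_mmaxI_asymmetry {M Mstar P Q Qstar : Subgroup G} {p q qstar : ℕ} [Fact q.Prime]
    [Fact qstar.Prime] (hp : p ∈ tau1S M) (hp' : p ∈ tau1S Mstar) (hP : IsEp p 1 P (M ⊓ Mstar))
    (hM : IsCoatom M) (hMs : IsCoatom Mstar) (hn : NotConj Mstar M)
    (hQ : Syl q Q (M ⊓ Mstar)) (hQs : Syl qstar Qstar (M ⊓ Mstar)) (hPQ : P ≤ 𝐍(Q))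
    (hPQs : P ≤ 𝐍(Qstar)) (hC : Q ⊓ 𝐂(P) = ⊥) (hCs : Qstar ⊓ 𝐂(P) = ⊥) (hN : 𝐍(Q) ≤ Mstar)
    (hNs : 𝐍(Qstar) ≤ M) : False := by
  have := Fact.mk hp.1
  obtain ⟨-, -, h3, -, h5, -⟩ := asym_pre hM hMs hn hp hP hQ hPQ hC hN
  have hs := mFT_sol (mFT_cent_proper (hP.ne_bot one_ne_zero))
  obtain ⟨H, hH, h1⟩ := exists_hall_ge (π := betaS M ∪ betaS Mstar) hs (K := Ma M ⊓ 𝐂(P))
    inf_le_right (((Ma_piGrp M).inf_left _).mono (h3 ▸ Set.subset_union_left))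
  obtain ⟨s, hs', h2⟩ := exists_Op_ne_bot (sol_of_le hs hH.le)
    fun e => h5 (eq_bot_iff.2 (h1.trans e.le))
  have := Fact.mk hs'
  rcases mem_of_isPGroup_of_piGrp (Op_isPGroup s H) h2 (hH.piGrp.of_le (Op_le _ _)) with h | h
  · rw [inf_comm] at hP hQs
    exact asym_aux hM hMs hn.symm hp hp' hP hQs hPQs hCs hNs hH Set.subset_union_right h h2
  · exact asym_aux hMs hM hn hp' hp hP hQ hPQ hC hN hH Set.subset_union_left h h2

theorem sigma_partition {M Mstar : Subgroup G} (hM : IsCoatom M) (hMs : IsCoatom Mstar)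
    (hn : NotConj Mstar M) : Disjoint (sigmaS M) (sigmaS Mstar) := by
  refine by_contra fun h => h (Set.disjoint_left.2 fun q hq hq' => ?_)
  have := Fact.mk hq.1
  obtain ⟨E, E1, E2, E3, hE, -⟩ := exists_sigmaCompl hM bot_le (piGrp_bot _)
  have h2 : E2 = ⊥ := by
    by_contra h2
    obtain ⟨p, hp, hd⟩ := exists_prime_dvd h2
    have h3 := hE.hall2.piGrp p hp hd
    obtain ⟨A, hA, -⟩ := ex_tau2Elem hM hE.hallE h3
    exact h ((tau2_regular hM hE h3 hA).2.2 _ hMs hn).2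
  obtain ⟨p, hp, hd⟩ := exists_prime_dvd ((sigma_compl_context hM hE).2.1 h2)
  have := Fact.mk hp
  obtain ⟨P, hP⟩ := exists_isEp_one hd
  have hp1 := hE.hall1.piGrp p hp hd
  have hPM := (hP.le.trans hE.hall1.le).trans hE.hallE.le
  obtain ⟨S, hS, hPS⟩ := exists_inv_syl q (hPM.trans (Ms_normal M).2)
    (coprime_Ms le_rfl (piGrp_of_isPGroup hP.isPGroup hp1.2.1)) (sol_Ms hM le_rfl)
  have hS1 := hS.trans_hall (Msigma_Hall hM) hq
  obtain ⟨T, hT⟩ := exists_syl q Mstar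
  obtain ⟨g, -, rfl⟩ := (sigma_Sylow_G hq' hT).exists_conj' (sigma_Sylow_G hq hS1)
  have hL := isCoatom_conj hMs g
  have hn' := (notConj_conj hn.symm g).symm
  rw [← sigmaS_conj Mstar g] at hq'
  have hN := norm_sigma_Sylow hq' (hT.conj g)
  have hS2 := (hT.conj g).le
  generalize g •ᶜ T = S, g •ᶜ Mstar = L at *
  have hC : S ⊓ 𝐂(P) = ⊥ := by
    by_contra hC
    obtain ⟨X, hX⟩ := exists_isEp_one_of_isPGroup hS.isPGroup.to_inf_left hC
    exact hn'.ne (((cent_uniq' hM hp1 (hP.of_le hPM)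
      (hX.mono (inf_le_inf_right _ hS.le))).2 S hS).eq hL hS2)
  have hP' := hP.of_le (le_inf hPM (hPS.trans hN))
  have h3 := hS1.mono (le_inf hS1.le hS2) inf_le_left
  refine tau1_mmaxI_asymmetry hp1 (by_contra fun h' => sigma_Sylow_neq1 hM hq hS1 ?_) hP' hM hL hn'
    h3 h3 hPS hPS hC hC hN (norm_sigma_Sylow hq hS1)
  refine eq_bot_iff.2 ((le_inf le_rfl ((le_inf hS.le hS2).trans (le_cent_symm ?_))).trans hC.le)
  by_cases e : ⁅Ms M ⊓ L, M ⊓ L⁆ = ⊥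
  · exact hP'.le.trans (commutator_eq_bot_iff'.1 e)
  · exact (Msigma_setI_mmax_central hM hE.hallE hL ⟨hp, hd.trans (card_dvd hE.hall1.le)⟩
      ⟨hp, (hP'.mono inf_le_right).dvd_card one_ne_zero⟩ h' e hn').1 P hP'.le hP.isPGroup

theorem tau13_regular {M E E1 E2 E3 P : Subgroup G} {p : ℕ} [hp : Fact p.Prime] (hM : IsCoatom M)
    (hE : SigmaCompl M E E1 E2 E3) (hP : IsEp p 1 P E1) (hC : ¬ E3 ≤ 𝐂(P)) :
    Semiregular E3 E1 ∧ Semiregular (Ms M) E3 ∧ Ms M ⊓ 𝐂(P) ≠ ⊥ := by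
  obtain ⟨⟨h1, h3⟩, -, ⟨-, c3⟩, -⟩ := sigma_compl_context hM hE
  have hPE := hP.le.trans hE.hall1.le
  have hPM := hPE.trans hE.hallE.le
  have hp1 := hE.hall1.piGrp p hp.out (hP.dvd_card one_ne_zero)
  have hP1 := hP.ne_bot one_ne_zero
  have hco : (♯E3).Coprime ♯P := hE.hall3.piGrp.coprime_of_disjoint (hE.hall1.piGrp.of_le hP.le)
    fun _ h h' => h'.2.2.2 h.2.2.2
  obtain ⟨q, hq, Q, hQ, hPQ, h2⟩ := exists_syl_not_cent (hPE.trans h3.2) hco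
    (sol_of_ab (ab_of_isCyclic c3)) fun h => hC (le_cent_symm h)
  have h4 : Q ⊓ 𝐂(P) = ⊥ := by_contra fun h => h2 (le_cent_of_isCyclic hQ.isPGroup
    (isCyclic_of_le' c3 hQ.le) hPQ (coprime_card_mono hco hQ.le le_rfl) h)
  have hQ1 : Q ≠ ⊥ := fun e => h2 (by simp [e])
  obtain ⟨L, hL, hN⟩ := exists_mmax_norm hQ.isPGroup hQ1
  have hq3 : q ∈ tau3S M := mem_of_isPGroup_of_piGrp hQ.isPGroup hQ1 (hE.hall3.piGrp.of_le hQ.le)
  have hQM := (hQ.trans_hall hE.hall3 hq3).trans_hall hE.hallE hq3.2.1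
  have hn := mmax_norm_notJ hM hL hQ.isPGroup hQM.le hN (.inr (.inr hq3))
  have hP' := hP.of_le (le_inf hPM (hPQ.trans hN))
  have hQ' := hQM.mono (le_inf hQM.le (le_normalizer.trans hN)) inf_le_left
  obtain ⟨-, -, h5, -, h6, h7⟩ := asym_pre hM hL hn hp1 hP' hQ' hPQ h4 hN
  have ha := Malpha_sub_Msigma hM
  refine ⟨by_contra fun h => h6 ?_, by_contra fun h => ?_,
    fun h => h6 (eq_bot_iff.2 ((inf_le_inf_right _ ha).trans h.le))⟩
  · refine eq_bot_iff.2 ((le_inf inf_le_left ((inf_le_inf_right _ ha).trans ?_)).trans h7.le)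
    rw [(tau13_primact_Msigma hM hE h).inf_cent (hP.le.trans le_sup_right) hP1]
    exact inf_le_right.trans (cent_anti (sup_le (hP.le.trans le_sup_right) (hQ.le.trans le_sup_left)))
  have hpr := tau3_primact_Msigma hM hE.hallE hE.hall3
  obtain ⟨h8, h9, -⟩ := cent_norm_tau13_mmax hM hE.hallE (.inr hq3) hQM.le hQ.isPGroup hL hN
  have h10 : Ms M ⊓ 𝐂(E3) ≤ Ms M ⊓ L :=
    inf_le_inf_left _ (((cent_anti hQ.le).trans (cent_le_norm Q)).trans hN)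
  obtain ⟨u, hu, hd⟩ := exists_prime_dvd (H := Ms M ⊓ L)
    fun e => h (hpr.semiregular (eq_bot_iff.2 (h10.trans e.le)))
  have := Fact.mk hu
  have hus := (Ms_piGrp M).inf_left L u hu hd
  obtain ⟨U, hU, hPU⟩ := exists_inv_syl u (K := Ms M ⊓ L)
    (le_norm_inf (hPM.trans (Ms_normal M).2) (le_norm_of_le (hPQ.trans hN)))
    (coprime_Ms inf_le_left (piGrp_of_isPGroup hP.isPGroup hp1.2.1)) (sol_Ms hM inf_le_left)
  have hU1 := hU.ne_bot hd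
  have hUM := (hU.le.trans inf_le_left).trans (Ms_normal M).1
  have h11 : U ⊓ 𝐂(P) = ⊥ ∧ 𝐍(U) ≤ M := by
    by_cases hb : u ∈ betaS M
    · refine ⟨eq_bot_iff.2 ((le_inf (inf_le_left.trans ((Malpha_Hall hM).le_of_normal_hall
        (Ma_normal M).2 hUM (piGrp_of_isPGroup hU.isPGroup (beta_sub_alpha M hb))))
        (le_cent_sup inf_le_right (inf_le_left.trans (hU.le.trans (le_cent_symm
          (h8 Q hQ'.le hQ.isPGroup)))))).trans h7.le),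
        beta_norm_sub_mmax hM hUM (piGrp_of_isPGroup hU.isPGroup hb) hU1⟩
    · obtain ⟨K, hK, hKE⟩ := der_compl_cent_beta' hM hE.hallE
      obtain ⟨T, hT⟩ := exists_syl u K
      have hT' := hT.trans_hall hK hb
      have hU' : Syl u U (Ms M) := hT'.of_card_eq (hU.le.trans inf_le_left) (hU.card_eq_card
        (hT'.mono ((le_inf hT'.le (hT.le.trans (le_cent_symm (h1.trans hKE)))).trans h10) inf_le_left))
      refine ⟨by_contra fun h => ?_, norm_sigma_Sylow hus (hU'.trans_hall (Msigma_Hall hM) hus)⟩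
      obtain ⟨X, hX⟩ := exists_isEp_one_of_isPGroup hU.isPGroup.to_inf_left h
      exact hn.ne (((cent_uniq' hM hp1 (hP.of_le hPM)
        (hX.mono (inf_le_inf_right _ hU'.le))).2 U hU').eq hL (hU.le.trans inf_le_right))
  have h12 := (Msigma_Hall hM).inf_of_normal_hall (Ms_normal M).2 (K := M ⊓ L) inf_le_left
  rw [← inf_assoc, inf_eq_left.2 (Ms_normal M).1] at h12
  exact tau1_mmaxI_asymmetry hp1 (by_contra fun h' => hU1 (eq_bot_iff.2 ((le_inf le_rfl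
    (hU.le.trans (le_cent_symm (h9 P (le_inf hPE (hPQ.trans hN))
      (piGrp_of_isPGroup hP.isPGroup h'))))).trans h11.1.le))) hP' hM hL hn hQ'
    (hU.trans_hall h12 hus) hPQ hPU h4 h11.1 hN h11.2

theorem tau13_nonregular {M E E1 E2 E3 : Subgroup G} (hM : IsCoatom M)
    (hE : SigmaCompl M E E1 E2 E3) (h : ¬ Semiregular (Ms M) E3) :
    E1 ≠ ⊥ ∧ IsSdprod E3 E1 E ∧ Semiprime (Ms M) E ∧ ∀ X, X ≤ E → (♯X).Prime → X ⊴ E := by
  obtain ⟨⟨-, h3⟩, h1, ⟨c1, c3⟩, ⟨-, h4, -⟩, -⟩ := sigma_compl_context hM hE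
  have h2 := tau2_eq_bot hM hE h
  rw [h2, bot_sup_eq] at h4
  have h5 : ∀ P ≤ E1, (♯P).Prime → E3 ≤ 𝐂(P) := fun P hP hp => by_contra fun h' =>
    have := Fact.mk hp
    h (tau13_regular hM hE (isEp_one_of_prime hP hp) h').2.1
  refine ⟨h1 h2, h4, ?_, fun X hX ho => ?_⟩
  · rw [← h4.sup_eq]
    refine tau13_primact_Msigma hM hE fun h' => ?_
    obtain ⟨p, hp, hd⟩ := exists_prime_dvd (h1 h2)
    have := Fact.mk hp
    obtain ⟨P, hP⟩ := exists_isEp_one hd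
    have h6 := h'.inf_cent hP.le (hP.ne_bot one_ne_zero)
    rw [inf_eq_left.2 (h5 P hP.le hP.prime_card)] at h6
    exact h (h6 ▸ semiregular_bot_right _)
  have := Fact.mk ho
  have hX' := (isEp_one_of_prime hX ho).isPGroup
  rcases (Nat.Prime.dvd_mul ho).1 ((card_dvd hX).trans h4.card.symm.dvd) with e | e
  · exact ⟨hX, h3.2.trans (norm_le_norm_of_isCyclic c3 (hE.hall3.le_of_normal_hall h3.2 hX
      (piGrp_of_isPGroup hX' (hE.hall3.piGrp _ ho e))))⟩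
  · obtain ⟨g, hg, hXg⟩ := hE.hall1.exists_conj_le (sol_of_le (mmax_sol hM) hE.hallE.le) hX
      (piGrp_of_isPGroup hX' (hE.hall1.piGrp _ ho e))
    rw [← normalIn_conj (g := g), conj_eq_of_mem hg]
    refine ⟨hXg.trans hE.hall1.le, h4.sup_eq.ge.trans (sup_le (le_norm_of_le_cent
      (h5 _ hXg (by rwa [card_conj]))) (le_norm_of_ab (ab_of_isCyclic c1) hXg))⟩

theorem B13.dvd_relIndex_cent {E A P : Subgroup G} {p : ℕ} [hp : Fact p.Prime] (hP : IsEp p 1 P E)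
    (hA : E ≤ 𝐍(A)) (h : ¬ P ≤ 𝐂(A)) : p ∣ (E ⊓ 𝐂(A)).relIndex E := by_contra fun h' =>
  h ((le_of_coprime_relIndex hP.le (normalIn_inf_cent hA).2
    (by rw [hP.card_one]; exact (Nat.Prime.coprime_iff_not_dvd hp.out).2 h')).trans inf_le_right)

theorem tau12_regular {M E P A : Subgroup G} {p q : ℕ} (hM : IsCoatom M) (hE : Hall (sigmaS M)ᶜ E M)
    (hp : p ∈ tau1S M) (hP : IsEp p 1 P E) (hq : q ∈ tau2S M) (hA : IsEp q 2 A E)
    (hC : A ⊓ 𝐂(P) ≠ ⊥) : Ms M ⊓ 𝐂(P) = ⊥ := by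
  have := Fact.mk hp.1
  have := Fact.mk hq.1
  by_contra h
  obtain ⟨⟨h1, -⟩, ⟨-, -, h2⟩, h3⟩ := tau2_compl_context hM hE hq hA
  obtain ⟨E1, hE1, hP1⟩ := exists_hall_ge (sol_of_le (mmax_sol hM) hE.le) hP.le
    (piGrp_of_isPGroup hP.isPGroup hp)
  obtain ⟨E2, E3, hE'⟩ := ex_tau23_compl hM hE hE1
  have h4 : ¬ P ≤ 𝐂(A) := fun e =>
    h ((tau2_regular hM hE' hq hA).2.1.inf_cent (le_inf hP1 e) (hP.ne_bot one_ne_zero))
  obtain ⟨Y, hY⟩ := exists_isEp_one_of_isPGroup hA.isPGroup.to_inf_left hC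
  have h5 := h3 Y (hY.of_le ((hY.le.trans inf_le_left).trans hA.le)) fun e => h (eq_bot_iff.2
    ((cent_tau1Elem_Msigma hM hE hp hP (hY.mono (inf_le_inf_right _ hA.le))).trans e.le))
  obtain ⟨L, hL, hN⟩ := exists_mmax_norm hA.isPGroup (hA.ne_bot two_ne_zero)
  have hne : L ≠ M := fun e => h2 (e ▸ hN)
  obtain ⟨h6, h7, -⟩ := primes_norm_tau2Elem hM hE hq hA hL hN
  have hPL := (hP.le.trans h1.2).trans hN
  have hAL := le_normalizer.trans hN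
  have h8 := hY.mono (inf_le_inf_right _ ((Msigma_Hall hL).le_of_normal_hall (Ms_normal L).2 hAL
    (piGrp_of_isPGroup hA.isPGroup (h6 hq).1)))
  rcases h7 ⟨hp.1, dvd_relIndex_cent hP h1.2 h4⟩ with e | e
  · exact hne (h5.eq hL (cent_uniq' hL e (hP.of_le hPL) h8).1.le)
  · obtain ⟨F, hF, hPF⟩ := ex_sigma_compl hL hPL (piGrp_of_isPGroup hP.isPGroup e.2.1)
    obtain ⟨B, hB, -⟩ := ex_tau2Elem hL hF e
    exact h (eq_bot_iff.2 ((inf_le_inf_left _ ((tau2_compl_context hL hF e hB).2.2 P (hP.of_le hPF)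
      fun e => hY.ne_bot one_ne_zero (eq_bot_iff.2 (h8.le.trans e.le))).le).trans
      ((tau2_context hM hq (hA.mono hE.le)).2.2.2.1 L hL hAL hne).le))

theorem tau13_nonregular_sigma {M H P : Subgroup G} {p : ℕ} (hM : IsCoatom M) (hP : IsEp p 1 P M)
    (hp : p ∈ tau13S M) (hC : Ms M ⊓ 𝐂(P) ≠ ⊥) (hH : IsCoatom H) (hN : 𝐍(P) ≤ H) :
    p ∈ sigmaS H := by
  have := Fact.mk (tau13_prime hp)
  refine (prime_class_mmax_norm hH hP.isPGroup hN).resolve_right fun h => ?_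
  have hn := mmax_norm_notJ hM hH hP.isPGroup hP.le hN (.inr hp)
  obtain ⟨q, hq, hd⟩ := exists_prime_dvd hC
  have := Fact.mk hq
  obtain ⟨Q, hQ⟩ := exists_isEp_one hd
  have hP1 := hP.ne_bot one_ne_zero
  have hCH := (cent_le_norm P).trans hN
  have hQP := hQ.le.trans inf_le_right
  have h1 : 𝐂(Q) ≤ M := by
    rcases hp with e | e
    · exact (cent_uniq' hM e hP hQ).1.le
    · obtain ⟨E, hE, hPE⟩ := ex_sigma_compl hM hP.le (piGrp_of_isPGroup hP.isPGroup e.2.1)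
      obtain ⟨E1, h1⟩ := exists_hall (tau1S M) (sol_of_le (mmax_sol hM) hE.le)
      obtain ⟨E2, E3, hE'⟩ := ex_tau23_compl hM hE h1
      obtain ⟨h2, -, h3, -⟩ := tau13_nonregular hM hE' fun h => hC (h.inf_cent
        (hE'.hall3.le_of_normal_hall (sigma_compl_context hM hE').1.2.2 hPE
          (piGrp_of_isPGroup hP.isPGroup e)) hP1)
      rw [h3.inf_cent hPE hP1, ← h3.inf_cent h1.le h2] at hQ
      exact (cent_cent_Msigma_tau1_uniq hM hE h1 le_rfl h2 hQ).1.le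
  obtain ⟨E, hE, hPQ⟩ := ex_sigma_compl hH (sup_le (le_normalizer.trans hN) (hQP.trans hCH))
    (PiGrp.sup (piGrp_of_isPGroup hP.isPGroup h.2.1) (piGrp_of_isPGroup hQ.isPGroup
      (Set.disjoint_left.1 (sigma_partition hM hH hn) ((Ms_piGrp M).inf_left _ q hq hd)))
      (.inr (le_norm_of_le_cent hQP)))
  obtain ⟨A, hA, -⟩ := ex_tau2Elem hH hE h
  obtain ⟨⟨h2, h3⟩, -⟩ := tau2_compl_context hH hE h hA
  have hPA := (h3 P).1 (hP.of_le (le_sup_left.trans hPQ))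
  have hQE := hQ.of_le (le_sup_right.trans hPQ)
  have h4 : ¬ Q ≤ 𝐂(A) := fun e => by
    have := (hA.of_le ((le_cent_symm e).trans h1)).le_rp
    rw [rp_tau13 hp] at this
    omega
  have h5 := (tau1_cent_tau2Elem_factor hH hE h hA).2.2 q hq (dvd_relIndex_cent hQE h2.2 h4)
  have h6 : P ≤ A ⊓ 𝐂(Q) := le_inf hPA.le (le_cent_symm hQP)
  obtain ⟨-, -, h7, h8⟩ := tau1_act_tau2 hH hE h hA h5 hQE
    (tau12_regular hH hE h5 hQE h hA fun e => hP1 (eq_bot_iff.2 (h6.trans e.le)))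
    fun e => h4 (commutator_eq_bot_iff'.1 e)
  exact h8 ((cent_anti h6).trans hCH)

end Cfsg.Agent.OO.Pf
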