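import Cfsg.Agent.Lib.OO.Pf.BG14_D
import Cfsg.Agent.Lib.OO.BG14Defs

/-! # B&G section 14, last part (14.7 - 14.13) -/

set_option autoImplicit false
set_option linter.unusedSectionVars false

namespace Cfsg.Agent.OO.Pf

open Subgroup Cfsg.Agent.Coprime B13
open scoped Pointwise

universe u

variable {G : Type u} [Group G] [Finite G] [MinOdd G]

namespace B14
variable {H J K L M X Y Z : Subgroup G} {p q : ℕ} {x y g t : G}

theorem inf_le_cent (hM : IsCoatom M) (hL : IsCoatom L) (hn : NotConj L M) (h1 : K ≤ M)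
    (h2 : K ≤ Ms L) : Ms M ⊓ L ≤ 𝐂(K) :=
  commutator_eq_bot_iff.1 (eq_bot_iff.2 ((le_inf ((commutator_mono inf_le_left h1).trans
    (Ms_normal M).commutator_le) ((commutator_mono inf_le_right h2).trans
      (commutator_le_right' (Ms_normal L).2))).trans (inf_Ms_eq_bot hM hL hn).le))

theorem isCyclic_of_nil (hK : PiGrp (kappaS M) K) (h : K ≤ M) (hn : Nil K) : IsCyclic K :=
  (isCyclic_iff_rank_of_nil_of_odd hn (mFT_odd K)).2 (rank_le_iff.2 fun p hp => by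
    by_cases e : p ∣ ♯K
    · exact (rp_mono p h).trans (rp_tau13 (hK p hp.out e).1).le
    · rw [rp_eq_zero_iff.2 e]; exact zero_le_one)

theorem Pair.cent1 (h : Pair M K Z) (ha : Ab Z) (hx : x ∈ K) (hx1 : x ≠ 1) : M ⊓ 𝐂[x] = Z := by
  obtain ⟨X, hX, hp⟩ := exists_prime_le_zpowers hx1
  exact ((inf_le_inf_left _ (((cent_zpowers x).ge.trans (cent_anti hX)).trans (cent_le_norm X))).trans
    (h.normX (hX.trans (zpowers_le.2 hx)) hp).le).antisymm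
    (le_inf h.le (ha.le_cent.trans (cent_le_cent1 (h.dprod.left_le hx))))

theorem mem_classSupp_of_conj (h : t ∈ cycTIset (g •ᶜ X) (g •ᶜ Y)) :
    t ∈ classSupp (cycTIset X Y) ⊤ := by
  rw [mem_cycTIset_iff, ← conj_sup, mem_conj, mem_conj, mem_conj] at h
  exact ⟨_, mem_cycTIset_iff.2 h, g, mem_top g, by group⟩

theorem Pair.mem_classSupp (h : Pair M K Z) {Z' : Subgroup G} (h' : Pair (g •ᶜ M) J Z')
    (ht : t ∈ cycTIset J (Ms (g •ᶜ M) ⊓ 𝐂(J))) : t ∈ classSupp (cycTIset K (Ms M ⊓ 𝐂(K))) ⊤ := by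
  obtain ⟨k, hk, rfl⟩ := (h.conj g).hall.exists_conj (mmax_sol h'.max) h'.hall
  rw [← conj_eq_of_mem hk, conj_conj, conj_conj, Ms_conj, cent_conj, ← conj_inf] at ht
  exact mem_classSupp_of_conj ht

theorem exists_pair_of_kappa (hM : M ∈ sigmaMax (zpowers y)) (h1 : y⁻¹ * g ∈ M ⊓ 𝐂[y])
    (h2 : y⁻¹ * g ≠ 1) (h3 : PiElt (kappaS M) (y⁻¹ * g)) :
    ∃ K Z, Pair M K Z ∧ y⁻¹ * g ∈ K ∧ y ∈ Ms M ⊓ 𝐂(K) := by
  obtain ⟨K, hK, h4⟩ := exists_hall_ge (mmax_sol hM.1) (zpowers_le.2 h1.1) (piGrp_zpowers.2 h3)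
  obtain ⟨p, hp, hd⟩ := Nat.exists_prime_and_dvd (mt orderOf_eq_one_iff.1 h2)
  have h5 : Pair M K _ := ⟨typeP_of_mem hM.1 (h3 p hp hd), hK, rfl⟩
  exact ⟨K, _, h5, zpowers_le.1 h4, (h5.semiprime _ (zpowers_le.1 h4) h2).le
    ⟨hM.2 (mem_zpowers y), mem_cent1_comm.1 h1.2⟩⟩

end B14

open B14

theorem Ptype_embedding {M K : Subgroup G} (hM : TypePMax M) (hK : Hall (kappaS M) K M) :
    ∃ Mstar, PtypeEmbedding M K (Ms M ⊓ 𝐂(K)) Mstar := by
  have h : Pair M K _ := ⟨hM, hK, rfl⟩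
  obtain ⟨L, hne, h', e, h2⟩ := h.exists_dual
  have hn := h.notConj h' hne
  have hKL : K ≤ Ms L := e.ge.trans inf_le_left
  have hu : ∀ X, X ≤ K → (♯X).Prime → UniqMax 𝐂(X) L := fun X hX hp => h'.uniq (hX.trans e.ge) hp
  have h3 : Ms M ⊓ L = Ms M ⊓ 𝐂(K) := (le_inf inf_le_left (inf_le_cent h.max h'.max hn hK.le
    hKL)).antisymm (le_inf inf_le_left h'.hall.le)
  have h4 : (TypeP2Max M ∧ (♯K).Prime ∧ Nil (Ms M)) ∨
      (TypeP2Max L ∧ (♯(Ms M ⊓ 𝐂(K))).Prime ∧ Nil (Ms L)) := h2.imp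
    (fun h2 => have := (Ptype_structure hM hK).2.2.2.2.2.2 h2; ⟨h2, this.2.1, this.2.2.1⟩)
    fun h2 => have := (Ptype_structure h'.typeP h'.hall).2.2.2.2.2.2 h2; ⟨h2, this.2.1, this.2.2.1⟩
  have h5 : IsCyclic K ∧ IsCyclic ↥(Ms M ⊓ 𝐂(K)) := h4.elim (fun h4 => ⟨isCyclic_of_prime h4.2.1,
    isCyclic_of_nil h'.hall.piGrp h'.hall.le (nil_of_le h4.2.2 inf_le_left)⟩)
    fun h4 => ⟨isCyclic_of_nil hK.piGrp hK.le (nil_of_le h4.2.2 hKL), isCyclic_of_prime h4.2.1⟩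
  have hc := h.dprod.isCyclic h5.1 h5.2 h.coprime
  have ha := ab_of_isCyclic hc
  obtain ⟨E, U, E1, hE, hcore⟩ := exists_core' hM hK
  obtain rfl := hcore.eq1 (ab_of_isCyclic h5.1)
  obtain ⟨h6, -, h7⟩ := hcore.sdprod h.max hE
  refine ⟨L, h'.typeP, hn, hu, h'.hall, ?_, e, ?_, hc, le_antisymm ?_ (le_inf h.le h'.le),
    fun x => h.cent1 ha, fun y => h'.cent1 ha, fun x hx hx1 y hy hy1 => le_antisymm
      ((le_inf le_top le_rfl).trans (h.normedTI.cent1_le (h.mul_mem_hat hx hx1 hy hy1)))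
      (ha.le_cent.trans (cent_le_cent1 (mul_mem (mem_sup_left hx) (mem_sup_right hy)))),
    h.normedTI, fun g hg => Set.disjoint_left.2 fun t ht h8 => hg (h.mem_of_mem_conj ht h8),
    h.card_gt, h4.imp (fun h => ⟨h.1, h.2.1⟩) fun h => ⟨h.1, h.2.1⟩, fun H hH => ?_,
    (h6.der_le_of_ab (ab_of_isCyclic h5.1)).antisymm h7 ▸ h6⟩
  · obtain ⟨Y, hY, h8⟩ := exists_hall_ge (mmax_sol h'.max) h'.hall.le h.hallS.piGrp
    rwa [← h8.antisymm ((le_inf ((Ptype_structure hM hK).2.2.2.2.2.1 Y hY.piGrp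
      (by rw [inf_eq_right.2 h8]; exact h.ne_bot')) hY.le).trans h3.le)] at hY
  · ext p
    exact ⟨fun hp => hcore.hall1.piGrp p (kappa_pi M hp).1
      ((hK.dvd_card_iff (kappa_pi M hp).1 hp).2 (kappa_pi M hp).2), fun hp => hK.piGrp p hp.1
      ((hcore.hall1.dvd_card_iff hp.1 hp).2 (mem_piOf_tau13 h.max hE (.inl hp)).2)⟩
  · refine (le_inf inf_le_right ?_).trans h'.normK.le
    rw [← h3]
    exact le_norm_inf (inf_le_left.trans (Ms_normal M).2) (le_norm_of_le inf_le_right)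
  · obtain ⟨J, hJ⟩ := exists_hall (kappaS H) (mmax_sol hH.1)
    have h8 : Pair H J _ := ⟨hH, hJ, rfl⟩
    obtain ⟨_, ⟨t, ht, g, -, rfl⟩, s, hs, k, -, e'⟩ := Set.not_disjoint_iff.1 fun hd => by
      have h9 := Set.ncard_le_ncard (Set.subset_univ (classSupp (cycTIset K (Ms M ⊓ 𝐂(K))) ⊤ ∪
        classSupp (cycTIset J (Ms H ⊓ 𝐂(J))) ⊤))
      rw [Set.ncard_union_eq hd, Set.ncard_univ] at h9
      have := h.card_gt
      have := h8.card_gt
      omega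
    obtain ⟨h9, h10, -⟩ := h8.mem_hat.1 hs
    obtain ⟨Y, hY, hq⟩ := exists_prime_le_zpowers h10
    have h11 := (h8.uniq (hY.trans (zpowers_le.2 (h8.mem_Ks h9))) hq).conj (g⁻¹ * k)
    rw [← cent_conj] at h11
    have h12 : (g⁻¹ * k) •ᶜ Y ≤ K ⊔ Ms M ⊓ 𝐂(K) := by
      refine (conj_mono _ (hY.trans (zpowers_le.2 (constt_mem_zpowers _ s)))).trans ?_
      rw [conj_zpowers, show g⁻¹ * k * s * (g⁻¹ * k)⁻¹ = t by
        rw [mul_inv_rev, inv_inv, mul_assoc g⁻¹, mul_assoc g⁻¹, ← mul_assoc (k * s), ← e']; group]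
      exact zpowers_le.2 (h.mem_hat.1 ht).1
    rw [← card_conj (g⁻¹ * k)] at hq
    refine ⟨(g⁻¹ * k)⁻¹, ?_⟩
    rw [← conj_eq_iff_eq_inv_conj, ← conj_eq_iff_eq_inv_conj]
    exact (h.le_or_le h12 hq).symm.imp (fun h13 => (h.uniq h13 hq).eq h11.1 h11.le)
      fun h13 => (hu _ h13 hq).eq h11.1 h11.le

theorem P1type_trans {M H : Subgroup G} (hM : TypeP1Max M) (hH : TypeP1Max H) :
    ∃ g : G, H = g •ᶜ M := by
  obtain ⟨K, hK⟩ := exists_hall (kappaS M) (mmax_sol hM.1.1)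
  obtain ⟨L, h⟩ := Ptype_embedding hM.1 hK
  obtain ⟨g, e | rfl⟩ := h.trans H hH.1
  · exact ⟨g, e⟩
  · exact (h.typeP2.elim (fun h => h.1.2 hM.2) fun h => h.1.2 ((typeP1Max_conj L g).1 hH).2).elim

theorem Ptype_trans {M : Subgroup G} (hM : TypePMax M) : ∃ Mstar, TypePMax Mstar ∧ NotConj Mstar M ∧
    ∀ H : Subgroup G, TypePMax H → ∃ g : G, H = g •ᶜ M ∨ H = g •ᶜ Mstar := by
  obtain ⟨K, hK⟩ := exists_hall (kappaS M) (mmax_sol hM.1)
  obtain ⟨L, h⟩ := Ptype_embedding hM hK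
  exact ⟨L, h.typeP, h.notConj, h.trans⟩

theorem mFT_partition :
    (∀ M : Subgroup G, IsCoatom M → (1 : G) ∉ classSupp (sigmaSupp M) ⊤) ∧
    (∀ M L : Subgroup G, IsCoatom M → IsCoatom L → NotConj L M →
      Disjoint (classSupp (sigmaSupp M) ⊤) (classSupp (sigmaSupp L) ⊤)) ∧
    ((∀ M : Subgroup G, ¬ TypePMax M) → ∀ x : G, x ≠ 1 →
      ∃ M : Subgroup G, IsCoatom M ∧ x ∈ classSupp (sigmaSupp M) ⊤) ∧
    ∀ M K : Subgroup G, TypePMax M → Hall (kappaS M) K M →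
      (∀ L : Subgroup G, IsCoatom L →
        Disjoint (classSupp (cycTIset K (Ms M ⊓ 𝐂(K))) ⊤) (classSupp (sigmaSupp L) ⊤)) ∧
      ∀ x : G, x ≠ 1 → x ∈ classSupp (cycTIset K (Ms M ⊓ 𝐂(K))) ⊤ ∨
        ∃ L : Subgroup G, IsCoatom L ∧ x ∈ classSupp (sigmaSupp L) ⊤ := by
  have key : ∀ x : G, x ≠ 1 → (∃ H J Z, Pair H J Z ∧ x ∈ cycTIset J (Ms H ⊓ 𝐂(J))) ∨
      ∃ L : Subgroup G, IsCoatom L ∧ x ∈ classSupp (sigmaSupp L) ⊤ := fun g hg => by
    rcases ((xor_iff_or_and_not_and _ _).1 (sigma_decomposition_dichotomy hg)).1 with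
      ⟨x, hx, h⟩ | ⟨y, hy, H, hH, h1, h2, h3⟩
    · obtain ⟨h1, L, hL⟩ := ell_sigma1P.1 hx
      exact .inr ⟨L, hL.1, subset_classSupp _ _ (mem_sigmaSupp.2 ⟨x, hL.2 (mem_zpowers x), h1, h⟩)⟩
    · obtain ⟨J, Z, h4, h5, h6⟩ := exists_pair_of_kappa hH h1 h2 h3
      have h7 := h4.mul_mem_hat h5 h2 h6 (ell_sigma1P.1 hy).1
      rw [mem_cent1.1 h1.2, mul_inv_cancel_left] at h7
      exact .inl ⟨H, J, Z, h4, h7⟩
  refine ⟨fun M => one_not_mem_classSupp, fun M L => classSupp_disjoint,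
    fun h x hx => (key x hx).resolve_left fun ⟨H, _, _, h', _⟩ => h H h'.typeP,
    fun M K hM hK => ⟨fun L => Pair.hat_disjoint ⟨hM, hK, rfl⟩, fun x hx => (key x hx).imp_left ?_⟩⟩
  rintro ⟨H, J, Z, h1, h2⟩
  obtain ⟨L, h⟩ := Ptype_embedding hM hK
  obtain ⟨g, rfl | rfl⟩ := h.trans H h1.typeP
  · exact Pair.mem_classSupp ⟨hM, hK, rfl⟩ h1 h2
  · have := Pair.mem_classSupp ⟨h.typeP, h.hallKappa, rfl⟩ h1 h2
    rwa [h.defK, cycTIset_symm] at this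

theorem ell_sigma_leq_2 (x : G) : ellSigma x ≤ 2 := by
  by_cases hx : x = 1
  · rw [ell_sigma0P.2 hx]; exact zero_le_two
  rcases ((xor_iff_or_and_not_and _ _).1 (sigma_decomposition_dichotomy hx)).1 with
    ⟨y, hy, h⟩ | ⟨y, hy, H, hH, h1, h2, h3⟩
  · exact ell_sigma_cover hy h
  · obtain ⟨J, Z, h4, h5, -⟩ := exists_pair_of_kappa hH h1 h2 h3
    obtain ⟨L, h⟩ := Ptype_embedding h4.typeP h4.hall
    rw [← mul_inv_cancel_left y x, ellSigma, decomp_mul hH.1 ((Ms_piGrp H).piElt (hH.2 (mem_zpowers y)))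
      (ell_sigma1P.1 hy).1 (h3.mono (kappa_sigma' H)) (mem_cent1.1 h1.2).symm,
      ell1_decomposition (Msigma_ell1 h.typeP.1 (h.defK.ge h5).1 h2)]
    exact (Set.ncard_insert_le _ _).trans (by simp)

theorem B14.cent_eq_bot_of_F {M Q : Subgroup G} {q : ℕ} (hM : TypeFMax M) (hq : q ∈ tau13S M)
    (hQ : IsEp q 1 Q M) : Ms M ⊓ 𝐂(Q) = ⊥ := by_contra fun h =>
  hM.2 q (tau13_prime hq) (hQ.dvd_card one_ne_zero) ⟨hq, Q, hQ, h⟩

theorem B14.sigma_eq_beta {M : Subgroup G} (hM : TypeP2Max M) : sigmaS M = betaS M :=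
  let ⟨_, hK⟩ := exists_hall (kappaS M) (mmax_sol hM.1.1)
  ((Ptype_structure hM.1 hK).2.2.2.2.2.2 hM).1

theorem primes_non_Fitting_Ftype {M E Q : Subgroup G} {q : ℕ} [hq : Fact q.Prime] (hM : TypeFMax M)
    (hE : Hall (sigmaS M)ᶜ E M) (hQ : IsEp q 1 Q E) (hF : ¬ Q ≤ Fit E) :
    ∃ Mstar, IsCoatom Mstar ∧ ((q ∈ tau2S Mstar ∧ UniqMax 𝐂(Q) Mstar) ∨
      (q ∈ kappaS Mstar ∧ TypeP1Max Mstar)) := by
  have hM' := hM.1
  have hqE : q ∈ piOf E := ⟨hq.out, hQ.dvd_card one_ne_zero⟩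
  have h1 : q ∈ tau1S M := by
    rw [partition_pi_sigma_compl hM' hE] at hqE
    rcases hqE with (h | h) | h
    · exact h
    · obtain ⟨A, hA, -⟩ := ex_tau2Elem hM' hE h
      obtain ⟨⟨h1, h2⟩, -⟩ := tau2_compl_context hM' hE h hA
      exact absurd (((h2 Q).1 hQ).le.trans (le_Fit h1 (nil_of_ab hA.ab))) hF
    · obtain ⟨E1, h1⟩ := exists_hall (tau1S M) (sol_of_le (mmax_sol hM') hE.le)
      obtain ⟨E2, E3, h2⟩ := ex_tau23_compl hM' hE h1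
      obtain ⟨⟨-, h3⟩, -, ⟨-, h4⟩, -⟩ := sigma_compl_context hM' h2
      exact absurd ((h2.hall3.le_of_normal_hall h3.2 hQ.le (piGrp_of_isPGroup hQ.isPGroup h)).trans
        (le_Fit h3 (nil_of_ab (ab_of_isCyclic h4)))) hF
  have h2 := cent_eq_bot_of_F hM (.inl h1) (hQ.mono hE.le)
  have ha := der_mmax_compl_abelian hM' hE
  have h3 : ¬ q ∣ ♯(der E) := fun h => ((tau1E hM' hE).1 h1).2.2 ⟨hq.out, h⟩
  have hn : Q ≤ 𝐍(der E) := hQ.le.trans (der_normal E).2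
  obtain ⟨p, hp, hd⟩ := exists_prime_dvd (H := ⁅der E, Q⁆) fun e => hF (le_sup_right.trans (le_Fit
    (normalIn_of_der_le le_sup_left (sup_le (der_le E) hQ.le))
    (nil_of_ab (ab_sup ha hQ.ab (commutator_eq_bot_iff.1 e)))))
  have := Fact.mk hp
  obtain ⟨X, hX⟩ := exists_isEp_one hd
  have hXE := hX.mono (commutator_le_of_le (der_le E) hQ.le)
  have h4 : p ∈ tau2S M := by_contra fun h => Msigma_neq1 hM' (by
    rw [← cent_eq_bot_of_F hM (mem_tau13 hM' hE ⟨hp, hXE.dvd_card one_ne_zero⟩ h) (hXE.mono hE.le),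
      inf_eq_left.2 (le_cent_symm (hX.le.trans (commG_sigma'_1Elem_cyclic hM' ((der_le E).trans hE.le)
        (hE.piGrp.of_le (der_le E)) h3 h1.2.1 (hQ.of_le (le_inf (hQ.le.trans hE.le) hn)) h2 ha).1))])
  obtain ⟨A, hA, -⟩ := ex_tau2Elem hM' hE h4
  obtain ⟨⟨h5, h6⟩, -⟩ := tau2_compl_context hM' hE h4 hA
  have h7 : ¬ Q ≤ 𝐂(A) := fun e => hX.ne_bot one_ne_zero (eq_bot_iff.2 ((le_inf hX.le
    (((h6 X).1 hXE).le.trans (le_cent_symm e))).trans (coprime_abel_cent_TI hn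
      (coprime_of_isPGroup hQ.isPGroup ((piGrp_compl_singleton hq.out).2 h3)).symm ha).le))
  obtain ⟨-, -, h8, -⟩ := tau1_act_tau2 hM' hE h4 hA h1 hQ h2 fun e => h7 (commutator_eq_bot_iff'.1 e)
  obtain ⟨L, hL, hN⟩ := exists_mmax_norm hA.isPGroup (hA.ne_bot two_ne_zero)
  obtain ⟨h9, h10, -⟩ := primes_norm_tau2Elem hM' hE h4 hA hL hN
  have hQL := hQ.of_le ((hQ.le.trans h5.2).trans hN)
  have h11 : Ms L ⊓ 𝐂(Q) ≠ ⊥ := fun e => h8.ne_bot one_ne_zero (eq_bot_iff.2 ((inf_le_inf_right _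
    (le_Ms hL (le_normalizer.trans hN) (piGrp_of_isPGroup hA.isPGroup (h9 h4).1))).trans e.le))
  refine ⟨L, hL, (h10 ⟨hq.out, dvd_relIndex_cent hQ h5.2 h7⟩).symm.imp (fun h => ⟨h, ?_⟩) fun h => ?_⟩
  · obtain ⟨F, hF, hQF⟩ := ex_sigma_compl hL hQL.le (piGrp_of_isPGroup hQ.isPGroup h.2.1)
    obtain ⟨B, hB, -⟩ := ex_tau2Elem hL hF h
    exact (tau2_compl_context hL hF h hB).2.2 Q (hQ.of_le hQF) h11
  · have h12 : q ∈ kappaS L := ⟨.inl h, Q, hQL, h11⟩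
    exact ⟨h12, typeP_of_mem hL h12, by_contra fun e =>
      (h9 h4).2 (sigma_eq_beta ⟨typeP_of_mem hL h12, e⟩ ▸ (h9 h4).1)⟩

theorem P2type_signalizer {M Mstar U K R H : Subgroup G} {r : ℕ} [hr : Fact r.Prime]
    (hM : TypeP2Max M) (hUK : KappaCompl M U K) (hMs : IsCoatom Mstar) (hC : 𝐂(K) ≤ Mstar)
    (hR : Syl r R U) (hH : IsCoatom H) (hN : 𝐍(R) ≤ H) :
    TypeFMax H ∧ U ≤ Ms H ∧ U ⊔ K = M ⊓ H ∧ ¬ H ⊓ 𝐍(U) ≤ M ∧ K ≤ Fit (H ⊓ Mstar) ∧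
    Hall (sigmaS H)ᶜ (H ⊓ Mstar) H := by
  have hM' := hM.1.1
  obtain ⟨hE, ⟨sd1, sd2⟩, -, reg, ha⟩ := kappa_compl_context hM' hUK
  have hK1 := kappa_ne_bot hM.1 hUK.hallK
  have hq := ((Ptype_structure hM.1 hUK.hallK).2.2.2.2.2.2 hM).2.1
  have := Fact.mk hq
  have hR1 := ne_bot_of_norm_le hH hN
  have hr1 := mem_of_isPGroup_of_piGrp hR.isPGroup hR1 (hUK.hallU.piGrp.of_le hR.le)
  have hRM := hR.trans_hall hUK.hallU hr1
  have hEH : U ⊔ K ≤ H := (sd1.normal.2.trans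
    (hR.norm_le_norm_of_normal (le_norm_of_ab (ha hK1) hR.le))).trans hN
  have hKH := le_sup_right.trans hEH
  obtain ⟨L, h⟩ := Ptype_embedding hM.1 hUK.hallK
  have hu := h.uniq K le_rfl hq
  obtain rfl := hu.eq hMs hC
  have hKs : K ≤ Ms Mstar := h.defK.ge.trans inf_le_left
  have hqs := Ms_piGrp Mstar _ hq (card_dvd hKs)
  have hn1 : NotConj H M := by
    rintro g rfl
    exact hr1 (.inl (sigmaS_conj M g ▸ ⟨hr.out, R, (hRM.conj g).of_card_eq (le_normalizer.trans hN)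
      (card_conj g R).symm, hN⟩))
  have hn2 : NotConj H Mstar := by
    rintro g rfl
    have h1 : g ∈ Mstar := by_contra fun e => hK1 (eq_bot_iff.2 ((le_inf h.defK.ge hKH).trans
      ((Ptype_structure h.typeP h.hallKappa).2.2.2.1.1 g e).le))
    rw [conj_eq_of_mem h1] at hN
    exact hr1 (mem_of_isPGroup_of_piGrp hR.isPGroup hR1 (((dprod_kappa hUK.hallK.piGrp).toSdprod.piGrp
      (hUK.hallK.piGrp.mono Set.subset_union_right) (((Ms_piGrp M).inf_left _).mono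
        Set.subset_union_left)).of_le ((le_inf hRM.le (le_normalizer.trans hN)).trans h.inf_eq.le)))
  have hF : TypeFMax H := ⟨hH, by_contra fun e =>
    let ⟨g, h1⟩ := h.trans H ⟨hH, e⟩; h1.elim (hn1 g) (hn2 g)⟩
  have hqH : ♯K ∉ sigmaS H := Set.disjoint_left.1 (sigma_partition hMs hH hn2) hqs
  obtain ⟨D, hD, hKD⟩ := ex_sigma_compl hH hKH ((isPiNum_prime hq).2 hqH)
  have hK' := isEp_one_of_prime hKD hq
  have h1 : K ≤ Fit D := by_contra fun e => by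
    obtain ⟨L, hL, ⟨h1, h2⟩ | ⟨h1, h2⟩⟩ := primes_non_Fitting_Ftype hF hD hK' e
    · exact h1.2.1 (hu.eq hL h2.le ▸ hqs)
    · obtain ⟨g, rfl | rfl⟩ := h.trans L h2.1
      · exact hM.2 ((typeP1Max_conj M g).1 h2).2
      · exact kappa_sigma' _ (kappaS_conj Mstar g ▸ h1) hqs
  have h2 := le_Op_of_le_Fit hK'.isPGroup h1
  have sd3 := sdprod_sigma hH hD
  have hco := regular_norm_coprime sd1.le_norm reg
  have hqU : PiGrp ({♯K} : Set ℕ)ᶜ U := (piGrp_compl_singleton hq).2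
    ((Nat.Prime.coprime_iff_not_dvd hq).1 hco.symm)
  have hqHs : PiGrp ({♯K} : Set ℕ)ᶜ (Ms H) := (Ms_piGrp H).mono fun _ h e => hqH (e ▸ h)
  have h3 : U ≤ Ms H := by
    have h3 := sd3.mono le_rfl (Op_le ♯K D) ((Op_le _ _).trans sd3.le_norm)
    refine (h3.hall_left hqHs (Op_piGrp _ _).compl_compl).le_of_normal_hall h3.normal.2 ?_ hqU
    rw [← commutator_eq_of_cent_bot sd1.le_norm hco (.inl (sol_of_ab (ha hK1)))
      (reg.inf_cent le_rfl hK1)]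
    exact (commutator_mono (le_sup_left.trans hEH) (h2.trans le_sup_right)).trans
      (commutator_le_right' (sd3.sup_eq.ge.trans (sup_le (le_norm_of_le le_sup_left)
        (le_norm_sup sd3.le_norm (Op_normal _ _).2))))
  have h4 : U ⊔ K = M ⊓ H := by
    refine (sd2.of_right_le (le_inf hE.le hEH) inf_le_left).right_eq_iff.2 (eq_bot_iff.2
      ((le_inf inf_le_left ((inf_le_inf_left _ inf_le_right).trans
        (inf_le_cent hM' hH hn1 hUK.hallU.le h3))).trans (Core.cent_bot hM' hUK.hallU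
          fun e => hR1 (eq_bot_iff.2 (hR.le.trans e.le))).le))
  have h5 : D ≤ Mstar ∧ Ms H ⊓ Mstar = ⊥ := by
    by_cases h5 : ♯K ∈ tau2S H
    · obtain ⟨A, hA, hA'⟩ := ex_tau2Elem hH hD h5
      obtain ⟨⟨h6, h7⟩, -⟩ := tau2_compl_context hH hD h5 hA
      have h8 := (hA.le_cent.trans (cent_anti ((h7 K).1 hK').le)).trans hC
      exact ⟨h6.2.trans (norm_noncyclic_sigma hMs hqs hA.isPGroup h8 fun e => by
        have := rp_le_one_of_isCyclic (p := ♯K) e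
        rw [hA.rp_eq] at this
        omega), (tau2_context hH h5 hA').2.2.2.1 _ hMs h8 hn2.symm.ne⟩
    · have h6 := mem_tau13 hH hD ⟨hq, card_dvd hKD⟩ h5
      exact ⟨((Op_normal _ D).2.trans (norm_le_norm_of_isCyclic (isCyclic_tau13 h6 (Op_isPGroup _ _)
        ((Op_le _ _).trans hD.le)) h2)).trans ((norm_le_norm_cent K).trans hu.norm_le),
        eq_bot_iff.2 ((le_inf inf_le_left (inf_le_cent hH hMs hn2.symm hKH hKs)).trans
          (cent_eq_bot_of_F hF h6 (hK'.mono hD.le)).le)⟩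
  have h6 : D = H ⊓ Mstar := (sd3.of_right_le (le_inf hD.le h5.1) inf_le_left).right_eq_iff.2
    (eq_bot_iff.2 ((inf_le_inf_left _ inf_le_right).trans h5.2.le))
  refine ⟨hF, h3, h4, fun e => ?_, h6 ▸ h1, h6 ▸ hD⟩
  have h7 := eq_of_nil_of_inf_norm_le (notP1type_Msigma_nil (.inl hF)) h3
    ((sd1.hall_left hqU ((isPiNum_prime hq).2 fun h => h rfl)).le_of_normal_hall sd1.normal.2
      ((le_inf ((inf_le_inf_right _ (Ms_normal H).1).trans e)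
        (inf_le_left.trans (Ms_normal H).1)).trans h4.ge) (hqHs.inf_left _))
  rw [h7, norm_Msigma hH, inf_idem] at e
  exact hn1.ne (eq_mmax hH hM' e)

theorem non_disjoint_signalizer_Frobenius {x : G} {M : Subgroup G} (hx : ellSigma x = 1)
    (h : 1 < (sigmaMax (zpowers x)).ncard) (hM : M ∈ sigmaMax (zpowers x))
    (hs : ¬ PiGrp (sigmaS (Nx x))ᶜ M) :
    TypeFMax M ∧ PiGrp (tau2S M)ᶜ M ∧ IsFrobKer M (Ms M) := by
  obtain ⟨hu, -, h1, -, h2⟩ := (FT_signalizer_context hx).2 h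
  obtain ⟨-, h2, h3, -⟩ := h2 M hM
  generalize Nx x = N at *
  obtain ⟨hM', hxM⟩ := mem_sigmaMax.1 hM
  have hN := hu.1
  obtain ⟨q, hq, hd, hqN⟩ := exists_prime_not_mem hs
  rw [Set.notMem_compl_iff] at hqN
  have := Fact.mk hq
  obtain ⟨Q, hQ⟩ := exists_isEp_one hd
  have hqb := h3 ⟨⟨hq, hd⟩, hqN⟩
  have hqb' := ((predI_sigma_beta hN).ge hqb).2
  obtain ⟨p, hp, hpd⟩ := Nat.exists_prime_and_dvd (mt orderOf_eq_one_iff.1 (ell_sigma1P.1 hx).1)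
  have hp2 := h1 p hp hpd
  have hn : NotConj N M := by
    rintro g rfl
    exact hp2.2.1 ((sigmaS_conj M g).symm ▸ h2 hp2)
  have hqM : q ∉ sigmaS M := Set.disjoint_right.1 (sigma_partition hM' hN hn) hqN
  have hU : ∀ Q : Subgroup G, IsEp q 1 Q M → ∃ g : G, UniqMax 𝐂(Q) (g •ᶜ N) := fun Q hQ => by
    obtain ⟨g, hg⟩ := (sigma_group_trans hN hqN hQ.isPGroup).2.1.1
    exact ⟨g, (cent_der_sigma_uniq (isCoatom_conj hN g) (hQ.of_le hg)
      (.inl ((betaS_conj N g).symm ▸ hqb))).1⟩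
  have hF : TypeFMax M := ⟨hM', by_contra fun e => by
    have h4 : PiGrp (sigmaKappaS M) M := by_contra fun e' => (tau2_not_beta hN hp2).1
      ((predI_sigma_beta hM').ge (sigma_eq_beta ⟨⟨hM', e⟩, e'⟩ ▸ h2 hp2)).2
    obtain ⟨K, hK, hQK⟩ := exists_hall_ge (mmax_sol hM') hQ.le
      (piGrp_of_isPGroup hQ.isPGroup ((h4 q hq hd).resolve_left hqM))
    obtain ⟨L, h5⟩ := Ptype_embedding ⟨hM', e⟩ hK
    obtain ⟨g, h6⟩ := hU Q hQ
    obtain rfl := h6.eq h5.typeP.1 (h5.uniq Q hQK hQ.prime_card).le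
    refine tau2_not_kappa hp2 (kappaS_conj N g ▸ h5.hallKappa.piGrp p hp
      ((h5.hallSigma.dvd_card_iff hp (h2 hp2)).2 ?_))
    rw [card_conj]
    exact hpd.trans (orderOf_dvd_card (hu.le (mem_cent1_self x)))⟩
  obtain ⟨E, hE, hQE⟩ := ex_sigma_compl hM' hQ.le (piGrp_of_isPGroup hQ.isPGroup hqM)
  have h4 : PiGrp (tau2S M)ᶜ M := fun r hr hrd h4 => by
    have := Fact.mk hr
    obtain ⟨A, hA, -⟩ := ex_tau2Elem hM' hE h4
    obtain ⟨g, h5⟩ := hU Q hQ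
    have h6 : ∀ X : Subgroup G, IsEp r 1 X N → r ∈ tau13S N := fun X hX => by
      have h6 : r ∈ piOf N := ⟨hr, hX.dvd_card one_ne_zero⟩
      rw [partition_pi_mmax hN] at h6
      rcases h6 with ((h | h) | h) | h
      exacts [.inl h, absurd (h2 h) h4.2.1, .inr h, absurd ((predI_sigma_beta hN).ge
        (h3 ⟨⟨hr, hrd⟩, h⟩)).2 (tau2_not_beta hM' h4).1]
    have h7 : ¬ Q ≤ 𝐂(A) := fun e => by
      have h7 := (hA.of_le ((le_cent_symm e).trans h5.le)).le_rp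
      rw [rp_conj] at h7
      obtain ⟨X, hX⟩ := exists_isEp (one_le_two.trans h7)
      rw [rp_tau13 (h6 X hX)] at h7
      omega
    have hQ' := hQ.of_le hQE
    have h8 := (tau1_cent_tau2Elem_factor hM' hE h4 hA).2.2 q hq
      (dvd_relIndex_cent hQ' (tau2_compl_context hM' hE h4 hA).1.1.2 h7)
    obtain ⟨⟨h9, h10, -⟩, h11, h12, -⟩ := tau1_act_tau2 hM' hE h4 hA h8 hQ'
      (cent_eq_bot_of_F hF (.inl h8) hQ) fun e => h7 (commutator_eq_bot_iff'.1 e)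
    have h13 := h9.of_le (((h10.ge.trans inf_le_right).trans (cent_le_cent1 hxM)).trans hu.le)
    have h14 := (h12.of_le (inf_le_right.trans h5.le)).conj g⁻¹
    rw [inv_conj_conj] at h14
    obtain ⟨k, -, e⟩ := conj_of_tau13 (h6 _ h13) h14 h13
    exact h11 _ (e.trans (conj_conj _ _ _))
  refine ⟨hF, h4, E, (Frobenius_semiregularP (sdprod_sigma hM' hE) (Msigma_neq1 hM')
    fun e => hQ.ne_bot one_ne_zero (eq_bot_iff.2 (hQE.trans e.le))).2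
      (semiregular_of_prime_subgroup fun X hX hp => cent_eq_bot_of_F hF (mem_tau13 hM' hE
        ⟨hp, card_dvd hX⟩ (h4 _ hp (card_dvd (hX.trans hE.le)))) (isEp_one_of_prime (hX.trans hE.le) hp))⟩

end Cfsg.Agent.OO.Pf
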