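import Cfsg.Agent.Lib.OO.Pf.BG15_D

/-! # B&G section 15: Theorem 15.8 and Corollary 15.9 -/

set_option autoImplicit false
set_option linter.unusedSectionVars false

namespace Cfsg.Agent.OO

open Subgroup Cfsg.Agent.Coprime
open scoped Pointwise commutatorElement

universe u

variable {G : Type u} [Group G] [Finite G] [MinOdd G]

theorem mem_tau2_of_isEp {M A : Subgroup G} {p : ℕ} [Fact p.Prime] (hM : IsCoatom M) (hA : IsEp p 2 A M)
    (hs : p ∉ sigmaS M) : p ∈ tau2S M :=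
  ⟨Fact.out, hs, le_antisymm (not_lt.1 fun h => hs (alpha_sub_sigma hM ⟨Fact.out, h⟩)) hA.le_rp⟩

/-- Theorem 15.8 -/
theorem tau2_P2type_signalizer {M Mstar U K R H : Subgroup G} {r : ℕ} [Fact r.Prime] (hM : TypeP2Max M)
    (hUK : KappaCompl M U K) (hMs : IsCoatom Mstar) (hC : 𝐂(K) ≤ Mstar) (hR : Syl r R U)
    (hH : IsCoatom H) (hN : 𝐍(R) ≤ H) (ht : ¬ PiGrp (tau2S H)ᶜ H) :
    (♯K).Prime ∧ tau2S H = {♯K} ∧ PiGrp (tau2S M)ᶜ M := by
  have hK := hUK.hallK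
  have hq := ((Ptype_structure hM.1 hK).2.2.2.2.2.2 hM).2.1
  have := Fact.mk hq
  set q := ♯K with hqd
  obtain ⟨hF, hUH, -, -, hKF, hD⟩ := P2type_signalizer hM hUK hMs hC hR hH hN
  obtain ⟨L, hL⟩ := Ptype_embedding hM.1 hK
  obtain rfl : Mstar = L := (hL.uniq K le_rfl hq).eq hMs hC
  set Ks := Ms M ⊓ 𝐂(K) with hKs
  set D := H ⊓ Mstar with hDd
  have hKL : K ≤ Ms Mstar := hL.defK ▸ inf_le_left
  have hKp : IsEp q 1 K D := ⟨hKF.trans (Fit_le D), abelem_of_card_prime rfl, (pow_one q).symm⟩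
  have hqs : q ∈ sigmaS Mstar := Ms_piGrp _ q hq (card_dvd hKL)
  have hcent : ∀ p ∈ tau2S H, ∀ A, IsEp p 2 A D → A ≤ 𝐂(K) ∧ A ≤ Ms Mstar := fun p hp A hA => by
    have := Fact.mk hp.1
    obtain ⟨⟨h1, h2⟩, -⟩ := tau2_compl_context hH hD hp hA
    have h3 : A ≤ 𝐂(K) := by
      by_cases e : p = q
      · subst e; exact hA.le_cent.trans (cent_anti ((h2 K).1 hKp).le)
      · exact le_cent_of_nil_of_coprime (Fit_nil D) (le_Fit h1 (nil_of_ab hA.ab)) hKF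
          (coprime_of_isPGroup_ne hA.isPGroup hKp.isPGroup e)
    refine ⟨h3, (le_Ms_iff hMs (hA.le.trans inf_le_right)).2 (piGrp_of_isPGroup hA.isPGroup ?_)⟩
    by_contra h
    have h4 := (tau2_context hMs (mem_tau2_of_isEp hMs (hA.mono inf_le_right) h)
      (hA.mono inf_le_right)).2.2.1
    exact hKp.ne_bot one_ne_zero (eq_bot_iff.2 (h4 ▸ le_inf hKL (le_cent_symm h3)))
  have hfit : Syl q (Op q Mstar) Mstar ∧ ∀ A ≤ Ms Mstar, A ≤ 𝐂(K) → A ≤ Fit Mstar := by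
    by_cases h : Fcore Mstar = Ms Mstar
    · exact ⟨syl_Op_of_nil_Ms hMs ((Fcore_eq_Msigma hMs).1 h) hqs,
        fun A hA _ => hA.trans (h ▸ Fcore_le_Fit _)⟩
    · obtain ⟨q', _, D', e, -, -, -, h2⟩ := exists_FcoreStructure hMs hL.hallKappa h
      rw [hL.defK] at e h2
      obtain rfl : q = q' := e
      exact ⟨h2.sylQ, fun A hA hAK x hx => (h2.defF3 x (hA hx)).1
        ((commutator_eq_bot_iff'.2 (zpowers_le.2 (hAK hx))).le.trans bot_le)⟩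
  have sylQ := hfit.1.mono (Op_le_Opi hqs _) (Ms_normal _).le
  have hQ := ((Ptype_structure hL.typeP hL.hallKappa).2.2.2.2.1 q (by rw [hL.defK]; exact ⟨hq, dvd_rfl⟩)
    _ sylQ).1
  have heq : ∀ p ∈ tau2S H, p = q := fun p hp => by
    by_contra e
    have := Fact.mk hp.1
    obtain ⟨A, hA, -⟩ := ex_tau2Elem hH hD hp
    obtain ⟨h1, h2⟩ := hcent p hp A hA
    have h3 := cent_uniq_Uniqueness hQ.uniq ((le_Op_of_le_Fit hA.isPGroup (hfit.2 A h2 h1)).trans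
      (Op_le_cent_Op e _)) hA.rank_eq.ge
    obtain rfl : H = Mstar :=
      (h3.uniqMax hMs (hA.le.trans inf_le_right)).eq hH (hA.le.trans inf_le_left)
    exact hL.typeP.not_F hF
  have hqt : q ∈ tau2S H := by
    obtain ⟨p, -, -, hp⟩ := exists_prime_not_mem ht
    rw [Set.notMem_compl_iff] at hp
    exact heq p hp ▸ hp
  refine ⟨hq, Set.eq_singleton_iff_unique_mem.2 ⟨hqt, heq⟩, fun p hp _ hpt => ?_⟩
  have hβ : q ∉ betaS Mstar := fun h => (tau2_not_beta hH hqt).1 (by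
    rw [← predI_sigma_beta hMs] at h; exact h.2)
  have hP1 : TypeP1Max Mstar := hL.typeP.P1_or_P2.resolve_right fun h =>
    hβ (((Ptype_structure hL.typeP hL.hallKappa).2.2.2.2.2.2 h).1 ▸ hqs)
  have hn : Nil (Ms Mstar) := by
    by_contra h
    obtain ⟨q', _, D', e, -, -, -, h2⟩ := exists_FcoreStructure hMs hL.hallKappa
      fun h' => h ((Fcore_eq_Msigma hMs).1 h')
    rw [hL.defK] at e
    obtain rfl : q = q' := e
    exact hβ h2.q_beta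
  have hab : ¬ Ab (Op q (Ms Mstar)) := fun h => by
    have h1 := (Ptype_cyclics hL.typeP hL.hallKappa).2.2.1
    change _ ≤ der (der Mstar) at h1
    rw [hL.defK, ← P1type_Ms_eq hP1, (dprod_Op_of_nil q hn).toCprod.der_eq, ab_iff_der.1 h, bot_sup_eq] at h1
    exact not_dvd_Op' (p := q) (Ms Mstar) (card_dvd (h1.trans (der_le _)))
  obtain ⟨A, hA, -⟩ := ex_tau2Elem hH hD hqt
  have hX := (nonabelian_tau2 hH hD hqt hA (Op_isPGroup q _) hab).2.1.1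
  obtain ⟨hE, ⟨dUK, -⟩, -, reg, hU⟩ := kappa_compl_context hM.1.1 hUK
  have hK1 := hKp.ne_bot one_ne_zero
  have := Fact.mk hp
  obtain ⟨B, hB, -⟩ := ex_tau2Elem hM.1.1 hE hpt
  have hallU := hUK.hallU.mono le_sup_left hE.le
  have hBU : B ≤ U := hallU.le_of_normal_hall dUK.normal.norm hB.le
    (piGrp_of_isPGroup hB.isPGroup fun h => h.elim hpt.2.1 (not_mem_kappa_of_tau2 hpt))
  have h1 : A ⊓ 𝐂(Ms H) ≤ (U ⊔ K) ⊓ 𝐂(U) := by
    have h2 := inf_le_right.trans (cent_anti hUH) (a := A ⊓ 𝐂(Ms H))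
    exact le_inf ((h2.trans (cent_anti hBU)).trans (tau2_compl_context hM.1.1 hE hpt hB).2.1.1) h2
  have h3 := (dUK.inf_of_left_le (hU hK1).le_cent).sup_eq
  rw [reg.symm.inf_cent le_rfl fun h => hB.ne_bot two_ne_zero (eq_bot_iff.2 (h ▸ hBU)), sup_bot_eq] at h3
  have h4 : q ∣ ♯U := hX ▸ card_dvd (h3 ▸ h1)
  exact hUK.U_kappa' q hq h4 (hK.piGrp q hq dvd_rfl)

/-- Corollary 15.9 -/
theorem nonFtype_signalizer_base {M : Subgroup G} {x : G} (hM : IsCoatom M) (hx : x ∈ Ms M) (hx1 : x ≠ 1)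
    (hC : ¬ 𝐂[x] ≤ M) (hN : ¬ TypeFMax (Nx x)) :
    TypeFMax M ∧ PiGrp (tau2S M)ᶜ M ∧ TypeP2Max (Nx x) ∧
    ∃ E, Hall (sigmaS M)ᶜ E M ∧ IsCyclic E ∧ IsFrob M (Ms M) E := by
  have hMx : M ∈ sigmaMax (zpowers x) := ⟨hM, zpowers_le.2 hx⟩
  obtain ⟨hU, -, ht, hT, h⟩ := (FT_signalizer_context (Msigma_ell1 hM hx hx1)).2
    (one_lt_ncard_sigmaMax hMx hC)
  obtain ⟨-, hts, -, hE⟩ := h M hMx
  have hP2 := hT.resolve_left hN
  set N := Nx x with hNd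
  obtain ⟨U, K, hUK, e⟩ := exists_kappaCompl_sup_eq hU.1 hE
  obtain ⟨L, hL, hCL⟩ := mmax_exists (mFT_cent_proper (hP2.1.hall_ne_bot hUK.hallK))
  obtain ⟨r, hr, hrd⟩ := (orderOf x).exists_prime_and_dvd (by simpa using hx1)
  have := Fact.mk hr
  have hrt := ht r hr hrd
  obtain ⟨R, hR⟩ := exists_syl r U
  have hNR : 𝐍(R) ≤ M := norm_noncyclic_sigma hM (hts hrt) hR.isPGroup
    (hR.le.trans (le_sup_left.trans (e.le.trans inf_le_left))) fun hc => by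
      have := rp_le_one_of_isCyclic (p := r) hc
      rw [rp_syl (hUK.syl hR hrt), hrt.2.2] at this
      omega
  have hF := (P2type_signalizer hP2 hUK hL hCL hR hM hNR).1
  have h2 : PiGrp (tau2S M)ᶜ M := by
    by_contra h
    exact (tau2_P2type_signalizer hP2 hUK hL hCL hR hM hNR h).2.2 r hr (tau2_dvd_card hrt) hrt
  refine ⟨hF, h2, hP2, ?_⟩
  obtain ⟨E, K', hE'⟩ := kappa_witness hM
  obtain rfl := (trivg_kappa hM hE'.hallK).2 hF
  obtain ⟨hEh, ⟨-, d⟩, -⟩ := kappa_compl_context hM hE'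
  rw [sup_bot_eq] at hEh d
  refine ⟨E, hEh, ?_, (Frobenius_semiregularP d (Msigma_neq1 hM)
    fun h => (Ms_lt hM).ne (d.left_eq_iff.2 h)).2 (kappa_compl_semiregular hM hE' le_rfl (h2.of_le hEh.le))⟩
  obtain ⟨g, hg, h3⟩ := exists_of_not_normedTI (Fit_normal M) (mmax_Fitting_neq1 hM) fun h =>
    hC (le_trans (le_inf le_top le_rfl) (h.cent1_le
      ⟨le_Fit (Ms_normal M) (notP1type_Msigma_nil (Or.inl hF)) hx, hx1⟩))
  obtain ⟨E1, h1⟩ := exists_hall (tau1S M) (sol_of_le (mmax_sol hM) hEh.le)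
  obtain ⟨E2, E3, h4⟩ := ex_tau23_compl hM hEh h1
  obtain ⟨-, -, d2⟩ := (nonTI_Fitting_structure hM hg h3).2.2.2.1.1 E E1 E2 E3 h4
  rw [← d2.right_eq_iff.2 (h4.hall2.piGrp.eq_bot (h2.of_le (h4.hall2.le.trans hEh.le)))]
  exact tau1_cyclic hM hEh h1

end Cfsg.Agent.OO
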