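import Cfsg.Agent.Lib.OO.Pf.BG16_B

/-! # B&G section 16, last part: Lemma 16.1, Theorems I and II -/

set_option autoImplicit false
set_option linter.unusedSectionVars false

namespace Cfsg.Agent.OO

open Subgroup Cfsg.Agent.Coprime
open scoped Pointwise commutatorElement

universe u

variable {G : Type u} [Group G] [Finite G] [MinOdd G]

theorem FTtype_of_typeF {M U : Subgroup G} (hM : IsCoatom M) (h : OfTypeF M U) : FTtype M = 1 := by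
  refine FTtype_eq_one_iff.2 fun p hp hd hk => ?_
  have := Fact.mk hp
  obtain ⟨U0, h1, h2, hF⟩ := h.compl
  have h3 : p ∣ ♯U := by
    rcases h.sdprod.piOf_eq.le ⟨hp, hd⟩ with h3 | h3
    · exact absurd ((Ms_piGrp M).of_le (Fcore_sub_Msigma hM) p hp h3.2) (kappa_sigma' M hk)
    · exact h3.2
  obtain ⟨P, hP⟩ := exists_isEp_one ((h2 ▸ dvd_expo_of_dvd_card hp h3).trans (expo_dvd_card U0))
  have hU0 : U0 ≤ M := h1.trans h.sdprod.right_le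
  obtain ⟨K, hK, hPK⟩ := exists_hall_ge (mmax_sol hM) (hP.le.trans hU0) (piGrp_of_isPGroup hP.isPGroup hk)
  obtain ⟨c1, -, -, c4, -⟩ := Ptype_cyclics ((PtypeP hM).2 ⟨p, hk⟩) hK
  exact c1 (eq_bot_iff.2 (hF.semiregular.inf_cent hP.le (hP.ne_bot one_ne_zero) ▸
    le_inf c4 (inf_le_right.trans (cent_anti hPK))))

theorem FTtype_of_spec {M : Subgroup G} (hM : IsCoatom M) {i : ℕ} (h : FTtypeSpec i M) :
    FTtype M = i := by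
  match i, h with
  | 1, ⟨_, h, _⟩ => exact FTtype_of_typeF hM h
  | 2, ⟨U, W, W1, W2, h⟩ =>
    obtain ⟨hP, -, -, -, h1, -⟩ := typePfacts hM h.base.typeP
    exact (FTtype_P2max hM).1 (hP.P1_or_P2.resolve_left fun h2 =>
      (h1.1 h2).elim h.base.U_ne_bot h.not_norm_le)
  | 3, ⟨U, W, W1, W2, h, ha, hN⟩ =>
    obtain ⟨-, -, -, -, h1, h2⟩ := typePfacts hM h.typeP
    have h3 := h1.2 (.inr hN)
    obtain ⟨h4, h5⟩ := h2 (P1type_Ms_eq h3)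
    exact h3.FTtype_eq.2.1.2 ⟨fun e => h.U_ne_bot (h4.1 e), h5.2 ha⟩
  | 4, ⟨U, W, W1, W2, h, ha, hN⟩ =>
    obtain ⟨-, -, -, -, h1, h2⟩ := typePfacts hM h.typeP
    have h3 := h1.2 (.inr hN)
    obtain ⟨h4, h5⟩ := h2 (P1type_Ms_eq h3)
    exact h3.FTtype_eq.2.2.2 ⟨fun e => h.U_ne_bot (h4.1 e), fun e => ha (h5.1 e)⟩
  | 5, ⟨U, W, W1, W2, h, hU, _⟩ =>
    obtain ⟨-, -, -, -, h1, h2⟩ := typePfacts hM h
    have h3 := h1.2 (.inl hU)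
    exact h3.FTtype_eq.1.2 ((h2 (P1type_Ms_eq h3)).1.2 hU)

theorem ofTypeP_of_compl {M U K : Subgroup G} (hM : TypePMax M) (hK : Hall (kappaS M) K M)
    (hU : IsSdprod (Fcore M) U (der M)) (hKU : K ≤ 𝐍(U)) :
    OfTypeP M U (K ⊔ Ms M ⊓ 𝐂(K)) K (Ms M ⊓ 𝐂(K)) := by
  obtain ⟨L, hL⟩ := Ptype_embedding hM hK
  obtain ⟨c1, c2, c3, c4, c5⟩ := Ptype_cyclics hM hK
  obtain ⟨-, ⟨g1, g2, -⟩, ⟨-, g3⟩, g4⟩ := Fitting_structure hM.1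
  refine ⟨dprod_K_Ks hK, kappa_hall_cyclic hM.1 hK, hK.isHallIn, hM.hall_ne_bot hK, hL.defM,
    hU.nil_of_quo g3, hU.right_le, hKU, hU, c5, g1, g2, g4 hM, c2, c1, c4, c3, fun x hx hx1 => ?_, hL.tiZ⟩
  have h1 : Ms M ⊓ 𝐂(K) ≤ der M := inf_le_left.trans (Msigma_der1 hM.1)
  rw [← inf_eq_left.2 (der_le M), inf_assoc, hL.centK x hx hx1, inf_comm,
    sup_inf_of_le_right (.inr (dprod_K_Ks hK).toSdprod.le_norm) h1, inf_comm K, hL.defM.inf_eq, bot_sup_eq]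

/-- the exceptional cases of types I and V -/
theorem nonTI_Fcore_cases {M : Subgroup G} (hM : IsCoatom M) (h : ¬ NormedTI (sharp (Fcore M)) ⊤ M) :
    (TypeFMax M ∧ Ab (Fcore M) ∧ rank (Fcore M) = 2) ∨
      ∃ p ∈ piOf (Fcore M), IsCyclic (Op' p (Fcore M)) ∧
        ((∀ q ∈ piOf (Fcore M), expo (M ⁒ Fcore M) ∣ q - 1) ∨
          (♯(Op p (Fcore M)) = p ^ 3 ∧ TypeP1Max M ∧ (Fcore M).relIndex M ∣ p + 1)) := by
  obtain ⟨g, hg, h1⟩ := exists_of_not_normedTI (Fcore_normal M) (mmax_Fcore_neq1 hM) h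
  obtain ⟨⟨-, h2⟩, -, -, -, h3⟩ := nonTI_Fitting_structure hM hg fun e => h1 (eq_bot_iff.2
    (e ▸ inf_le_inf (Fcore_le_Fit M) (conj_mono g (Fcore_le_Fit M))))
  refine h3.imp_right fun ⟨p, _, _, hs, _, _, hc, h4⟩ => ⟨p, ?_, hc, h4⟩
  rw [h2, pi_Msigma hM]; exact hs

theorem spec_typeF {M : Subgroup G} (hM : TypeFMax M) : ∃ U, OfTypeI M U := by
  obtain ⟨E, hE⟩ := exists_hall (sigmaS M)ᶜ (mmax_sol hM.1)
  have hF := Fcore_eq_Ms_of_notP1 (.inl hM)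
  have hS := sdprod_sigma hM.1 hE
  have hE1 : E ≠ ⊥ := fun e => (Ms_lt hM.1).ne (hS.left_eq_iff.2 e)
  obtain ⟨⟨A, h1, h2, h3⟩, E0, h4⟩ := FTtypeF_complement hM.1 hE hE1 fun e he he1 ht => by
    obtain ⟨y, hy, hp⟩ := exists_prime_order_mem (H := zpowers e) (zpowers_ne_bot.2 he1)
    by_contra hC
    have hk : orderOf y ∈ kappaS M := ⟨(ht.of_mem_zpowers hy) _ hp dvd_rfl, zpowers y,
      isEp_zpowers (zpowers_le.2 (hE.le he) hy) rfl, fun e' => hC (eq_bot_iff.2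
        (e' ▸ inf_le_inf_left _ (cent_zpowers y ▸ cent1_le_of_mem_zpowers hy)))⟩
    rw [(FtypeP hM.1).1 hM] at hk
    exact hk
  rw [← hF] at hS h3 h4
  refine ⟨E, ⟨mmax_Fcore_neq1 hM.1, hE1, hS, ⟨A, h2, h1, h3⟩, E0, h4⟩, or_iff_not_imp_left.2 fun hT => ?_⟩
  refine (nonTI_Fcore_cases hM.1 hT).imp (·.2) fun ⟨p, hp, hc, h5⟩ => ⟨?_, p, hp, hc⟩
  rw [← hS.expo_quo]
  exact h5.resolve_right fun h6 => h6.2.1.1.not_F hM

theorem spec_typeP2 {M : Subgroup G} (hM : TypeP2Max M) : ∃ U W W1 W2, OfTypeII M U W W1 W2 := by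
  have hM' := hM.1.1
  obtain ⟨U, K, h⟩ := kappa_witness hM'
  have hK := hM.1.hall_ne_bot h.hallK
  have hU : U ≠ ⊥ := fun e => ((trivg_kappa_compl hM' h).1 e).not_P2 hM
  obtain ⟨L, hL⟩ := BGsummaryC hM' h hK
  have hF := Fcore_eq_Ms_of_notP1 (.inr hM)
  have hD := hL.defM'
  have hF' : Fcore (der M) = Fcore M := by
    have hH := (der_kappa_hall hM.1 h.hallK).2
    refine le_antisymm (le_Fcore ((Fcore_hall _).trans hH ?_).isHallIn (der_normal M).Fcore.norm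
      (Fcore_nil _)) (le_Fcore ((Fcore_isHallIn M).mono (hF ▸ hD.left_le) (der_le M))
      ((der_le M).trans (Fcore_normal M).norm) (Fcore_nil M))
    exact piGrp_iff_piOf_subset.1 (hH.piGrp.of_le (Fcore_le _))
  obtain ⟨U0, h1⟩ := (kappa_structure hM' h).2.2.2.2 hU
  rw [← hF] at hD
  rw [← hF, ← hF'] at h1
  exact ⟨U, _, K, _, ⟨ofTypeP_of_compl hM.1 h.hallK hD (BGsummaryA hM' h).K_le_norm, hU,
    (hL.of_ne_bot hU).1, (hL.of_ne_bot hU).2.1⟩, hL.abU, hL.not_norm_le,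
    ⟨hF' ▸ mmax_Fcore_neq1 hM', hU, hF' ▸ hD, ⟨U, hL.abU, .refl U, fun _ _ _ => inf_le_left⟩, U0, h1⟩, hF'⟩

theorem spec_typeP1_ne {M : Subgroup G} (hM : TypeP1Max M) (hne : Fcore M ≠ Ms M) :
    ∃ U W W1 W2, OfTypeII_IV M U W W1 W2 ∧ 𝐍(U) ≤ M ∧ (der (Ms M) ≤ Fcore M ↔ Ab U) := by
  have hM' := hM.1.1
  obtain ⟨K, hK⟩ := exists_hall (kappaS M) (mmax_sol hM')
  obtain ⟨hD, hH⟩ := der_kappa_hall hM.1 hK
  obtain ⟨U, hU, hKU⟩ := coprime_Hall_exists (piOf (Fcore M))ᶜ hD.le_norm (hH.piGrp.coprime' hK.piGrp)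
    (sol_of_le (mmax_sol hM') (der_le M))
  have hS := ((Fcore_hall M).mono (Fitting_structure hM').2.2.1.1 (der_le M)).sdprod
    ((der_le M).trans (Fcore_normal M).norm) hU
  have hP := ofTypeP_of_compl hM.1 hK hS hKU
  obtain ⟨-, -, -, -, h1, h2⟩ := typePfacts hM' hP
  obtain ⟨h3, h4⟩ := h2 (P1type_Ms_eq hM)
  have hU1 : U ≠ ⊥ := fun e => hne (h3.2 e)
  obtain ⟨-, h5, h6⟩ := (BGsummaryA hM' (P1type_defM hM hK).1).of_ne hne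
  exact ⟨U, _, K, _, ⟨hP, hU1, h6, h5⟩, (h1.1 hM).resolve_left hU1, h4⟩

theorem spec_typeP1_eq {M : Subgroup G} (hM : TypeP1Max M) (hF : Fcore M = Ms M) :
    ∃ U W W1 W2, OfTypeV M U W W1 W2 := by
  have hM' := hM.1.1
  obtain ⟨K, hK⟩ := exists_hall (kappaS M) (mmax_sol hM')
  obtain ⟨-, hS, -, e⟩ := P1type_defM hM hK
  refine ⟨⊥, _, K, _, ofTypeP_of_compl hM.1 hK (by rw [hF, e]; exact .bot_right _)
    (by rw [norm_bot]; exact le_top), rfl, or_iff_not_imp_left.2 fun hT => ?_⟩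
  rw [← hF] at hS
  obtain ⟨p, hp, hc, h1⟩ := (nonTI_Fcore_cases hM' hT).resolve_left fun h => hM.1.not_F h.1
  refine h1.imp (fun h2 => ⟨p, hp, ?_, hc⟩) fun h2 => ⟨p, hp, h2.1, hS.relIndex_left ▸ h2.2.2, hc⟩
  rw [← expo_eq_card_of_isCyclic (kappa_hall_cyclic hM' hK), ← hS.expo_quo]
  exact h2 p hp

/-- Lemma 16.1 -/
theorem FTtypeP {M : Subgroup G} (hM : IsCoatom M) (i : ℕ) : FTtype M = i ↔ FTtypeSpec i M := by
  refine ⟨?_, FTtype_of_spec hM⟩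
  rintro rfl
  rcases typeF_or_P hM with h | h
  · rw [(FTtype_Fmax hM).1 h]; exact spec_typeF h
  rcases h.P1_or_P2 with h | h
  · by_cases e : Fcore M = Ms M
    · rw [h.FTtype_eq.1.2 e]; exact spec_typeP1_eq h e
    obtain ⟨U, W, W1, W2, h1, h2, h3⟩ := spec_typeP1_ne h e
    by_cases e' : der (Ms M) ≤ Fcore M
    · rw [h.FTtype_eq.2.1.2 ⟨e, e'⟩]; exact ⟨U, W, W1, W2, h1, h3.1 e', h2⟩
    · rw [h.FTtype_eq.2.2.2 ⟨e, e'⟩]; exact ⟨U, W, W1, W2, h1, fun h4 => e' (h3.2 h4), h2⟩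
  · rw [(FTtype_P2max hM).1 h]; exact spec_typeP2 h

/-- Theorem I, first assertion -/
theorem BGsummaryI_fusion {H : Subgroup G} {x a : G} (hH : IsHallIn H ⊤) (hn : Nil H) (hx : x ∈ H)
    (ha : a * x * a⁻¹ ∈ H) : ∃ y ∈ 𝐍(H), a * x * a⁻¹ = y * x * y⁻¹ := by
  by_cases h1 : H = ⊥
  · exact ⟨a, by rw [h1, norm_bot]; exact mem_top _, rfl⟩
  obtain ⟨M, hM, hle⟩ := nilpotent_Hall_sigma hn hH h1
  obtain ⟨b, hb, e⟩ := sigma_Hall_tame hM (hH.hall.mono hle le_top) hx ha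
  exact ⟨b, hb.2, e⟩

/-- Theorem I, second assertion -/
theorem BGsummaryI : (∀ M : Subgroup G, IsCoatom M → FTtype M = 1) ∨
    ∃ S T W W1 W2 : Subgroup G, TypePPair S T W W1 W2 := by
  refine or_iff_not_imp_left.2 fun h => ?_
  push Not at h
  obtain ⟨S, hS, h1⟩ := h
  have hP := (typeP_iff_ne_one hS).2 h1
  obtain ⟨K, hK⟩ := exists_hall (kappaS S) (mmax_sol hS)
  obtain ⟨T, hT⟩ := Ptype_embedding hP hK
  refine ⟨S, T, _, K, _, dprod_K_Ks hK, hS, hT.typeP.1, hT.cycZ, hP.hall_ne_bot hK,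
    (Ptype_cyclics hP hK).1, hT.tiZ, hT.defM, (der_kappa_hall hT.typeP hT.hallKappa).1, hT.inf_eq,
    hT.typeP2.imp (fun h => (FTtype_P2max hS).1 h.1) (fun h => (FTtype_P2max hT.typeP.1).1 h.1), h1,
    (typeP_iff_ne_one hT.typeP.1).1 hT.typeP, fun M hM h2 => ?_⟩
  obtain ⟨g, hg⟩ := hT.trans M ((typeP_iff_ne_one hM).2 h2)
  exact ⟨g, hg.imp Eq.symm Eq.symm⟩

theorem mem_FTsupp1_of_not_cent_le {M : Subgroup G} (hM : IsCoatom M) {x : G} (hx : x ∈ FTsupp0 M)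
    (hC : ¬ 𝐂[x] ≤ M) : x ∈ FTsupp1 M := by
  by_contra h1
  refine hC (le_trans (le_inf le_top le_rfl) ?_)
  by_cases h : x ∈ FTsupp M
  · exact (normedTI_FTsupp_diff hM ⟨x, h, h1⟩).cent1_le ⟨h, h1⟩
  · exact (normedTI_FTsupp0_diff hM ⟨x, hx, h⟩).cent1_le ⟨hx, h⟩

theorem FTsupp0_fusion {M : Subgroup G} (hM : IsCoatom M) {x a : G} (hx : x ∈ FTsupp0 M)
    (ha : a * x * a⁻¹ ∈ FTsupp0 M) : ∃ y ∈ M, a * x * a⁻¹ = y * x * y⁻¹ := by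
  have hxM := (mem_sharp_iff.1 (FTsupp0_sub M hx)).1
  have haM := (mem_sharp_iff.1 (FTsupp0_sub M ha)).1
  have h1 : a * x * a⁻¹ ∈ Ms M ↔ x ∈ Ms M := by rw [mem_Ms_iff hM hxM, mem_Ms_iff hM haM, piElt_conj]
  have h2 : ∀ y ∈ FTsupp0 M, (y ∈ FTsupp M ↔ PiElt (kappaS M)ᶜ y) := fun y hy =>
    ⟨FTsupp_kappa' hM, fun h => by_contra fun h' => ((mem_FTsupp0_diff hM).1 ⟨hy, h'⟩).2.2 h⟩
  have h3 : a * x * a⁻¹ ∈ FTsupp M ↔ x ∈ FTsupp M := by rw [h2 _ hx, h2 _ ha, piElt_conj]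
  by_cases hs : x ∈ Ms M
  · exact sigma_elt_trans hM hs (h1.2 hs)
  refine ⟨a, ?_, rfl⟩
  by_cases h : x ∈ FTsupp M
  · have h4 : x ∈ FTsupp M \ FTsupp1 M := ⟨h, fun h' => hs ((mem_FTsupp1_iff hM).1 h').1⟩
    exact (normedTI_FTsupp_diff hM ⟨x, h4⟩).mem_of_conj a (mem_top _) x h4
      ⟨h3.2 h, fun h' => hs (h1.1 ((mem_FTsupp1_iff hM).1 h').1)⟩
  · exact (normedTI_FTsupp0_diff hM ⟨x, hx, h⟩).mem_of_conj a (mem_top _) x ⟨hx, h⟩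
      ⟨ha, fun h' => h (h3.1 h')⟩

theorem signalizer_coprime {M : Subgroup G} (hM : IsCoatom M) {x y : G} (hx : x ∈ Ms M) (hx1 : x ≠ 1)
    (hC : ¬ 𝐂[x] ≤ M) (hy : y ∈ FTsupp0 M) : (♯(Ms (Nx x))).Coprime ♯(M ⊓ 𝐂[y]) := by
  have hMx : M ∈ sigmaMax (zpowers x) := ⟨hM, zpowers_le.2 hx⟩
  have hl := Msigma_ell1 hM hx hx1
  have hn := one_lt_ncard_sigmaMax hMx hC
  obtain ⟨h1, -, h3, -⟩ := (FT_signalizer_context hl).2 hn
  refine (Ms_piGrp _).coprime fun p hp hd hs => ?_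
  obtain ⟨hF, -, E, hE⟩ := non_disjoint_signalizer_Frobenius hl hn hMx
    fun h => h p hp (hd.trans (card_dvd inf_le_left)) hs
  rw [FTsupp0_type1 ((FTtype_Fmax hM).1 hF), mem_FTsupp_iff hM] at hy
  obtain ⟨h4, hy1, z, hz, hz1, h5⟩ := hy
  have h6 := hE.cent1_ker (hE.cent1_ker hz hz1 (mem_inf.2 ⟨(FTder_normal M).le h4, h5⟩)) hy1
  refine Set.disjoint_left.1 (sigma_partition hM h1.1 fun g e => hx1 ?_)
    ((Ms_piGrp M).of_le h6 p hp hd) hs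
  refine ((Ms_piGrp M).piElt hx).eq_one ?_
  rw [← sigmaS_conj M g, ← e]
  exact h3.mono (tau2_subset_compl_sigma _)

/-- Theorem II (in the form of the Coq development) -/
theorem BGsummaryII {M : Subgroup G} {X : Set G} (hM : IsCoatom M) (hX : X = FTsupp M ∨ X = FTsupp0 M) :
    (∀ x ∈ X, ¬ 𝐂[x] ≤ M → x ∈ FTsupp1 M) ∧
    (∀ x ∈ X, ∀ a : G, a * x * a⁻¹ ∈ X → ∃ y ∈ M, a * x * a⁻¹ = y * x * y⁻¹) ∧
    ∀ x ∈ X, ¬ 𝐂[x] ≤ M → UniqMax 𝐂[x] (Nx x) ∧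
      (IsSdprod (Fcore (Nx x)) (M ⊓ Nx x) (Nx x) ∧
        IsSdprod (Fcore (Nx x) ⊓ 𝐂[x]) (M ⊓ 𝐂[x]) 𝐂[x]) ∧
      (∀ y ∈ X, (♯(Fcore (Nx x))).Coprime ♯(M ⊓ 𝐂[y])) ∧
      x ∈ FTsupp (Nx x) \ FTsupp1 (Nx x) ∧ FTtype (Nx x) ≤ 2 ∧
      (FTtype (Nx x) = 2 → ∃ E, IsFrob M (Fcore M) E ∧ IsCyclic E) := by
  have hX0 : X ⊆ FTsupp0 M := by
    rcases hX with rfl | rfl
    exacts [FTsupp_sub0 M, subset_rfl]
  refine ⟨fun x hx hC => mem_FTsupp1_of_not_cent_le hM (hX0 hx) hC,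
    fun x hx a ha => FTsupp0_fusion hM (hX0 hx) (hX0 ha), fun x hx hC => ?_⟩
  obtain ⟨hs, hx1⟩ := (mem_FTsupp1_iff hM).1 (mem_FTsupp1_of_not_cent_le hM (hX0 hx) hC)
  obtain ⟨⟨h1, h2⟩, ⟨h3, h4⟩, h5, h6⟩ := signalizer_base_facts hM hs hx1 hC
  rw [h2]
  refine ⟨h1, ⟨sdprod_sigma h1.1 h5, signalizer_sdprod hM hs hx1⟩,
    fun y hy => signalizer_coprime hM hs hx1 hC (hX0 hy), h3, (typeF_or_P2_iff h1.1).1 h4, fun e => ?_⟩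
  obtain ⟨hF, h7, -⟩ := h6 ((FTtype_P2max h1.1).2 e)
  rwa [Fcore_eq_Ms_of_notP1 (.inl hF)]

end Cfsg.Agent.OO
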