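import Cfsg.Agent.Lib.OO.BG4

/-! # B&G section 5: narrow `p`-groups -/

set_option autoImplicit false
set_option linter.unusedSectionVars false
set_option linter.unusedVariables false

namespace Cfsg.Agent.OO.Pf

open Subgroup Cfsg.Agent.Coprime
open scoped Pointwise commutatorElement

universe u v

variable {G : Type u} [Group G] [Finite G]

variable {A C D E H K L R S : Subgroup G} {p : ℕ} [hp : Fact p.Prime]

open B4

namespace B5

omit hp in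
theorem map_inf_cent {G' : Type v} [Group G'] {f : G →* G'} (hf : Function.Injective f)
    (H A : Subgroup G) : (H ⊓ 𝐂(A)).map f = H.map f ⊓ 𝐂(A.map f) := by
  refine le_antisymm ((map_inf_le _ _ _).trans (inf_le_inf_left _ (map_cent_le f A))) ?_
  rintro _ ⟨⟨x, hx, rfl⟩, h⟩
  refine ⟨x, ⟨hx, fun a ha => hf ?_⟩, rfl⟩
  rw [map_mul, map_mul]
  exact h _ ⟨a, ha, rfl⟩

theorem narrow_map_of_injective {G' : Type v} [Group G'] [Finite G'] {f : G →* G'}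
    (hf : Function.Injective f) : Narrow p (R.map f) ↔ Narrow p R := by
  unfold Narrow
  rw [rp_map_of_injective hf]
  refine imp_congr_right fun _ => ⟨fun ⟨E, h1, h2⟩ => ?_, fun ⟨E, h1, h2⟩ =>
    ⟨E.map f, h1.map_of_injective hf, ?_⟩⟩
  · have h3 : (E.comap f ⊓ R).map f = E := by
      refine le_antisymm ((map_mono inf_le_left).trans (map_comap_le f E)) fun x hx => ?_
      obtain ⟨y, hy, rfl⟩ := h1.le hx
      exact ⟨y, ⟨hx, hy⟩, rfl⟩
    generalize hF : E.comap f ⊓ R = F at h3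
    subst h3
    have h4 : IsEp p 2 F R := ⟨hF ▸ inf_le_right,
      abelem_congr (F.equivMapOfInjective f hf).symm h1.abelem,
      (card_map_of_injective hf).symm.trans h1.card⟩
    refine ⟨F, h4, h4.isMaxEp_iff.2 ?_⟩
    rw [← rp_map_of_injective hf, map_inf_cent hf]
    exact h1.isMaxEp_iff.1 h2
  · rw [(h1.map_of_injective hf).isMaxEp_iff, ← map_inf_cent hf, rp_map_of_injective hf]
    exact h1.isMaxEp_iff.1 h2

theorem relIndex_cent_le (hA : IsPGroup p A) (hn : A ≤ 𝐍(E)) (hE : IsElementaryAbelian p E)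
    (h : ♯E ≤ p ^ 2) : (A ⊓ 𝐂(E)).relIndex A ≤ p := by
  have h4 := logn_quotient_cent_abelem hn hE h
  obtain ⟨k, hk⟩ := PGrp.exists_relIndex_eq_pow (H := A ⊓ 𝐂(E)) hA
  rw [hk, Nat.pow_dvd_pow_iff_le_right hp.out.one_lt] at h4
  rw [hk]
  calc p ^ k ≤ p ^ 1 := Nat.pow_le_pow_right hp.out.pos (by omega)
    _ = p := pow_one p

theorem relIndex_eq_of_le (hA : IsPGroup p A) (h : K.relIndex A ≤ p) (h' : ¬ A ≤ K) :
    K.relIndex A = p :=
  le_antisymm h (Nat.le_of_dvd (relIndex_pos _ _) (PGrp.dvd_relIndex_of_not_le hA h'))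

theorem rp_le_succ (h : K.relIndex H ≤ p) : rp p H ≤ rp p K + 1 := by
  refine rp_le_iff.2 fun A hA hA' => ?_
  rw [← card_inf_mul_relIndex K A, pow_succ]
  exact Nat.mul_le_mul (card_le_pow_rp inf_le_left (abelem_of_le hA' inf_le_right))
    ((relIndex_le_of_le_right hA (relIndex_pos _ _).ne').trans h)

end B5

open B5

theorem narrow_map {G' : Type v} [Group G'] [Finite G'] (f : G →* G') (hf : Set.InjOn f R) :
    Narrow p (R.map f) ↔ Narrow p R := by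
  have h1 : Function.Injective (f.comp R.subtype) := fun x y h => Subtype.ext (hf x.2 y.2 h)
  have h2 := narrow_map_of_injective (p := p) (R := ⊤) h1
  have h3 := narrow_map_of_injective (p := p) (R := ⊤) R.subtype_injective
  rw [← map_map, map_subtype_top] at h2
  rw [map_subtype_top] at h3
  exact h2.trans h3.symm

/-- Lemma 5.1(b) -/
theorem normal_p2Elem_SCN3 (hR : IsPGroup p R) (ho : Odd ♯R) (hr : 2 < rp p R) (hE : IsEp p 2 E R)
    (hn : E ⊴ R) : ∃ B, IsSCNn 3 R B ∧ E ≤ B :=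
  exists_SCN3_ge hR ho hr hE.abelem hn

/-- Lemma 5.1(a) -/
theorem rank3_SCN3 (hR : IsPGroup p R) (ho : Odd ♯R) (hr : 2 < rp p R) : ∃ B, IsSCNn 3 R B :=
  (exists_SCN3_ge hR ho hr (abelem_bot p) (NormalIn.bot R)).imp fun _ h => h.1

/-- the centralizer of a normal elementary abelian subgroup of rank at most two has rank at least three -/
theorem B5.rp_cent_normal (hR : IsPGroup p R) (ho : Odd ♯R) (hr : 2 < rp p R)
    (hE : IsElementaryAbelian p E) (hn : E ⊴ R) : 2 < rp p (R ⊓ 𝐂(E)) := by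
  obtain ⟨F, h1, h2, h3, h4⟩ := exists_normal_abelem_rank3 hR ho hr hE hn
  exact h4.trans_le (rp_mono p (le_inf h2.le ((abelem_le_cent h3).trans (cent_anti h1))))

theorem B5.ne_bot_of_rp (hr : 2 < rp p R) : R ≠ ⊥ :=
  ne_bot_of_prime_dvd hp.out (rp_pos_iff.1 (by omega))

/-- Lemma 5.2, with `Z = Ω₁(Z(R))`, `W = Ω₁(Z₂(R))`, `T = C_R(W)` -/
theorem Ohm1_ucn_p2maxElem (hR : IsPGroup p R) (ho : Odd ♯R) (hr : 2 < rp p R) (hE : IsEp p 2 E R)
    (hm : IsMaxEp p E R) :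
    ¬ E ≤ R ⊓ 𝐂(Ohm p (Zn 2 R)) ∧ (♯(Ohm p (Zc R)) = p ∧ IsEp p 2 (Ohm p (Zn 2 R)) R) ∧
    (R ⊓ 𝐂(Ohm p (Zn 2 R))).relIndex R = p := by
  have h1 : ¬ E ⊴ R := fun h =>
    (rp_cent_normal hR ho hr hE.abelem h).not_ge (hE.isMaxEp_iff.1 hm)
  have hZ := (Zc_normal R).Ohm p
  have hW := (Zn_normal 2 R).Ohm p
  have h2 : Ohm p (Zc R) ≤ E := hm.Ohm_Zc_le
  have h3 : Ohm p (Zc R) ≠ ⊥ :=
    Ohm_ne_bot (hR.to_le (Zc_le R)) (Zc_ne_bot (nil_of_isPGroup hR) (ne_bot_of_rp hr))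
  have h4 := hE.one_of_lt_two (h2.lt_of_ne fun e => h1 (e ▸ hZ)) h3
  obtain ⟨h5, h6⟩ := Ohm1_odd_ucn2 hR ho fun h => by
    have := rp_le_one_of_isCyclic (p := p) h
    omega
  set W := Ohm p (Zn 2 R) with hWd
  have h7 : ⁅W, R⁆ ≤ Ohm p (Zc R) :=
    le_Ohm_of_pow ((commutator_mono (Ohm_le _ _) le_rfl).trans (commutator_Zn_two_le R))
      fun x hx => h6 x (hW.commutator_le hx)
  have h8 : W ≤ 𝐍(E) := commutator_le_right_iff.1 ((commutator_mono le_rfl hE.le).trans (h7.trans h2))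
  have h9 : W ⊓ 𝐂(E) < E := by
    refine lt_of_le_of_ne (fun x hx => hm.mem_of_cent (hW.le hx.1) hx.2 (h6 x hx.1)) fun e => h1 ?_
    exact ⟨hE.le, commutator_le_left_iff.1
      ((commutator_mono (e.ge.trans inf_le_left) le_rfl).trans (h7.trans h2))⟩
  have h10 : ♯(W ⊓ 𝐂(E)) ≤ p := by
    obtain ⟨m, h10, h11⟩ := hE.le_of_lt h9
    rw [h11.card]
    calc p ^ m ≤ p ^ 1 := Nat.pow_le_pow_right hp.out.pos (by omega)
      _ = p := pow_one p
  have hWp := hR.to_le hW.le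
  have h11 : ♯W ≤ p ^ 2 := by
    rw [← card_mul_relIndex (inf_le_left : W ⊓ 𝐂(E) ≤ W), sq]
    exact Nat.mul_le_mul h10 (relIndex_cent_le hWp h8 hE.abelem hE.card.le)
  have h12 := sq_le_card_of_not_isCyclic hWp h5
  have h13 : IsEp p 2 W R := ⟨hW.le, ⟨ab_of_card_le_sq hWp h11, h6⟩, le_antisymm h11 h12⟩
  have h14 : ¬ E ≤ R ⊓ 𝐂(W) := fun h => by
    rw [inf_eq_left.2 (le_cent_symm (h.trans inf_le_right))] at h10
    have := (Nat.pow_le_pow_iff_right hp.out.one_lt).1 ((h12.trans h10).trans (pow_one p).ge)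
    omega
  exact ⟨h14, ⟨h4.card_one, h13⟩, relIndex_eq_of_le hR (relIndex_cent_le hR hW.norm h13.abelem h11)
    fun h => h14 (hE.le.trans h)⟩

theorem B5.exists_maxEp (hR : IsPGroup p R) (hr : 2 < rp p R) (hS : ♯S = p) (hSR : S ≤ R)
    (hC : rp p (R ⊓ 𝐂(S)) ≤ 2) : ∃ Z, Z ≤ Zc R ∧ IsEp p 2 (S ⊔ Z) R ∧ IsMaxEp p (S ⊔ Z) R := by
  obtain ⟨Z, hZ⟩ := exists_isEp_one_of_isPGroup (hR.to_le (Zc_le R))
    (Zc_ne_bot (nil_of_isPGroup hR) (ne_bot_of_rp hr))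
  have h1 : IsEp p 2 (S ⊔ Z) R := by
    refine (isEp_one_iff.2 ⟨hSR, hS⟩).sup_two (hZ.mono (Zc_le R))
      (hZ.le.trans ((Zc_le_cent R).trans (cent_anti hSR))) ?_
    rintro rfl
    rw [inf_eq_left.2 (le_cent_symm (hZ.le.trans (Zc_le_cent R)))] at hC
    omega
  exact ⟨Z, hZ.le, h1, h1.isMaxEp_iff.2
    ((rp_mono p (inf_le_inf_left _ (cent_anti le_sup_left))).trans hC)⟩

/-- Theorem 5.3(d) -/
theorem narrow_cent_dprod (hR : IsPGroup p R) (ho : Odd ♯R) (hr : 2 < rp p R) (hn : Narrow p R)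
    (hS : ♯S = p) (hSR : S ≤ R) (hC : rp p (R ⊓ 𝐂(S)) ≤ 2) :
    IsCyclic ↥(R ⊓ 𝐂(Ohm p (Zn 2 R)) ⊓ 𝐂(S)) ∧ S ⊓ der R = ⊥ ∧ S ⊓ (R ⊓ 𝐂(Ohm p (Zn 2 R))) = ⊥ ∧
    IsDprod S (R ⊓ 𝐂(Ohm p (Zn 2 R)) ⊓ 𝐂(S)) (R ⊓ 𝐂(S)) := by
  obtain ⟨Z, h1, h2, h3⟩ := exists_maxEp hR hr hS hSR hC
  obtain ⟨h4, -, h5⟩ := Ohm1_ucn_p2maxElem hR ho hr h2 h3
  have hW := (Zn_normal 2 R).Ohm p
  set T := R ⊓ 𝐂(Ohm p (Zn 2 R)) with hT
  have hS' : IsEp p 1 S R := isEp_one_iff.2 ⟨hSR, hS⟩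
  have h6 : ¬ S ≤ T := fun h => h4 (sup_le h (h1.trans (inf_le_inf_left _ (cent_anti hW.le))))
  have h7 := hS'.inf_eq_bot h6
  have h8 : T ⊴ R := hW.cent
  have h9 : IsSdprod T S R := IsSdprod.of_card h8 hSR ((inf_comm _ _).trans h7) (by
    rw [← card_mul_relIndex h8.le, h5, hS])
  have h10 : IsDprod S (T ⊓ 𝐂(S)) (R ⊓ 𝐂(S)) :=
    ((h9.inf_of_right_le hS'.le_cent).toDprod (le_cent_symm inf_le_right)).symm
  refine ⟨?_, le_bot_iff.1 (h7 ▸ inf_le_inf_left _ (h9.der_le_of_ab hS'.ab)), h7, h10⟩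
  have h11 : T ⊓ 𝐂(S) ≤ R := inf_le_left.trans h8.le
  rw [isCyclic_iff_rp_of_odd (hR.to_le h11) (odd_of_le ho h11)]
  by_contra h12
  obtain ⟨F, hF⟩ := exists_isEp (p := p) (n := 2) (H := T ⊓ 𝐂(S)) (by omega)
  have h13 := ((hF.mono h10.right_le).sup_one (hS'.of_le h10.left_le)
    (le_cent_symm (hF.le.trans inf_le_right)) fun h => h6 (h.trans (hF.le.trans inf_le_left))).le_rp
  omega

/-- Corollary 5.4 -/
theorem narrow_centP (hR : IsPGroup p R) (ho : Odd ♯R) (hr : 2 < rp p R) :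
    Narrow p R ↔ ∃ S, S ≤ R ∧ ♯S = p ∧ rp p (R ⊓ 𝐂(S)) ≤ 2 := by
  refine ⟨fun h => ?_, fun ⟨S, h1, h2, h3⟩ _ => ?_⟩
  · obtain ⟨E, h1, h2⟩ := h hr
    obtain ⟨-, ⟨h3, -⟩, -⟩ := Ohm1_ucn_p2maxElem hR ho hr h1 h2
    obtain ⟨S, h4, h5⟩ := IsEp.exists_dprod (m := 1) (n := 1) h1 (isEp_one_iff.2 ⟨h2.Ohm_Zc_le, h3⟩)
    refine ⟨S, h4.le.trans h1.le, h4.card_one, le_trans (rp_mono p ?_) (h1.isMaxEp_iff.1 h2)⟩
    rw [← h5.sup_eq]
    exact le_inf inf_le_left (le_cent_sup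
      (inf_le_left.trans ((le_cent_Zc R).trans (cent_anti (Ohm_le _ _)))) inf_le_right)
  · obtain ⟨Z, -, h4, h5⟩ := exists_maxEp hR hr h2 h1 h3
    exact ⟨_, h4, h5⟩

/-- Theorem 5.3 -/
theorem narrow_structureP (hR : IsPGroup p R) (ho : Odd ♯R) (hr : 2 < rp p R) :
    Narrow p R ↔ ∃ S C : Subgroup G, S ≤ R ∧ ♯S = p ∧ IsCyclic C ∧ IsDprod S C (R ⊓ 𝐂(S)) := by
  refine ⟨fun h => ?_, fun ⟨S, C, h1, h2, h3, h4⟩ => (narrow_centP hR ho hr).2 ⟨S, h1, h2, ?_⟩⟩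
  · obtain ⟨S, h1, h2, h3⟩ := (narrow_centP hR ho hr).1 h
    obtain ⟨h4, -, -, h5⟩ := narrow_cent_dprod hR ho hr h h2 h1 h3
    exact ⟨S, _, h1, h2, h4, h5⟩
  · have h5 := rp_le_succ (p := p) (h4.relIndex_right.trans h2).le
    have h6 := rp_le_one_of_isCyclic (p := p) h3
    omega

namespace B5

omit hp in
/-- the index of `[K, R]` in `K` is at most `|C_K(v)|` when `v ∈ R` -/
theorem card_le_card_mul_card_cent {v : G} (h : ∀ x ∈ K, ⁅x, v⁆ ∈ L) : ♯K ≤ ♯L * ♯(K ⊓ 𝐂[v]) := by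
  rw [← card_mul_relIndex (inf_le_left : K ⊓ 𝐂[v] ≤ K), mul_comm]
  refine Nat.mul_le_mul_right _ ?_
  let f : K ⧸ (K ⊓ 𝐂[v]).subgroupOf K → L := Quotient.lift (fun x : K => ⟨_, h x x.2⟩) (by
    intro x y hxy
    have h1 := mem_cent1.1 (QuotientGroup.leftRel_apply.1 hxy).2
    simp only [coe_subtype, coe_mul, coe_inv] at h1
    ext
    simp only [commutatorElement_def, mul_left_inj]
    calc (x : G) * v * (x : G)⁻¹ = x * (v * ((x : G)⁻¹ * y)) * (y : G)⁻¹ := by group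
      _ = y * v * (y : G)⁻¹ := by rw [← h1]; group)
  refine Nat.card_le_card_of_injective f fun x y hxy => ?_
  obtain ⟨x, rfl⟩ := QuotientGroup.mk_surjective x
  obtain ⟨y, rfl⟩ := QuotientGroup.mk_surjective y
  have h3 : ⁅(x : G), v⁆ = ⁅(y : G), v⁆ := congrArg Subtype.val hxy
  simp only [commutatorElement_def, mul_left_inj] at h3
  refine QuotientGroup.eq.2 ⟨(x⁻¹ * y).2, mem_cent1.2 ?_⟩
  simp only [coe_subtype, coe_mul, coe_inv]
  calc (x : G)⁻¹ * y * v = (x : G)⁻¹ * (y * v * (y : G)⁻¹) * y := by group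
    _ = v * ((x : G)⁻¹ * y) := by rw [← h3]; group

/-- elements centralizing every section of order `p` centralize a narrow group -/
theorem mem_cent_of_narrow (hR : IsPGroup p R) (ho : Odd ♯R) (hn : Narrow p R) (hr : 2 < rp p R) {x : G}
    (hx : x ∈ 𝐍(R)) (hco : (orderOf x).Coprime p)
    (h : ∀ K L : Subgroup G, 𝐍(R) ≤ 𝐍(K) → 𝐍(R) ≤ 𝐍(L) → ♯(K ⁒ L) = p → coset L x ∈ 𝐂(K ⁒ L)) :
    x ∈ 𝐂(R) := by
  obtain ⟨H, h1, h2, h3, h4, h5⟩ := critical hR ho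
  obtain ⟨S, h6, h7, h8⟩ := (narrow_centP hR ho hr).1 hn
  have hS : IsEp p 1 S R := isEp_one_iff.2 ⟨h6, h7⟩
  have hH : H ⊴ R := ⟨h1, (le_norm_self R).trans h2⟩
  have h9 : ¬ S ≤ H := fun hSH => by
    have h10 : IsElementaryAbelian p (S ⊔ Zc H) := abelem_sup hS.abelem
      ⟨Zc_ab H, fun y hy => h4 y (Zc_le H hy)⟩ (hSH.trans (le_cent_Zc H))
    have h11 : (S ⊔ Zc H) ⊴ R := ⟨sup_le h6 hH.Zc.le, commutator_le_left_iff.1
      ((commutator_mono (sup_le hSH (Zc_le H)) le_rfl).trans (h3.trans le_sup_right))⟩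
    exact (rp_cent_normal hR ho hr h10 h11).not_ge
      ((rp_mono p (inf_le_inf_left _ (cent_anti le_sup_left))).trans h8)
  have h10 : ♯(H ⊓ 𝐂(S)) ≤ p := by
    obtain ⟨h11, -, -, h12⟩ := narrow_cent_dprod hR ho hr hn h7 h6 h8
    have h13 : H ⊓ 𝐂(S) ≤ R ⊓ 𝐂(S) := inf_le_inf_right _ h1
    have h14 : IsElementaryAbelian p (H ⊓ 𝐂(S)) :=
      ⟨ab_of_le (h12.ab hS.ab (ab_of_isCyclic h11)) h13, fun y hy => h4 y hy.1⟩
    obtain ⟨n, h15⟩ := exists_isEp_of_abelem h14 h13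
    have h16 := (h15.sup_one (hS.of_le h12.left_le) (le_cent_symm inf_le_right)
      fun h => h9 (h.trans inf_le_left)).le_rp
    rw [h15.card]
    calc p ^ n ≤ p ^ 1 := Nat.pow_le_pow_right hp.out.pos (by omega)
      _ = p := pow_one p
  obtain ⟨v, hv, -, rfl⟩ := hS.exists_zpowers
  rw [cent_zpowers] at h10
  suffices key : ∀ K : Subgroup G, K ≤ H → 𝐍(R) ≤ 𝐍(K) → x ∈ 𝐂(K) from h5 x hx hco (key H le_rfl h2)
  intro K
  induction K using WellFoundedLT.induction with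
  | _ K ih =>
  intro hKH hKn
  by_cases hK : K = ⊥
  · intro y hy
    simp [mem_bot.1 (hK ▸ hy)]
  have hKR : K ⊴ R := ⟨hKH.trans h1, (le_norm_self R).trans hKn⟩
  have hKp := hR.to_le hKR.le
  have h11 := commutator_lt_of_nil (nil_of_isPGroup hR) hKR hK
  have h12 : 𝐍(R) ≤ 𝐍(⁅K, R⁆) := le_norm_commutator hKn le_rfl
  have h13 : ⁅K, R⁆ ⊴ K := ⟨h11.le, le_norm_commutator_left K R⟩
  have h14 : ♯(K ⁒ ⁅K, R⁆) = p := by
    rw [B4.card_quo h13]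
    refine relIndex_eq_of_le hKp (Nat.le_of_mul_le_mul_left ?_ (card_pos' ⁅K, R⁆)) h11.not_ge
    rw [card_mul_relIndex h11.le]
    exact (card_le_card_mul_card_cent fun y hy => commutator_mem_commutator hy hv).trans
      (Nat.mul_le_mul_left _ ((card_le (inf_le_inf_right _ hKH)).trans h10))
  refine zpowers_le.1 (stable_factor_cent (zpowers_le.2 (ih _ h11 (h11.le.trans hKH) h12)) h13 ?_ ?_)
  · rw [Subgroup.commutator_comm, ← quo_le_cent_iff (zpowers_le.2 (h12 hx)) h13.norm,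
      quo_zpowers (h12 hx), zpowers_le]
    exact h K _ hKn h12 h14
  · obtain ⟨n, hn⟩ := IsPGroup.iff_card.1 hKp
    rw [hn, Nat.card_zpowers]
    exact hco.symm.pow_left n

end B5

/-- Theorem 5.5(a,b), for internal actions -/
theorem Aut_narrow (hR : IsPGroup p R) (ho : Odd ♯R) (hn : Narrow p R) (hA : A ≤ 𝐍(R)) (hs : Sol A)
    (hoA : Odd ♯A) :
    (∀ x ∈ der A, (orderOf x).Coprime p → x ∈ 𝐂(R)) ∧
    (2 < rp p R → ∀ x ∈ A, (orderOf x).Coprime p → x ^ (p - 1) ∈ 𝐂(R)) := by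
  refine ⟨fun x hx hco => ?_, fun hr x hx hco => ?_⟩
  · rcases le_or_gt (rp p R) 2 with hr | hr
    · exact der1_Aut_rank2_pgroup hR ho ((rank_eq_rp hR).le.trans hr) hA hoA x hx hco
    refine mem_cent_of_narrow hR ho hn hr (hA (der_le A hx)) hco fun K L hK hL h => ?_
    refine der_norm_le_cent (isCyclic_of_prime (h ▸ hp.out))
      (der_mono (quo_le_norm L (hA.trans hK)) ?_)
    rw [← quo_der (hA.trans hL)]
    exact coset_mem_quo L hx
  · refine mem_cent_of_narrow hR ho hn hr (pow_mem (hA hx) _)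
      (hco.coprime_dvd_left (orderOf_pow_dvd _)) fun K L hK hL h => ?_
    rw [coset_pow (hL (hA hx))]
    exact pow_pred_mem_cent h (coset_mem_norm L (hK (hA hx)))

/-- Theorem 5.6(a,c) -/
theorem narrow_der1_complement_max_pdiv (ho : Odd ♯H) (hs : Sol H) (hS : Syl p S H) (hn : Narrow p S)
    (hl : 2 < rp p S → PLen1 p H) :
    PNil p (der H) ∧ ∀ q : ℕ, q.Prime → q ∣ (Op' p H).relIndex H → q ≤ p := by
  rcases le_or_gt (rp p S) 2 with hr | hr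
  · rw [rp_syl hS] at hr
    exact ⟨(rank2_der1_complement hs ho hr).1, fun q hq h => rank2_max_pdiv hs ho hr hq h⟩
  have hP := hS.mono ((plen1_iff_syl hS).1 (hl hr)) (Op'p_le p H)
  obtain ⟨h1, h2⟩ := Aut_narrow (A := H ⊓ 𝐍(S)) hS.isPGroup (odd_of_le ho hS.le) hn inf_le_right
    (sol_of_le hs inf_le_left) (odd_of_le ho inf_le_left)
  refine ⟨(pnil_Op'p p H).of_le (der_le_Op'p hs hP h1), fun q hq h => ?_⟩
  rcases eq_or_ne q p with rfl | hqp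
  · rfl
  obtain ⟨x, hx, ⟨k, hk⟩, hxc⟩ := exists_not_mem hq (dvd_relIndex_cent hs hP hq hqp h)
  have h3 := h2 hr x hx (hk ▸ ((Nat.coprime_primes hq hp.out).2 hqp).pow_left k)
  by_contra h4
  refine hxc ⟨hx, zpowers_le.2 h3 (mem_zpowers_pow_iff.2 ?_)⟩
  rw [hk]
  refine Nat.Coprime.pow_right k ((Nat.Prime.coprime_iff_not_dvd hq).2 fun h5 => ?_).symm
  have := hp.out.two_le
  have := Nat.le_of_dvd (by omega) h5
  omega

end Cfsg.Agent.OO.Pf
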