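import Cfsg.Agent.Lib.OO.BG7

/-! # B&G section 8 -/

set_option autoImplicit false
set_option linter.unusedSectionVars false

namespace Cfsg.Agent.OO.Pf

open Subgroup Cfsg.Agent.Coprime B7
open scoped Pointwise

universe u

variable {G : Type u} [Group G] [Finite G]

namespace B7
variable {A B H K M P Q R X Y : Subgroup G} {p q : ℕ} {π : Set ℕ}

theorem le_opi_compl_of_forall (hY : Y ≤ X) (h : ∀ q, q.Prime → q ∈ π → Y ≤ Op' q X) : Y ≤ Opi πᶜ X := by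
  obtain ⟨N, h1, h2, h3⟩ : ∃ N : Subgroup G, (∀ q, q.Prime → q ∈ π → N ≤ Op' q X) ∧ X ≤ 𝐍(N) ∧ Y ≤ N :=
    ⟨⨅ (q : ℕ) (_ : q.Prime ∧ q ∈ π), Op' q X, fun q hq hπ => iInf₂_le q ⟨hq, hπ⟩,
      le_norm_iInf fun q => le_norm_iInf fun _ => (Opi_normal _ X).2, le_iInf₂ fun q hq => h q hq.1 hq.2⟩
  refine (le_inf hY h3).trans (le_Opi (normalIn_inf_of_norm h2) fun q hq hd hπ => ?_)
  exact Opi_piGrp ({q} : Set ℕ)ᶜ X q hq (hd.trans (card_dvd (inf_le_right.trans (h1 q hq hπ)))) rfl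

theorem le_cent_op' [Fact p.Prime] (hs : Sol H) (hK : IsPGroup p K) (hn : K ≤ 𝐍(H))
    (h : ∀ (q : ℕ) (_ : Fact q.Prime), q ≠ p → K ≤ 𝐂(Op q H)) : K ≤ 𝐂(Op' p H) := by
  refine cent_of_cent_fit (le_norm_Opi _ hn) (coprime_of_isPGroup hK (Opi_piGrp _ _))
    (sol_of_le hs (Opi_le _ _)) (le_cent_Fit_of_forall fun q _ => ?_)
  by_cases hq : q = p
  · subst hq
    rw [Op_eq_bot (not_dvd_Op' H), cent_bot]
    exact le_top
  · rw [Op_Opi hq]
    exact h q ‹_› hq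

variable [MinOdd G]

theorem le_fit_of_le_norm [Fact q.Prime] (hM : IsCoatom M) (hQ : IsPGroup q Q) (hn : M ≤ 𝐍(Q)) :
    Q ≤ Fit M := by
  by_cases h : Q = ⊥
  · exact h ▸ bot_le
  exact le_Fit ⟨(le_norm_self Q).trans (mmax_max hM (mFT_norm_proper h (mFT_pgroup_proper hQ)) hn).le, hn⟩
    (nil_of_isPGroup hQ)

theorem uniq_of_forall (hM : IsCoatom M) (hA : A ≤ M) (h : ∀ H, IsCoatom H → A ≤ H → H = M) : Uniq A :=
  ⟨M, hM, hA, h⟩

end B7

variable [MinOdd G]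

/-- Theorem 8.1(a) -/
theorem non_pcore_Fitting_Uniqueness {p : ℕ} [hp : Fact p.Prime] {M A0 : Subgroup G} (hM : IsCoatom M)
    (hF : ¬ IsPGroup p (Fit M)) (hA : IsMaxEp p A0 (Fit M)) (hr : 3 ≤ rp p A0) :
    Uniq (Fit M ⊓ 𝐂(A0)) := by
  set F := Fit M with hFd
  set A := F ⊓ 𝐂(A0) with hAd
  have nilF : Nil F := Fit_nil M
  have hAF : A ≤ F := inf_le_left
  have hAM : A ≤ M := hAF.trans (Fit_le M)
  have nilA : Nil A := nil_of_le nilF hAF
  have hZA : Zc F ≤ A := inf_le_inf_left _ (cent_anti hA.le)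
  have def_pi : piOf A = piOf F :=
    (piOf_mono hAF).antisymm ((piOf_Zc_of_nil nilF).symm.le.trans (piOf_mono hZA))
  have nZ : ∀ (q : ℕ) [Fact q.Prime], q ∈ piOf A → 𝐍(Op q (Zc F)) = M := fun q _ hq =>
    mmax_normal hM ((Fit_normal M).Zc.Op q) (op_ne_bot_of_nil (nil_of_ab (Zc_ab F))
      (by rw [def_pi, ← piOf_Zc_of_nil nilF] at hq; exact hq.2))
  have sC : ∀ (q : ℕ) [Fact q.Prime], q ∈ piOf A → 𝐂(Op q A) ≤ M := fun q _ hq =>
    (cent_anti (op_mono_of_nil q nilA hZA)).trans ((cent_le_norm _).trans (nZ q hq).le)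
  have hA0A : A0 ≤ A := le_inf hA.le hA.ab.le_cent
  have hA0r : 3 ≤ rank A0 := hr.trans (rp_le_rank p A0)
  have hA01 : A0 ≠ ⊥ := rank_pos_iff.mp (by omega)
  have pi_p : p ∈ piOf A := piOf_mono hA0A ⟨hp.out, dvd_card_of_isPGroup hA.isPGroup hA01⟩
  have piCA : ∀ D, D ≤ 𝐂(A) → PiGrp (piOf A)ᶜ D → D = ⊥ := fun D hD hD' => by
    have hDM : D ≤ M := (hD.trans (cent_anti (Op_le p A))).trans (sC p pi_p)
    have hc : (♯D).Coprime ♯F := (coprime_of_compl_piOf (def_pi ▸ hD')).symm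
    have h1 : D ≤ 𝐂(F) := nil_cent_stab (hDM.trans (Fit_normal M).2) hc nilF
      ((inf_le_inf_left _ (cent_anti (hA0A.trans (le_inf hAF (le_cent_symm hD))))).trans (le_cent_symm hD))
    rw [← inf_eq_left.mpr ((le_inf hDM h1).trans (cent_sub_Fitting (mmax_sol hM)))]
    exact inf_eq_bot_of_coprime_card hc
  have pi_alt : ∀ q, ∃ r ∈ piOf A, r ≠ q := fun q => by
    by_cases hq : p = q
    · subst hq
      obtain ⟨r, h1, h2, h3⟩ := exists_prime_not_mem (fun h => hF (PiGrp.isPGroup h))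
      exact ⟨r, def_pi ▸ ⟨h1, h2⟩, h3⟩
    · exact ⟨p, pi_p, hq⟩
  have sN : ∀ (q : ℕ) [Fact q.Prime], q ∈ piOf A → ∀ X Y, A ≤ X → X ≠ ⊤ → Y ≤ X → Y ≤ Op' q M →
      Y ≤ Op' q X := fun q _ hq X Y hAX hX hYX hY => by
    refine le_trans ?_ (op'_norm_le (mFT_sol hX) (((Op_le q _).trans hZA).trans hAX) (Op_isPGroup q _))
    rw [nZ q hq]
    exact le_opi_of_le hY (le_inf hYX (hY.trans (Opi_le _ _))) inf_le_right
  have sAr : ∀ (q r : ℕ) [Fact q.Prime] [Fact r.Prime], q ∈ piOf A → r ≠ q → ∀ X, A ≤ X → X ≠ ⊤ →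
      Op r A ≤ Op' q X := fun q r _ _ hq hrq X hAX hX =>
    sN q hq X _ hAX hX ((Op_le r A).trans hAX)
      ((le_Op_of_le_Fit (Op_isPGroup r A) ((Op_le r A).trans hAF)).trans (Op_le_Op' hrq M))
  have cstrA : NormedConstrained A := by
    refine ⟨ne_bot_of_le_ne_bot hA01 hA0A, ne_top_of_le_mmax hM hAM, fun X Y hAX hX hY => ?_⟩
    refine le_opi_compl_of_forall hY.1 fun q hq hqA => ?_
    have := Fact.mk hq
    obtain ⟨r, hrA, hrq⟩ := pi_alt q
    have := Fact.mk hrA.1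
    have hn : Op r A ≤ 𝐍(Y) := (Op_le r A).trans hY.2.2
    have h1 : Y ⊓ 𝐂(Op r A) = ⊥ := by
      refine piCA _ (commutator_eq_bot_iff.mp (le_bot_iff.mp ?_)) (hY.2.1.inf_left _)
      rw [← inf_eq_bot_of_coprime_card (coprime_of_compl_piOf (def_pi ▸ hY.2.1))]
      exact le_inf ((commutator_mono (inf_le_right.trans (sC r hrA)) hAF).trans
        (commutator_le_right' (Fit_normal M).2))
        ((commutator_mono inf_le_left le_rfl).trans (commutator_le_left' hY.2.2))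
    rw [← centralizer_sup_commutator hn (coprime_card_mono (coprime_of_compl_piOf hY.2.1) (Op_le r A) le_rfl)
      (Or.inl (sol_of_isPGroup (Op_isPGroup r A))), h1, bot_sup_eq]
    exact (commutator_mono hY.1 (sAr q r hqA hrq X hAX hX)).trans (commutator_le_right' (Opi_normal _ X).2)
  have nby : ∀ (q : ℕ) [Fact q.Prime], q ∉ piOf A → ∀ Q : Subgroup G, IsPGroup q Q → A ≤ 𝐍(Q) → Q = ⊥ := by
    intro q hq hqA Q hQ hn
    have trA := normed_constrained_rank3_trans hq.out cstrA hqA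
      (hA0r.trans (rank_mono (le_inf hA0A (le_cent_symm inf_le_right))))
    obtain ⟨-, -, s, -⟩ := normed_trans_superset hq.out cstrA hqA hAF
      (Core.subnormalIn_of_isNilpotent hAF nilF).2 (def_pi ▸ piGrp_piOf F) trA
    rw [piCA _ (Opi_le _ _) (Opi_piGrp _ _)] at trA
    obtain ⟨Q0, hQ0, -⟩ := exists_maxNormed (A := F) (piGrp_bot {q}) (norm_bot (G := G) ▸ le_top)
    have h1 : M ≤ 𝐍(Q0) := fun m hm => by
      obtain ⟨k, hk, e⟩ := trA Q0 _ (s _ hQ0) (s _ (cent_core_acts_max_norm ((Fit_normal M).2 hm) hQ0))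
      rw [mem_bot.mp hk, one_conj] at e
      exact conj_eq_self_iff.mp e
    have h2 : Q0 = ⊥ := by
      by_contra hne
      exact hqA (def_pi ▸ ⟨hq.out, (dvd_card_of_isPGroup hQ0.1.2.1.isPGroup hne).trans
        (card_dvd (le_fit_of_le_norm hM hQ0.1.2.1.isPGroup h1))⟩)
    exact IsMaxNormed.eq_of_bot (h2 ▸ s _ hQ0) (piGrp_singleton hQ) hn
  refine uniq_of_forall hM hAM fun H hH hAH => ?_
  have solH := mmax_sol hH
  have σπ : ∀ (q : ℕ) [Fact q.Prime], Op q H ≠ ⊥ → q ∈ piOf A := fun q _ h => by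
    by_contra hq
    exact h (nby q hq _ (Op_isPGroup q H) (hAH.trans (Op_normal q H).2))
  have πσ : Op p H ≠ ⊥ := fun h0 => by
    refine op_ne_bot_of_nil nilA pi_p.2 (le_bot_iff.mp ?_)
    rw [← eq_bot_of_fit_eq_bot (H := Opi (piOf (Fit H))ᶜ H) (sol_of_le solH (Opi_le _ _))
      (by rw [Fit_Opi]; exact Opi_eq_bot (piGrp_piOf _).compl_compl)]
    refine le_opi_compl_of_forall ((Op_le p A).trans hAH) fun r hr hrD => ?_
    have := Fact.mk hr
    have h1 : Op r H ≠ ⊥ := Op_Fit r H ▸ op_ne_bot_of_nil (Fit_nil H) hrD.2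
    exact sAr r p (σπ r h1) (fun e => h1 (e ▸ h0)) H hAH hH.1
  have cAD : ∀ (q r : ℕ) [Fact q.Prime] [Fact r.Prime], r ≠ q → Op r A ≤ 𝐂(Op q H) := fun q r _ _ hrq => by
    by_cases h : Op q H = ⊥
    · rw [h, cent_bot]; exact le_top
    · exact (sAr q r (σπ q h) hrq H hAH hH.1).trans (Op'_le_cent_Op q H)
  obtain ⟨r, hrA, hrp⟩ := pi_alt p
  have := Fact.mk hrA.1
  have hDM : Op p H ≤ M := (le_cent_symm (cAD p r hrp)).trans (sC r hrA)
  have nD : 𝐍(Op p H) = H := mmax_normal hH (Op_normal p H) πσ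
  have h1 : Op' p H ≤ M := (le_cent_symm (le_cent_op' solH (Op_isPGroup p A)
    (le_norm_of_le ((Op_le p A).trans hAH)) fun q _ hq => cAD q p hq.symm)).trans (sC p pi_p)
  have h2 : Op' p H ≤ Op' p M := by
    refine le_trans ?_ (op'_norm_le (mmax_sol hM) hDM (Op_isPGroup p H))
    rw [nD]
    exact le_opi_of_le le_rfl (le_inf h1 (Opi_le _ _)) inf_le_right
  have h3 : Op' p M ≤ H := by
    refine (le_cent_symm (le_cent_op' (mmax_sol hM) (Op_isPGroup p H) (le_norm_of_le hDM)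
      fun q _ hq => le_cent_symm (le_trans ?_ (cAD p q hq)))).trans ((cent_le_norm _).trans nD.le)
    exact le_Op_of_nil nilA (le_inf (Op_le_Fit q M)
      ((Op_le_cent_Op hq M).trans (cent_anti (le_Op_of_le_Fit hA.isPGroup hA.le)))) (Op_isPGroup q M)
  have h4 : Op' p M = Op' p H := le_antisymm (sN p pi_p H _ hAH hH.1 h3 le_rfl) h2
  have h5 : Op' p M ≠ ⊥ := ne_bot_of_le_ne_bot
    (Op_Fit r M ▸ op_ne_bot_of_nil nilF (def_pi ▸ hrA).2) (Op_le_Op' hrp M)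
  have h6 : 𝐍(Op' p M) = M := mmax_normal hM (Opi_normal _ M) h5
  rw [h4] at h5 h6
  exact (mmax_normal hH (Opi_normal _ H) h5).symm.trans h6

theorem B7.norm_center_puig {p : ℕ} [Fact p.Prime] {M P : Subgroup G} (hM : IsCoatom M) (hP : Syl p P M)
    (h1 : P ≠ ⊥) (h : Op' p M = ⊥) : 𝐍(Zc (puig P)) = M :=
  mmax_normal hM (Puig_center_normal (mFT_odd M) (mmax_sol hM) hP h)
    fun e => h1 (trivg_center_Puig_pgroup hP.isPGroup e)

theorem B7.syl_top_of_norm_le {p : ℕ} [Fact p.Prime] {M P : Subgroup G} (hP : Syl p P M) (h : 𝐍(P) ≤ M) :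
    Syl p P ⊤ :=
  IsSylowIn.of_syl_norm le_top (hP.mono (le_inf le_top (le_norm_self P)) (inf_le_right.trans h))

/-- Theorem 8.1(b) -/
theorem SCN_Fitting_Uniqueness {p : ℕ} [hp : Fact p.Prime] {M P A : Subgroup G} (hM : IsCoatom M)
    (hF : IsPGroup p (Fit M)) (hP : Syl p P M) (_hr : 3 ≤ rp p (Fit M)) (hA : IsSCNn 3 P A) :
    Syl p P ⊤ ∧ A ≤ Fit M ∧ Uniq A := by
  have solM := mmax_sol hM
  have hA1 : A ≠ ⊥ := rank_pos_iff.mp (by have := hA.le_rank; omega)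
  have hAM : A ≤ M := hA.le.trans hP.1
  have hAp : IsPGroup p A := hP.isPGroup.to_le hA.le
  have hM' : Op' p M = ⊥ := eq_bot_of_fit_eq_bot (sol_of_le solM (Opi_le _ _))
    (by rw [Fit_Opi]; exact Op'_eq_bot hF)
  have hAF : A ≤ Fit M := by
    rw [Fit_eq_Op hM', ← Op'p_eq_Op hM']
    exact odd_p_abelian_constrained p (mFT_odd M) solM P A hP hA.ab hA.normal
  have hFP : Fit M ≤ P := hP.le_of_normal (Fit_normal M) hF
  have hFA : Fit M ⊓ 𝐂(A) ≤ A := (inf_le_inf_right _ hFP).trans (scn_cent hA.scn).le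
  have hCM : 𝐂(A) ≤ M := (cent_anti ((inf_le_inf_left _ (cent_anti hAF)).trans hFA)).trans
    ((cent_le_norm _).trans (mmax_normal hM (Fit_normal M).Zc
      (Zc_ne_bot (Fit_nil M) (ne_bot_of_le_ne_bot hA1 hAF))).le)
  have hPt : Syl p P ⊤ := syl_top_of_norm_le hP ((norm_le_norm_center_puig P).trans
    (norm_center_puig hM hP (ne_bot_of_le_ne_bot hA1 hA.le) hM').le)
  refine ⟨hPt, hAF, ?_⟩
  have K1 : Op' p 𝐂(A) = ⊥ := by
    have hKM : Op' p 𝐂(A) ≤ M := (Opi_le _ _).trans hCM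
    have hc : (♯(Op' p 𝐂(A))).Coprime ♯(Fit M) := (coprime_of_isPGroup hF (Opi_piGrp _ _)).symm
    have hAK : A ≤ 𝐂(Op' p 𝐂(A)) := le_cent_symm (Opi_le _ _)
    have h1 := nil_cent_stab (hKM.trans (Fit_normal M).2) hc (Fit_nil M)
      (((inf_le_inf_left _ (cent_anti (le_inf hAF hAK))).trans hFA).trans hAK)
    rw [← inf_eq_left.mpr ((le_inf hKM h1).trans (cent_sub_Fitting solM))]
    exact inf_eq_bot_of_coprime_card hc
  have nby : ∀ (q : ℕ) [Fact q.Prime], q ≠ p → ∀ Q : Subgroup G, IsPGroup q Q → A ≤ 𝐍(Q) → Q = ⊥ := by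
    intro q hq hqp Q hQ hn
    have tr := Thompson_transitivity hq.out ⟨P, hPt, hA⟩ hqp
    rw [K1] at tr
    obtain ⟨Q0, hQ0, hle⟩ := exists_maxNormed (piGrp_singleton hQ) hn
    have u : ∀ Q1, IsMaxNormed ⊤ A {q} Q1 → Q1 = Q0 := fun Q1 h1 => by
      obtain ⟨k, hk, e⟩ := tr Q0 Q1 hQ0 h1
      rwa [mem_bot.mp hk, one_conj] at e
    have h1 : Fit M ≤ 𝐍(Q0) := fun x hx =>
      conj_eq_self_iff.mp (u _ (cent_core_acts_max_norm (hA.normal.2 (hFP hx)) hQ0))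
    have h2 : M ≤ 𝐍(Q0) := fun m hm => by
      obtain ⟨Q1, hQ1, hle⟩ := exists_maxNormed (A := A) (hQ0.1.2.1.conj m) (hAF.trans (by
        rw [← (Fit_normal M).conj_eq hm]; exact conj_le_norm_conj.mpr h1))
      exact mem_norm_of_conj_le (u _ hQ1 ▸ hle)
    have h3 := le_fit_of_le_norm hM hQ0.1.2.1.isPGroup h2
    rw [← inf_eq_left.mpr (hle.trans h3)]
    exact inf_eq_bot_of_coprime_card (coprime_of_isPGroup_ne hQ hF hqp)
  refine uniq_of_forall hM hAM fun H0 hH0 hAH0 => ?_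
  by_contra hne0
  obtain ⟨R, hAR, ⟨hRp, hRM, H, hH, hne, hRH⟩, hmax⟩ := Core.exists_maximal_ge
    (P := fun R => IsPGroup p R ∧ R ≤ M ∧ ∃ H, IsCoatom H ∧ H ≠ M ∧ R ≤ H) ⟨hAp, hAM, H0, hH0, hne0, hAH0⟩
  have hR1 : R ≠ ⊥ := ne_bot_of_le_ne_bot hA1 hAR
  have hRH' : Syl p R H := by
    obtain ⟨Q, hQ, hRQ⟩ := exists_syl_ge hRM hRp
    rcases hRQ.eq_or_lt with rfl | hlt
    · exact (hPt.of_card_eq le_top (hQ.card_eq_card hP)).mono hRH le_top
    obtain ⟨D, hD, hle⟩ := mmax_exists (mFT_norm_proper hR1 (mFT_pgroup_proper hRp))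
    have hlt2 := lt_inf_norm_of_nil hQ.nil hlt
    have hDM : D = M := by
      by_contra hDM
      exact hlt2.ne' (hmax _ ⟨hQ.isPGroup.to_inf_left, inf_le_left.trans hQ.1, D, hD, hDM,
        inf_le_right.trans hle⟩ hlt2.le)
    refine IsSylowIn.of_syl_norm hRH (syl_of_max (le_inf hRH (le_norm_self R)) hRp fun U h1 h2 h3 => ?_)
    exact hmax U ⟨h3, (h2.trans inf_le_right).trans (hDM ▸ hle), H, hH, hne, h2.trans inf_le_left⟩ h1
  have hH' : Op' p H = ⊥ := by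
    by_contra h
    obtain ⟨q, hq, h1⟩ := exists_Op_ne_bot (sol_of_le (mmax_sol hH) (Opi_le _ _)) h
    have := Fact.mk hq
    refine h1 (nby q (fun e => h1 ?_) _ (Op_isPGroup q _)
      (le_norm_Op q (le_norm_Opi _ (le_norm_of_le (hAR.trans hRH)))))
    subst e
    exact Op_eq_bot (not_dvd_Op' H)
  have e1 := norm_center_puig hH hRH' hR1 hH'
  have hRt := syl_top_of_norm_le hRH' ((norm_le_norm_center_puig R).trans e1.le)
  exact hne (e1.symm.trans (norm_center_puig hM (hRt.mono hRM le_top) hR1 hM'))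

/-- both branches of Theorem 8.1 -/
theorem Fitting_Uniqueness {M : Subgroup G} (hM : IsCoatom M) (hr : 3 ≤ rank (Fit M)) :
    Uniq (Fit M) := by
  obtain ⟨p, hp, hr⟩ := le_rank_iff_rp.mp hr
  have := Fact.mk hp
  have hF : Fit M ≠ ⊤ := ne_top_of_le_mmax hM (Fit_le M)
  by_cases hpF : IsPGroup p (Fit M)
  · obtain ⟨P, hP⟩ := exists_syl p M
    obtain ⟨A, hA⟩ := rank3_SCN3 hP.isPGroup (mFT_odd P)
      (hr.trans (rp_mono p (hP.le_of_normal (Fit_normal M) hpF)))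
    obtain ⟨-, h1, h2⟩ := SCN_Fitting_Uniqueness hM hpF hP hr hA
    exact h2.mono h1 hF
  · obtain ⟨A, hA⟩ := exists_isEp hr
    obtain ⟨A0, hA0, hle⟩ := exists_isMaxEp_ge hA.le hA.abelem
    exact (non_pcore_Fitting_Uniqueness hM hpF hA0 (hA.of_le hle).le_rp).mono inf_le_left hF

end Cfsg.Agent.OO.Pf
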