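import Mathlib

/-! # B&G appendix C: the finite field lemmas C.1 and C.2 -/

set_option autoImplicit false

namespace Cfsg.Agent.OO.Pf.BC

open Polynomial Finset

universe v

variable {F : Type v} [Field F] {p q n : ℕ}

theorem exists_intCast [Fact p.Prime] [CharP F p] {c : F} (h : c ^ p = c) : ∃ k : ℤ, (k : F) = c :=
  (mem_bot_iff_intCast p F).1 ((Subfield.mem_bot_iff_pow_eq_self F p).2 h)

theorem natCast_pow_char_pow [Fact p.Prime] [CharP F p] (k i : ℕ) : (k : F) ^ p ^ i = k := by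
  rw [← iterateFrobenius_def, map_natCast]

/-- Lemma C.1 -/
theorem le_of_inv_closed [Fact p.Prime] [CharP F p] (hq : 0 < q) (hn : n = ∑ i ∈ range q, p ^ i)
    (hE : ∀ a : F, a ^ n = 1 → (2 - a) ^ n = 1 → (2 - a⁻¹) ^ n = 1) {a : F} (ha1 : a ≠ 1)
    (ha : a ^ n = 1) (hb : (2 - a) ^ n = 1) : p ≤ q := by
  have hn0 : n ≠ 0 := by
    rw [hn]
    exact (sum_pos (fun i _ => pow_pos (Fact.out : p.Prime).pos i) ⟨0, mem_range.2 hq⟩).ne'
  have h0 : ∀ x : F, x ^ n = 1 → x ≠ 0 := by
    rintro _ h rfl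
    simp [hn0] at h
  have key : ∀ k : ℕ, ((1 - a) * k + a) ^ n = 1 ∧ ((1 - a) * k + 1) ^ n = 1 ∧
      ((1 - a) * k + (2 - a)) ^ n = 1 := by
    intro k
    induction k with
    | zero => simp [ha, hb]
    | succ k ih =>
      obtain ⟨h1, h2, h3⟩ := ih
      have e1 := h0 _ h2
      have e2 := h0 _ h3
      refine ⟨by convert h2 using 2; push_cast; ring, by convert h3 using 2; push_cast; ring, ?_⟩
      have := hE (((1 - a) * k + (2 - a)) / ((1 - a) * k + 1)) (by rw [div_pow, h2, h3, div_one])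
        (by
          rw [show 2 - ((1 - a) * k + (2 - a)) / ((1 - a) * k + 1) =
            ((1 - a) * k + a) / ((1 - a) * k + 1) by field_simp; ring, div_pow, h1, h2, div_one])
      rw [show 2 - (((1 - a) * k + (2 - a)) / ((1 - a) * k + 1))⁻¹ =
        ((1 - a) * (k + 1 : ℕ) + (2 - a)) / ((1 - a) * k + (2 - a)) by
          push_cast; field_simp; ring, div_pow, h3, div_one] at this
      exact this
  by_contra! hlt
  have hR := eq_zero_of_natDegree_lt_card_of_eval_eq_zero
    (∏ i ∈ range q, (C ((1 - a) ^ p ^ i) * X + C 1) - 1 : F[X]) (f := fun k : Fin p => ((k : ℕ) : F))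
    (fun i j h => Fin.ext (CharP.natCast_injOn_Iio F p i.2 j.2 h)) (fun k => ?_) ?_
  · have := congrArg (eval (-(1 - a)⁻¹)) hR
    rw [eval_sub, eval_prod, prod_eq_zero (mem_range.2 hq)] at this
    · simp at this
    · simp [mul_inv_cancel₀ (sub_ne_zero.2 ha1.symm)]
  · rw [eval_sub, eval_prod, eval_one, sub_eq_zero]
    refine Eq.trans ?_ (key k).2.1
    rw [hn, ← prod_pow_eq_pow_sum]
    refine prod_congr rfl fun i _ => ?_
    simp [add_pow_char_pow, mul_pow, natCast_pow_char_pow]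
  · rw [Fintype.card_fin]
    refine lt_of_le_of_lt ((natDegree_sub_le _ _).trans (max_le ?_ (by simp))) hlt
    refine (natDegree_prod_le _ _).trans ?_
    exact (sum_le_card_nsmul _ _ 1 fun i _ => natDegree_linear_le).trans (by simp)

/-- Lemma C.2 for `q = 3` -/
theorem exists_of_cube [Fact p.Prime] [Fintype F] (hF : Fintype.card F = p ^ 3) :
    ∃ a : F, a ≠ 1 ∧ a ^ (1 + p + p ^ 2) = 1 ∧ (2 - a) ^ (1 + p + p ^ 2) = 1 := by
  classical
  obtain ⟨c, -, hc⟩ := exists_mem_notMem_of_card_lt_card (t := (univ : Finset (ZMod p)))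
    (s := (univ.erase 0).image fun d : ZMod p => d + (d - 1) / (d * (d - 2)))
    (card_image_le.trans_lt (card_erase_lt_of_mem (mem_univ _)))
  set g : (ZMod p)[X] := X * (X - 2) * (X - C c) + (X - 1) with hg
  have hdeg : g.natDegree = 3 := by rw [hg]; compute_degree!
  have hroot : ∀ d, g.eval d ≠ 0 := fun d hd => by
    simp only [hg, eval_add, eval_mul, eval_X, eval_sub, eval_ofNat, eval_C, eval_one] at hd
    have h0 : d ≠ 0 := by rintro rfl; simp at hd
    have h2 : d - 2 ≠ 0 := fun h => by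
      rw [h, sub_eq_zero.1 h] at hd; norm_num at hd
    refine hc (mem_image.2 ⟨d, by simpa using h0, ?_⟩)
    field_simp
    linear_combination hd
  have hg0 : g ≠ 0 := fun h => by simp [h] at hdeg
  have : Fact (Irreducible g) := ⟨(irreducible_iff_roots_eq_zero_of_degree_le_three (by omega)
    hdeg.le).2 (Multiset.eq_zero_of_forall_notMem fun d hd => hroot d ((mem_roots hg0).1 hd))⟩
  have := (AdjoinRoot.powerBasis hg0).finite
  have : Finite (AdjoinRoot g) := Module.finite_of_finite (ZMod p)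
  have := Fintype.ofFinite (AdjoinRoot g)
  have hK : Fintype.card (AdjoinRoot g) = Fintype.card F := by
    rw [Module.card_eq_pow_finrank (K := ZMod p), (AdjoinRoot.powerBasis hg0).finrank, hF, ZMod.card,
      AdjoinRoot.powerBasis_dim, hdeg]
  have : CharP F p := charP_of_card_eq_prime_pow hF
  let e := FiniteField.ringEquivOfCardEq hK
  let φ : ZMod p →+* F := e.toRingHom.comp (AdjoinRoot.of g)
  obtain ⟨a, ha⟩ : ∃ a : F, a * (a - 2) * (a - φ c) + (a - 1) = 0 := ⟨e (AdjoinRoot.root g), by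
    have := congrArg e (AdjoinRoot.eval₂_root g)
    simpa [hg, eval₂_sub, φ, eval₂_ofNat, map_ofNat] using this⟩
  have hfr : ∀ a : F, a * (a - 2) * (a - φ c) + (a - 1) = 0 →
      a ^ p * (a ^ p - 2) * (a ^ p - φ c) + (a ^ p - 1) = 0 := fun a h => by
    have := congrArg (frobenius F p) h
    simp only [map_add, map_mul, map_sub, map_ofNat, map_one, map_zero] at this
    simpa only [frobenius_def, ← map_pow, ZMod.pow_card] using this
  have h3 : ((a ^ p) ^ p) ^ p = a := by
    rw [← pow_mul, ← pow_mul, show p * (p * p) = Fintype.card F by rw [hF]; ring,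
      FiniteField.pow_card]
  have hab : a ^ p ≠ a := fun h => by
    obtain ⟨k, rfl⟩ := exists_intCast h
    refine hroot k (φ.injective ?_)
    simpa [hg, map_ofNat] using ha
  have hbc : (a ^ p) ^ p ≠ a ^ p := fun h => hab (frobenius_inj F p h)
  have hac : (a ^ p) ^ p ≠ a := fun h => hab (by rw [h] at h3; exact h3)
  have hb := hfr a ha
  have hd := hfr _ hb
  have hN : ∀ x : F, x ^ (1 + p + p ^ 2) = x * x ^ p * (x ^ p) ^ p := fun x => by ring
  have h2 : (2 : F) ^ p = 2 := by simpa using natCast_pow_char_pow (F := F) (p := p) 2 1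
  refine ⟨a, by rintro rfl; simp at hab, ?_⟩
  rw [hN, hN, sub_pow_char, sub_pow_char, h2, h2]
  generalize (a ^ p) ^ p = d at *
  generalize a ^ p = b at *
  have e1 : b ^ 2 + a * b + a ^ 2 - (2 + φ c) * (a + b) + 2 * φ c + 1 = 0 :=
    mul_left_cancel₀ (sub_ne_zero.2 hab) (by linear_combination hb - ha)
  have e2 : d ^ 2 + a * d + a ^ 2 - (2 + φ c) * (a + d) + 2 * φ c + 1 = 0 :=
    mul_left_cancel₀ (sub_ne_zero.2 hac) (by linear_combination hd - ha)
  have e3 : a + b + d - (2 + φ c) = 0 :=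
    mul_left_cancel₀ (sub_ne_zero.2 hbc) (by linear_combination e2 - e1)
  constructor
  · linear_combination ha - a * e1 + a * b * e3
  · linear_combination (-1 : F) * ha + (a - 2) * e1 + (-(a - 2) * (b - 2)) * e3

open ComplexConjugate in
/-- the character sum estimate of Lemma C.2 -/
theorem sq_card_le [Fintype F] [DecidableEq F] (S : Finset F) (h0 : 0 ∉ S) (h1 : S.Nonempty)
    (hmul : ∀ a ∈ S, ∀ b ∈ S, a * b ∈ S) (h : ∀ a ∈ S, ∀ b ∈ S, ∀ c ∈ S, a + b = 2 * c → a = c ∧ b = c) :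
    ((#S : ℝ) ^ 2 - Fintype.card F) ^ 2 ≤ (Fintype.card F : ℝ) ^ 3 ∨ (#S : ℝ) ^ 2 ≤ Fintype.card F := by
  set χ := AddChar.FiniteField.primitiveChar_to_Complex F
  have hχ : ∀ b, ∑ x : F, χ (x * b) = if b = 0 then (Fintype.card F : ℂ) else 0 := fun b => by
    rw [AddChar.sum_mulShift b (AddChar.FiniteField.primitiveChar_to_Complex_isPrimitive F)]
    split_ifs <;> simp
  set N : ℝ := (Fintype.card F : ℝ) with hN
  set g : F → ℂ := fun t => ∑ u ∈ S, χ (t * u) with hg
  have hS : (0 : ℝ) < #S := by exact_mod_cast h1.card_pos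
  have e1 : ∑ t, ‖g t‖ ^ 2 = N * #S := by
    have : ∑ t, g t * conj (g t) = (N * #S : ℝ) := by
      simp only [hg, map_sum, ← AddChar.map_neg_eq_conj, sum_mul_sum, ← AddChar.map_add_eq_mul]
      rw [sum_comm]
      simp only [sum_comm (s := univ), ← sub_eq_add_neg, ← mul_sub, hχ, sub_eq_zero]
      rw [sum_congr rfl fun u hu => by rw [sum_ite_eq, if_pos hu]]
      simp [hN, mul_comm]
    simp only [Complex.mul_conj, Complex.normSq_eq_norm_sq] at this
    exact_mod_cast this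
  have e2 : ∀ t, ∀ w ∈ S, g (t * w) = g t := fun t w hw => by
    have hw0 : w ≠ 0 := fun h => h0 (h ▸ hw)
    have : S.image (w * ·) = S := eq_of_subset_of_card_le
      (image_subset_iff.2 fun x hx => hmul _ hw _ hx)
      (card_image_of_injective _ (mul_right_injective₀ hw0)).ge
    simp only [hg]
    conv_rhs => rw [← this, sum_image fun x _ y _ h => mul_right_injective₀ hw0 h]
    simp only [mul_assoc]
  have e3 : ∀ t, t ≠ 0 → ‖g t‖ ≤ √N := fun t ht => by
    refine Real.le_sqrt_of_sq_le (le_of_mul_le_mul_right ?_ hS)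
    rw [← e1]
    calc ‖g t‖ ^ 2 * #S = ∑ w ∈ S.image (t * ·), ‖g w‖ ^ 2 := by
          rw [sum_image fun x _ y _ h => mul_right_injective₀ ht h,
            sum_congr rfl fun w hw => by rw [e2 t w hw]]
          simp [mul_comm]
      _ ≤ _ := sum_le_sum_of_subset_of_nonneg (subset_univ _) fun _ _ _ => by positivity
  have h2 : ∀ c ∈ S, ∀ a ∈ S, ∀ b ∈ S, (a + b + -2 * c = 0 ↔ a = c ∧ b = c) := fun c hc a ha b hb =>
    ⟨fun e => h a ha b hb c hc (by linear_combination e), by rintro ⟨rfl, rfl⟩; ring⟩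
  have h20 : (-2 : F) ≠ 0 ∨ #S = 1 := by
    by_cases h2 : (-2 : F) = 0
    · obtain ⟨c, hc⟩ := h1
      exact Or.inr (card_eq_one.2 ⟨c, eq_singleton_iff_unique_mem.2 ⟨hc, fun a ha =>
        (h a ha a ha c hc (by linear_combination (c - a) * h2)).1⟩⟩)
    · exact Or.inl h2
  have hN1 : 1 ≤ N := by rw [hN]; exact_mod_cast Fintype.card_pos
  rcases h20 with h20 | h20
  swap
  · right; rw [h20]; simpa using hN1
  have e4 : ∑ t, g t * g t * g (t * -2) = (N * #S : ℝ) := by
    simp only [hg, sum_mul, mul_sum, ← AddChar.map_add_eq_mul, mul_assoc, ← mul_add]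
    simp only [sum_comm (s := univ), hχ]
    rw [sum_congr rfl (g := fun _ => (Fintype.card F : ℂ)) fun c hc => ?_]
    · simp [hN, mul_comm]
    · rw [sum_eq_single_of_mem c hc fun b hb hbc => sum_eq_zero fun a ha =>
        if_neg fun e => hbc ((h2 c hc a ha b hb).1 e).2,
        sum_eq_single_of_mem c hc fun a ha hac => if_neg fun e => hac ((h2 c hc a ha c hc).1 e).1,
        if_pos (by ring)]
  rw [← add_sum_erase _ _ (mem_univ 0)] at e4
  have e5 : ‖∑ t ∈ univ.erase 0, g t * g t * g (t * -2)‖ ≤ N * #S * √N := by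
    refine (norm_sum_le _ _).trans ?_
    rw [← e1, sum_mul]
    refine (sum_le_sum fun t ht => ?_).trans
      (sum_le_sum_of_subset_of_nonneg (erase_subset _ _) fun _ _ _ => by positivity)
    rw [norm_mul, norm_mul, ← sq]
    gcongr
    exact e3 _ (mul_ne_zero (ne_of_mem_erase ht) h20)
  rw [eq_sub_of_add_eq' e4, show g 0 * g 0 * g (0 * -2) = ((#S : ℝ) ^ 3 : ℝ) by simp [hg]; ring,
    ← Complex.ofReal_sub, Complex.norm_real, Real.norm_eq_abs,
    show N * #S - (#S : ℝ) ^ 3 = #S * (N - #S ^ 2) by ring, abs_mul, abs_of_pos hS, mul_comm N,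
    mul_assoc, mul_le_mul_iff_right₀ hS, abs_sub_comm] at e5
  left
  calc _ = |(#S : ℝ) ^ 2 - N| ^ 2 := (sq_abs _).symm
    _ ≤ (N * √N) ^ 2 := by gcongr
    _ = _ := by rw [mul_pow, Real.sq_sqrt (by positivity)]; ring

theorem eq_geom_sum (hp : 1 < p) (hn : n * (p - 1) = p ^ q - 1) : n = ∑ i ∈ range q, p ^ i := by
  rw [Nat.geomSum_eq hp, ← hn, Nat.mul_div_cancel _ (by omega)]

/-- Lemma C.2 -/
theorem exists_ne_one [Fact p.Prime] [Fintype F] (hq : q.Prime) (hF : Fintype.card F = p ^ q)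
    (hlt : q < p) (hn : n * (p - 1) = p ^ q - 1) (hA : n.Coprime (p - 1)) (S : Finset F)
    (hS : ∀ x, x ∈ S ↔ x ^ n = 1) (hc : #S = n) : ∃ a : F, a ≠ 1 ∧ a ^ n = 1 ∧ (2 - a) ^ n = 1 := by
  classical
  have hp : p.Prime := Fact.out
  have hn' := eq_geom_sum hp.one_lt hn
  have hq2 := hq.two_le
  obtain rfl | rfl | hq5 : q = 2 ∨ q = 3 ∨ 5 ≤ q := by
    have : q ≠ 4 := by rintro rfl; norm_num at hq
    omega
  · obtain ⟨k, hk⟩ := hp.odd_of_ne_two hlt.ne'
    have : 2 ∣ Nat.gcd n (p - 1) := Nat.dvd_gcd (by simp [hn', sum_range_succ]; omega) (by omega)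
    simp [hA.gcd_eq_one] at this
  · simpa [hn', sum_range_succ] using exists_of_cube hF
  by_contra! H
  obtain ⟨r, rfl⟩ := Nat.exists_eq_add_of_le' hq5
  have hge : p ^ (r + 4) ≤ n := by
    rw [hn', sum_range_succ]; exact Nat.le_add_left _ _
  have hn0 : n ≠ 0 := ((pow_pos hp.pos _).trans_le hge).ne'
  have h0 : (0 : F) ∉ S := by simp [hS, hn0]
  have := sq_card_le S h0 ⟨1, by simp [hS]⟩
    (fun a ha b hb => by rw [hS] at *; rw [mul_pow, ha, hb, one_mul]) fun a ha b hb c hc e => by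
      have hc0 : c ≠ 0 := fun h => h0 (h ▸ hc)
      rw [hS] at *
      have : a = c := by
        by_contra hac
        refine H (a / c) (by rwa [Ne, div_eq_one_iff_eq hc0]) (by rw [div_pow, ha, hc, div_one]) ?_
        rw [show 2 - a / c = b / c by field_simp; linear_combination -e, div_pow, hb, hc, div_one]
      exact ⟨this, by linear_combination e - this⟩
  rw [hc, hF] at this
  have hp6 : (6 : ℝ) ≤ p := by exact_mod_cast (by omega : 6 ≤ p)
  have hge' : (p : ℝ) ^ (r + 4) ≤ n := by exact_mod_cast hge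
  push_cast at this
  set x : ℝ := (p : ℝ) ^ r with hx
  have hx1 : 1 ≤ x := one_le_pow₀ (by linarith)
  rw [pow_add, ← hx] at this hge'
  have hp0 : (0 : ℝ) < p := by linarith
  have h1 : 2 * (x * p ^ 5) ≤ (x * p ^ 4) ^ 2 := by
    have : (x * p ^ 4) ^ 2 = (x * p ^ 3) * (x * p ^ 5) := by ring
    rw [this]
    gcongr
    nlinarith [pow_le_pow_left₀ (by norm_num) hp6 3]
  have h2 : (x * p ^ 4) ^ 2 ≤ (n : ℝ) ^ 2 := by gcongr
  have h3 : 0 < x * p ^ 5 := by positivity
  rcases this with h | h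
  · have h4 : ((x * p ^ 4) ^ 2 / 2) ^ 2 ≤ ((n : ℝ) ^ 2 - x * p ^ 5) ^ 2 := by
      gcongr; linarith
    have h5 : ((x * p ^ 4) ^ 2 / 2) ^ 2 = (x * p / 4) * (x * p ^ 5) ^ 3 := by ring
    have h6 : 1 < x * p / 4 := by nlinarith
    nlinarith [pow_pos h3 3]
  · linarith

end Cfsg.Agent.OO.Pf.BC
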