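import Cfsg.Agent.Lib.OO.BasicA
import Cfsg.Agent.Lib.OO.Pf.BGC_A

/-! # B&G appendix C: Lemma C.3 and Theorem C -/

set_option autoImplicit false
set_option linter.unusedSectionVars false

namespace Cfsg.Agent.OO.Pf

open Subgroup
open scoped commutatorElement

universe u v

namespace BC

variable {G : Type u} [Group G] [Finite G] {F : Type v} [Field F]

/-- the hypotheses used in Lemma C.3 -/
structure Hyp (p : ℕ) (P U Q : Subgroup G) (f ψ : G → F) (y : G) : Prop where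
  odd : Odd p
  inj : Set.InjOn f (P : Set G)
  surj : ∀ c, ∃ x ∈ P, f x = c
  add : ∀ x ∈ P, ∀ z ∈ P, f (x * z) = f x + f z
  UP : U ≤ 𝐍(P)
  ne : ∀ u ∈ U, ψ u ≠ 0
  act : ∀ u ∈ U, ∀ x ∈ P, f (u * x * u⁻¹) = ψ u * f x
  mul : ∀ u ∈ U, ∀ v ∈ U, ψ (u * v) = ψ u * ψ v
  pinj : Set.InjOn ψ (U : Set G)
  split : ∀ x : F, ∃ u ∈ U, ∃ c, c ^ p = c ∧ x = ψ u * c
  powU : ∀ u ∈ U, u ^ p = u → u = 1
  powU' : ∀ u ∈ U, u ^ p = 1 → u = 1
  ntU : ∃ u ∈ U, u ≠ 1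
  abQ : Ab Q
  coQ : (♯Q).Coprime p
  nQ : ∀ x ∈ P, f x ^ p = f x → x ∈ 𝐍(Q)
  yQ : y ∈ Q
  nU : ∀ x ∈ P, f x ^ p = f x → y⁻¹ * x * y ∈ 𝐍(U)

theorem psi_one {U : Subgroup G} {ψ : G → F} (ne : ∀ u ∈ U, ψ u ≠ 0)
    (mul : ∀ u ∈ U, ∀ v ∈ U, ψ (u * v) = ψ u * ψ v) : ψ 1 = 1 :=
  mul_left_cancel₀ (ne 1 (one_mem _)) (by rw [← mul 1 (one_mem _) 1 (one_mem _), mul_one, mul_one])

theorem psi_pow {U : Subgroup G} {ψ : G → F} (ne : ∀ u ∈ U, ψ u ≠ 0)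
    (mul : ∀ u ∈ U, ∀ v ∈ U, ψ (u * v) = ψ u * ψ v) {u : G} (hu : u ∈ U) (k : ℕ) :
    ψ (u ^ k) = ψ u ^ k := by
  induction k with
  | zero => simpa using psi_one ne mul
  | succ k ih => rw [pow_succ, mul _ (pow_mem hu k) _ hu, ih, pow_succ]

theorem comm_rel {Q : Subgroup G} (hQ : Ab Q) {y a b c d e g : G} (hy : y ∈ Q) (ha : a ∈ Q)
    (hb : b ∈ Q) (hc : c ∈ Q) (hd : d ∈ Q) (he : e ∈ Q) (hg : g ∈ Q)
    (h : y⁻¹ * a * b⁻¹ * c * d⁻¹ * e = 1) : b⁻¹ * a * d⁻¹ * g = c⁻¹ * g * e⁻¹ * y := by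
  open scoped IsMulCommutative in
  lift y to Q using hy
  lift a to Q using ha
  lift b to Q using hb
  lift c to Q using hc
  lift d to Q using hd
  lift e to Q using he
  lift g to Q using hg
  norm_cast at h ⊢
  have := congrArg Additive.ofMul h
  refine Additive.ofMul.injective ?_
  simp only [ofMul_mul, ofMul_inv, ofMul_one] at this ⊢
  linear_combination (norm := abel) this

theorem ident {s t a b : G} (c23 : Commute ((s ^ 2)⁻¹ * t ^ 2) ((s ^ 3)⁻¹ * t ^ 3))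
    (c12 : Commute (s⁻¹ * t) ((s ^ 2)⁻¹ * t ^ 2)) (c13 : Commute (s⁻¹ * t) ((s ^ 3)⁻¹ * t ^ 3))
    (h : a * s * a⁻¹ * (b * s * b⁻¹) = s * s) :
    t ^ 2 * (s * ((t ^ 3)⁻¹ * a * t ^ 3) * (s ^ 2)⁻¹) * t⁻¹ *
      (s ^ 3 * ((t ^ 2)⁻¹ * (a⁻¹ * b) * t ^ 2) * s⁻¹) * t⁻¹ *
      (s ^ 2 * (t⁻¹ * b⁻¹ * t) * (s ^ 3)⁻¹) = 1 := by
  have I1 : t ^ 3 * (s ^ 2)⁻¹ * t⁻¹ * s ^ 3 * (t ^ 2)⁻¹ = s :=
    calc _ = t ^ 3 * ((s ^ 2)⁻¹ * t ^ 2 * ((s ^ 3)⁻¹ * t ^ 3)⁻¹) * (t ^ 2)⁻¹ := by group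
      _ = s := by rw [c23.inv_right.eq]; group
  have I2 : t ^ 2 * s⁻¹ * t⁻¹ * s ^ 2 * t⁻¹ = s :=
    calc _ = t ^ 2 * (s⁻¹ * t * ((s ^ 2)⁻¹ * t ^ 2)⁻¹) * t⁻¹ := by group
      _ = s := by rw [c12.inv_right.eq]; group
  have I3 : t * (s ^ 3)⁻¹ * t ^ 2 * s * (t ^ 3)⁻¹ = (s * s)⁻¹ :=
    calc _ = t * ((s ^ 3)⁻¹ * t ^ 3 * (s⁻¹ * t)⁻¹) * (t ^ 3)⁻¹ := by group
      _ = _ := by rw [← c13.inv_left.eq]; group
  calc _ = (t * (s ^ 3)⁻¹)⁻¹ * (t * (s ^ 3)⁻¹ * t ^ 2 * s * (t ^ 3)⁻¹) *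
        (a * (t ^ 3 * (s ^ 2)⁻¹ * t⁻¹ * s ^ 3 * (t ^ 2)⁻¹) * a⁻¹ *
          (b * (t ^ 2 * s⁻¹ * t⁻¹ * s ^ 2 * t⁻¹) * b⁻¹)) * (t * (s ^ 3)⁻¹) := by group
    _ = 1 := by rw [I1, I2, I3, h]; group

namespace Hyp

variable {p : ℕ} [Fact p.Prime] [CharP F p] {P U Q : Subgroup G} {f ψ : G → F} {y : G}
  (h : Hyp p P U Q f ψ y)
include h

theorem f_one : f 1 = 0 := by simpa using h.add 1 (one_mem _) 1 (one_mem _)

theorem f_inv {x : G} (hx : x ∈ P) : f x⁻¹ = -f x :=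
  eq_neg_of_add_eq_zero_left (by rw [← h.add _ (inv_mem hx) _ hx, inv_mul_cancel, h.f_one])

theorem f_pow {x : G} (hx : x ∈ P) (k : ℕ) : f (x ^ k) = k * f x := by
  induction k with
  | zero => simpa using h.f_one
  | succ k ih => rw [pow_succ, h.add _ (pow_mem hx k) _ hx, ih]; push_cast; ring

theorem f_zpow {x : G} (hx : x ∈ P) (k : ℤ) : f (x ^ k) = k * f x := by
  obtain ⟨k, rfl | rfl⟩ := k.eq_nat_or_neg
  · simpa using h.f_pow hx k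
  · simp [h.f_inv (pow_mem hx k), h.f_pow hx k]

theorem f_eq_zero {x : G} (hx : x ∈ P) : f x = 0 ↔ x = 1 :=
  ⟨fun e => h.inj hx (one_mem _) (e.trans h.f_one.symm), fun e => e ▸ h.f_one⟩

theorem commP {x z : G} (hx : x ∈ P) (hz : z ∈ P) : x * z = z * x :=
  h.inj (mul_mem hx hz) (mul_mem hz hx) (by rw [h.add _ hx _ hz, h.add _ hz _ hx, add_comm])

theorem powP {x : G} (hx : x ∈ P) : x ^ p = 1 :=
  (h.f_eq_zero (pow_mem hx p)).1 (by simp [h.f_pow hx])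

theorem commU {x z : G} (hx : x ∈ U) (hz : z ∈ U) : Commute x z :=
  h.pinj (mul_mem hx hz) (mul_mem hz hx) (by rw [h.mul _ hx _ hz, h.mul _ hz _ hx, mul_comm])

theorem psi_inv {u : G} (hu : u ∈ U) : ψ u⁻¹ = (ψ u)⁻¹ :=
  eq_inv_of_mul_eq_one_left (by rw [← h.mul _ (inv_mem hu) _ hu, inv_mul_cancel, psi_one h.ne h.mul])

theorem tiPU {u : G} (hP : u ∈ P) (hU : u ∈ U) : u = 1 := by
  obtain ⟨s, hs, hs1⟩ := h.surj 1
  have := h.act u hU s hs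
  rw [h.commP hP hs, mul_inv_cancel_right, hs1, mul_one] at this
  exact h.pinj hU (one_mem _) (this.symm.trans (psi_one h.ne h.mul).symm)

theorem powQ {x : G} (hQ : x ∈ Q) (hx : x ^ p = 1) : x = 1 :=
  orderOf_eq_one_iff.1 (Nat.eq_one_of_dvd_coprimes h.coQ (orderOf_dvd_card hQ)
    (orderOf_dvd_of_pow_eq_one hx))

theorem eq_iff {x z w a u v : G} (hx : x ∈ P) (hz : z ∈ P) (hw : w ∈ P) (ha : a ∈ U) (hu : u ∈ U)
    (hv : v ∈ U) : x * a * z = u * w * v ↔ a = u * v ∧ f x + ψ a * f z = ψ u * f w := by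
  have h1 := conj_mem_of_norm (h.UP ha) hz
  have h2 := conj_mem_of_norm (h.UP hu) hw
  rw [← h.act a ha z hz, ← h.act u hu w hw, ← h.add _ hx _ h1,
    h.inj.eq_iff (mul_mem hx h1) h2]
  constructor
  · intro e
    have e1 : (u * w * u⁻¹)⁻¹ * (x * (a * z * a⁻¹)) = u * v * a⁻¹ :=
      calc _ = (u * w * u⁻¹)⁻¹ * (x * a * z) * a⁻¹ := by group
        _ = _ := by rw [e]; group
    have e2 := h.tiPU (mul_mem (inv_mem h2) (mul_mem hx h1))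
      (e1 ▸ mul_mem (mul_mem hu hv) (inv_mem ha))
    exact ⟨(mul_inv_eq_one.1 (e1.symm.trans e2)).symm, (inv_mul_eq_one.1 e2).symm⟩
  · rintro ⟨rfl, e⟩
    calc _ = x * (u * v * z * (u * v)⁻¹) * (u * v) := by group
      _ = _ := by rw [e]; group

/-- Step 1 -/
theorem splitH {x z a : G} (hx : x ∈ P) (hz : z ∈ P) (ha : a ∈ U) :
    ∃ u ∈ U, ∃ v ∈ U, ∃ w ∈ P, f w ^ p = f w ∧ x * a * z = u * w * v := by
  obtain ⟨u, hu, c, hc, e⟩ := h.split (f x + ψ a * f z)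
  obtain ⟨w, hw, rfl⟩ := h.surj c
  have hv := mul_mem (inv_mem hu) ha
  exact ⟨u, hu, _, hv, w, hw, hc, (h.eq_iff hx hz hw ha hu hv).2 ⟨by group, e⟩⟩

/-- Step 2 -/
theorem not_splitU {x z a : G} (hx : x ∈ P) (hx0 : f x ^ p = f x) (hz : z ∈ P) (hz0 : f z ^ p = f z)
    (ha : a ∈ U) (H : x * a * z ∈ U) : (x = 1 ∧ z = 1) ∨ (a = 1 ∧ x * z = 1) := by
  have e := ((h.eq_iff hx hz (one_mem _) ha (one_mem _) H).1 (by simp)).2
  rw [h.f_one, mul_zero] at e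
  by_cases hz1 : f z = 0
  · rw [hz1, mul_zero, add_zero] at e
    exact Or.inl ⟨(h.f_eq_zero hx).1 e, (h.f_eq_zero hz).1 hz1⟩
  have e' := congrArg (· ^ p) e
  simp only [add_pow_char, mul_pow, hx0, hz0, zero_pow (Fact.out : p.Prime).ne_zero] at e'
  obtain rfl := h.powU a ha (h.pinj (pow_mem ha p) ha (by
    rw [psi_pow h.ne h.mul ha]
    exact mul_right_cancel₀ hz1 (by linear_combination e' - e)))
  rw [mul_one] at H
  exact Or.inr ⟨rfl, h.tiPU (mul_mem hx hz) H⟩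

theorem mem_zpowers {x z : G} (hx : x ∈ P) (hx0 : f x ^ p = f x) (hz : z ∈ P) (hz0 : f z ^ p = f z)
    (hz1 : z ≠ 1) : x ∈ zpowers z := by
  obtain ⟨k, hk⟩ := exists_intCast (p := p) (c := f x / f z) (by rw [div_pow, hx0, hz0])
  refine ⟨k, h.inj (zpow_mem hz k) hx ?_⟩
  rw [h.f_zpow hz, hk, div_mul_cancel₀ _ ((h.f_eq_zero hz).not.2 hz1)]

theorem mem_of_pow {x : G} (hx : x ∈ P ⊔ U) (hp : x ^ p = 1) : x ∈ P := by
  obtain ⟨z, hz, a, ha, rfl⟩ := (mem_sup_norm_left h.UP).1 hx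
  have : ∀ k : ℕ, (z * a) ^ k * (a ^ k)⁻¹ ∈ P := fun k => by
    induction k with
    | zero => simp
    | succ k ih =>
      convert mul_mem ih (conj_mem_of_norm (h.UP (pow_mem ha k)) hz) using 1
      rw [pow_succ, pow_succ]; group
  have h1 := this p
  rw [hp, one_mul, inv_mem_iff] at h1
  rw [h.powU' a ha (h.tiPU h1 (pow_mem ha p)), mul_one]
  exact hz

/-- Step 3 -/
theorem tiH {r x : G} (hr : r ∈ P) (hr0 : f r ^ p = f r) (hr1 : r ≠ 1) (hx : x ∈ P ⊔ U)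
    (H : (y⁻¹ * r * y) * x * (y⁻¹ * r * y)⁻¹ ∈ P ⊔ U) : x ∈ U := by
  obtain ⟨z, hz, a, ha, rfl⟩ := (mem_sup_norm_left h.UP).1 hx
  obtain ⟨u, hu, v, hv, w, hw, hw0, e⟩ := h.splitH hz (one_mem _) ha
  rw [mul_one] at e
  rw [e] at H ⊢
  by_cases hw1 : w = 1
  · rw [hw1, mul_one]; exact mul_mem hu hv
  exfalso
  have hτ := h.nU r hr hr0
  obtain ⟨c, hc⟩ : ∃ c, c = y⁻¹ * (r * y * r⁻¹) := ⟨_, rfl⟩
  have hcQ : c ∈ Q := hc ▸ mul_mem (inv_mem h.yQ) (conj_mem_of_norm (h.nQ r hr hr0) h.yQ)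
  have hτp : (y⁻¹ * r * y) ^ p = 1 := by
    simpa [h.powP hr] using conj_pow (i := p) (a := y⁻¹) (b := r)
  rw [show y⁻¹ * r * y = c * r by rw [hc]; group] at H hτ hτp
  have h1 : c * r * w * (c * r)⁻¹ ∈ P := by
    refine h.mem_of_pow ?_ (by rw [conj_pow, h.powP hw]; group)
    convert mul_mem (mul_mem (inv_mem (mem_sup_right (conj_mem_of_norm hτ hu))) H)
      (inv_mem (mem_sup_right (conj_mem_of_norm hτ hv))) using 1
    group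
  rw [show c * r * w * (c * r)⁻¹ = c * w * c⁻¹ by rw [mul_assoc c, h.commP hr hw]; group] at h1
  have h2 : c * w * c⁻¹ * w⁻¹ = 1 := h.powQ (by
    convert mul_mem hcQ (conj_mem_of_norm (h.nQ w hw hw0) (inv_mem hcQ)) using 1
    group) (h.powP (mul_mem h1 (inv_mem hw)))
  have h3 : Commute c w := commutatorElement_eq_one_iff_commute.1 h2
  obtain ⟨k, hk⟩ := h.mem_zpowers hr hr0 hw hw0 hw1
  have h4 : Commute c r := hk ▸ h3.zpow_right k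
  rw [h4.mul_pow, h.powP hr, mul_one] at hτp
  rw [h.powQ hcQ hτp, one_mul] at hτ
  obtain ⟨b, hb, hb1⟩ := h.ntU
  rcases h.not_splitU hr hr0 (inv_mem hr) (by rw [h.f_inv hr, h.odd.neg_pow, hr0]) hb
    (conj_mem_of_norm hτ hb) with e | e
  exacts [hr1 e.1, hb1 e.1]

theorem two_ne : (2 : F) ≠ 0 := fun e =>
  (Nat.not_even_iff_odd.2 h.odd) (((Nat.prime_dvd_prime_iff_eq Fact.out Nat.prime_two).1
    ((CharP.cast_eq_zero_iff F p 2).1 (by exact_mod_cast e))) ▸ even_two)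

theorem frob {x z w a u v : G} (hx : x ∈ P) (hx0 : f x ^ p = f x) (hz : z ∈ P) (hz0 : f z ^ p = f z)
    (hw : w ∈ P) (hw0 : f w ^ p = f w) (ha : a ∈ U) (hu : u ∈ U) (hv : v ∈ U)
    (e : x * a * z = u * w * v) : x * a ^ p * z = u ^ p * w * v ^ p := by
  obtain ⟨rfl, e2⟩ := (h.eq_iff hx hz hw ha hu hv).1 e
  refine (h.eq_iff hx hz hw (pow_mem ha p) (pow_mem hu p) (pow_mem hv p)).2
    ⟨(h.commU hu hv).mul_pow p, ?_⟩
  have e' := congrArg (· ^ p) e2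
  simpa only [add_pow_char, mul_pow, hx0, hz0, hw0, ← psi_pow h.ne h.mul ha,
    ← psi_pow h.ne h.mul hu] using e'

theorem fix_inv {x : G} (hx : x ∈ P) (hx0 : f x ^ p = f x) : f x⁻¹ ^ p = f x⁻¹ := by
  rw [h.f_inv hx, h.odd.neg_pow, hx0]

theorem fix_mul {x z : G} (hx : x ∈ P) (hx0 : f x ^ p = f x) (hz : z ∈ P) (hz0 : f z ^ p = f z) :
    f (x * z) ^ p = f (x * z) := by
  rw [h.add _ hx _ hz, add_pow_char, hx0, hz0]

/-- first half of step 4 -/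
theorem rel_of_two {s s1 s3 w1 w2 w3 : G} (hs : s ∈ P) (hs1 : f s = 1) (h1 : s1 ∈ P)
    (h10 : f s1 ^ p = f s1) (h11 : s1 ≠ 1) (h3 : s3 ∈ P) (h30 : f s3 ^ p = f s3) (h31 : s3 ≠ 1)
    (hw1 : w1 ∈ U) (hw2 : w2 ∈ U) (hw3 : w3 ∈ U)
    (e : w1 * s3 * w2 * (y⁻¹ * s * y) ^ 2 * s1 * w3 =
      w1 ^ p * s3 * w2 ^ p * (y⁻¹ * s * y) ^ 2 * s1 * w3 ^ p) : w1 = 1 ∧ w2 = 1 ∧ w3 = 1 := by
  have hs0 : f s ^ p = f s := by simp [hs1]
  have e3 : w3 = 1 := by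
    have hX := h.tiH (x := s1 * (w3 * (w3 ^ p)⁻¹) * s1⁻¹) (mul_mem hs hs) (h.fix_mul hs hs0 hs hs0)
      (fun e => h.two_ne (by rw [← h.f_one, ← e, h.add _ hs _ hs, hs1]; norm_num))
      (mul_mem (mul_mem (mem_sup_left h1) (mem_sup_right (mul_mem hw3 (inv_mem (pow_mem hw3 p)))))
        (mem_sup_left (inv_mem h1))) (by
      convert mul_mem (inv_mem (mul_mem (mul_mem (mem_sup_right hw1) (mem_sup_left h3))
        (mem_sup_right hw2))) (mul_mem (mul_mem (mem_sup_right (pow_mem hw1 p)) (mem_sup_left h3))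
        (mem_sup_right (pow_mem hw2 p))) using 1
      rw [show y⁻¹ * (s * s) * y = (y⁻¹ * s * y) ^ 2 by rw [sq]; group]
      generalize (y⁻¹ * s * y) ^ 2 = t at e
      calc _ = (w1 * s3 * w2)⁻¹ * (w1 * s3 * w2 * t * s1 * w3) * (t * s1 * w3 ^ p)⁻¹ := by group
        _ = _ := by rw [e]; group)
    rcases h.not_splitU h1 h10 (inv_mem h1) (h.fix_inv h1 h10)
      (mul_mem hw3 (inv_mem (pow_mem hw3 p))) hX with e | e
    exacts [(h11 e.1).elim, h.powU _ hw3 (mul_inv_eq_one.1 e.1).symm]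
  simp only [e3, one_pow, mul_left_inj] at e
  have e1 : w1 = 1 := by
    rcases h.not_splitU (inv_mem h3) (h.fix_inv h3 h30) h3 h30
      (mul_mem (inv_mem (pow_mem hw1 p)) hw1) (by
        convert mul_mem (pow_mem hw2 p) (inv_mem hw2) using 1
        calc _ = (w1 ^ p * s3)⁻¹ * (w1 * s3 * w2) * w2⁻¹ := by group
          _ = _ := by rw [e]; group) with e | e
    exacts [(h31 e.2).elim, h.powU _ hw1 (inv_mul_eq_one.1 e.1)]
  simp only [e1, one_pow, mul_right_inj] at e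
  exact ⟨e1, h.powU _ hw2 e.symm, e3⟩

/-- second half of step 4 -/
theorem eq_inv_of_rel {s s1 s2 s3 : G} (hs : s ∈ P) (hs1 : f s = 1) (h1 : s1 ∈ P)
    (h10 : f s1 ^ p = f s1) (h11 : s1 ≠ 1) (h2 : s2 ∈ P) (h20 : f s2 ^ p = f s2) (h3 : s3 ∈ P)
    (h30 : f s3 ^ p = f s3)
    (e : (y⁻¹ * s * y) ^ 2 * s1 * (y⁻¹ * s * y)⁻¹ * s2 * (y⁻¹ * s * y)⁻¹ * s3 = 1) : s * s1 = 1 := by
  have hs0 : f s ^ p = f s := by simp [hs1]
  have hsne : s ≠ 1 := fun e => by simp [e, h.f_one] at hs1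
  have hY : ∀ g ∈ P, f g ^ p = f g → g * y * g⁻¹ ∈ Q := fun g hg hg0 =>
    conj_mem_of_norm (h.nQ g hg hg0) h.yQ
  have ha := hY _ (mul_mem hs hs) (h.fix_mul hs hs0 hs hs0)
  have hc0 := h.fix_mul hs hs0 h1 h10
  have hb := hY _ (mul_mem hs (mul_mem hs h1)) (h.fix_mul hs hs0 (mul_mem hs h1) hc0)
  have hc := hY _ (mul_mem hs h1) hc0
  have he0 := h.fix_mul h1 h10 h2 h20
  have hd := hY _ (mul_mem hs (mul_mem h1 h2)) (h.fix_mul hs hs0 (mul_mem h1 h2) he0)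
  have he := hY _ (mul_mem h1 h2) he0
  have hg := hY _ hs hs0
  have c1 : s1 * s⁻¹ = s⁻¹ * s1 := h.commP h1 (inv_mem hs)
  have c2 : s1 * s2 * s⁻¹ = s⁻¹ * (s1 * s2) := h.commP (mul_mem h1 h2) (inv_mem hs)
  have key : y⁻¹ * (s * s * y * (s * s)⁻¹) * (s * (s * s1) * y * (s * (s * s1))⁻¹)⁻¹ *
      (s * s1 * y * (s * s1)⁻¹) * (s * (s1 * s2) * y * (s * (s1 * s2))⁻¹)⁻¹ *
      (s1 * s2 * y * (s1 * s2)⁻¹) = (s1 * s2 * s3)⁻¹ :=
    calc _ = (y⁻¹ * s * y) ^ 2 * s1 * y⁻¹ * s1⁻¹ * (s⁻¹ * s1) * y * s2 * y⁻¹ * (s1 * s2)⁻¹ *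
        (s⁻¹ * (s1 * s2)) * y * (s1 * s2)⁻¹ := by rw [sq]; group
      _ = (y⁻¹ * s * y) ^ 2 * s1 * (y⁻¹ * s * y)⁻¹ * s2 * (y⁻¹ * s * y)⁻¹ * s3 *
        (s1 * s2 * s3)⁻¹ := by rw [← c1, ← c2]; group
      _ = _ := by rw [e, one_mul]
  have e123 : s1 * s2 * s3 = 1 := inv_eq_one.1 (h.powQ (key ▸ mul_mem (mul_mem (mul_mem (mul_mem
    (mul_mem (inv_mem h.yQ) ha) (inv_mem hb)) hc) (inv_mem hd)) he)
    (h.powP (inv_mem (mul_mem (mul_mem h1 h2) h3))))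
  rw [e123, inv_one] at key
  have hw := comm_rel h.abQ h.yQ ha hb hc hd he hg key
  have hwQ := mul_mem (mul_mem (mul_mem (inv_mem hc) hg) (inv_mem he)) h.yQ
  set w := (s * s1 * y * (s * s1)⁻¹)⁻¹ * (s * y * s⁻¹) * (s1 * s2 * y * (s1 * s2)⁻¹)⁻¹ * y with hwd
  have hA : zpowers s ≤ 𝐍(Q) := zpowers_le.2 (h.nQ s hs hs0)
  have hw1 : w = 1 := by
    refine mem_bot.1 (Coprime.centralizer_inf_commutator_eq_bot hA ?_ h.abQ ▸ ⟨⟨hwQ, ?_⟩, ?_⟩)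
    · rw [Nat.card_zpowers]
      exact h.coQ.symm.coprime_dvd_left (orderOf_dvd_of_pow_eq_one (h.powP hs))
    · refine cent_zpowers s ▸ mem_cent1_comm.1 (mem_cent1_iff_conj.2 ?_)
      refine Eq.trans ?_ hw
      rw [hwd]; simp only [mul_inv_rev, inv_inv, mul_assoc, inv_mul_cancel_left]
    · rw [commutator_comm, show w = ⁅s * s1 * s⁻¹, (s * y * s⁻¹)⁻¹⁆ * ⁅s1 * s2, y⁻¹⁆ by
        rw [hwd]; group]
      have hz1 := h.mem_zpowers h1 h10 hs hs0 hsne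
      exact mul_mem (commutator_mem_commutator (mul_mem (mul_mem (Subgroup.mem_zpowers s) hz1)
        (inv_mem (Subgroup.mem_zpowers s))) (inv_mem hg)) (commutator_mem_commutator
          (mul_mem hz1 (h.mem_zpowers h2 h20 hs hs0 hsne)) (inv_mem h.yQ))
  have e4 : y⁻¹ * s3 * y * (s * s1) = s3 * s * (y⁻¹ * s1 * y) := by
    rw [eq_inv_of_mul_eq_one_left e123] at hwd
    calc _ = s3 * s * (y⁻¹ * s1 * y) * (s * s1)⁻¹ * w * (s * s1) := by rw [hwd]; group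
      _ = _ := by rw [hw1]; group
  obtain ⟨u, hu, hu1⟩ := h.ntU
  have hu' := conj_mem_of_norm' (h.nU s3 h3 h30) hu
  have hX := h.tiH h1 h10 h11 (mul_mem (mul_mem (mem_sup_left (inv_mem (mul_mem hs h1)))
    (mem_sup_right hu')) (mem_sup_left (mul_mem hs h1))) (by
      convert mul_mem (mul_mem (mem_sup_left (inv_mem (mul_mem h3 hs)))
        (mem_sup_right hu)) (mem_sup_left (mul_mem h3 hs)) using 1
      calc _ = y⁻¹ * s1 * y * (y⁻¹ * s3 * y * (s * s1))⁻¹ * u * (y⁻¹ * s3 * y * (s * s1)) *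
          (y⁻¹ * s1 * y)⁻¹ := by group
        _ = _ := by rw [e4]; group)
  rcases h.not_splitU (inv_mem (mul_mem hs h1)) (h.fix_inv (mul_mem hs h1) hc0) (mul_mem hs h1) hc0
    hu' hX with e | e
  · exact e.2
  · exact (hu1 (conj_eq_one_iff.1 (show _ * u * (y⁻¹ * s3 * y)⁻¹⁻¹ = 1 by rw [inv_inv, e.1]))).elim

/-- Step 4 -/
theorem step4 {s a b : G} (hs : s ∈ P) (hs1 : f s = 1) (ha : a ∈ U) (hb : b ∈ U)
    (e : ψ a + ψ b = 2) :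
    ∃ c ∈ U, ψ (((y⁻¹ * s * y) ^ 3)⁻¹ * a⁻¹ * (y⁻¹ * s * y) ^ 3) + ψ c = 2 := by
  have hs0 : f s ^ p = f s := by simp [hs1]
  have hk : ∀ k : ℕ, f (s ^ k) = k := fun k => by rw [h.f_pow hs, hs1, mul_one]
  have hk0 : ∀ k : ℕ, f (s ^ k) ^ p = f (s ^ k) := fun k => by
    simpa [hk] using natCast_pow_char_pow (F := F) (p := p) k 1
  have hk' : ∀ k : ℕ, f (s ^ k)⁻¹ ^ p = f (s ^ k)⁻¹ := fun k => h.fix_inv (pow_mem hs k) (hk0 k)
  have ht := h.nU s hs hs0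
  have hq : ∀ k : ℕ, (s ^ k)⁻¹ * (y⁻¹ * s * y) ^ k ∈ Q := fun k => by
    convert mul_mem (conj_mem_of_norm' (h.nQ _ (pow_mem hs k) (hk0 k)) (inv_mem h.yQ)) h.yQ using 1
    have := conj_pow (i := k) (a := y⁻¹) (b := s)
    rw [inv_inv] at this
    rw [this]; group
  have hc : ∀ i j : ℕ, Commute ((s ^ i)⁻¹ * (y⁻¹ * s * y) ^ i) ((s ^ j)⁻¹ * (y⁻¹ * s * y) ^ j) :=
    fun i j => ab_iff.1 h.abQ _ (hq i) _ (hq j)
  have hid : ∀ a ∈ U, ∀ b ∈ U, ψ a + ψ b = 2 → _ := fun a ha b hb e =>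
    ident (a := a) (b := b) (hc 2 3) (by simpa using hc 1 2) (by simpa using hc 1 3)
      (h.inj (mul_mem (conj_mem_of_norm (h.UP ha) hs) (conj_mem_of_norm (h.UP hb) hs)) (mul_mem hs hs)
        (by
          rw [h.add _ (conj_mem_of_norm (h.UP ha) hs) _ (conj_mem_of_norm (h.UP hb) hs),
            h.add _ hs _ hs, h.act a ha s hs, h.act b hb s hs, hs1]
          linear_combination e))
  have i1 := hid a ha b hb e
  have i2 := hid _ (pow_mem ha p) _ (pow_mem hb p) (by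
    have := congrArg (· ^ p) e
    simp only [add_pow_char] at this
    rw [psi_pow h.ne h.mul ha, psi_pow h.ne h.mul hb, this]
    simpa using natCast_pow_char_pow (F := F) (p := p) 2 1)
  have r1 := fun s1 s3 w1 w2 w3 => h.rel_of_two (s1 := s1) (s3 := s3) (w1 := w1) (w2 := w2) (w3 := w3)
    hs hs1
  have r2 := fun s1 s2 s3 => h.eq_inv_of_rel (s1 := s1) (s2 := s2) (s3 := s3) hs hs1
  generalize y⁻¹ * s * y = t at *
  have hA := conj_mem_of_norm' (pow_mem ht 3) ha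
  have hB := conj_mem_of_norm' (pow_mem ht 2) (mul_mem (inv_mem ha) hb)
  have hC := conj_mem_of_norm' ht (inv_mem hb)
  obtain ⟨u1, hu1, v1, hv1, s1, h1, h10, e1⟩ := h.splitH hs (inv_mem (pow_mem hs 2)) hA
  obtain ⟨u2, hu2, v2, hv2, s2, h2, h20, e2⟩ := h.splitH (pow_mem hs 3) (inv_mem hs) hB
  obtain ⟨u3, hu3, v3, hv3, s3, h3, h30, e3⟩ := h.splitH (pow_mem hs 2) (inv_mem (pow_mem hs 3)) hC
  have hsne : s ≠ 1 := fun e => by simp [e, h.f_one] at hs1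
  have h11 : s1 ≠ 1 := by
    rintro rfl
    rcases h.not_splitU hs hs0 (inv_mem (pow_mem hs 2)) (hk' 2) hA
      (e1 ▸ mul_mem (mul_mem hu1 (one_mem _)) hv1) with e | e
    exacts [hsne e.1, hsne (by simpa [sq] using e.2)]
  have h31 : s3 ≠ 1 := by
    rintro rfl
    rcases h.not_splitU (pow_mem hs 2) (hk0 2) (inv_mem (pow_mem hs 3)) (hk' 3) hC
      (e3 ▸ mul_mem (mul_mem hu3 (one_mem _)) hv3) with e | e
    · exact hsne (by simpa [pow_succ _ 2, e.1] using e.2)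
    · exact hsne (by simpa [pow_succ' _ 2] using e.2)
  have f1 := h.frob hs hs0 (inv_mem (pow_mem hs 2)) (hk' 2) h1 h10 hA hu1 hv1 e1
  have f2 := h.frob (pow_mem hs 3) (hk0 3) (inv_mem hs) (h.fix_inv hs hs0) h2 h20 hB hu2 hv2 e2
  have f3 := h.frob (pow_mem hs 2) (hk0 2) (inv_mem (pow_mem hs 3)) (hk' 3) h3 h30 hC hu3 hv3 e3
  have cp : ∀ g x : G, (g⁻¹ * x * g) ^ p = g⁻¹ * x ^ p * g := fun g x => by
    simpa using conj_pow (i := p) (a := g⁻¹) (b := x)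
  rw [cp] at f1 f2 f3
  rw [(h.commU (inv_mem ha) hb).mul_pow, inv_pow] at f2
  rw [inv_pow] at f3
  rw [e1, e2, e3] at i1
  rw [f1, f2, f3] at i2
  have hw1 := conj_mem_of_norm ht hv2
  have hw2 := conj_mem_of_norm (pow_mem ht 2) hu1
  have hw3 := conj_mem_of_norm' ht hu2
  obtain ⟨g1, g2, g3⟩ := r1 _ _ _ _ _ h1 h10 h11 h3 h30 h31 (mul_mem hw1 hu3) (mul_mem hv3 hw2)
    (mul_mem hv1 hw3) (by
      rw [(h.commU hw1 hu3).mul_pow, (h.commU hv3 hw2).mul_pow, (h.commU hv1 hw3).mul_pow, cp,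
        conj_pow, conj_pow]
      calc _ = (t⁻¹ * s2 * t⁻¹)⁻¹ * (t ^ 2 * (u1 * s1 * v1) * t⁻¹ * u2 * t)⁻¹ *
            (t ^ 2 * (u1 * s1 * v1) * t⁻¹ * (u2 * s2 * v2) * t⁻¹ * (u3 * s3 * v3)) *
            (t ^ 2 * (u1 * s1 * v1) * t⁻¹ * u2 * t) := by group
        _ = (t⁻¹ * s2 * t⁻¹)⁻¹ * (t ^ 2 * (u1 ^ p * s1 * v1 ^ p) * t⁻¹ * u2 ^ p * t)⁻¹ *
            (t ^ 2 * (u1 ^ p * s1 * v1 ^ p) * t⁻¹ * (u2 ^ p * s2 * v2 ^ p) * t⁻¹ *
            (u3 ^ p * s3 * v3 ^ p)) * (t ^ 2 * (u1 ^ p * s1 * v1 ^ p) * t⁻¹ * u2 ^ p * t) := by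
          rw [i1, i2]; group
        _ = _ := by group)
  have := r2 _ _ _ h1 h10 h11 h2 h20 h3 h30 (
    calc _ = (t ^ 2 * u1⁻¹ * (t ^ 2)⁻¹) * (t ^ 2 * (u1 * s1 * v1) * t⁻¹ * (u2 * s2 * v2) * t⁻¹ *
          (u3 * s3 * v3)) * (t ^ 2 * u1 * (t ^ 2)⁻¹) := by
          rw [eq_inv_of_mul_eq_one_right g1, eq_inv_of_mul_eq_one_left g2,
            eq_inv_of_mul_eq_one_left g3]
          group
      _ = 1 := by rw [i1]; group)
  obtain ⟨e4, e5⟩ := (h.eq_iff hs (inv_mem (pow_mem hs 2)) h1 hA hu1 hv1).1 e1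
  rw [eq_inv_of_mul_eq_one_right this, h.f_inv hs, h.f_inv (pow_mem hs 2), hk, hs1, e4,
    h.mul _ hu1 _ hv1] at e5
  refine ⟨_, inv_mem hv1, ?_⟩
  rw [show (t ^ 3)⁻¹ * a⁻¹ * t ^ 3 = (u1 * v1)⁻¹ by rw [← e4]; group, h.psi_inv (mul_mem hu1 hv1),
    h.psi_inv hv1, h.mul _ hu1 _ hv1]
  have := h.ne _ hu1
  have := h.ne _ hv1
  field_simp
  push_cast at e5
  linear_combination e5

/-- Lemma C.3 -/
theorem inv_closed {a b : G} (ha : a ∈ U) (hb : b ∈ U) (e : ψ a + ψ b = 2) :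
    ∃ c ∈ U, ψ a⁻¹ + ψ c = 2 := by
  obtain ⟨s, hs, hs1⟩ := h.surj 1
  have ht := pow_mem (h.nU s hs (by simp [hs1])) 3
  have hp : ((y⁻¹ * s * y) ^ 3) ^ p = 1 := by
    rw [← pow_mul, mul_comm, pow_mul, show (y⁻¹ * s * y) ^ p = 1 by
      simpa [h.powP hs] using conj_pow (i := p) (a := y⁻¹) (b := s), one_pow]
  have h4 := fun a b => h.step4 (a := a) (b := b) hs hs1
  generalize (y⁻¹ * s * y) ^ 3 = t at *
  have : ∀ m : ℕ, ∃ c ∈ U, ψ ((t ^ (2 * m + 1))⁻¹ * a⁻¹ * t ^ (2 * m + 1)) + ψ c = 2 := fun m => by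
    induction m with
    | zero => simpa using h4 a b ha hb e
    | succ m ih =>
      obtain ⟨c, hc, e1⟩ := ih
      have hA := conj_mem_of_norm' (pow_mem ht (2 * m + 1)) (inv_mem ha)
      obtain ⟨d, hd, e2⟩ := h4 _ _ hA hc e1
      obtain ⟨g, hg, e3⟩ := h4 _ _ (conj_mem_of_norm' ht (inv_mem hA)) hd e2
      exact ⟨g, hg, by convert e3 using 3; group⟩
  obtain ⟨m, hm⟩ := h.odd
  simpa [← hm, hp] using this m

end Hyp

end BC

open BC in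
theorem prime_dim_normed_finField {G : Type u} [Group G] [Finite G] (p q : ℕ) [Fact p.Prime]
    [Fact q.Prime] (hA : Nat.Coprime ((p ^ q - 1) / (p - 1)) (p - 1))
    (F : Type v) [Field F] [Fintype F] (hF : Fintype.card F = p ^ q) (P U Q : Subgroup G) (f ψ : G → F)
    (hf : Set.BijOn f (P : Set G) Set.univ) (hfadd : ∀ x ∈ P, ∀ z ∈ P, f (x * z) = f x + f z)
    (hUP : U ≤ 𝐍(P)) (hψ : ∀ u ∈ U, ψ u ≠ 0 ∧ ∀ x ∈ P, f (u * x * u⁻¹) = ψ u * f x)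
    (hψmul : ∀ u ∈ U, ∀ v ∈ U, ψ (u * v) = ψ u * ψ v) (hψinj : Set.InjOn ψ (U : Set G))
    (hUcard : ♯U * (p - 1) = p ^ q - 1)
    (hQ : Ab Q) (hQp : (♯Q).Coprime p) (hP0Q : ∀ x ∈ P, f x ^ p = f x → x ∈ 𝐍(Q))
    (y : G) (hy : y ∈ Q) (hP0U : ∀ x ∈ P, f x ^ p = f x → y * x * y⁻¹ ∈ 𝐍(U)) :
    p ≤ q := by
  classical
  by_contra! hlt
  have hp : p.Prime := Fact.out
  have hq : q.Prime := Fact.out
  have hp1 := hp.one_lt
  have : CharP F p := charP_of_card_eq_prime_pow hF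
  rw [← hUcard, Nat.mul_div_cancel _ (by omega)] at hA
  have hn := eq_geom_sum hp1 hUcard
  have hne := fun u hu => (hψ u hu).1
  have hUn : ∀ u ∈ U, u ^ ♯U = 1 := fun u hu => orderOf_dvd_iff_pow_eq_one.1 (orderOf_dvd_card hu)
  let S : Finset F := (Set.toFinite (U : Set G)).toFinset.image ψ
  have hSc : S.card = ♯U := by
    rw [Finset.card_image_of_injOn (by simpa using hψinj), ← Set.ncard_eq_toFinset_card]; rfl
  have hS0 : ∀ x, x ∈ S ↔ ∃ u ∈ U, ψ u = x := fun x => by simp [S]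
  have hS : ∀ x, x ∈ S ↔ x ^ ♯U = 1 := fun x => by
    rw [← Polynomial.mem_nthRootsFinset (card_pos' U),
      ← Finset.eq_of_subset_of_card_le (s := S) (t := Polynomial.nthRootsFinset ♯U 1)]
    · intro x hx
      obtain ⟨u, hu, rfl⟩ := (hS0 x).1 hx
      rw [Polynomial.mem_nthRootsFinset (card_pos' U), ← psi_pow hne hψmul hu, hUn u hu,
        psi_one hne hψmul]
    · rw [hSc, Polynomial.nthRootsFinset_def]
      exact (Multiset.toFinset_card_le _).trans (Polynomial.card_nthRoots _ _)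
  have hco : ∀ u ∈ U, ∀ k, (♯U).Coprime k → u ^ k = 1 → u = 1 := fun u hu k hk e =>
    orderOf_eq_one_iff.1 (Nat.eq_one_of_dvd_coprimes hk (orderOf_dvd_card hu)
      (orderOf_dvd_of_pow_eq_one e))
  obtain ⟨a, ha1, ha, hb⟩ := exists_ne_one hq hF hlt hUcard hA S hS hSc
  have H : Hyp p P U Q f ψ y⁻¹ := by
    refine ⟨hp.odd_of_ne_two (by have := hq.two_le; omega), hf.injOn,
      fun c => hf.surjOn (Set.mem_univ c), hfadd, hUP, hne, fun u hu => (hψ u hu).2, hψmul, hψinj,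
      fun x => ?_, fun u hu e => hco u hu _ hA ?_, fun u hu => hco u hu _ ?_, ?_, hQ, hQp, hP0Q,
      inv_mem hy, by simpa using hP0U⟩
    · rcases eq_or_ne x 0 with rfl | hx
      · exact ⟨1, one_mem _, 0, by simp [hp.ne_zero], by simp⟩
      have h1 : x ^ (♯U * (p - 1)) = 1 := by
        rw [hUcard, ← hF]; exact FiniteField.pow_card_sub_one_eq_one x hx
      obtain ⟨i, j, hij⟩ := Nat.isCoprime_iff_coprime.2 hA
      obtain ⟨u, hu, e⟩ := (hS0 _).1 ((hS ((x ^ (p - 1)) ^ j)).2 (by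
        rw [← zpow_natCast, ← zpow_mul, mul_comm, zpow_mul, zpow_natCast, ← pow_mul, mul_comm, h1,
          one_zpow]))
      refine ⟨u, hu, (x ^ ♯U) ^ i, ?_, ?_⟩
      · have : ((x ^ ♯U) ^ i) ^ (p - 1) = 1 := by
          rw [← zpow_natCast, ← zpow_mul, mul_comm, zpow_mul, zpow_natCast, ← pow_mul, h1, one_zpow]
        rw [← Nat.sub_add_cancel hp1.le, pow_succ, this, one_mul]
      · rw [e, ← zpow_natCast, ← zpow_natCast, ← zpow_mul, ← zpow_mul, ← zpow_add₀ hx,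
          show ((p - 1 : ℕ) : ℤ) * j + (♯U : ℤ) * i = 1 by linear_combination hij, zpow_one]
    · rw [← mul_left_inj u, ← pow_succ, Nat.sub_add_cancel hp1.le, e, one_mul]
    · refine Nat.Coprime.coprime_dvd_left (Dvd.intro _ hUcard) (Nat.Coprime.coprime_dvd_right
        (dvd_pow_self p hq.ne_zero) ?_)
      have := Nat.one_le_pow q p hp.pos
      exact (Nat.coprime_self_sub_left this).2 (Nat.coprime_one_left _)
    · obtain ⟨u, hu, rfl⟩ := (hS0 a).1 ((hS a).2 ha)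
      exact ⟨u, hu, fun e => ha1 (e ▸ psi_one hne hψmul)⟩
  refine absurd (le_of_inv_closed hq.pos hn (fun a ha hb => ?_) ha1 ha hb) (by omega)
  obtain ⟨u, hu, rfl⟩ := (hS0 a).1 ((hS a).2 ha)
  obtain ⟨v, hv, e⟩ := (hS0 _).1 ((hS _).2 hb)
  obtain ⟨c, hc, e⟩ := H.inv_closed hu hv (by rw [e]; ring)
  rw [← H.psi_inv hu, ← e, add_sub_cancel_left]
  exact (hS _).1 ((hS0 _).2 ⟨c, hc, rfl⟩)

end Cfsg.Agent.OO.Pf
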