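import Cfsg.Agent.Lib.OO.Pf.PF10_B

/-! # Peterfalvi section 10, part C: (10.10) and (10.11) -/

set_option autoImplicit false
set_option linter.unusedSectionVars false
set_option linter.unusedVariables false

namespace Cfsg.Agent.OO.Pf

open Subgroup Cfsg.Agent.Coprime
open scoped Pointwise ComplexConjugate

universe u

variable {G : Type u} [Group G] [Finite G] [MinOdd G] {M U W W1 W2 : Subgroup G}
  {d n : ℕ} {δ : ℂ} {ζ i j k ξ φ ψ : G → ℂ} {S1 : Finset (G → ℂ)} {τ1 : (G → ℂ) →+ (G → ℂ)}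

local notation "μ₂" => prTIirr M W W1 W2
local notation "μ" => prTIred M W W1 W2
local notation "η" => cycTIeta ⊤ W W1 W2
local notation "τ" => FTDade0 M
local notation "α" => T345bridge M W W1 W2 δ n ζ

namespace P10

theorem proj_alpha (h : T345Hyp M U W W1 W2) (hc : T345Const M W W1 W2 d δ n)
    (hi : IsIrr W1 i) (hj : IsIrr W2 j) (hj0 : j ≠ cf1 W2)
    (hτ : CoherentWith M ⊤ S1 (sharp M) τ τ1) (hS : ConjSubset S1 (calSP M)) (h1 : ζ ∈ S1)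
    (h2 : ∀ ξ ∈ S1, RefIrr M W1 ξ) : ∃ a : ℤ, ⟪τ (α i j), τ1 ζ⟫[⊤] = a - n ∧
      a ^ 2 * S1.card ≤ 2 * a * n + 2 ∧ (a ^ 2 * S1.card = 2 * a * n →
        τ (α i j) = δ • (η i j - η i (cf1 W2)) + (a • ∑ ξ ∈ S1, τ1 ξ - n • τ1 ζ)) := by
  classical
  have hζ := h2 ζ h1
  obtain ⟨a, ha⟩ := (Cint_cfdot_vchar (vchar_Dade_FTtype345_bridge h hc hζ hi hj hj0)
    (hτ.vchar_mem h1)).add (isCint_natCast n)
  have h3 : ∀ ξ ∈ S1, ⟪∑ ξ ∈ S1, τ1 ξ, τ1 ξ⟫[⊤] = 1 := fun ξ hξ => by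
    rw [cfdot_suml, Finset.sum_congr rfl fun φ hφ =>
      (hτ.cfdot_mem hφ hξ).trans (cfdot_irr (h2 φ hφ).irr (h2 ξ hξ).irr)]
    simp [hξ]
  set Y := a • ∑ ξ ∈ S1, τ1 ξ - n • τ1 ζ with hY
  have h4 : ∀ ξ ∈ S1, ⟪τ (α i j) - Y, τ1 ξ⟫[⊤] = 0 := fun ξ hξ => by
    rw [cfdotBl, hY, cfdotBl, cfdotMzl, cfdotMnl, h3 ξ hξ, hτ.cfdot_mem h1 hξ]
    by_cases e : ξ = ζ
    · rw [e, cfdot_irr_self hζ.irr]; linear_combination ha
    · rw [dot_alpha_other h hc hζ hi hj hj0 hτ (calSP_eq h ▸ hS.1) h1 hξ (h2 ξ hξ) e,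
        cfdot_irr_ne hζ.irr (h2 ξ hξ).irr (Ne.symm e)]
      linear_combination ha
  have h5 : ⟪τ (α i j) - Y, Y⟫[⊤] = 0 := by
    conv_lhs => enter [3]; rw [hY]
    rw [cfdotBr, cfdotMzr, cfdotMnr, cfdot_sumr, Finset.sum_eq_zero h4, h4 ζ h1]; simp
  have h6 : cfnorm ⊤ Y = a ^ 2 * S1.card + n ^ 2 - 2 * a * n := by
    rw [hY, cfnormB, cfnormMz, cfnormMn, cfdotMzl, cfdotMnr, h3 ζ h1, (hτ.dirr h1 hζ.irr).cfnorm,
      cfnorm_eq_of_cfdot (r := S1.card) (by rw [cfdot_sumr, Finset.sum_congr rfl h3]; simp)]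
    simp [mul_assoc]
  have h7 := cfnormDd h5
  rw [sub_add_cancel, norm_FTtype345_bridge h hc hζ hi hj hj0, h6] at h7
  refine ⟨a, eq_sub_of_add_eq ha, ?_, fun e => ?_⟩
  · have : (a : ℝ) ^ 2 * S1.card ≤ 2 * a * n + 2 := by linarith [cfnorm_ge0 (H := ⊤) (τ (α i j) - Y)]
    exact_mod_cast this
  · rw [← bridge_eq h hc hζ hi hj hj0 (sub_add_cancel _ Y).symm (sub_mem (zsmul_mem
      (Submodule.sum_mem _ fun ξ hξ => hτ.vchar_mem hξ) a) (nsmul_mem (hτ.vchar_mem h1) n))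
      (fun k hk l hl => ?_) (cfdot_symm0 h5) ?_, sub_add_cancel]
    · have : (a : ℝ) ^ 2 * S1.card = 2 * a * n := by exact_mod_cast e
      rw [h6, this]; ring
    · rw [hY, cfdotBl, cfdotMzl, cfdotMnl, cfdot_suml, ortho_eta h hτ hS h1 hζ.irr k hk l hl,
        Finset.sum_eq_zero fun ξ hξ => ortho_eta h hτ hS hξ (h2 ξ hξ).irr k hk l hl]
      simp

theorem subcoh (h : T345Hyp M U W W1 W2) : ∃ R, Subcoherent M ⊤ (calSD M) τ R :=
  (FTtypeP_coh_base h.max h.typeP).imp fun R hR => calSP_eq h ▸ hR.subcoh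

theorem coherent_lin (h : T345Hyp M U W W1 W2) {N : Subgroup G} (hN : der2 M ≤ N) :
    Coherent M ⊤ (seqIndD (der M) M (der M) N) (sharp M) τ := by
  obtain ⟨R, hR⟩ := subcoh h
  exact uniform_degree_coherence (subset_subcoherent hR (seqInd_conjC_subset1 _ _ _ le_rfl))
    fun φ hφ ψ hψ => (refIrr_of_mem h.typeP hN hφ).deg.trans (refIrr_of_mem h.typeP hN hψ).deg.symm

theorem frob_quo_der2 (h : OfTypeP M U W W1 W2) :
    IsFrob (M ⁒ der2 M) (der M ⁒ der2 M) (W1 ⁒ der2 M) := by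
  have hn := (der_normal M).der.2
  have hc := (FT_primeTI_hyp h).coprime.coprime_dvd_left (card_dvd (der_le (der M)))
  have hW := h.defM.right_le.trans hn
  refine (Frobenius_semiregularP (h.defM.quo_of_le_left hn (der_le _))
    (quo_ne_bot ((der_le M).trans hn) (der2_lt h).not_ge) (quo_ne_bot hW fun e => h.W1_ne_bot
      ((inf_eq_right.2 e).symm.trans (inf_eq_bot_of_coprime_card hc)))).2 fun z hz hz1 => ?_
  obtain ⟨x, hx, rfl⟩ := (mem_quo_of_le hW).1 hz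
  rw [← quo_inf_cent1 (der_le _) (hW hx) (hc.coprime_dvd_right (orderOf_dvd_card hx)),
    h.prime_act x hx (by rintro rfl; exact hz1 (coset_eq_one (one_mem _)))]
  exact quo_eq_bot h.W2_le_der2

/-- the inner product `((μ₀ - ζ)^τ, α^τ)` -/
theorem dot_alpha_psi (h : T345Hyp M U W W1 W2) (hc : T345Const M W W1 W2 d δ n)
    (hζ : RefIrr M W1 ζ) (hi : IsIrr W1 i) (hj : IsIrr W2 j) (hj0 : j ≠ cf1 W2) :
    ⟪τ (α i j), τ (μ (cf1 W2) - ζ)⟫[⊤] = n - δ := by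
  rw [dotτ h (supp_FTtype345_bridge h hc hζ hi hj hj0) (mu0_on h hζ), cfdotBr,
    dot_alpha_mu h hζ hi hj (isIrr_cf1 W2), dot_alpha_irr h hi hj hζ.mem hζ.irr, cfdot_irr_self hζ.irr,
    if_neg hj0, if_pos rfl]
  ring

theorem mem_cases (N : Subgroup G) (hφ : φ ∈ calSD M) :
    φ ∈ seqIndD (der M) M (der M) N ∨ φ ∈ seqIndD (der M) M N ⊥ := by
  obtain ⟨θ, h1, h2, h3, rfl⟩ := mem_seqIndD.1 hφ
  by_cases e : N ≤ cfker (der M) θ
  exacts [Or.inl (mem_seqIndD.2 ⟨θ, h1, e, h3, rfl⟩), Or.inr (mem_seqIndD.2 ⟨θ, h1, h2, e, rfl⟩)]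

theorem mu_mem_der2 (h : T345Hyp M U W W1 W2) (hj : IsIrr W2 j) (hj0 : j ≠ cf1 W2) {N : Subgroup G}
    (hN : der2 M ≤ N) : μ j ∈ seqIndD (der M) M N ⊥ :=
  (mem_cases N (mu_mem h hj hj0)).resolve_left fun e =>
    prTIred_not_irr (pti h) hj (refIrr_of_mem h.typeP hN e).irr

/-- (10.10.2) -/
theorem type5_degree (h : T345Hyp M U W W1 W2) (hc : T345Const M W W1 W2 d δ n)
    (h1 : ♯(der2 M) = ♯W2) (h2 : (der2 M).relIndex (der M) = ♯W2 ^ 2) :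
    d = ♯W2 ∧ ∀ φ ∈ seqIndD (der M) M (der2 M) ⊥, ∃ j, IsIrr W2 j ∧ j ≠ cf1 W2 ∧ φ = μ j := by
  classical
  have hp := FTtype345_core_prime h
  have h3 := sum_seqIndD_square_re (der_normal M) (der_le _) (der_normal M).der (NormalIn.bot M) bot_le
  rw [relIndex_bot_left, h1, ← relIndex_mul_relIndex _ _ _ (der_le _) (der_le M), h2,
    (pti h).relIndex] at h3
  set T := ((Irr W2).erase (cf1 W2)).image μ
  have hT : T ⊆ seqIndD (der M) M (der2 M) ⊥ := fun φ hφ => by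
    obtain ⟨j, hj, rfl⟩ := Finset.mem_image.1 hφ
    rw [Finset.mem_erase, mem_Irr] at hj
    exact mu_mem_der2 h hj.2 hj.1 le_rfl
  have h4 : ∑ φ ∈ T, (φ 1).re ^ 2 / cfnorm M φ = (d : ℝ) ^ 2 * ♯W1 * (♯W2 - 1) := by
    rw [Finset.sum_image fun j hj k hk => (prTIred_inj (pti h) (mem_Irr.1 (Finset.mem_of_mem_erase hj))
      (mem_Irr.1 (Finset.mem_of_mem_erase hk))).1,
      Finset.sum_congr (g := fun _ => ((♯W1 : ℂ) * d).re ^ 2 / ♯W1) rfl fun j hj => by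
        rw [Finset.mem_erase, mem_Irr] at hj
        rw [prTIred_1 (pti h) (isIrr_cf1 W1) hj.2, hc.deg _ (cf1_mem_Irr W1) j (mem_Irr.2 hj.2) hj.1,
          cfnorm_prTIred (pti h) hj.2],
      Finset.sum_const, Finset.card_erase_of_mem (cf1_mem_Irr W2), (cti h).card_Irr.2, nsmul_eq_mul,
      Nat.cast_sub hp.one_le, ← Nat.cast_mul, Complex.natCast_re]
    have := (cardR_pos W1).ne'
    push_cast; field_simp
  have h5 : ♯W2 ≤ d := by
    obtain ⟨j, hj, hj0⟩ := exists_irr_ne_cf1 h.typeP.W2_ne_bot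
    have h5 := dvd_irr1_cardG (prTIres_irr (pti h) hj) ((prTIres_1 (pti h) (isIrr_cf1 W1) hj).trans
      (hc.deg _ (cf1_mem_Irr W1) j (mem_Irr.2 hj) hj0))
    rw [← card_mul_relIndex (der_le (der M)), h1, h2, ← pow_succ'] at h5
    obtain ⟨k, -, rfl⟩ := (Nat.dvd_prime_pow hp).1 h5
    exact Nat.le_self_pow (by rintro rfl; exact hc.one_lt.ne (by simp)) _
  have hpos : ∀ φ ∈ seqIndD (der M) M (der2 M) ⊥ \ T, 0 < (φ 1).re ^ 2 / cfnorm M φ := fun φ hφ =>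
    have := seqInd_subT _ _ _ _ (Finset.mem_sdiff.1 hφ).1
    div_pos (pow_pos (seqInd1_gt0 (der_le M) this) 2) (cfnorm_seqInd_gt0 (der_le M) this)
  have h6 := Finset.sum_nonneg fun φ hφ => (hpos φ hφ).le
  rw [← Finset.sum_sdiff hT, h4] at h3
  have h7 : (0 : ℝ) < ♯W1 * (♯W2 - 1) :=
    mul_pos (cardR_pos W1) (sub_pos.2 (by exact_mod_cast hp.one_lt))
  have h8 : (♯W2 : ℝ) ^ 2 ≤ d ^ 2 := by exact_mod_cast Nat.pow_le_pow_left h5 2
  push_cast at h3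
  have h9 : (d : ℝ) ^ 2 ≤ ♯W2 ^ 2 := le_of_mul_le_mul_right (by nlinarith) h7
  refine ⟨le_antisymm ((Nat.pow_le_pow_iff_left two_ne_zero).1 (by exact_mod_cast h9)) h5,
    fun φ hφ => ?_⟩
  by_cases e : φ ∈ T
  · obtain ⟨j, hj, rfl⟩ := Finset.mem_image.1 e
    rw [Finset.mem_erase, mem_Irr] at hj
    exact ⟨j, hj.2, hj.1, rfl⟩
  · have := Finset.sum_pos hpos ⟨φ, Finset.mem_sdiff.2 ⟨hφ, e⟩⟩
    rw [le_antisymm h9 h8] at h3
    linarith

/-- (10.10.3) to (10.10.5) -/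
theorem type5_coherent (h : T345Hyp M U W W1 W2) (h1 : ♯(der2 M) = ♯W2)
    (h2 : (der2 M).relIndex (der M) = ♯W2 ^ 2) (h3 : ♯W2 + 1 = 2 * ♯W1) :
    Coherent M ⊤ (calSD M) (sharp M) τ := by
  obtain ⟨d, δ, n, hc⟩ := FTtype345_constants h
  obtain ⟨rfl, h4⟩ := type5_degree h hc h1 h2
  have hw := (cti h).two_lt.1
  obtain rfl : n = 2 := by
    have h5 := hc.ratio
    have h6 := (n_even h hc).1
    rcases hc.sign_eq with e | e <;> rw [e] at h5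
    · have : (♯W2 : ℤ) - 1 = ♯W1 * n := by exact_mod_cast h5
      nlinarith
    · have : (♯W2 : ℤ) - -1 = ♯W1 * n := by exact_mod_cast h5
      nlinarith
  obtain ⟨τ1, hτ⟩ := coherent_lin h le_rfl
  obtain ⟨ζ, hζ1⟩ := seqIndD_nonempty M (der_normal (der M)) (der2_lt h.typeP).not_ge
  have hζ := refIrr_of_mem h.typeP le_rfl hζ1
  have h5 := card_seqIndD_lin (pti h) h.typeP.W2_le_der2 le_rfl (der_le _) (der_normal M).der
  have h6 : 8 ≤ (seqIndD (der M) M (der M) (der2 M)).card := by rw [h2] at h5; nlinarith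
  have h7 : ∀ i ∈ Irr W1, ∀ j, IsIrr W2 j → j ≠ cf1 W2 →
      τ (T345bridge M W W1 W2 δ 2 ζ i j) = δ • (η i j - η i (cf1 W2)) - 2 • τ1 ζ := fun i hi j hj hj0 => by
    obtain ⟨a, -, h7, h8⟩ := proj_alpha h hc (mem_Irr.1 hi) hj hj0 hτ (csubD h le_rfl) hζ1
      fun ξ => refIrr_of_mem h.typeP le_rfl
    obtain rfl : a = 0 := by
      have : (8 : ℤ) ≤ (seqIndD (der M) M (der M) (der2 M)).card := by exact_mod_cast h6
      by_contra e
      rcases lt_or_gt_of_ne e with e | e <;> push_cast at h7 <;> nlinarith [mul_self_nonneg a]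
    simpa [sub_eq_add_neg] using h8 (by simp)
  have hη := ortho_eta h hτ (csubD h le_rfl) hζ1 hζ.irr
  obtain ⟨χ, h8, -, -, h9⟩ := FTtype345_Dade_bridge0 h hζ (by omega)
  obtain ⟨R, hR⟩ := subcoh h
  have h0 := isIrr_cf1 W2
  refine pivot_coherence hR hζ.mem (hτ.vchar_mem hζ1) (fun φ hφ hne => ?_) (hτ.cfdot_mem hζ1 hζ1)
  rcases mem_cases (der2 M) hφ with hφ1 | hφ1
  · have hφ2 := refIrr_of_mem h.typeP le_rfl hφ1
    refine ⟨1, isCint_one, by rw [one_mul, hφ2.deg, hζ.deg], ?_⟩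
    rw [one_smul, coh_sub hτ (subD le_rfl) hφ1 hζ1 (hφ2.deg.trans hζ.deg.symm), cfdotBl,
      hτ.cfdot_mem hφ1 hζ1, hτ.cfdot_mem hζ1 hζ1, cfdot_irr_ne hφ2.irr hζ.irr hne]
    ring
  obtain ⟨j, hj, hj0, rfl⟩ := h4 φ hφ1
  refine ⟨_, isCint_natCast _, mu_one h hc hζ hj hj0, ?_⟩
  have h10 := dot_alpha_psi h hc hζ (isIrr_cf1 W1) hj hj0
  rw [h7 _ (cf1_mem_Irr W1) j hj hj0, h8, cfdotBl, cfdotZl, cfdotMnl, cfdotBl, cfdotBr, cfdotBr, cfdotBr,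
    dot_col' (cti h) h0 (isIrr_cf1 W1) hj, dot_col' (cti h) h0 (isIrr_cf1 W1) h0, if_neg hj0, if_pos rfl,
    dot_col_eq_zero h0 hη, cfdot_symm0 (h9 _ (cf1_mem_Irr W1) _ (mem_Irr.2 hj)),
    cfdot_symm0 (h9 _ (cf1_mem_Irr W1) _ (cf1_mem_Irr W2))] at h10
  have h11 : ⟪τ1 ζ, χ⟫[⊤] = 1 := by linear_combination h10 / 2
  rw [tau_mu_sub h hc fun i hi => h7 i hi j hj hj0, h8, cfdotDl, cfdotBl, cfdotZl, cfdotZl, cfdotZl,
    cfdotBl, cfdotBl, cfdotBl, cfdot_symm0 (dot_col_eq_zero hj hη), cfdotC χ, h11,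
    hτ.cfdot_mem hζ1 hζ1, cfdot_irr_self hζ.irr]
  simp

end P10

open P10

theorem FTtype5_exclusion (hM : IsCoatom M) : FTtype M ≠ 5 := fun h5 => by
  obtain ⟨U, W, W1, W2, hP⟩ := FTtypeP_witness hM (by omega)
  have h : T345Hyp M U W W1 W2 := ⟨hM, hP, by omega⟩
  obtain ⟨-, rfl, hV⟩ := compl_of_typeV hM hP h5
  have hF : Fcore M = der M := hP.defM'.left_eq_iff.2 rfl
  have hnil : Nil (der M) := hF ▸ Fcore_nil M
  have hp := FTtype345_core_prime h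
  refine FTtype345_noncoherence hM (gt2 h) ?_
  obtain ⟨R, hR⟩ := subcoh h
  refine (non_coherent_chief ⟨der_normal M, sol_of_nil hnil, hR⟩ ⟨mFT_odd M, NormalIn.bot M, bot_le,
    nil_quo hnil _, by rw [sup_bot_eq]; exact (frob_quo_der2 hP).isFrobKer⟩).elim id ?_
  rintro ⟨⟨-, h1⟩, p, pp, h2, -, h3⟩
  rw [sup_bot_eq, (pti h).relIndex] at *
  have := Fact.mk pp
  replace h2 := h2.of_equiv (quoBotEquiv _).symm
  have hpi := piOf_isPGroup h2 (der2_lt hP).ne_bot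
  have hW2 := hP.W2_le_der2.trans (der_le _)
  obtain rfl : ♯W2 = p := hpi.le ⟨hp, card_dvd hW2⟩
  rw [hF, hpi] at hV
  rcases hV with hV | ⟨_, rfl, hV, -⟩ | ⟨_, rfl, h4, h6, -⟩
  · exact (Sibley_coherence (mFT_odd M) hnil hV (Or.inr ⟨W2, hp, hP.W2_le_der2, _, W, pdd h⟩)).congr
      fun φ hφ => by
        have := zcharD1_seqInd_on (der_normal M) (seqInd_subT _ _ _ _) hφ
        rw [tau_eq_Dade h this, Dade_Ind hV (sharp_mono le_top) this]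
  · exact (h3 hV).elim
  rw [Op_eq_self h2] at h4
  have h7 := card_mul_relIndex (der_le (der M))
  obtain ⟨c, hc⟩ := card_dvd hP.W2_le_der2
  have h8 := card_seqIndD_lin (pti h) hP.W2_le_der2 le_rfl (der_le _) (der_normal M).der
  have h9 := two_mul_le_relIndex hP le_rfl (der2_lt hP) (der_normal M).der
  rw [h4, hc, mul_assoc, pow_succ', Nat.mul_right_inj hp.ne_zero] at h7
  obtain ⟨k, hk, e⟩ := (Nat.dvd_prime_pow hp).1 (Dvd.intro_left _ h7)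
  obtain rfl : k = 2 := by
    interval_cases k
    · exact absurd (h9.trans e.le) (by have := card_pos' W1; rw [pow_zero]; omega)
    · exact (h3 ⟨_, by rw [← pow_one ♯W2, ← e, ← h8, mul_comm]; rfl⟩).elim
    · rfl
  rw [e] at h1 h7
  refine type5_coherent h (by rw [hc, (Nat.mul_eq_right (pow_ne_zero 2 hp.ne_zero)).1 h7, mul_one]) e ?_
  obtain ⟨t, ht⟩ := h6
  obtain ⟨a, ha⟩ := mFT_odd W1
  obtain ⟨b, hb⟩ := mFT_odd W2
  have h10 : ♯W2 ≤ 2 * ♯W1 := by nlinarith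
  have h11 : t < 3 := by nlinarith [(cti h).two_lt.1]
  interval_cases t <;> omega

theorem FTtypeP_pair_primes {S T : Subgroup G} (h : TypePPair S T W W1 W2) :
    (♯W1).Prime ∧ (♯W2).Prime := by
  obtain ⟨U, hU⟩ := typeP_pairW h
  obtain ⟨V, hV⟩ := typeP_pairW (typeP_pair_sym h)
  exact ⟨(compl_of_typeII_IV h.maxS hU (FTtype5_exclusion h.maxS)).prime,
    (compl_of_typeII_IV h.maxT hV (FTtype5_exclusion h.maxT)).prime⟩

theorem FTtypeP_primes (hM : IsCoatom M) (h : OfTypeP M U W W1 W2) : (♯W1).Prime ∧ (♯W2).Prime :=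
  let ⟨_, hT, _⟩ := FTtypeP_pair_witness hM h
  FTtypeP_pair_primes hT

theorem FTtypeII_prime_facts (hM : IsCoatom M) (h : OfTypeP M U W W1 W2) (ht : FTtype M = 2) :
    IsElementaryAbelian ♯W2 (Fcore M) ∧ ♯(Fcore M) = ♯W2 ^ ♯W1 ∧
    Coherent M ⊤ (calSH M ⊥) (sharp M) (FTDade0 M) := by
  obtain ⟨H0, hH⟩ := Ptype_Fcore_kernel_exists hM h (by omega)
  have h1 := ((typeII_IV_core hM h (by omega)).1 ht).2
  have h2 := def_Ptype_factor_prime hH (FTtypeP_primes hM h).2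
  have h3 := card_mul_relIndex hH.chief.le
  rw [(Ptype_Fcore_factor_facts hH).2.2, h2, ← h1, Nat.mul_eq_right (card_pos' _).ne',
    card_eq_one_iff] at h3
  subst h3
  have h4 := Ptype_core_coherence hH
  rw [Pc, ab_iff_der.1 (ab_of_le (compl_of_typeII hM h ht).abU inf_le_left), sup_bot_eq] at h4
  exact ⟨abelem_congr (quoBotEquiv _).symm (h2 ▸ hH.abelem), h1, h4⟩

end Cfsg.Agent.OO.Pf
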