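import Cfsg.Agent.Lib.OO.Pf.PF11_A

/-! # Peterfalvi section 11, part B: (11.8) and (11.9) -/

set_option autoImplicit false
set_option linter.unusedSectionVars false
set_option linter.unusedVariables false

namespace Cfsg.Agent.OO.Pf

open Subgroup Cfsg.Agent.Coprime P10
open scoped Pointwise ComplexConjugate

universe u

variable {G : Type u} [Group G] [Finite G] [MinOdd G] {M U W W1 W2 H0 N : Subgroup G}
  {d n : ℕ} {δ : ℂ} {ζ i j k ξ φ ψ : G → ℂ} {S1 : Finset (G → ℂ)} {τ1 τ2 : (G → ℂ) →+ (G → ℂ)}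

local notation "μ₂" => prTIirr M W W1 W2
local notation "μ" => prTIred M W W1 W2
local notation "η" => cycTIeta ⊤ W W1 W2
local notation "τ" => FTDade0 M
local notation "𝓗" => Fcore M
local notation "𝓒" => U ⊓ 𝐂(Fcore M)
local notation "𝒮₁" => seqIndD (der M) M (der M) (Fcore M ⊔ U ⊓ 𝐂(Fcore M))
local notation "𝒮₂" => seqIndD (der M) M (Fcore M) (H0 ⊔ U ⊓ 𝐂(Fcore M))

namespace P11

theorem coh_comb (hτ : CoherentWith M ⊤ S1 (sharp M) τ τ1) (hS : S1 ⊆ calSD M) (hφ : φ ∈ S1)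
    (hψ : ψ ∈ S1) {a b : ℕ} (h1 : a * φ 1 = b * ψ 1) :
    τ (a • φ - b • ψ) = a • τ1 φ - b • τ1 ψ ∧ a • φ - b • ψ ∈ CFon M (sharp (der M)) := by
  have h2 := (zcharD1E fun φ hφ => seqInd_mem_CF (subT (hS hφ))).2
    ⟨sub_mem (nsmul_mem (mem_zchar hφ) a) (nsmul_mem (mem_zchar hψ) b), by simp [h1]⟩
  exact ⟨by rw [← hτ.eq h2, map_sub, map_nsmul, map_nsmul],
    zcharD1_seqInd_on (der_normal M) (fun φ hφ => subT (hS hφ)) h2⟩

/-- (11.8.4) -/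
theorem psi_eq (h : T345Hyp M U W W1 W2) (hN : der2 M ≤ N) (hζ : ζ ∈ seqIndD (der M) M (der M) N)
    (h0 : ∀ k ∈ Irr W1, ∀ l ∈ Irr W2,
      ⟪τ (μ (cf1 W2) - ζ) - ∑ i ∈ Irr W1, η i (cf1 W2), η k l⟫[⊤] = 0) :
    ∃ τ1, CoherentWith M ⊤ (seqIndD (der M) M (der M) N) (sharp M) τ τ1 ∧
      τ (μ (cf1 W2) - ζ) = ∑ i ∈ Irr W1, η i (cf1 W2) - τ1 ζ := by
  classical
  have hr := fun ξ => refIrr_of_mem (ζ := ξ) h.typeP hN
  obtain ⟨τ1, hτ⟩ := coherent_lin h hN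
  obtain ⟨χ, h1, h2, h3⟩ := psi_col h (hr ζ hζ) h0
  by_cases e : τ1 ζ = χ
  · exact ⟨τ1, hτ, e ▸ h1⟩
  have h4 : ∀ ξ ∈ seqIndD (der M) M (der M) N, ξ ≠ ζ → τ1 ξ = -χ := fun ξ hξ hne => by
    have e1 := (hr ζ hζ).deg.trans (hr ξ hξ).deg.symm
    have h4 := dotτ h (onA0 h (sub_on (hr ζ hζ).mem (hr ξ hξ).mem e1)) (mu0_on h (hr ζ hζ))
    have h5 := fun ξ hξ => dot_col_eq_zero (isIrr_cf1 W2)
      (ortho_eta h hτ (csubD h le_rfl) (ξ := ξ) hξ (hr ξ hξ).irr)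
    have h6 := fun ξ hξ => cfdot_symm0 (dot_mu_irr (pti h) (isIrr_cf1 W2) (subT hξ) (hr ξ hξ).irr)
    rw [coh_sub hτ (subD le_rfl) hζ hξ e1, h1, cfdotBl, cfdotBl, cfdotBr, cfdotBr, cfdotBr, cfdotBr,
      h5 ζ hζ, h5 ξ hξ, h6 ζ hζ, h6 ξ hξ, cfdot_irr_self (hr ζ hζ).irr,
      cfdot_irr_ne (hr ξ hξ).irr (hr ζ hζ).irr hne] at h4
    have h7 := hτ.dirr hξ (hr ξ hξ).irr
    rcases cfdot_dirr_cases (hτ.dirr hζ (hr ζ hζ).irr) h2 with h8 | h8 | h8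
    · rw [← cfdot_dirr_eq1 h7 h2.neg, cfdotNr]; linear_combination -h4 - h8
    · exact (e ((cfdot_dirr_eq1 (hτ.dirr hζ (hr ζ hζ).irr) h2).1 h8)).elim
    · rcases cfdot_dirr_cases h7 h2 with h9 | h9 | h9 <;> rw [h8, h9] at h4 <;> norm_num at h4
  have h5 := h4 _ (star_seqInd hζ) (ref_star_ne (hr ζ hζ))
  obtain ⟨R, hR⟩ := subcoh h
  refine ⟨_, dual_coherence (subset_subcoherent hR (seqInd_conjC_subset1 _ _ _ le_rfl)) hτ
    ((Finset.card_le_card (t := {ζ, star ζ}) fun ξ hξ => ?_).trans Finset.card_le_two),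
    by rw [h1]; simp [dualIso, h5]⟩
  by_contra! e
  rw [Finset.mem_insert, Finset.mem_singleton, not_or] at e
  have h6 := hτ.cfdot_mem hξ (star_seqInd hζ)
  rw [h4 ξ hξ e.1, h5, h2.neg.cfdot_self, cfdot_irr_ne (hr ξ hξ).irr (hr ζ hζ).irr.star e.2] at h6
  exact one_ne_zero h6

local notation "α" => T345bridge M W W1 W2 1 n ζ

/-- (11.8.2), (11.8.3), (11.8.5) -/
theorem tau_alpha (h : T345Hyp M U W W1 W2) (hc : T345Const M W W1 W2 d 1 n) (hj : IsIrr W2 j)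
    (hj0 : j ≠ cf1 W2) (hτ : CoherentWith M ⊤ S1 (sharp M) τ τ1) (hS : ConjSubset S1 (calSP M))
    (h1 : ζ ∈ S1) (h2 : ∀ ξ ∈ S1, RefIrr M W1 ξ) (hn : S1.card = n)
    (hψ : τ (μ (cf1 W2) - ζ) = ∑ i ∈ Irr W1, η i (cf1 W2) - τ1 ζ) :
    ∀ i ∈ Irr W1, τ (α i j) = (1 : ℂ) • (η i j - η i (cf1 W2)) - n • τ1 ζ := by
  have hζ := h2 ζ h1
  have hi := isIrr_cf1 W1
  have h0 := isIrr_cf1 W2
  have hp := pti h
  have hw := cti h
  have hS' : S1 ⊆ calSD M := calSP_eq h ▸ hS.1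
  have hη := fun ξ hξ => ortho_eta h hτ hS (ξ := ξ) hξ (h2 ξ hξ).irr
  obtain ⟨a, ha, h3, h4⟩ := proj_alpha h hc hi hj hj0 hτ hS h1 h2
  set β := τ (α (cf1 W1) j) - (η (cf1 W1) j - η (cf1 W1) (cf1 W2)) + n • τ1 ζ with hβ
  have h5 : ⟪β, ∑ i ∈ Irr W1, η i (cf1 W2)⟫[⊤] = a := by
    have h5 := dot_alpha_psi h hc hζ hi hj hj0
    rw [hψ, cfdotBr, ha] at h5
    rw [hβ, cfdotDl, cfdotBl, cfdotBl, cfdotMnl, dot_col' hw h0 hi hj, dot_col' hw h0 hi h0, if_neg hj0,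
      if_pos rfl, dot_col_eq_zero h0 (hη ζ h1)]
    linear_combination h5
  have hj1 : star j ≠ cf1 W2 := fun e => hj0 (by rw [← star_star j, e, star_cf1])
  have h6 : star β = β := by
    have h6 := prDade_sub_TIirr (pdd h) hi hj.star hj hj1 hj0 ((hc.deg _ (cf1_mem_Irr W1) _
      (mem_Irr.2 hj.star) hj1).trans (hc.deg _ (cf1_mem_Irr W1) _ (mem_Irr.2 hj) hj0).symm)
    have h7 : star (α (cf1 W1) j) =
        α (cf1 W1) j + (μ₂ (cf1 W1) (star j) - μ₂ (cf1 W1) j) + n • (ζ - star ζ) := by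
      simp only [T345bridge, one_smul, star_sub, star_nsmul, ← prTIirr_star hp hi hj,
        ← prTIirr_star hp hi h0, star_cf1]
      module
    rw [hβ, star_add, star_sub, star_sub, star_nsmul, ← Dade_conjC, h7, map_add, map_add, map_nsmul, h6,
      hc.sign _ (mem_Irr.2 hj.star) hj1, coh_sub hτ hS' h1 (hS.2 ζ h1) (hζ.deg.trans (ref_star hζ).deg.symm),
      star_Dade_coherent (FT_Dade0_hyp h.max) hτ (fun φ hφ => seqInd_mem_CF (subT (hS' hφ))) hS.2 h1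
        hζ.irr (ref_star_ne hζ), star_cycTIeta hw hi hj, star_cycTIeta hw hi h0, star_cf1, star_cf1]
    module
  have h7 : ⟪β, cf1 ⊤⟫[⊤] = 0 := by
    rw [hβ, cfdotDl, cfdotBl, Dade_cf1 (FT_Dade0_hyp h.max) (supp_FTtype345_bridge h hc hζ hi hj hj0),
      T345bridge, cfdotBl, cfdotBl, cfdotMnl, seqInd_ortho_1 (der_le M) le_rfl hζ.mem, one_smul,
      ← prTIirr00 hp, ← cycTIiso00 hw, cfdotBl, cfdotMnl, hη ζ h1 _ (cf1_mem_Irr W1) _ (cf1_mem_Irr W2),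
      cfdot_prTIirr hp hi hj hi h0, cfdot_prTIirr hp hi h0 hi h0, cfdot_cycTIiso hw hi hj hi h0,
      cfdot_cycTIiso hw hi h0 hi h0]
    simp
  obtain ⟨z, hz⟩ := cfdot_real_vchar_even (mFT_odd ⊤) (add_mem (sub_mem
    (vchar_Dade_FTtype345_bridge h hc hζ hi hj hj0) (sub_mem (cycTIiso_vchar hw hi hj)
      (cycTIiso_vchar hw hi h0))) (nsmul_mem (hτ.vchar_mem h1) n)) h6 (col_vchar hw h0) (by
    rw [star_sum, ← sum_Irr_star W1 fun i => η i (cf1 W2)]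
    exact Finset.sum_congr rfl fun i hi => by rw [star_cycTIeta hw (mem_Irr.1 hi) h0, star_cf1])
  rw [← hβ, h5, h7, zero_mul, sub_zero] at hz
  obtain rfl : a = 2 * z := by exact_mod_cast hz
  have h8 : (2 : ℤ) ≤ n := by exact_mod_cast (n_even h hc).1
  have h9 : z * (z - 1) = 0 := le_antisymm (by rw [hn] at h3; nlinarith) (by
    rcases le_or_gt z 0 with e | e <;> nlinarith)
  replace h4 := h4 (by rw [hn]; linear_combination 4 * n * h9)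
  rw [show β = (2 * z) • ∑ ξ ∈ S1, τ1 ξ by rw [hβ, h4]; module, cfdotMzl, cfdot_suml,
    Finset.sum_eq_zero fun ξ hξ => dot_col_eq_zero h0 (hη ξ hξ), mul_zero, eq_comm, Int.cast_eq_zero] at h5
  intro i hi
  have h10 := (prDade_sub2_TIirr (pdd h) (mem_Irr.1 hi) hj).2
  rw [hc.sign j (mem_Irr.2 hj) hj0] at h10
  rw [show α i j = α (cf1 W1) j + ((1 : ℂ) • μ₂ i j - (1 : ℂ) • μ₂ (cf1 W1) j - μ₂ i (cf1 W2) +
    μ₂ (cf1 W1) (cf1 W2)) by simp only [T345bridge]; module, map_add, h10, h4, h5]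
  module

theorem S1_ref (h : PtypeHyp M U W W1 W2 H0) (h2 : FTtype M ≠ 2) (hζ : ζ ∈ 𝒮₁) : RefIrr M W1 ζ :=
  refIrr_of_mem h.typeP (FTtype34_der2 h h2).le hζ

theorem H_le (h : OfTypeP M U W W1 W2) : 𝓗 ≤ der M := h.defM'.left_le

theorem disj (h : PtypeHyp M U W W1 W2 H0) : Disjoint 𝒮₂ 𝒮₁ := by
  have h1 := normal_C h.typeP
  have h2 := (defF h.typeP).trans_le h.typeP.fit_le
  exact Finset.disjoint_left.2 fun φ h3 h4 => ((mem_seqIndD_iff_cfker (der_normal M) (Fcore_normal M)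
    (h.chief.normal_bot.sup h1) (H_le h.typeP) ((sup_le_sup_right h.chief.le _).trans h2)).1 h3).2.2
    (le_sup_left.trans ((mem_seqIndD_iff_cfker (der_normal M) (der_normal M) ((Fcore_normal M).sup h1)
      le_rfl h2).1 h4).2.1)

theorem coherent_S2 (h : PtypeHyp M U W W1 W2 H0) (h2 : FTtype M ≠ 2) : Coherent M ⊤ 𝒮₂ (sharp M) τ :=
  subset_coherent (seqIndDS _ _ (sup_le_sup_left ((der_le _).trans_eq (Ptype_Fcompl_kernel_cent h h2)) _)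
    le_rfl) (Ptype_core_coherence h)

theorem card_S1 (h : PtypeHyp M U W W1 W2 H0) (h2 : FTtype M ≠ 2) : (𝒮₁).card * ♯W1 + 1 = Pu M U H0 := by
  have hP := h.typeP
  rw [defF hP, card_seqIndD_lin (FT_primeTI_hyp hP) hP.W2_le_der2 hP.der2_le hP.fit_le (Fit_normal M), Pu,
    Ptype_Fcompl_kernel_cent h h2, ← Fit_inf hP, inf_relIndex_right,
    ← relIndex_sup_eq (Or.inl (hP.U_le.trans ((der_le M).trans (Fit_normal M).2)))]
  exact congrArg _ (le_antisymm (hP.defM'.sup_eq.ge.trans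
    (sup_le (le_sup_of_le_right (defF hP ▸ le_sup_left)) le_sup_left)) (sup_le hP.U_le hP.fit_le))

/-- (11.8.1) -/
theorem const (h : PtypeHyp M U W W1 W2 H0) (h2 : FTtype M ≠ 2) :
    T345Const M W W1 W2 (Pu M U H0) 1 (𝒮₁).card ∧ ∃ j, IsIrr W2 j ∧ j ≠ cf1 W2 ∧ μ j ∈ 𝒮₂ := by
  have h3 := t345 h h2
  obtain ⟨-, ⟨ν, h4, h5⟩, h6⟩ := typeP_reducible_core_Ind h
  obtain ⟨⟨j, hj, hj0, rfl⟩, h7, h8, -⟩ := h6 ν h4 h5
  refine ⟨?_, j, hj, hj0, Ptype_Fcompl_kernel_cent h h2 ▸ h8⟩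
  obtain ⟨d, δ, n, hc⟩ := FTtype345_constants h3
  rw [prTIred_1 (pti h3) (isIrr_cf1 W1) hj, hc.deg _ (cf1_mem_Irr W1) j (mem_Irr.2 hj) hj0, Nat.cast_mul,
    mul_right_inj' (cardC_ne_zero W1), Nat.cast_inj] at h7
  subst h7
  have h9 := hc.ratio
  have h10 := (cti h3).two_lt.1
  rw [← card_S1 h h2] at h9
  rcases hc.sign_eq with rfl | rfl
  · rw [Nat.cast_add, Nat.cast_one, add_sub_cancel_right, Nat.cast_mul, mul_comm,
      mul_right_inj' (cardC_ne_zero W1), Nat.cast_inj] at h9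
    exact h9 ▸ hc
  · have h11 : ((𝒮₁).card * ♯W1 + 1 : ℕ) - (-1 : ℤ) = ♯W1 * n := by exact_mod_cast h9
    have := Int.le_of_dvd two_pos (⟨n - (𝒮₁).card, by push_cast at h11; linear_combination h11⟩ :
      (♯W1 : ℤ) ∣ 2)
    omega

end P11

open P11

theorem FTtype34_not_ortho_cycTIiso (h : PtypeHyp M U W W1 W2 H0) (h2 : FTtype M ≠ 2) {ζ : G → ℂ}
    (hζ : ζ ∈ seqIndD (der M) M (der M) (Fcore M ⊔ U ⊓ 𝐂(Fcore M))) :
    ¬ ∀ k ∈ Irr W1, ∀ l ∈ Irr W2,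
      ⟪FTDade0 M (prTIred M W W1 W2 (cf1 W2) - ζ) - ∑ i ∈ Irr W1, cycTIeta ⊤ W W1 W2 i (cf1 W2),
        cycTIeta ⊤ W W1 W2 k l⟫[⊤] = 0 := fun h0 => by
  classical
  have h3 := t345 h h2
  have hr := S1_ref h h2 hζ
  have hH := H_le h.typeP
  obtain ⟨τ1, hτ1, hψ⟩ := psi_eq h3 (FTtype34_der2 h h2).le hζ h0
  obtain ⟨hc, j, hj, hj0, hμ⟩ := const h h2
  set d := Pu M U H0
  have h4 := tau_mu_sub h3 hc (P11.tau_alpha h3 hc hj hj0 hτ1 (csubD h3 le_rfl) hζ (fun _ => S1_ref h h2)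
    rfl hψ)
  rw [hψ, sub_self, smul_zero, add_zero, one_smul] at h4
  obtain ⟨R, hR⟩ := subcoh h3
  have hS1 : ConjSubset 𝒮₁ (calSD M) := seqInd_conjC_subset1 _ _ _ le_rfl
  have hS2 : ConjSubset 𝒮₂ (calSD M) := seqInd_conjC_subset1 _ _ _ hH
  obtain ⟨τ2, hτ2, h5⟩ : ∃ τ2, CoherentWith M ⊤ 𝒮₂ (sharp M) τ τ2 ∧ τ2 (μ j) = ∑ i ∈ Irr W1, η i j := by
    by_cases e : ∃ l ∈ 𝒮₂, IsIrr M l
    · obtain ⟨l, hl, hl'⟩ := e
      obtain ⟨τ2, hτ2⟩ := coherent_S2 h h2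
      obtain ⟨c, hc0, hc1⟩ := dvd_index_seqInd1 (der_le M) (subT (hS2.1 hl))
      obtain ⟨h5, h6⟩ := coh_comb hτ2 hS2.1 hμ hl (a := c) (b := d) (by
        rw [mu_one h3 hc hr hj hj0, hc1, hr.deg, (pti h3).relIndex, mul_left_comm])
      have h7 := dotτ h3 (onA0 h3 (mu_on h3 hc hr hj hj0)) h6
      have h8 := fun φ hφ => coherent_ortho hR hS1 hτ1 hS2 hτ2 (disj h).symm (mem_zchar hζ)
        (mem_zchar (φ := φ) hφ)
      rw [h4, h5, cfdotBl, cfdotBl, cfdotZl, cfdotZl] at h7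
      simp only [cfdotBr, cfdotMnr] at h7
      rw [h8 _ hl, h8 _ hμ, cfdot_symm0 (dot_col_eq_zero hj (ortho_eta h3 hτ2 (csubD h3 hH) hl hl')),
        cfdot_prTIred (pti h3) hj hj, if_pos rfl, dot_mu_irr (pti h3) hj (subT (hS2.1 hl)) hl',
        cfdot_symm0 (dot_mu_irr (pti h3) hj (subT hζ) hr.irr),
        cfdot_irr_ne hr.irr hl' fun e => Finset.disjoint_left.1 (disj h) hl (e ▸ hζ)] at h7
      simp only [mul_zero, sub_zero, mul_right_inj' (Nat.cast_ne_zero.2 hc0.ne' : (c : ℂ) ≠ 0)] at h7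
      refine ⟨τ2, hτ2, (sub_eq_zero.1 ((cfnorm_eq0 (vchar_mem_CF (sub_mem (col_vchar (cti h3) hj)
        (hτ2.vchar_mem hμ)))).1 ?_)).symm⟩
      rw [cfnormB, h7, cfnorm_col (cti h3) hj, hτ2.cfnorm (mem_zchar hμ), cfnorm_prTIred (pti h3) hj,
        Complex.natCast_re]
      ring
    · obtain ⟨-, τ2, h5, hτ2⟩ := uniform_prTIred_coherent (pdd h3) hj hj0
      refine ⟨τ2, subset_coherent_with (fun φ hφ => ?_) hτ2, by
        rw [h5 j (mem_Irr.2 hj), hc.sign j (mem_Irr.2 hj) hj0, one_smul]⟩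
      obtain ⟨⟨k, hk, hk0, rfl⟩, -⟩ := (typeP_reducible_core_Ind h).2.2 φ
        (seqIndDS _ _ le_sup_left le_rfl hφ) fun e' => e ⟨φ, hφ, e'⟩
      exact mem_uniformTIred.2 ⟨k, hk, hk0, by rw [mu_one h3 hc hr hj hj0, mu_one h3 hc hr hk hk0], rfl⟩
  refine FTtype34_noncoherence h h2 (subset_coherent (fun φ hφ => ?_) (bridge_coherent hR hS2 hτ2 hS1 hτ1
    (disj h) hμ (φ := (d : ℂ) • ζ) (Nat.cast_smul_eq_nsmul ℂ d ζ ▸ nsmul_mem (mem_zchar hζ) d)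
    (mu_one h3 hc hr hj hj0) (by rw [h4, h5, map_Cint_smul _ (isCint_natCast d)])))
  obtain ⟨θ, h6, h7, h8, rfl⟩ := mem_seqIndD.1 hφ
  by_cases e : 𝓗 ≤ cfker (der M) θ
  · exact Finset.mem_union_right _ (mem_seqIndD.2 ⟨θ, h6, sup_le e (le_sup_right.trans h7), h8, rfl⟩)
  · exact Finset.mem_union_left _ (mem_seqIndD.2 ⟨θ, h6, h7, e, rfl⟩)

namespace P11

theorem sum_two_val {ι : Type*} {s : Finset ι} {i0 : ι} (h0 : i0 ∈ s) {f : ι → ℝ} {b : ℝ}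
    (h1 : ∀ i ∈ s, i ≠ i0 → f i = b) : ∑ i ∈ s, f i = f i0 + (s.card - 1) * b := by
  classical
  rw [← Finset.add_sum_erase _ _ h0, Finset.sum_congr rfl fun i hi =>
    h1 i (Finset.mem_of_mem_erase hi) (Finset.ne_of_mem_erase hi), Finset.sum_const,
    Finset.card_erase_of_mem h0, nsmul_eq_mul, Nat.cast_pred (Finset.card_pos.2 ⟨_, h0⟩)]

theorem arith119 {p q x y : ℤ} (hp : 2 < p) (hq : 2 < q)
    (h : 1 + (p - 1) * y ^ 2 + (q - 1) * (x ^ 2 + (p - 1) * (x + y - 1) ^ 2) ≤ q) :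
    (x = 1 ∧ y = 0) ∨ (x = 0 ∧ y = 1 ∧ p ≤ q) := by
  have h1 : ∀ z : ℤ, z ≠ 0 → 1 ≤ z ^ 2 := fun z hz => Int.add_one_le_of_lt (by positivity : 0 < z ^ 2)
  have h2 : x + y - 1 = 0 := by
    by_contra e
    nlinarith [h1 _ e, sq_nonneg x, sq_nonneg y, mul_le_mul_of_nonneg_left (h1 _ e) (by omega : 0 ≤ p - 1)]
  rw [h2] at h
  by_cases e : y = 0
  · omega
  have h3 : x = 0 := by
    by_contra e'
    nlinarith [h1 _ e, h1 _ e']
  obtain rfl : y = 1 := by omega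
  exact Or.inr ⟨h3, rfl, by rw [h3] at h; linarith⟩

theorem psi_aut (h : T345Hyp M U W W1 W2) (hN : der2 M ≤ N) (hζ : ζ ∈ seqIndD (der M) M (der M) N)
    (v : ℂ ≃+* ℂ) (hi : IsIrr W1 i) (hj : IsIrr W2 j) :
    ⟪τ (μ (cf1 W2) - ζ), η (cfAut v i) (cfAut v j)⟫[⊤] = ⟪τ (μ (cf1 W2) - ζ), η i j⟫[⊤] := by
  obtain ⟨τ1, hτ⟩ := coherent_lin h hN
  have h1 := cfAut_seqInd v hζ
  have hr := refIrr_of_mem h.typeP hN hζ
  have hr' := refIrr_of_mem h.typeP hN h1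
  have h2 := fun ξ hξ hξ' => ortho_eta h hτ (csubD h le_rfl) (ξ := ξ) hξ hξ' _ (mem_Irr.2 (hi.cfAut v)) _
    (mem_Irr.2 (hj.cfAut v))
  rw [← cfdot_aut_vchar' v (psi_vchar h hr) (cycTIiso_vchar (cti h) hi hj), cfAut_cycTIeta (cti h) v hi hj,
    ← Dade_aut, cfAut_sub, ← prTIred_aut (pti h) v (isIrr_cf1 W2), cfAut_cf1,
    ← sub_add_sub_cancel _ ζ (cfAut v ζ), map_add, cfdotDl,
    coh_sub hτ (subD le_rfl) hζ h1 (hr.deg.trans hr'.deg.symm), cfdotBl, h2 _ hζ hr.irr, h2 _ h1 hr'.irr,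
    sub_self, add_zero]

/-- (11.9)(a,b) -/
theorem psi_row (h : PtypeHyp M U W W1 W2 H0) (h2 : FTtype M ≠ 2) (hζ : ζ ∈ 𝒮₁) :
    (∀ k ∈ Irr W1, ∀ l ∈ Irr W2,
      ⟪τ (μ (cf1 W2) - ζ) - ∑ j ∈ Irr W2, η (cf1 W1) j, η k l⟫[⊤] = 0) ∧ ♯W2 ≤ ♯W1 := by
  classical
  have h3 := t345 h h2
  have hw := cti h3
  have hr := S1_ref h h2 hζ
  have hN := (FTtype34_der2 h h2).le
  have i0 := isIrr_cf1 W1
  have j0 := isIrr_cf1 W2
  obtain ⟨i, hi, hi0⟩ := exists_irr_ne_cf1 h.typeP.W1_ne_bot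
  obtain ⟨j, hj, hj0⟩ := exists_irr_ne_cf1 h.typeP.W2_ne_bot
  obtain ⟨x, hx⟩ := Cint_cfdot_vchar (psi_vchar h3 hr) (cycTIiso_vchar hw hi j0)
  obtain ⟨y, hy⟩ := Cint_cfdot_vchar (psi_vchar h3 hr) (cycTIiso_vchar hw i0 hj)
  set ψ := τ (μ (cf1 W2) - ζ) with hψ
  have e0 : ⟪ψ, η (cf1 W1) (cf1 W2)⟫[⊤] = 1 := psi_00 h3 hr
  have e1 : ∀ k ∈ Irr W1, k ≠ cf1 W1 → ⟪ψ, η k (cf1 W2)⟫[⊤] = x := fun k hk hk0 => by
    obtain ⟨v, rfl⟩ := exists_cfAut_of_prime h.prime_q hi hi0 (mem_Irr.1 hk) hk0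
    rw [← hx, ← psi_aut h3 hN hζ v hi j0, cfAut_cf1]
  have e2 : ∀ l ∈ Irr W2, l ≠ cf1 W2 → ⟪ψ, η (cf1 W1) l⟫[⊤] = y := fun l hl hl0 => by
    obtain ⟨v, rfl⟩ := exists_cfAut_of_prime (FTtype345_core_prime h3) hj hj0 (mem_Irr.1 hl) hl0
    rw [← hy, ← psi_aut h3 hN hζ v i0 hj, cfAut_cf1]
  have e3 : ∀ k ∈ Irr W1, k ≠ cf1 W1 → ∀ l ∈ Irr W2, l ≠ cf1 W2 → ⟪ψ, η k l⟫[⊤] = (x + y - 1 : ℤ) :=
    fun k hk hk0 l hl hl0 => by
      have := cycTIiso_cfdot_exchange hw (vchar_mem_CF (psi_vchar h3 hr)) (psi_V h3 hr) (mem_Irr.1 hk)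
        (mem_Irr.1 hl) i0 j0
      rw [e0, e1 k hk hk0, e2 l hl hl0] at this
      push_cast; linear_combination this
  have h4 := (cycTIiso_orthonormal hw).cfnorm_proj ψ
  have h5 := cfnorm_vchar_ge1 (φ := ψ - ∑ e ∈ etaSet ⊤ W W1 W2, ⟪ψ, e⟫[⊤] • e) (sub_mem (psi_vchar h3 hr)
    (Submodule.sum_mem _ fun e he => by
      obtain ⟨k, l, hk, hl, rfl⟩ := mem_etaSet.1 he
      obtain ⟨z, hz⟩ := Cint_cfdot_vchar (psi_vchar h3 hr) (cycTIiso_vchar hw hk hl)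
      rw [hz, Int.cast_smul_eq_zsmul]
      exact zsmul_mem (cycTIiso_vchar hw hk hl) z)) fun e => by
    obtain ⟨τ1, hτ⟩ := coherent_lin h3 hN
    have e4 := hr.deg.trans (ref_star hr).deg.symm
    have h5 := dotτ h3 (onA0 h3 (mu0_on h3 hr)) (sub_on hr.mem (ref_star hr).mem e4)
    rw [← hψ, sub_eq_zero.1 e, coh_sub hτ (subD le_rfl) hζ (star_seqInd hζ) e4, cfdot_suml,
      Finset.sum_eq_zero fun e he => by
        obtain ⟨k, l, hk, hl, rfl⟩ := mem_etaSet.1 he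
        have := fun ξ hξ hξ' => cfdot_symm0 (ortho_eta h3 hτ (csubD h3 le_rfl) (ξ := ξ) hξ hξ' _
          (mem_Irr.2 hk) _ (mem_Irr.2 hl))
        rw [cfdotZl, cfdotBr, this _ hζ hr.irr, this _ (star_seqInd hζ) hr.irr.star, sub_self, mul_zero],
      cfdotBl, cfdotBr, cfdotBr, dot_mu_irr (pti h3) j0 (subT hζ) hr.irr,
      dot_mu_irr (pti h3) j0 (subT (star_seqInd hζ)) hr.irr.star, cfdot_irr_self hr.irr,
      cfdot_irr_ne hr.irr hr.irr.star (ref_star_ne hr).symm] at h5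
    simp at h5
  rw [psi_norm h3 hr, sum_etaSet hw, sum_two_val (cf1_mem_Irr W1)
    (b := x ^ 2 + (♯W2 - 1) * (x + y - 1 : ℤ) ^ 2) fun k hk hk0 => by
      rw [sum_two_val (cf1_mem_Irr W2) fun l hl hl0 => by rw [e3 k hk hk0 l hl hl0], e1 k hk hk0,
        hw.card_Irr.2, Complex.norm_intCast, Complex.norm_intCast, sq_abs, sq_abs],
    sum_two_val (cf1_mem_Irr W2) fun l hl hl0 => by rw [e2 l hl hl0], e0, hw.card_Irr.1, hw.card_Irr.2,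
    Complex.norm_intCast, sq_abs, norm_one, one_pow] at h4
  rcases arith119 (p := ♯W2) (q := ♯W1) (x := x) (y := y) (by exact_mod_cast hw.two_lt.2)
    (by exact_mod_cast hw.two_lt.1) (by rify at h4 ⊢; linarith) with ⟨rfl, rfl⟩ | ⟨rfl, rfl, h6⟩
  · refine (FTtype34_not_ortho_cycTIiso h h2 hζ fun k hk l hl => ?_).elim
    rw [cfdotBl, dot_col hw j0 (mem_Irr.1 hk) (mem_Irr.1 hl), ← hψ]
    clear hψ
    by_cases a : k = cf1 W1 <;> by_cases b : l = cf1 W2 <;> simp [*, eq_comm]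
  · refine ⟨fun k hk l hl => ?_, by exact_mod_cast h6⟩
    rw [cfdotBl, dot_row hw i0 (mem_Irr.1 hk) (mem_Irr.1 hl)]
    clear hψ
    by_cases a : k = cf1 W1 <;> by_cases b : l = cf1 W2 <;> simp [*, eq_comm]

end P11

theorem FTtype34_structure (h : PtypeHyp M U W W1 W2 H0) (h2 : FTtype M ≠ 2) :
    (∀ ζ ∈ seqIndD (der M) M (der M) (Fcore M ⊔ U ⊓ 𝐂(Fcore M)), ∀ k ∈ Irr W1, ∀ l ∈ Irr W2,
      ⟪FTDade0 M (prTIred M W W1 W2 (cf1 W2) - ζ) - ∑ j ∈ Irr W2, cycTIeta ⊤ W W1 W2 (cf1 W1) j,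
        cycTIeta ⊤ W W1 W2 k l⟫[⊤] = 0) ∧
    ♯W2 < ♯W1 ∧ FTtype M = 3 ∧ PGalois M U H0 := by
  classical
  have h3 := t345 h h2
  have hw := cti h3
  have hP := h.typeP
  have hH := H_le hP
  have hC := Ptype_Fcompl_kernel_cent h h2
  have hU := (FTtype34_facts h h2).2.2.2
  obtain ⟨ζ, hζ⟩ : (𝒮₁).Nonempty := defF hP ▸
    seqIndD_nonempty M ((Fit_normal M).mono hP.fit_le (der_le M)) (Fit_lt h).not_ge
  obtain ⟨h4, h5⟩ := psi_row h h2 hζ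
  have hg : PGalois M U H0 := by
    by_contra hg
    obtain ⟨H1, a, ha⟩ := typeP_Galois_Pn h hg
    obtain ⟨-, -, h6, h7⟩ := typeP_nonGalois_characters h ha
    have ha0 : 0 < a := ha.one_lt.le
    have hp := Nat.sub_pos_of_lt h.prime_p.one_lt
    obtain ⟨l, hl⟩ := Finset.card_pos.1 ((Nat.div_pos (Nat.le_of_dvd (mul_pos hp (card_pos' U)) h6)
      (mul_pos (pow_pos ha0 2) (card_pos' _))).trans_le h7)
    rw [← hU, Finset.mem_filter] at hl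
    obtain ⟨hl, hl', h8⟩ := hl
    obtain ⟨hc, j, hj, hj0, hμ⟩ := const h h2
    obtain ⟨τ2, hτ2⟩ := coherent_S2 h h2
    have hr := S1_ref h h2 hζ
    obtain ⟨h9, h10⟩ := coh_comb hτ2 (subD hH) hμ hl (a := a) (b := Pu M U H0) (by
      rw [mu_one h3 hc hr hj hj0, h8, hr.deg]; push_cast; ring)
    have h11 := dotτ h3 (onA0 h3 (mu0_on h3 hr)) h10
    obtain ⟨z, hz⟩ := Cint_cfdot_vchar (psi_vchar h3 hr) (hτ2.vchar_mem hl)
    have h12 : ∀ k, IsIrr W2 k → ⟪τ (μ (cf1 W2) - ζ), ∑ i ∈ Irr W1, η i k⟫[⊤] = 1 := fun k hk => by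
      rw [← dot_row_col hw (isIrr_cf1 W1) hk, ← sub_eq_zero, ← cfdotBl, dot_col_eq_zero hk h4]
    rw [h9, cfdotBr, cfdotBr, cfdotMnr, cfdotMnr, cfdotMnr, cfdotMnr, hz, cfdotBl, cfdotBl,
      cfdot_prTIred (pti h3) (isIrr_cf1 W2) hj, if_neg hj0.symm,
      dot_mu_irr (pti h3) (isIrr_cf1 W2) (subT (subD hH hl)) hl',
      cfdot_symm0 (dot_mu_irr (pti h3) hj (subT hζ) hr.irr),
      cfdot_irr_ne hr.irr hl' fun e => Finset.disjoint_left.1 (disj h) hl (e ▸ hζ)] at h11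
    have h13 : (Pu M U H0 : ℤ) ∣ a := by
      rcases FTtypeP_coherent_TIred h.max hP (csubD h3 hH) hτ2 hl hl' hj hμ with e | ⟨e, -⟩ <;>
        rw [e, hc.sign j (mem_Irr.2 hj) hj0, cfdotZr] at h11
      · rw [h12 _ hj] at h11
        exact ⟨z, by have : (a : ℂ) = Pu M U H0 * z := by simp at h11; linear_combination h11
                     exact_mod_cast this⟩
      · rw [h12 _ hj.star] at h11
        exact ⟨-z, by have : (a : ℂ) = Pu M U H0 * -z := by simp at h11; linear_combination -h11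
                      exact_mod_cast this⟩
    have h14 := Nat.le_of_dvd hp ((Int.natCast_dvd_natCast.1 h13).trans ha.dvd)
    rw [typeIII_IV_core_prime h h2, ← card_S1 h h2] at h14
    have := Nat.mul_le_mul_right ♯W1 (Finset.card_pos.2 ⟨ζ, hζ⟩)
    omega
  refine ⟨fun ζ hζ => (psi_row h h2 hζ).1, h5.lt_of_ne fun e => h.prime_q.one_lt.ne'
    (by simpa [e] using hw.coprime), ?_, hg⟩
  by_contra e
  have h6 := (typeP_Galois_P h hg).2.1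
  rw [hC, hU] at h6
  refine (compl_of_typeIV h.max hP ?_).2.1 (ab_of_isCyclic
    (isCyclic_of_quo_Phi (der_le_Phi_of_nil hP.nilU) (der_normal U).2 h6))
  have := gt2 h3
  have := (FTtype_range M).2
  have := h.not5
  omega

end Cfsg.Agent.OO.Pf
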