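import Cfsg.Agent.Lib.OO.Pf.PF12_B

/-! # Peterfalvi (12.13) to (12.17) -/

set_option autoImplicit false
set_option linter.unusedSectionVars false
set_option linter.unusedVariables false

namespace Cfsg.Agent.OO.Pf

open Subgroup Cfsg.Agent.Coprime
open scoped Pointwise ComplexConjugate

universe u

variable {G : Type u} [Group G] [Finite G]

namespace P12

omit [Group G] in
theorem sum_elts_union {V : Type*} [AddCommMonoid V] {A B : Set G} (h : Disjoint A B) (f : G → V) :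
    ∑ x ∈ elts (A ∪ B), f x = ∑ x ∈ elts A, f x + ∑ x ∈ elts B, f x := by
  classical
  rw [← Finset.sum_union (Finset.disjoint_left.mpr fun x h1 h2 =>
    Set.disjoint_left.mp h (mem_elts.mp h1) (mem_elts.mp h2))]
  exact Finset.sum_congr (by ext; simp) fun _ _ => rfl

omit [Group G] in
theorem sum_elts_diff {V : Type*} [AddCommGroup V] {A B : Set G} (h : A ⊆ B) (f : G → V) :
    ∑ x ∈ elts (B \ A), f x = ∑ x ∈ elts B, f x - ∑ x ∈ elts A, f x := by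
  rw [eq_sub_iff_add_eq, ← sum_elts_union Set.disjoint_sdiff_left, Set.diff_union_of_subset h]

theorem Cint_sum_vchar {Γ K : Subgroup G} {ψ : G → ℂ} (hψ : ψ ∈ ZIrr Γ) (hK : K ≤ Γ) :
    IsCint (∑ x ∈ elts (K : Set G), ψ x) := by
  have := (isCint_natCast ♯K).mul (Cint_cfdot_vchar (cfRes_vchar hK hψ) (cf1_vchar K))
  rwa [cfdot_congr (fun z hz => cfResE ψ hz) fun _ _ => rfl, cfdot_cf1r, mul_inv_cancel_left₀
    (cardC_ne_zero K)] at this

/-- a virtual character which is constant on `K − N` has an integral value there -/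
theorem Cint_of_const {Γ K N : Subgroup G} {ψ : G → ℂ} (hψ : ψ ∈ ZIrr Γ) (hK : K ≤ Γ) (hN : N ≤ K)
    {g : G} (hg : g ∈ K) (hg' : g ∉ N) (hc : ∀ y ∈ K, y ∉ N → ψ y = ψ g) : IsCint (ψ g) := by
  obtain ⟨n, hn⟩ := (Cint_sum_vchar hψ hK).sub (Cint_sum_vchar hψ (hN.trans hK))
  rw [← sum_elts_diff (SetLike.coe_subset_coe.mpr hN), Finset.sum_congr rfl fun y hy =>
    hc y (mem_elts.mp hy).1 (mem_elts.mp hy).2, Finset.sum_const, nsmul_eq_mul] at hn
  have h0 : ((elts ((K : Set G) \ N)).card : ℂ) ≠ 0 :=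
    Nat.cast_ne_zero.mpr (Finset.card_ne_zero.mpr ⟨g, mem_elts.mpr ⟨hg, hg'⟩⟩)
  have e : ψ g = ((n / (elts ((K : Set G) \ N)).card : ℚ) : ℂ) := by
    push_cast
    rw [eq_div_iff h0, mul_comm, hn]
  have := Aint_vchar hψ g
  rw [e] at this ⊢
  exact isCint_of_isIntegral_rat this

theorem a_eq_zero {e h p : ℕ} {a : ℤ} (he : 0 < e) (hp : 3 ≤ p) (h1 : 2 * e ≤ p + 1) (h2 : p ^ 2 ≤ h)
    (h3 : (0 : ℝ) ≤ e - 1 - ((h - 1 : ℝ) / e * a ^ 2 - 2 * a)) : a = 0 := by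
  by_contra h0
  have a1 : (1 : ℝ) ≤ a ^ 2 := by exact_mod_cast (one_le_sq_iff_one_le_abs a).mpr (Int.one_le_abs h0)
  have a2 : (a : ℝ) ≤ a ^ 2 := by exact_mod_cast Int.le_self_sq a
  have e0 : (1 : ℝ) ≤ e := by exact_mod_cast he
  have e1 : (2 : ℝ) * e ≤ p + 1 := by exact_mod_cast h1
  have e2 : (p : ℝ) ^ 2 ≤ h := by exact_mod_cast h2
  have e3 : (3 : ℝ) ≤ p := by exact_mod_cast hp
  have h4 := mul_nonneg h3 (zero_le_one.trans e0)
  have h5 : (e - 1 - ((h - 1 : ℝ) / e * a ^ 2 - 2 * a)) * e = e * (e - 1) - (h - 1) * a ^ 2 + 2 * a * e := by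
    field_simp; ring
  rw [h5] at h4
  have h6 : ((h : ℝ) - 1) * a ^ 2 ≤ e * (e + 1) * a ^ 2 := by
    nlinarith [mul_le_mul_of_nonneg_left a1 (mul_nonneg (zero_le_one.trans e0) (sub_nonneg.mpr e0)),
      mul_le_mul_of_nonneg_left a2 (zero_le_one.trans e0)]
  have h7 := le_of_mul_le_mul_right h6 (zero_lt_one.trans_le a1)
  nlinarith

theorem sq_le_of_dvd {e p : ℕ} {z : ℤ} (he : 0 < e) (h1 : 2 * e ≤ p + 1) (h : (p : ℤ) ∣ z - e) :
    ((e : ℝ) - 1) ^ 2 ≤ (z : ℝ) ^ 2 := by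
  obtain ⟨k, hk⟩ := h
  have : ((e : ℤ) - 1) ^ 2 ≤ z ^ 2 := by
    rcases le_or_gt 0 k with h | h
    · have : 0 ≤ (p : ℤ) * k := by positivity
      nlinarith
    · have : (p : ℤ) * k ≤ -p := by nlinarith
      have h2 : (2 : ℤ) * e ≤ p + 1 := by exact_mod_cast h1
      nlinarith
  exact_mod_cast this

theorem final_ineq {e h k k' m n z : ℝ} (he : 3 ≤ e) (hk' : 0 < k') (hn : 7 ≤ n) (hk : k' * n = k)
    (hh : 0 < h) (hm0 : 0 < m) (hm : m ≤ k * h) (hz : (e - 1) ^ 2 ≤ z)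
    (h1 : m⁻¹ * ((k - k') * z) + (1 - e / h) ≤ 1) : False := by
  have h2 : (k - k') * z * h ≤ e * m := by
    have : m⁻¹ * ((k - k') * z) ≤ e / h := by linarith
    rwa [inv_mul_le_iff₀ hm0, mul_div_assoc', le_div_iff₀ hh, mul_comm m] at this
  have h3 : (k - k') * z ≤ e * k :=
    le_of_mul_le_mul_right (by nlinarith [mul_le_mul_of_nonneg_left hm (by linarith : 0 ≤ e)]) hh
  have h4 : (n - 1) * z ≤ e * n := le_of_mul_le_mul_left (by rw [← hk] at h3; nlinarith) hk'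
  have h5 : 4 * e ≤ 3 * z := by nlinarith
  nlinarith [mul_le_mul_of_nonneg_left h5 (by linarith : 0 ≤ n - 1)]

variable [MinOdd G] {L N M : Subgroup G} {ψ χ : G → ℂ} {τ1 : (G → ℂ) →+ (G → ℂ)}

/-- (12.3) and (5.5) -/
theorem ortho_base (hL : IsCoatom L) (h1 : FTtype L = 1)
    (hτ : CoherentWith L ⊤ (calSF L) (sharp L) (FTDade L) τ1) (hχ : χ ∈ calSF L) (hN : IsCoatom N)
    (h2 : FTtype N = 1) (hn : NotConj N L) {Q R : (G → ℂ) → Finset (G → ℂ)} (hR : FT1Base N Q R) :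
    ∀ φ ∈ calSF N, ∀ α ∈ R φ, ⟪τ1 χ, α⟫[⊤] = 0 := by
  intro φ hφ α hα
  obtain ⟨Q1, R1, hR1⟩ := FTtype1_subcoherent hL h1
  obtain ⟨E, hE, e⟩ := mem_coherent_sum_subseq hR1.subcoh (ConjSubset.refl hR1.subcoh.conj_mem) hτ hχ
  rw [e, cfdot_suml]
  exact Finset.sum_eq_zero fun β hβ =>
    FTtype1_seqInd_ortho hL hN h1 h2 hR1 hR hn χ hχ φ hφ β (hE hβ) α hα

theorem const_coset (hL : IsCoatom L) (h1 : FTtype L = 1)
    (hτ : CoherentWith L ⊤ (calSF L) (sharp L) (FTDade L) τ1) (hχ : χ ∈ calSF L) (hN : IsCoatom N)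
    (h2 : FTtype N = 1) (hn : NotConj N L) {x y : G} (hx : x ∈ N) (hx' : x ∉ Fcore N) (hy : y ∈ Fcore N) :
    τ1 χ (x * y) = τ1 χ x :=
  let ⟨_, _, hR⟩ := FTtype1_subcoherent hN h2
  FTtype1_ortho_constant hN h2 hR (vchar_mem_CF (hτ.vchar_mem hχ))
    (ortho_base hL h1 hτ hχ hN h2 hn hR) hx hx' y hy

/-- the value of `ψ^ρ` in (12.14) and (12.15) -/
theorem invDade_eq (hL : IsCoatom L) (hF : IsFrobKer L (Fcore L))
    (hτ : CoherentWith L ⊤ (calSF L) (sharp L) (FTDade L) τ1) (hχ : χ ∈ calSF L) (hM : IsCoatom M)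
    {g : G} (hg : g ∈ sharp (Fcore M)) (h2 : ¬ 𝐂[g] ≤ M → FTtype (Nx g) ≠ 2) :
    invDade ⊤ M (sharp (Fcore M)) (τ1 χ) g = τ1 χ g := by
  have h0 := Fcore_sub_FTsupp0 hM hg
  refine invDade_eq_of_const _ _ hg fun y hy => ?_
  rw [def_FTsignalizer0 hM h0, FTsignalizer] at hy
  split_ifs at hy with hc
  · rw [mem_bot.mp hy, one_mul]
  obtain ⟨-, -, hA, ht, -⟩ := (FTsupport_facts hM).2.2 g h0 hc
  have hN := ((FTsupport_facts hM).2.1 g h0 hc).2.1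
  have h1 : FTtype (Nx g) = 1 := by have := (FTtype_range (Nx g)).1; have := h2 hc; omega
  rw [mem_cent1.mp hy.2]
  refine const_coset hL (FT_Frobenius_type1 hL hF) hτ hχ hN h1 (fun a e => hA.2 ?_)
    (FTsupp_sub _ hA.1).1 (fun h => hA.2 (Fcore_sub_FTsupp1 hN ⟨h, hg.2⟩)) hy.1
  obtain ⟨E, hE⟩ := hF
  have hF' : IsFrobKer (Nx g) (Fcore (Nx g)) := by rw [e, Fcore_conj]; exact (hE.conj a).isFrobKer
  rw [FTsupp1_type1 h1, ← FTsupp_Frobenius hN hF']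
  exact hA.1

theorem coherentF (hL : IsCoatom L) (hτ : CoherentWith L ⊤ (calSF L) (sharp L) (FTDade L) τ1) :
    CoherentWith L ⊤ (calSF L) (sharp L) (FTDadeF L) τ1 :=
  hτ.congr fun _ h => FTDade_eq_F hL (zcharD1_seqInd_on (Fcore_normal L) (seqInd_subT _ _ _ _) h)

/-- the value of `ψ^ρ` when `a = 0` in (7.8) -/
theorem invDade_eq_self (hL : IsCoatom L) (hτ : CoherentWith L ⊤ (calSF L) (sharp L) (FTDadeF L) τ1)
    (hχ : χ ∈ calSF L) (hirr : IsIrr L χ) (h1 : χ 1 = (Fcore L).relIndex L)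
    (hβ : ⟪FTDadeF L (cfInd L (Fcore L) (cf1 (Fcore L)) - χ), τ1 χ⟫[⊤] = -1) {x : G}
    (hx : x ∈ sharp (Fcore L)) : invDade ⊤ L (sharp (Fcore L)) (τ1 χ) x = χ x := by
  classical
  have hn := Fcore_normal L
  have hι : cfInd L (Fcore L) (cf1 (Fcore L)) 1 = (Fcore L).relIndex L := by
    rw [cfInd1 hn.le, cf1E (one_mem _), mul_one]
  have he := relIndexC_ne_zero (Fcore L) L
  rw [(invDade_seqInd_sum (FT_DadeF_hyp hL) (seqIndT_Ind1 _ _) (vchar_mem_CF (hτ.vchar_mem hχ))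
    (c := fun ξ => if ξ = χ then 1 else 0) fun ξ hξ => ?_).1 x hx,
    Finset.sum_eq_single χ (fun ξ _ h => by simp [h]) (fun h => absurd (calSF_T hχ) h)]
  · simp [cfdot_irr_self hirr]
  by_cases e : ξ = cfInd L (Fcore L) (cf1 (Fcore L))
  · have : ξ ≠ χ := fun e' => by
      have := seqInd_ortho_Ind1 hn le_rfl hχ
      rw [← e, e', cfdot_irr_self hirr] at this
      exact one_ne_zero this
    rw [if_neg this, ← e, div_self (by rw [e, hι]; exact he), one_smul, sub_self, map_zero]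
    simp [cfdotE]
  have hξS : ξ ∈ calSF L := by rw [calSF, seqIndC1_rem hn]; exact Finset.mem_erase.mpr ⟨e, hξ⟩
  obtain ⟨a, -, ha⟩ := dvd_index_seqInd1 hn.le hξ
  have hd : ξ 1 / cfInd L (Fcore L) (cf1 (Fcore L)) 1 = a := by rw [hι, ha, mul_div_cancel_right₀ _ he]
  rw [hd, show ξ - (a : ℂ) • cfInd L (Fcore L) (cf1 (Fcore L)) =
      (ξ - (a : ℂ) • χ) - (a : ℂ) • (cfInd L (Fcore L) (cf1 (Fcore L)) - χ) by rw [smul_sub]; abel,
    map_sub, map_smul, hτ.sub_smul (fun _ h => calSF_CF h) hξS hχ (isCint_natCast a) (by rw [ha, h1]),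
    cfdotBl, cfdotBl, cfdotZl, cfdotZl, hβ, hτ.cfdot_mem hχ hχ, hτ.cfdot_mem hξS hχ, cfdot_irr_self hirr]
  split_ifs with e'
  · rw [e', cfdot_irr_self hirr]; ring
  · rw [seqInd_ortho hn hξ (calSF_T hχ) e']; ring

theorem DadeSuppF (hL : IsCoatom L) (h1 : FTtype L = 1) : DadeSupp ⊤ L (sharp (Fcore L)) = A1til L := by
  rw [FT_Dade_supportE hL (Fcore_sub_FTsupp0 hL), ← FTsupp1_type1 h1]

/-- (12.16) -/
theorem Hyp.false {p : ℕ} [hp : Fact p.Prime] {P0 : Subgroup G} {x : G} (h : Hyp p M P0 L x) : False := by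
  have hL := h.maxL
  have hM := h.maxM
  have hF := h.frob
  have h1 := h.typeL
  have hn := Fcore_normal L
  obtain ⟨hirr, τ1, hτ⟩ := FT_Frobenius_coherence hL hF
  obtain ⟨χ, hχ, hχ1⟩ := FTtype1_ref_irr hL
  have hτ' := coherentF hL hτ
  have hZ := hτ.vchar_mem hχ
  have hCF := vchar_mem_CF hZ
  obtain ⟨-, ⟨Δ, -, -, -, ⟨a, ha, -, -, hΔ⟩, hb⟩, -⟩ := Dade_Ind1_sub_lin (FT_DadeF_hyp hL) hτ'
    (seqInd_nontrivial (mFT_odd L) hn le_rfl hχ) (hirr χ hχ) hχ hχ1 rfl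
  have hb := (hb (odd_Frobenius_index_ler (mFT_odd L) hF)).1
  have a0 : a = 0 := a_eq_zero (relIndex_pos _ _) h.three_le h.index_le h.sq_le (hΔ ▸ cfnorm_ge0 Δ)
  have hx : x ∈ sharp (Fcore L) := ⟨h.P0_le' h.mem, h.ne_one⟩
  have e1 : τ1 χ x = χ x := by
    rw [← invDade_eq_self hL hτ' hχ (hirr χ hχ) hχ1 (by rw [ha, a0]; simp) hx,
      invDade_eq hL hF hτ hχ hL hx fun _ => by rw [h.Nx_eq, h.typeM]; omega]
  have e2 : ∀ g ∈ Fcore M, g ∉ der (Fcore M) → invDade ⊤ M (sharp (Fcore M)) (τ1 χ) g = τ1 χ g :=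
    fun g hg hg' => by
      have hg1 : g ∈ sharp (Fcore M) := ⟨hg, fun e => hg' (mem_bot.mp e ▸ one_mem _)⟩
      exact invDade_eq hL hF hτ hχ hM hg1 fun hc e =>
        h.not_frob (((FTsupport_facts hM).2.2 g (Fcore_sub_FTsupp0 hM hg1) hc).2.2.2.2 e)
  obtain ⟨g, hg, hg'⟩ := SetLike.not_le_iff_exists.mp h.not_le
  obtain ⟨Q, R, hR⟩ := FTtype1_subcoherent hM h.typeM
  have e3 : ∀ y ∈ Fcore M, y ∉ der (Fcore M) → τ1 χ y = τ1 χ g := fun y hy hy' => by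
    rw [← e2 y hy hy', ← e2 g hg.1 hg']
    exact FTtype1_invDade_ortho_constant hM h.typeM hR hCF
      (ortho_base hL h1 hτ hχ hM h.typeM h.notConj hR) y hy hy' g hg.1 hg'
  obtain ⟨z, hz⟩ := Cint_of_const hZ le_top (der_le _) hg.1 hg' e3
  have hxK : x ∉ Fcore M := fun hx => h.not_dvd (h.ox ▸ orderOf_dvd_card hx)
  have hε := Complex.isPrimitiveRoot_exp p hp.out.ne_zero
  obtain ⟨z1, i1, c1⟩ := vchar_ker_mod_prim hp.out hε hZ trivial trivial h.ox hg.2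
  obtain ⟨z2, i2, c2⟩ := vchar_ker_mod_prim hp.out hε (irr_vchar (hirr χ hχ)) (hn.le hx.1) (one_mem L)
    h.ox (one_mem _)
  rw [const_coset hL h1 hτ hχ hM h.typeM h.notConj (h.syl.le h.mem) hxK hg.1, e1, hz] at c1
  rw [mul_one, hχ1] at c2
  have hd := int_eqAmod_prime_prim hp.out hε (n := z - (Fcore L).relIndex L)
    ⟨z2 - z1, i2.sub i1, by push_cast; linear_combination c2 - c1⟩
  have l1 := sum_norm_sq_le (H := M) (A := (Fcore M : Set G) \ der (Fcore M))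
    (fun y hy => Fcore_le M hy.1) (invDade ⊤ M (sharp (Fcore M)) (τ1 χ))
  rw [Finset.sum_congr rfl (g := fun _ => (z : ℝ) ^ 2 * 1) fun y hy => by
      rw [mem_elts] at hy
      rw [e2 y hy.1 hy.2, e3 y hy.1 hy.2, hz, Complex.norm_intCast, sq_abs, mul_one],
    ← Finset.mul_sum, sum_elts_diff (SetLike.coe_subset_coe.mpr (der_le _)), sum_elts_const,
    sum_elts_const, nsmul_one, nsmul_one, mul_comm ((z : ℝ) ^ 2)] at l1
  have l2 := (leC_cfnorm_invDade_support (FT_DadeF_hyp hM) hCF).1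
  have l3 := (leC_cfnorm_invDade_support (FT_DadeF_hyp hL) hCF).1
  rw [DadeSuppF hM h.typeM] at l2
  rw [DadeSuppF hL h1] at l3
  have l4 := sum_norm_sq_le (H := ⊤) (A := A1til L ∪ A1til M) (fun _ _ => trivial) (τ1 χ)
  rw [sum_elts_union (FT_Dade1_support_disjoint hL hM h.notConj), mul_add,
    hτ.cfnorm (mem_zchar hχ), cfnorm_irr (hirr χ hχ)] at l4
  obtain ⟨E, hE⟩ := hF
  have h3 : 3 ≤ (Fcore L).relIndex L := by
    rw [hE.sdprod.relIndex_left]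
    have := one_lt_card hE.compl_ne_bot
    obtain ⟨k, hk⟩ := mFT_odd E
    omega
  refine final_ineq (e := (Fcore L).relIndex L) (h := ♯(Fcore L)) (k := ♯(Fcore M))
    (k' := ♯(der (Fcore M))) (m := ♯M) (n := (der (Fcore M)).relIndex (Fcore M)) (z := (z : ℝ) ^ 2)
    (by exact_mod_cast h3) (cardR_pos _) (by exact_mod_cast h.seven_le)
    (by exact_mod_cast card_mul_relIndex (der_le _)) (cardR_pos _) (cardR_pos _) ?_
    (sq_le_of_dvd (relIndex_pos _ _) h.index_le hd) (by linarith)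
  rw [← h.defM.card]
  exact_mod_cast Nat.mul_le_mul_left _ (card_le h.inf_le)

theorem dvd_Fcore (p : ℕ) : p.Prime → ∀ M : Subgroup G, IsCoatom M → FTtype M = 1 → 1 < rp p M →
    p ∣ ♯(Fcore M) := by
  induction p using Nat.strong_induction_on with
  | _ p ih =>
  intro hp M hM h1 hr
  by_contra hK
  haveI := Fact.mk hp
  obtain ⟨P0, L, x, h⟩ := exists_hyp ih hM h1 hr hK
  exact h.false

end P12

open P12

variable [MinOdd G] {L : Subgroup G}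

/-- (12.7) -/
theorem FTtype1_Frobenius (hL : IsCoatom L) (h1 : FTtype L = 1) : IsFrobKer L (Fcore L) := by
  obtain ⟨U, hF, -⟩ := typeF hL h1
  refine ⟨U, (typeF_context (mFT_odd L) hF).2.1.mpr ((isZGroup_iff_rank_of_odd (mFT_odd U)).mpr
    (rank_le_iff.mpr fun q hq => ?_))⟩
  by_contra hr
  exact hq.out.one_lt.ne' (Nat.eq_one_of_dvd_coprimes (hF.sdprod.coprime_of_left (Fcore_isHallIn L))
    (dvd_Fcore q hq.out L hL h1 (lt_of_lt_of_le (by omega) (rp_mono q hF.sdprod.right_le)))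
    (rp_pos_iff.mp (by omega)))

/-- (12.17) -/
theorem not_all_FTtype1 : ¬ ∀ M : Subgroup G, IsCoatom M → FTtype M = 1 := by
  classical
  intro hall
  obtain ⟨p1, p2, -, -, -, p6, -⟩ := FT_Dade_support_partition (G := G)
  have hC : ∀ M : Subgroup G, IsCoatom M → ∀ x ∈ sharp (Fcore M), DadeSig ⊤ M x = ⊥ := by
    intro M hM x hx
    have h0 := Fcore_sub_FTsupp0 hM hx
    rw [def_FTsignalizer0 hM h0, FTsignalizer, if_pos]
    by_contra hc
    obtain ⟨-, -, hA, -⟩ := (FTsupport_facts hM).2.2 x h0 hc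
    have hN := ((FTsupport_facts hM).2.1 x h0 hc).2.1
    rw [FTsupp1_type1 (hall _ hN), FTsupp_Frobenius hN (FTtype1_Frobenius hN (hall _ hN))] at hA
    exact hA.2 hA.1
  have hTI : ∀ M : Subgroup G, IsCoatom M → NormedTI (sharp (Fcore M)) ⊤ M := fun M hM =>
    (Dade_normedTI_P (FT_DadeF_hyp hM)).mpr ⟨sharp_nonempty.mpr (mmax_Fcore_neq1 hM), hC M hM⟩
  let r : Setoid (Subgroup G) := ⟨fun A B => ∃ g : G, A = g •ᶜ B,
    fun A => ⟨1, (conj_eq_of_mem (one_mem _)).symm⟩,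
    fun ⟨g, h⟩ => ⟨g⁻¹, conj_eq_iff_eq_inv_conj.mp h.symm⟩,
    fun ⟨g, h⟩ ⟨k, h'⟩ => ⟨g * k, by rw [h, h', conj_conj]⟩⟩
  let I : Finset (Quotient r) := (Set.toFinite {q : Quotient r | IsCoatom q.out}).toFinset
  have hI : ∀ q, q ∈ I ↔ IsCoatom q.out := fun q => Set.Finite.mem_toFinset _
  have hrep : ∀ M : Subgroup G, IsCoatom M → ∃ q ∈ I, ∃ g : G, q.out = g •ᶜ M := fun M hM => by
    obtain ⟨g, hg⟩ : ∃ g : G, (Quotient.mk r M).out = g •ᶜ M := Quotient.mk_out (s := r) M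
    exact ⟨_, (hI _).mpr (hg ▸ isCoatom_conj hM g), g, hg⟩
  refine no_coherent_Frobenius_partition (Γ := ⊤) (I := I) (L := fun q => q.out)
    (H := fun q => Fcore q.out) ⟨mFT_odd ⊤, fun q hq => mmax_sol ((hI q).mp hq),
      fun q hq => FTtype1_Frobenius ((hI q).mp hq) (hall _ ((hI q).mp hq)),
      fun q hq => hTI _ ((hI q).mp hq), fun q hq q' hq' hne => ?_, ?_⟩ ?_
  · rw [hI] at hq hq'
    rw [← FTcore_type1 (hall _ hq), ← FTcore_type1 (hall _ hq')]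
    exact p2 _ _ hq hq' fun g e => hne (Quotient.out_equiv_out.mp (⟨g, e⟩ : r _ _)).symm
  · by_contra hc
    obtain ⟨M0, hM0, -⟩ := mmax_exists (mFT_bot_ne_top (G := G))
    obtain ⟨q, hq, -⟩ := hrep M0 hM0
    have hL := (hI q).mp hq
    obtain ⟨E, hE⟩ := FTtype1_Frobenius hL (hall _ hL)
    obtain ⟨p, hp, hd⟩ := exists_prime_dvd hE.compl_ne_bot
    obtain ⟨M, hM, hpM⟩ := p1 p ⟨hp, hd.trans (card_dvd le_top)⟩
    obtain ⟨q', hq', g, hg⟩ := hrep M hM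
    rw [Finset.card_le_one.mp (by omega) q' hq' q hq] at hg
    rw [FTcore_type1 (hall _ hM), ← piOf_conj g, ← Fcore_conj, ← hg] at hpM
    exact hp.one_lt.ne' (Nat.eq_one_of_dvd_coprimes hE.coprime hpM.2 hd)
  · ext x
    simp only [Set.mem_diff, Set.mem_iUnion, Set.mem_singleton_iff]
    refine ⟨fun ⟨_, h⟩ => by_contra fun hx => h ?_, ?_⟩
    · obtain ⟨M, hM, hxM⟩ := p6 hall x hx
      obtain ⟨q, hq, g, hg⟩ := hrep M hM
      have hL := (hI q).mp hq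
      refine ⟨q, hq, ?_⟩
      rw [← Dade_support_normedTI (FT_DadeF_hyp hL) (hTI _ hL), DadeSuppF hL (hall _ hL), hg, A1til,
        FT_Dade1_supportJ hM]
      exact hxM
    · rintro rfl
      exact ⟨trivial, fun ⟨q, _, h⟩ => one_not_mem_sharp _ (one_mem_classSupp.mp h)⟩

end Cfsg.Agent.OO.Pf
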