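import Cfsg.Agent.Lib.OO.Pf.PF13_E

/-! # Peterfalvi (13.18), (13.19) -/

set_option autoImplicit false
set_option linter.unusedSectionVars false
set_option linter.unusedVariables false

namespace Cfsg.Agent.OO.Pf

open Subgroup Cfsg.Agent.Coprime
open scoped Pointwise ComplexConjugate

universe u

variable {G : Type u} [Group G] [Finite G] [MinOdd G] {S U W W1 W2 L : Subgroup G} {j l : G → ℂ}

namespace P13

theorem defPW (h : OfTypeP S U W W1 W2) : IsSdprod (Fcore S) W1 (Fcore S ⊔ W1) :=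
  (Ptype_Fcore_sdprod h).mono le_rfl le_sup_right (h.defM.right_le.trans (Fcore_normal S).norm)

theorem PW_le (h : OfTypeP S U W W1 W2) : Fcore S ⊔ W1 ≤ S := sup_le (Fcore_le S) h.defM.right_le

theorem gamma_ker (h : OfTypeP S U W W1 W2) :
    Fcore S ≤ cfker S (cfInd S (Fcore S ⊔ W1) (cf1 (Fcore S ⊔ W1))) :=
  le_cfker_cfInd (PW_le h) (Fcore_normal S).norm
    (le_sup_left.trans ((isIrr_cf1 _).le_cfker_iff.mpr rfl))

theorem gamma_P (h : OfTypeP S U W W1 W2) {x : G} (hx : x ∈ Fcore S) :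
    cfInd S (Fcore S ⊔ W1) (cf1 (Fcore S ⊔ W1)) x = ♯U := by
  have e := card_mul_relIndex (PW_le h)
  rw [← (defPW h).card, ← h.defM.card, ← h.defM'.card, mul_right_comm] at e
  rw [cfker1 (gamma_ker h hx), cfInd1 (PW_le h), cf1E (one_mem _), mul_one,
    Nat.eq_of_mul_eq_mul_left (card_pos' _) (Nat.eq_of_mul_eq_mul_right (card_pos' _) e)]

theorem gamma_der (h : OfTypeP S U W W1 W2) {x : G} (hx : x ∈ der S) (hP : x ∉ Fcore S) :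
    cfInd S (Fcore S ⊔ W1) (cf1 (Fcore S ⊔ W1)) x = 0 := by
  refine cfInd_eq_zero _ fun g hg => cf1_of_not_mem fun h1 => hP ?_
  have := mem_inf.mpr ⟨h1, conj_mem_of_norm' ((der_normal S).norm hg) hx⟩
  rw [sup_inf_of_le_left (Or.inr (defPW h).le_norm) h.defM'.left_le, inf_comm, h.defM.inf_eq, sup_bot_eq] at this
  simpa [mul_assoc] using (Fcore_normal S).conj_mem hg this

theorem gamma_out (hS : IsCoatom S) (h : OfTypeP S U W W1 W2) {x : G} (hx : x ∈ Fcore S ⊔ W1)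
    (hP : x ∉ Fcore S) : cfInd S (Fcore S ⊔ W1) (cf1 (Fcore S ⊔ W1)) x = 1 := by
  have hF := Ptype_compl_Frobenius hS h (not5 hS)
  have d := Ptype_Fcore_sdprod h
  rw [cfInd_eq_self (PW_le h) (cf1_mem_CF _) (PW_le h hx) fun g hg hn => cf1_of_not_mem fun h1 => hn ?_,
    cf1E hx]
  obtain ⟨k, hk, a, ha, rfl⟩ := d.mem_iff'.mp hg
  obtain ⟨z, hz, v, hv, rfl⟩ := (defPW h).mem_iff.mp hx
  have h2 : k⁻¹ * v * k ∈ Fcore S ⊔ W1 := by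
    have := mul_mem (inv_mem (mem_sup_left (T := W1) (conj_mem_of_norm' (d.le_norm hk) hz)))
      (mul_mem (mul_mem (mem_sup_left ha) h1) (inv_mem (mem_sup_left ha)))
    convert this using 1; group
  have h3 := mem_inf.mpr ⟨h2, mul_mem (mul_mem (inv_mem hk) (mem_sup_right hv)) hk⟩
  rw [sup_inf_of_le_right (Or.inr (defPW h).le_norm) le_sup_right, d.inf_eq, bot_sup_eq] at h3
  have v1 : v ≠ 1 := by rintro rfl; exact hP (by simpa using hz)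
  exact mul_mem (mem_sup_right (hF.normedTI.mem_of_conj' hk ⟨hv, v1⟩ ⟨h3, conj_ne_one'.mpr v1⟩))
    (mem_sup_left ha)

theorem q_dvd' (hS : IsCoatom S) (h : OfTypeP S U W W1 W2) : ♯W1 ∣ ♯U - 1 := u_eq hS h ▸ q_dvd hS h

theorem gamma_norm (hS : IsCoatom S) (h : OfTypeP S U W W1 W2) :
    cfnorm S (cfInd S (Fcore S ⊔ W1) (cf1 (Fcore S ⊔ W1))) = ((♯U - 1) / ♯W1 : ℕ) + 1 := by
  refine cfnorm_eq_of_cfdot ?_
  rw [cfdot_cfInd_right (PW_le h) (cfInd_mem_CF _ _ _) (CF_le_suppOn _ (cf1_mem_CF _)), cfdot_cf1r,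
    ← sub_add_cancel (∑ x ∈ elts _, _) _, ← P12.sum_elts_diff (SetLike.coe_subset_coe.mpr le_sup_left),
    Finset.sum_congr rfl fun x hx => gamma_out hS h (mem_elts.mp hx).1 (mem_elts.mp hx).2,
    Finset.sum_congr rfl fun x hx => gamma_P h (mem_elts.mp hx),
    P12.sum_elts_diff (SetLike.coe_subset_coe.mpr le_sup_left), sum_elts_const, sum_elts_const,
    sum_elts_const, ← (defPW h).card]
  have := cardC_ne_zero W1
  have := cardC_ne_zero (Fcore S)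
  push_cast [Nat.cast_div (q_dvd' hS h) (cardC_ne_zero W1), Nat.cast_pred (card_pos' U), nsmul_eq_mul]
  field_simp; ring

theorem bridge_on (hS : IsCoatom S) (h : OfTypeP S U W W1 W2) (hj : IsIrr W2 j) (hj0 : j ≠ cf1 W2) :
    Pbridge S W W1 W2 j ∈ CFon S (sharp (Fcore S) ∪ classSupp (cycTIset W1 W2) S) := by
  have hp := FT_primeTI_hyp h
  have o := isIrr_cf1 W1
  have m : Pbridge S W W1 W2 j ∈ CF S := sub_mem (cfInd_mem_CF _ _ _) (prTIirr_irr hp o hj).mem_CF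
  refine mem_CFon_of m fun x hx hn => ?_
  rw [Set.mem_union, not_or] at hn
  by_cases h1 : x ∈ der S
  · by_cases h2 : x ∈ Fcore S
    · obtain rfl : x = 1 := by_contra fun h3 => hn.1 ⟨h2, h3⟩
      rw [Pbridge, Pi.sub_apply, gamma_P h h2, prTIirr1 hS h o hj hj0, u_eq hS h, sub_self]
    have e := congrFun (cfRes_prTIred hp hj) x
    rw [cfResE _ h1, cfun_on0 (seqInd_on (Fit_normal S) (FTprTIred_Ind_Fitting hS h hj hj0)) (by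
      rwa [← (defH h).sup_eq, FTtypeP_reg_Fcore hS h, sup_bot_eq]), Pi.smul_apply, smul_eq_mul, eq_comm,
      mul_eq_zero, or_iff_right (cardC_ne_zero W1), prTIres, cfResE _ h1] at e
    rw [Pbridge, Pi.sub_apply, gamma_der h h1 h2, e, sub_self]
  obtain ⟨y, hy, w, hw, hw2, rfl⟩ := hp.exists_conj hx h1
  have w1 : w ∈ W1 := by_contra fun h3 =>
    hn.2 (conj_mem_classSupp ((mem_cycTIset' h.defW).mpr ⟨hw, h3, hw2⟩) (der_le S hy))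
  rw [cfunJ m (der_le S hy), Pbridge, Pi.sub_apply, gamma_out hS h (mem_sup_right w1) fun h3 => hw2 ?_,
    prTIirr_id hp o hj hw hw2, FTprTIsign hS h hj, cfker1 (cfker_cycTIl h.defW j w1),
    (cycTIirr_lin (FT_cyclicTI_hyp h) o hj).one, mul_one, sub_self]
  have : w = 1 := mem_bot.mp ((defPW h).inf_eq.le (mem_inf.mpr ⟨h3, w1⟩))
  exact this ▸ one_mem _

theorem bridge_A0 (hS : IsCoatom S) (h : OfTypeP S U W W1 W2) (hj : IsIrr W2 j) (hj0 : j ≠ cf1 W2) :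
    Pbridge S W W1 W2 j ∈ CFon S (FTsupp0 S) :=
  CFon_mono S (Set.union_subset (Fcore_sub_FTsupp0 hS) (FTtypeP_supp0_def hS h ▸ Set.subset_union_right))
    (bridge_on hS h hj hj0)

theorem bridge_vchar (hS : IsCoatom S) (h : OfTypeP S U W W1 W2) (hj : IsIrr W2 j) (hj0 : j ≠ cf1 W2) :
    FTDade0 S (Pbridge S W W1 W2 j) ∈ ZIrr (⊤ : Subgroup G) :=
  Dade_vchar (FT_Dade0_hyp hS) (mem_ZIrrOn.mpr ⟨sub_mem (cfInd_vchar (PW_le h) (cf1_vchar _))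
    (irr_vchar (prTIirr_irr (FT_primeTI_hyp h) (isIrr_cf1 W1) hj)), (bridge_A0 hS h hj hj0).2⟩)

theorem bridge_sub (hS : IsCoatom S) (h : OfTypeP S U W W1 W2) (hj : IsIrr W2 j) (hj0 : j ≠ cf1 W2)
    (hl : IsIrr W2 l) (hl0 : l ≠ cf1 W2) :
    FTDade0 S (Pbridge S W W1 W2 j) - FTDade0 S (Pbridge S W W1 W2 l) =
      cycTIeta ⊤ W W1 W2 (cf1 W1) l - cycTIeta ⊤ W W1 W2 (cf1 W1) j := by
  have o := isIrr_cf1 W1
  rw [← map_sub, Pbridge, Pbridge, sub_sub_sub_cancel_left, prDade_sub_TIirr (FT_prDade_hypF hS h) o hl hj hl0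
    hj0 (by rw [prTIirr1 hS h o hj hj0, prTIirr1 hS h o hl hl0]), FTprTIsign hS h hl, one_smul]

theorem eta_cf1 (h : OfTypeP S U W W1 W2) (hj : IsIrr W2 j) (hj0 : j ≠ cf1 W2) :
    ⟪cycTIeta ⊤ W W1 W2 (cf1 W1) j, cf1 ⊤⟫[⊤] = 0 := by
  rw [← cycTIiso00 (FT_cyclicTI_hyp h)]
  exact cfdot_cycTIiso_ne (FT_cyclicTI_hyp h) (isIrr_cf1 _) hj (isIrr_cf1 _) (isIrr_cf1 _) (Or.inr hj0)

theorem bridge_cf1 (hS : IsCoatom S) (h : OfTypeP S U W W1 W2) (hj : IsIrr W2 j) (hj0 : j ≠ cf1 W2) :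
    ⟪FTDade0 S (Pbridge S W W1 W2 j), cf1 ⊤⟫[⊤] = 1 := by
  have hp := FT_primeTI_hyp h
  have o := isIrr_cf1 W1
  rw [Dade_cf1 (FT_Dade0_hyp hS) (bridge_A0 hS h hj hj0), Pbridge, cfdotBl,
    ← Frobenius_reciprocity (PW_le h) (cf1_mem_CF _) (cf1_mem_CF _), cfRes_cf1 (PW_le h), cfdot_cf1,
    (prTIirr_irr hp o hj).cfdot_cf1 fun e => hj0 ?_, sub_zero]
  rw [← prTIirr00 hp, prTIirr_inj hp o hj o (isIrr_cf1 W2)] at e
  exact e.2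

end P13

open P13

/-- (13.18) -/
theorem FTtypeP_bridge_facts (hS : IsCoatom S) (h : OfTypeP S U W W1 W2) {j : G → ℂ} (hj : IsIrr W2 j)
    (hj0 : j ≠ cf1 W2) :
    (Pbridge S W W1 W2 j ∈ CFon S (FTsupp0 S) ∧
      Pbridge S W W1 W2 j ∈ CFon S (sharp (Fcore S) ∪ classSupp (cycTIset W1 W2) S)) ∧
    cfnorm S (Pbridge S W W1 W2 j) = ((♯U - 1) / ♯W1 + 2 : ℕ) ∧
    ((∀ k ∈ Irr W2, k ≠ cf1 W2 → PbridgeGap S W W1 W2 k = PbridgeGap S W W1 W2 j) ∧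
      ⟪PbridgeGap S W W1 W2 j, cf1 ⊤⟫[⊤] = 0 ∧ star (PbridgeGap S W W1 W2 j) = PbridgeGap S W W1 W2 j) ∧
    (∀ X Y : G → ℂ, PbridgeGap S W W1 W2 j = X + Y → ⟪X, Y⟫[⊤] = 0 →
      (∀ k ∈ Irr W1, ∀ l ∈ Irr W2, ⟪Y, cycTIeta ⊤ W W1 W2 k l⟫[⊤] = 0) →
      cfnorm ⊤ Y ≤ ((♯U - 1) / ♯W1 : ℕ)) ∧
    ♯W1 ∣ ♯U - 1 := by
  classical
  have hp := FT_primeTI_hyp h
  have hc := FT_cyclicTI_hyp h
  have o := isIrr_cf1 W1
  have o2 := isIrr_cf1 W2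
  have hμ := prTIirr_irr hp o hj
  have n1 : cfnorm S (Pbridge S W W1 W2 j) = ((♯U - 1) / ♯W1 + 2 : ℕ) := by
    rw [Pbridge, cfnormBd (cfdot_eq_zero_of_cfker (cfInd_mem_CF _ _ _) hμ (gamma_ker h) fun h1 =>
      cfker_prTIres (FT_prDade_hypF hS h) hj hj0 ((le_inf h.defM'.left_le h1).trans (cfker_Res _))),
      gamma_norm hS h, cfnorm_irr hμ]
    push_cast; ring
  have i1 : ∀ k ∈ Irr W2, k ≠ cf1 W2 → PbridgeGap S W W1 W2 k = PbridgeGap S W W1 W2 j := fun k hk hk0 => by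
    rw [PbridgeGap, PbridgeGap, eq_add_of_sub_eq (bridge_sub hS h (mem_Irr.mp hk) hk0 hj hj0)]; abel
  have r1 : star (PbridgeGap S W W1 W2 j) = PbridgeGap S W W1 W2 j := by
    refine Eq.trans ?_ (i1 _ (mem_Irr.mpr hj.star) (star_ne_cf1 hj0))
    rw [PbridgeGap, star_add, star_sub, star_cf1,
      star_cycTIeta hc o hj, ← Dade_conjC, Pbridge, star_sub, ← cfInd_star, ← prTIirr_star hp o hj, star_cf1,
      star_cf1]
    rfl
  refine ⟨⟨bridge_A0 hS h hj hj0, bridge_on hS h hj hj0⟩, n1, ⟨i1, ?_, r1⟩, fun X Y e h1 h2 => ?_, q_dvd' hS h⟩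
  · rw [PbridgeGap, cfdotDl, cfdotBl, bridge_cf1 hS h hj hj0, cfdot_cf1, eta_cf1 h hj hj0]; ring
  have hβ := bridge_vchar hS h hj hj0
  obtain ⟨l, hl, hl0, hne⟩ : ∃ l, IsIrr W2 l ∧ l ≠ cf1 W2 ∧
      ⟪FTDade0 S (Pbridge S W W1 W2 j), cycTIeta ⊤ W W1 W2 (cf1 W1) l⟫[⊤] ≠ 0 := by
    by_contra! hn
    have e1 := cfdot_conjC (H := ⊤) (PbridgeGap S W W1 W2 j) (cycTIeta ⊤ W W1 W2 (cf1 W1) j)
    rw [r1, star_cycTIeta hc o hj, star_cf1, PbridgeGap, cfdotDl, cfdotBl, cfdotDl, cfdotBl, hn j hj hj0,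
      hn _ hj.star (star_ne_cf1 hj0), cfdot_symm0 (eta_cf1 h hj hj0),
      cfdot_symm0 (eta_cf1 h hj.star (star_ne_cf1 hj0)), cfdot_cycTIiso_self hc o hj,
      cfdot_cycTIiso_ne hc o hj o hj.star (Or.inr (hc.star_ne2 hj hj0).symm)] at e1
    simp at e1
  have y0 : ⟪Y, cf1 ⊤⟫[⊤] = 0 := cycTIiso00 hc ▸ h2 _ (mem_Irr.mpr o) _ (mem_Irr.mpr o2)
  have e1 : FTDade0 S (Pbridge S W W1 W2 j) = (cf1 ⊤ - cycTIeta ⊤ W W1 W2 (cf1 W1) j + X) + Y := by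
    rw [add_assoc, ← e, PbridgeGap]; abel
  have n2 := cfnorm_Dade (FT_Dade0_hyp hS) (bridge_A0 hS h hj hj0)
  rw [n1, e1, cfnormDd (by rw [cfdotDl, cfdotBl, h1, cfdot_symm0 y0,
    cfdot_symm0 (h2 _ (mem_Irr.mpr o) _ (mem_Irr.mpr hj))]; ring)] at n2
  have b := ((cycTIiso_orthonormal hc).subset (T := {cycTIeta ⊤ W W1 W2 (cf1 W1) (cf1 W2),
    cycTIeta ⊤ W W1 W2 (cf1 W1) l}) (Finset.insert_subset (mem_etaSet.mpr ⟨_, _, o, o2, rfl⟩)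
      (Finset.singleton_subset_iff.mpr (mem_etaSet.mpr ⟨_, _, o, hl, rfl⟩)))).bessel
    (cf1 ⊤ - cycTIeta ⊤ W W1 W2 (cf1 W1) j + X)
  rw [Finset.sum_pair fun e => hl0 ((cycTIiso_eqE hc o o2 o hl).mp e).2.symm, eq_sub_of_add_eq e1.symm,
    cfdotBl, cfdotBl, cycTIiso00 hc, bridge_cf1 hS h hj hj0, y0, h2 _ (mem_Irr.mpr o) _ (mem_Irr.mpr hl),
    sub_zero, sub_zero, norm_one, ← eq_sub_of_add_eq e1.symm] at b
  have := (Cint_cfdot_vchar hβ (cycTIiso_vchar hc o hl)).one_le_norm hne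
  push_cast at n2
  nlinarith

theorem P13.mem_A1til (hS : IsCoatom S) {x : G} (hx : x ∈ Fcore S) (h1 : x ≠ 1) (g : G) :
    g * x * g⁻¹ ∈ A1til S :=
  Set.mem_iUnion₂.mpr ⟨x, Fcore_sub_FTsupp1 hS ⟨hx, h1⟩, conj_mem_classSupp (by simp) trivial⟩

theorem P13.disj_L (hS : IsCoatom S) (h : OfTypeP S U W W1 W2) (hL : IsCoatom L) (h1 : FTtype L = 1) :
    Disjoint (A1til L) (classSupp (Fcore S) ⊤ ∪ classSupp W ⊤) := by
  obtain ⟨T, hST, V, hV⟩ := FTtypeP_pair_witness hS h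
  obtain ⟨-, -, -, p1, p2, -, p3⟩ := FT_Dade_support_partition (G := G)
  have key : ∀ M : Subgroup G, IsCoatom M → FTtype M ≠ 1 → ∀ x ∈ Fcore M, ∀ g, g * x * g⁻¹ ∉ A1til L :=
    fun M hM ht x hx g hm => by
      by_cases x1 : x = 1
      · exact p1 L hL (by simpa [x1] using hm)
      exact Set.disjoint_left.mp (p2 M L hM hL fun y e => ht (by rw [← FTtype_conj M y, ← e, h1]))
        (mem_A1til hM hx x1 g) hm
  rw [Set.disjoint_right]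
  rintro _ (⟨x, hx, g, -, rfl⟩ | ⟨x, hx, g, -, rfl⟩)
  · exact key S hS hST.typeS x hx g
  by_cases x1 : x ∈ W1
  · exact key T hST.maxT hST.typeT x (hV.W2_le x1) g
  by_cases x2 : x ∈ W2
  · exact key S hS hST.typeS x (h.W2_le x2) g
  exact Set.disjoint_left.mp ((p3 S T W W1 W2 hST).1 L hL)
    (conj_mem_classSupp ((mem_cycTIset' h.defW).mpr ⟨hx, x1, x2⟩) trivial)

/-- (13.19) -/
theorem FTtypeI_bridge_facts (hS : IsCoatom S) (h : OfTypeP S U W W1 W2) {L : Subgroup G}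
    (hL : IsCoatom L) (h1 : FTtype L = 1) {τ1 : (G → ℂ) →+ (G → ℂ)} {φ j : G → ℂ}
    (hτ : CoherentWith L ⊤ (calSF L) (sharp L) (FTDadeF L) τ1) (hφ : φ ∈ calSF L)
    (hφ1 : φ 1 = (Fcore L).relIndex L) (hj : IsIrr W2 j) (hj0 : j ≠ cf1 W2) :
    Disjoint (Atil L) (classSupp (Fcore S) ⊤ ∪ classSupp W ⊤) ∧
    (∀ ψ ∈ calSF L, ∀ k ∈ Irr W1, ∀ l ∈ Irr W2, ⟪τ1 ψ, cycTIeta ⊤ W W1 W2 k l⟫[⊤] = 0) ∧
    (∀ l ∈ Irr W2, l ≠ cf1 W2 → ⟪FTDadeF L (Ibridge L φ), cycTIeta ⊤ W W1 W2 (cf1 W1) l⟫[⊤] =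
      ⟪FTDadeF L (Ibridge L φ), cycTIeta ⊤ W W1 W2 (cf1 W1) j⟫[⊤]) ∧
    ((EqCmod 2 ⟪FTDade0 S (Pbridge S W W1 W2 j), τ1 φ⟫[⊤] 1 ∧
        ((♯(Fcore L) : ℝ) - 1) / (Fcore L).relIndex L ≤ ((♯U - 1) / ♯W1 : ℕ)) ∨
      (EqCmod 2 ⟪FTDadeF L (Ibridge L φ), cycTIeta ⊤ W W1 W2 (cf1 W1) j⟫[⊤] 1 ∧
        ♯W2 ≤ (Fcore L).relIndex L)) := by
  classical
  have hc := FT_cyclicTI_hyp h
  have o := isIrr_cf1 W1
  have o2 := isIrr_cf1 W2
  have nH := Fcore_normal L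
  have hd := disj_L hS h hL h1
  have irr := FTtype1_Ind_irr hL h1
  have cf : ∀ ψ ∈ calSF L, ψ ∈ CF L := fun ψ => P12.calSF_CF
  have sL : ∀ α, FTDadeF L α ∈ suppOn (A1til L) := fun α => P12.DadeSuppF hL h1 ▸ Dade_suppOn _ _ _ α
  have oS : ∀ α l, IsIrr W2 l → l ≠ cf1 W2 → ⟪FTDadeF L α, FTDade0 S (Pbridge S W W1 W2 l)⟫[⊤] = 0 :=
    fun α l hl hl0 => by
      rw [tau_eq hS h (bridge_A0 hS h hl hl0)]
      refine cfdot_complement (sL α) (cfInd_suppOn _ _ (bridge_on hS h hl hl0).2) (hd.mono_right ?_)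
      rw [classSupp_union, classSupp_classSupp _ le_top]
      exact Set.union_subset_union (classSupp_mono (sharp_subset _) le_rfl)
        (classSupp_mono ((cycTIset_subset h.defW).trans (sharp_subset _)) le_rfl)
  have st : ∀ ψ ∈ calSF L, FTDadeF L (ψ - star ψ) = τ1 ψ - τ1 (star ψ) := fun ψ hψ => by
    rw [← map_sub, hτ.eq (zchar_onS (sharp_mono nH.le) (by
      simpa only [cfAut_conjAut] using seqInd_sub_aut_zchar nH conjAut hψ))]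
  have b : ∀ ψ ∈ calSF L, ∀ k ∈ Irr W1, ∀ l ∈ Irr W2, ⟪τ1 ψ, cycTIeta ⊤ W W1 W2 k l⟫[⊤] = 0 := by
    intro ψ hψ k hk l hl
    have d1 := hτ.dirr hψ (irr ψ hψ)
    have d2 := hτ.dirr (star_seqInd hψ) (irr ψ hψ).star
    have e := cycTI_NC_eq_zero_of_lt hc (sub_mem d1.mem_CF d2.mem_CF) (fun x hx => by
      rw [← st ψ hψ]
      exact sL _ x (Set.disjoint_right.mp hd (Or.inr (subset_classSupp _ _ (cycTIset_subset h.defW hx).1))))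
      ((cycTI_NC_sub _ _).trans_lt ((add_le_add (cycTI_NC_dirr hc d1) (cycTI_NC_dirr hc d2)).trans_lt
        (lt_min hc.two_lt.1 hc.two_lt.2))) k hk l hl
    have e2 := hτ.cfdot_mem (star_seqInd hψ) hψ
    rw [cfdot_symm0 (seqInd_conjC_ortho (mFT_odd L) nH le_rfl hψ)] at e2
    by_contra hn
    rw [cfdotBl, sub_eq_zero] at e
    rcases d1.eq_or_eq_neg (cycTIiso_dirr hc (mem_Irr.mp hk) (mem_Irr.mp hl)) hn with e3 | e3
    · exact hn (by rw [e, ← e3, e2])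
    · rw [e3, cfdotNr, neg_eq_zero] at e2
      exact hn (e.trans e2)
  have c : ∀ l ∈ Irr W2, l ≠ cf1 W2 → ⟪FTDadeF L (Ibridge L φ), cycTIeta ⊤ W W1 W2 (cf1 W1) l⟫[⊤] =
      ⟪FTDadeF L (Ibridge L φ), cycTIeta ⊤ W W1 W2 (cf1 W1) j⟫[⊤] := fun l hl hl0 => by
    rw [← sub_eq_zero, ← cfdotBr, ← bridge_sub hS h hj hj0 (mem_Irr.mp hl) hl0, cfdotBr, oS _ j hj hj0,
      oS _ l (mem_Irr.mp hl) hl0, sub_zero]
  refine ⟨by rwa [Atil, OO.FTsupp_Frobenius hL (OO.FTtype1_Frobenius hL h1), ← FTsupp1_type1 h1], b, c, ?_⟩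
  obtain ⟨⟨-, k1, k2, k3⟩, -⟩ := Dade_Ind1_sub_lin (FT_DadeF_hyp hL) hτ
    (seqInd_nontrivial (mFT_odd L) nH le_rfl hφ) (irr φ hφ) hφ hφ1 (β := FTDadeF L (Ibridge L φ)) rfl
  obtain ⟨-, -, ⟨-, g1, g2⟩, g3, -⟩ := FTtypeP_bridge_facts hS h hj hj0
  have hβ := bridge_vchar hS h hj hj0
  have hη := cycTIiso_vchar hc o hj
  have hφv := hτ.vchar_mem hφ
  have b1 : ∀ ψ ∈ calSF L, ⟪τ1 ψ, cf1 ⊤⟫[⊤] = 0 := fun ψ hψ =>
    cycTIiso00 hc ▸ b ψ hψ _ (mem_Irr.mpr o) _ (mem_Irr.mpr o2)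
  obtain ⟨z, hz⟩ := cfdot_real_vchar_even (mFT_odd ⊤) (add_mem (sub_mem k2 (cf1_vchar ⊤)) hφv) (by
      rw [star_add, star_sub, star_cf1, ← Dade_conjC,
        cfConjC_Dade_coherent (FT_DadeF_hyp hL) hτ (mFT_odd L) nH le_rfl (irr φ hφ) hφ,
        show star (Ibridge L φ) = Ibridge L φ + (φ - star φ) by
          rw [Ibridge, star_sub, ← cfInd_star, star_cf1]; abel, map_add, st φ hφ]
      abel) (add_mem (sub_mem hβ (cf1_vchar ⊤)) hη) g2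
  obtain ⟨bS, hbS⟩ := Cint_cfdot_vchar hβ hφv
  obtain ⟨bL, hbL⟩ := Cint_cfdot_vchar k2 hη
  have par : bS + bL = 2 * z + 1 := by
    rw [show FTDade0 S (Pbridge S W W1 W2 j) - cf1 ⊤ + cycTIeta ⊤ W W1 W2 (cf1 W1) j =
      PbridgeGap S W W1 W2 j from rfl, g1, cfdotDl, cfdotBl, cfdot_symm0 g1, PbridgeGap] at hz
    simp only [cfdotDr, cfdotBr] at hz
    rw [oS _ j hj hj0, k1, hbL, cfdot_vchar_comm hφv hβ, hbS, b1 φ hφ,
      b φ hφ _ (mem_Irr.mpr o) _ (mem_Irr.mpr hj)] at hz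
    have : (bS + bL : ℂ) = 2 * z + 1 := by linear_combination hz
    exact_mod_cast this
  have e0 := relIndexC_ne_zero (Fcore L) L
  rcases Int.even_or_odd' bS with ⟨s, rfl | rfl⟩
  · refine Or.inr ⟨⟨z - s, by rw [hbL, show bL = 2 * (z - s) + 1 by omega]; push_cast; ring⟩, ?_⟩
    have n1 := cycTI_NC_norm hc k2
    have n2 : (Irr W2).card ≤ cycTI_NC ⊤ W W1 W2 (FTDadeF L (Ibridge L φ)) := by
      refine Finset.card_le_card_of_injOn (fun l => (cf1 W1, l)) (fun l hl => ?_) fun _ _ _ _ e => (Prod.ext_iff.mp e).2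
      refine Finset.mem_coe.mpr (Finset.mem_filter.mpr ⟨Finset.mem_product.mpr ⟨mem_Irr.mpr o, hl⟩, ?_⟩)
      by_cases hl0 : l = cf1 W2
      · simp [hl0, cycTIiso00 hc, k1]
      · simp only [c l hl hl0, hbL, Int.cast_ne_zero]; omega
    rw [k3] at n1
    rw [hc.card_Irr.2] at n2
    have n3 : ♯W2 ≤ (Fcore L).relIndex L + 1 := n2.trans (by exact_mod_cast n1)
    have := mFT_odd W2
    have := (mFT_odd L).of_dvd_nat (relIndex_dvd_card (Fcore L) L)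
    grind
  refine Or.inl ⟨⟨s, by rw [hbS]; push_cast; ring⟩, ?_⟩
  set Θ := ∑ ψ ∈ calSF L, (ψ 1 / (Fcore L).relIndex L) • τ1 ψ with hΘ
  have t1 : ∀ ξ ∈ calSF L, ⟪Θ, τ1 ξ⟫[⊤] = ξ 1 / (Fcore L).relIndex L := fun ξ hξ => by
    rw [hΘ, cfdot_suml, Finset.sum_eq_single_of_mem ξ hξ fun ψ hψ hne => by
      rw [cfdotZl, hτ.cfdot_mem hψ hξ, cfdot_irr_ne (irr ψ hψ) (irr ξ hξ) hne, mul_zero],
      cfdotZl, hτ.cfdot_mem hξ hξ, cfdot_irr_self (irr ξ hξ), mul_one]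
  have ia : ∀ ξ ∈ calSF L, IsCint (ξ 1 / (Fcore L).relIndex L) := fun ξ hξ => by
    obtain ⟨a, -, e⟩ := dvd_index_seqInd1 nH.le (P12.calSF_T hξ)
    rw [e, mul_div_cancel_right₀ _ e0]; exact isCint_natCast a
  have t2 : ∀ ξ ∈ calSF L,
      ⟪PbridgeGap S W W1 W2 j - ((2 * s + 1 : ℤ) : ℂ) • Θ, τ1 ξ⟫[⊤] = 0 := fun ξ hξ => by
    have e := cfdot_symm0 (oS (ξ - (ξ 1 / (Fcore L).relIndex L) • φ) j hj hj0)
    rw [hτ.sub_smul cf hξ hφ (ia ξ hξ) (by rw [hφ1, div_mul_cancel₀ _ e0]), cfdotBr, cfdotZr,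
      (ia ξ hξ).conj_eq, hbS, sub_eq_zero] at e
    rw [cfdotBl, cfdotZl, t1 ξ hξ, PbridgeGap, cfdotDl, cfdotBl, e, cfdot_symm0 (b1 ξ hξ),
      cfdot_symm0 (b ξ hξ _ (mem_Irr.mpr o) _ (mem_Irr.mpr hj))]
    ring
  have t3 := g3 _ (((2 * s + 1 : ℤ) : ℂ) • Θ) (sub_add_cancel _ _).symm (by
      rw [cfdotZr, hΘ, cfdot_sumr, Finset.sum_eq_zero fun ξ hξ => by rw [cfdotZr, t2 ξ hξ, mul_zero], mul_zero])
    fun k hk l hl => by
      rw [cfdotZl, hΘ, cfdot_suml, Finset.sum_eq_zero fun ξ hξ => by rw [cfdotZl, b ξ hξ k hk l hl, mul_zero],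
        mul_zero]
  have t4 : cfnorm ⊤ Θ = ((♯(Fcore L) : ℝ) - 1) / (Fcore L).relIndex L := by
    refine cfnorm_eq_of_cfdot ?_
    have e := sum_seqIndC1_square nH
    rw [Finset.sum_congr rfl fun ξ hξ => by rw [cfdot_irr_self (irr ξ hξ), div_one]] at e
    conv_lhs => arg 3; rw [hΘ]
    rw [cfdot_sumr, Finset.sum_congr rfl fun ξ hξ => by
      rw [cfdotZr, (ia ξ hξ).conj_eq, t1 ξ hξ, ← sq, div_pow], ← Finset.sum_div, e]
    push_cast; field_simp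
  rw [cfnormZ, Complex.norm_intCast, sq_abs] at t3
  rw [← t4]
  have : (1 : ℝ) ≤ ((2 * s + 1 : ℤ) : ℝ) ^ 2 := by
    exact_mod_cast (one_le_sq_iff_one_le_abs _).mpr (Int.one_le_abs (by omega : 2 * s + 1 ≠ 0))
  nlinarith [cfnorm_ge0 (H := ⊤) Θ]

end Cfsg.Agent.OO.Pf
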