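import Cfsg.Agent.Lib.OO.Pf.PF14_B

/-! # Peterfalvi section 14, part C: (14.11)-(14.17) -/

set_option autoImplicit false
set_option linter.unusedSectionVars false
set_option linter.unusedVariables false

namespace Cfsg.Agent.OO.Pf

open Subgroup Cfsg.Agent.Coprime P14
open scoped Pointwise ComplexConjugate

universe u

variable {G : Type u} [Group G] [Finite G] [MinOdd G] {S T U V W W1 W2 L M : Subgroup G}

namespace P14

theorem card_conjW (hT : IsCoatom T) (tT : OfTypeP T V W W2 W1) {y : G} (hy : y ∈ Fcore T) :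
    ♯(W1 ⊔ y •ᶜ W2) = ♯W2 * ♯W1 := by
  have h1 : y •ᶜ W1 = W1 :=
    conj_eq_of_mem_cent (cent_anti tT.W2_le (abelem_le_cent (abelemP hT tT) hy))
  rw [← h1, ← conj_sup, card_conj, tT.defW.symm.sup_eq, h1, tT.defW.card]

theorem big_cofactor {a m x : ℕ} (h1 : m * x ≡ 1 [MOD a]) (h2 : m ≡ 1 [MOD a]) (oa : Odd a) (ox : Odd x)
    (hx : x ≠ 1) : 2 * a + 1 ≤ x := by
  have h3 : 1 * x ≡ 1 [MOD a] := (h2.symm.mul_right x).trans h1
  rw [one_mul] at h3
  obtain ⟨t, ht⟩ := (Nat.modEq_iff_dvd' ox.pos).1 h3.symm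
  have hx0 := ox.pos
  rcases Nat.lt_or_ge t 2 with h | h
  · interval_cases t
    · omega
    · obtain ⟨b, hb⟩ := oa; obtain ⟨c, hc⟩ := ox; omega
  · have := Nat.mul_le_mul_left a h
    omega

theorem exists_cofactor {H K : Subgroup G} (h : H ≤ K) (hne : H ≠ K) :
    ∃ x, ♯K = ♯H * x ∧ Odd x ∧ x ≠ 1 := by
  obtain ⟨x, hx⟩ := card_dvd h
  refine ⟨x, hx, (mFT_odd K).of_dvd_nat (Dvd.intro_left _ hx.symm), ?_⟩
  rintro rfl
  exact hne (eq_of_le_of_card_le h (by omega))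

theorem eta_sum_odd {Γ : Subgroup G} (hc : CycTIHyp Γ W W1 W2) {a : (G → ℂ) → ℂ}
    (ha : ∀ ξ ∈ etaSet Γ W W1 W2, EqCmod 2 (a ξ) 1) {g : G} (hgΓ : g ∈ Γ)
    (hg : (orderOf g).Coprime ♯W) : EqCmod 2 ((∑ ξ ∈ etaSet Γ W W1 W2, a ξ • ξ) g) 1 := by
  classical
  have hint : ∀ ξ ∈ etaSet Γ W W1 W2, ∃ z : ℤ, ξ g = z := by
    intro ξ hξ
    obtain ⟨i, j, hi, hj, rfl⟩ := mem_etaSet.1 hξ
    exact Cint_cycTIiso_coprime hc (isIrr_cycTIirr hc.defW hi hj)
      (hg.coprime_dvd_right (cforder_lin_char_dvdG (cycTIirr_lin hc hi hj)))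
  choose! n hn using hint
  choose! b hb using ha
  have h1 : cf1 Γ ∈ etaSet Γ W W1 W2 :=
    mem_etaSet.2 ⟨_, _, isIrr_cf1 _, isIrr_cf1 _, (cycTIiso00 hc).symm⟩
  have hs : ∀ ξ ∈ etaSet Γ W W1 W2, star ξ ∈ etaSet Γ W W1 W2 := by
    intro ξ hξ
    obtain ⟨i, j, hi, hj, rfl⟩ := mem_etaSet.1 hξ
    exact mem_etaSet.2 ⟨_, _, hi.star, hj.star, star_cycTIeta hc hi hj⟩
  have hne : ∀ ξ ∈ etaSet Γ W W1 W2, star ξ = ξ → ξ = cf1 Γ := by
    intro ξ hξ e
    obtain ⟨i, j, hi, hj, rfl⟩ := mem_etaSet.1 hξ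
    rw [star_cycTIeta hc hi hj, cycTIiso_eqE hc hi.star hj.star hi hj] at e
    have e1 : i = cf1 W1 := by by_contra h; exact hc.star_ne1 hi h e.1
    have e2 : j = cf1 W2 := by by_contra h; exact hc.star_ne2 hj h e.2
    rw [e1, e2, cycTIiso00 hc]
  have h2 : ∑ ξ ∈ (etaSet Γ W W1 W2).erase (cf1 Γ), (n ξ : ZMod 2) = 0 := by
    refine Finset.sum_involution (fun ξ _ => star ξ) (fun ξ hξ => ?_) (fun ξ hξ _ e => ?_)
      (fun ξ hξ => ?_) (fun ξ hξ => star_star ξ)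
    · have hξ' := Finset.mem_of_mem_erase hξ
      have e : n (star ξ) = n ξ := by
        have := hn _ (hs ξ hξ')
        rw [cfConjCE, hn ξ hξ', map_intCast] at this
        exact_mod_cast this.symm
      rw [e, ← two_mul]
      exact mul_eq_zero_of_left rfl _
    · exact Finset.ne_of_mem_erase hξ (hne ξ (Finset.mem_of_mem_erase hξ) e)
    · refine Finset.mem_erase.2 ⟨fun e => Finset.ne_of_mem_erase hξ ?_, hs ξ (Finset.mem_of_mem_erase hξ)⟩
      rw [← star_star ξ, e, star_cf1]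
  rw [← Int.cast_sum, ZMod.intCast_zmod_eq_zero_iff_dvd] at h2
  obtain ⟨c, hc2⟩ := h2
  have h3 : ∑ ξ ∈ etaSet Γ W W1 W2, (n ξ : ℂ) = 1 + 2 * c := by
    rw [← Finset.add_sum_erase _ _ h1, ← hn _ h1, cf1E hgΓ, ← Int.cast_sum, hc2]; push_cast; ring
  refine ⟨c + ∑ ξ ∈ etaSet Γ W W1 W2, b ξ * n ξ, ?_⟩
  rw [Finset.sum_apply, Finset.sum_congr rfl (g := fun ξ => (n ξ : ℂ) + 2 * (b ξ * n ξ)) fun ξ hξ => by
    rw [Pi.smul_apply, smul_eq_mul, hn ξ hξ]; linear_combination (hb ξ hξ) * (n ξ : ℂ),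
    Finset.sum_add_distrib, h3, ← Finset.mul_sum]
  push_cast; ring

theorem ti_ratio {A : Set G} (h : NormedTI A ⊤ L) :
    (♯(⊤ : Subgroup G) : ℝ)⁻¹ * (classSupp A ⊤).ncard = A.ncard / ♯L := by
  have e : (♯L : ℝ) * L.relIndex ⊤ = ♯(⊤ : Subgroup G) := by exact_mod_cast card_mul_relIndexC (le_top (a := L))
  have := cardR_pos L
  have := cardR_pos (⊤ : Subgroup G)
  rw [h.ncard_classSupp]
  push_cast
  field_simp
  rw [← e]; ring

theorem cc_core_le (hS : IsCoatom S) (tS : OfTypeP S U W W1 W2) :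
    (♯(⊤ : Subgroup G) : ℝ)⁻¹ * (classSupp (sharp (Fcore S)) ⊤).ncard ≤ 1 / (♯U * ♯W1) := by
  have hti : NormedTI (sharp (Fcore S)) ⊤ S := (ti0 hS tS).mono (sharp_nonempty.2 (mmax_Fcore_neq1 hS))
    (Fcore_sub_FTsupp0 hS) fun x hx b hb => conj_mem_sharp ((Fcore_normal S).norm hx) hb
  rw [ti_ratio hti, ncard_sharp, cardS hS tS, Nat.cast_pred (card_pos' _)]
  have := cardR_pos U
  have := cardR_pos W1
  have := cardR_pos (Fcore S)
  push_cast
  rw [div_le_div_iff₀ (by positivity) (by positivity)]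
  nlinarith [mul_pos ‹(0 : ℝ) < ♯U› ‹(0 : ℝ) < ♯W1›]

theorem final_ineq {p q u v k N : ℝ} (hq : 3 ≤ q) (hp : q ≤ p) (hu : 6 ≤ u) (hv : q ^ 4 ≤ v)
    (hk : 2 * p * v ≤ k) (h1 : 1 - p * q / k ≤ N)
    (h2 : N ≤ (k - 1) / (k * (p * q)) + ((q - 1) * (p - 1) / (p * q) + 1 / (u * q) + 1 / (v * p))) :
    False := by
  have q0 : 0 < q := by linarith
  have p0 : 0 < p := by linarith
  have q2 : 9 ≤ q ^ 2 := by nlinarith
  have q4 : 9 * q ^ 2 ≤ q ^ 4 := by nlinarith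
  have v6 : 6 ≤ v := by nlinarith
  have k0 : 0 < k := by nlinarith
  have e1 : p * q / k ≤ 1 / (6 * q) := by
    rw [div_le_div_iff₀ k0 (by positivity)]
    nlinarith
  have e2 : (k - 1) / (k * (p * q)) ≤ 1 / (p * q) := by
    rw [div_le_div_iff₀ (by positivity) (by positivity)]
    nlinarith [mul_pos p0 q0]
  have e3 : (q - 1) * (p - 1) / (p * q) = 1 - 1 / p - 1 / q + 1 / (p * q) := by field_simp; ring
  have e4 : 1 / (u * q) ≤ 1 / (6 * q) := by gcongr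
  have e5 : 1 / (v * p) ≤ 1 / (6 * q) := by gcongr
  have e6 : 1 / (p * q) ≤ 1 / (p * 2) := by gcongr; linarith
  have e7 : 1 / (p * 2) = 1 / p / 2 := by field_simp
  have e8 : 1 / (6 * q) = 1 / q / 6 := by field_simp
  have e9 : 0 < 1 / q := by positivity
  linarith

theorem cast_div_lt {a b c d : ℕ} (ha : 0 < a) (hb : 0 < b) (hc : 0 < c) (hd : 0 < d)
    (h : (a - 1) * d < (c - 1) * b) : (((a - 1) / b : ℕ) : ℝ) < ((c : ℝ) - 1) / d := by
  refine Nat.cast_div_le.trans_lt ?_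
  rw [div_lt_div_iff₀ (by exact_mod_cast hb) (by exact_mod_cast hd), ← Nat.cast_pred hc]
  exact_mod_cast h

theorem relIndex_pos (H K : Subgroup G) : 0 < H.relIndex K :=
  Nat.pos_of_ne_zero (by exact_mod_cast relIndexC_ne_zero H K)

end P14

/-- (14.11) -/
theorem FTtype2_min_support (h : Hyp14 S T U V W W1 W2) (hM : IsCoatom M) (hVM : 𝐍(V) ≤ M) :
    Fcore M = V ∧ (Fcore M).relIndex M = ♯W2 * ♯W1 := by
  classical
  have hb := bounds h
  have hS := h.maxS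
  have tS := h.typeS
  have hT := h.maxT
  have tT := h.typeT
  have hc := cti h
  have h2 := FTtypeP_min_typeII h
  obtain ⟨hF, hVK, hcase⟩ := FTtypeII_support_facts hT tT h2 (typeP_pair_sym (pair h)) hM hVM
  suffices hK : Fcore M = V by
    refine ⟨hK, ?_⟩
    rcases hcase with hs | ⟨y, hy, hs⟩
    · exfalso
      refine (compl_of_typeII hT tT h2).not_norm_le (hVM.trans ?_)
      rw [← hs.sup_eq, hK]
      exact sup_le (U_le tT) (W1_le tT)
    · rw [hs.relIndex_left, card_conjW hS tS hy, mul_comm]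
  by_contra hne
  have he : ♯W2 ∣ (Fcore M).relIndex M ∧ (Fcore M).relIndex M ≤ ♯W2 * ♯W1 := by
    rcases hcase with hs | ⟨y, hy, hs⟩
    · rw [hs.relIndex_left]; exact ⟨dvd_rfl, Nat.le_mul_of_pos_right _ (by omega)⟩
    · rw [hs.relIndex_left, card_conjW hS tS hy, mul_comm]; exact ⟨Dvd.intro _ rfl, le_rfl⟩
  have h1 := FT_Frobenius_type1 hM hF
  have hk1 : ♯(Fcore M) ≡ 1 [MOD ♯W2] := by
    obtain ⟨E, hE⟩ := hF
    exact modEq_of_dvd_pred (card_pos' _) ((hE.sdprod.relIndex_left ▸ he.1).trans hE.dvd_pred)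
  obtain ⟨x, hx, ox, hx1⟩ := exists_cofactor hVK (Ne.symm hne)
  have hxb := big_cofactor (hx ▸ hk1) (modEq_of_dvd_pred (card_pos' V) (frobU hT tT).dvd_pred)
    (mFT_odd W2) ox hx1
  have hk : 2 * ♯W2 * ♯V + ♯V ≤ ♯(Fcore M) := by rw [hx]; nlinarith
  have hv0 := card_pos' V
  obtain ⟨τ1, hτ⟩ := FTtype1_coherence hM h1
  obtain ⟨ψ, hψ, hψ1⟩ := FTtype1_ref_irr hM
  have hv : (((♯V - 1) / ♯W2 : ℕ) : ℝ) < ((♯(Fcore M) : ℝ) - 1) / (Fcore M).relIndex M := by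
    refine cast_div_lt hv0 (by omega) (card_pos' _) (relIndex_pos _ _) ?_
    calc (♯V - 1) * (Fcore M).relIndex M ≤ ♯V * (♯W2 * ♯W1) := Nat.mul_le_mul (by omega) he.2
      _ < (2 * ♯W2 * ♯V) * ♯W2 := by
          have := mul_pos hv0 (card_pos' W2)
          nlinarith
      _ ≤ _ := Nat.mul_le_mul_right _ (by omega)
  have hu : (((♯U - 1) / ♯W1 : ℕ) : ℝ) < ((♯(Fcore M) : ℝ) - 1) / (Fcore M).relIndex M :=
    lt_trans (by exact_mod_cast FTtypeP_complV_ltr h) hv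
  obtain ⟨hepq, hodd, χ, hχ, hB⟩ := support_coherence hS tS hT tT hM h1 hτ hψ hψ1 hu hv he.2
  obtain ⟨ζ, hζ, hζ1, hζχ⟩ : ∃ ζ ∈ calSF M, ζ 1 = (Fcore M).relIndex M ∧ ∀ g, ‖τ1 ζ g‖ = ‖χ g‖ := by
    rcases hχ with e | e
    · exact ⟨ψ, hψ, hψ1, fun g => by rw [e]⟩
    · exact ⟨star ψ, star_seqInd hψ, by rw [cfConjCE, hψ1, map_natCast], fun g => by rw [e]; simp⟩
  have hirr := FTtype1_Ind_irr hM h1 ζ hζ
  have hD := FT_DadeF_hyp hM
  obtain ⟨-, ⟨Δ, -, -, -, -, hΔ⟩, -⟩ := Dade_Ind1_sub_lin hD hτ (one_lt_calSF hζ) hirr hζ hζ1 rfl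
  have hlb := (hΔ (odd_Frobenius_index_ler (mFT_odd M) hF)).1
  have hdir := hτ.dirr hζ hirr
  have hcov := Dade_cover_inequality (Γ := ⊤) ({()} : Finset Unit) (fun _ => M)
    (fun _ => sharp (Fcore M)) (fun _ _ => hD) (fun _ _ _ _ e => absurd rfl e) rfl hdir.mem_CF hdir.cfnorm
  rw [Finset.sum_singleton] at hcov
  set G0 : Set G := ((⊤ : Subgroup G) : Set G) \ ⋃ i ∈ ({()} : Finset Unit), DadeSupp ⊤ M (sharp (Fcore M))
  set D := classSupp (cycTIset W1 W2) ⊤ ∪ classSupp (sharp (Fcore S)) ⊤ ∪ classSupp (sharp (Fcore T)) ⊤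
  have hge : ∀ g ∈ G0 \ D, 1 ≤ ‖τ1 ζ g‖ ^ 2 := by
    rintro g ⟨⟨-, hg1⟩, hg2⟩
    have hB0 : FTDadeF M (Ibridge M ψ) g = 0 :=
      Dade_suppOn _ _ _ _ g fun hg => hg1 (Set.mem_biUnion (Finset.mem_singleton_self ()) hg)
    have c1 := coprime_core hS tS (FTtypeP_max_Galois h) (g := g) (fun e => hg2 (Or.inl (Or.inl e)))
      fun e => hg2 (Or.inl (Or.inr e))
    have c2 := coprime_core hT tT (FTtypeP_min_Galois h).1 (g := g)
      (fun e => hg2 (Or.inl (Or.inl (cycTIset_comm W1 W2 ▸ e)))) fun e => hg2 (Or.inr e)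
    have ho := eta_sum_odd hc hodd (mem_top g) (by rw [← tS.defW.card]; exact c2.mul_right c1)
    rw [hB, Pi.sub_apply, sub_eq_zero] at hB0
    rw [hζχ, ← hB0]
    exact one_le_of_odd ho
  have s1 : ((G0 \ D).ncard : ℝ) ≤ ∑ g ∈ elts G0, ‖τ1 ζ g‖ ^ 2 := by
    calc ((G0 \ D).ncard : ℝ) = ∑ g ∈ elts (G0 \ D), 1 := by simp [card_elts_set]
      _ ≤ ∑ g ∈ elts (G0 \ D), ‖τ1 ζ g‖ ^ 2 := Finset.sum_le_sum fun g hg => hge g (mem_elts.1 hg)
      _ ≤ _ := Finset.sum_le_sum_of_subset_of_nonneg (fun g hg => mem_elts.2 (mem_elts.1 hg).1)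
          fun _ _ _ => by positivity
  have s2 : G0.ncard ≤ (G0 \ D).ncard + ((classSupp (cycTIset W1 W2) ⊤).ncard +
      (classSupp (sharp (Fcore S)) ⊤).ncard + (classSupp (sharp (Fcore T)) ⊤).ncard) := by
    have a1 := Set.ncard_le_ncard (Set.subset_sdiff_union G0 D)
    have a2 := Set.ncard_union_le (G0 \ D) D
    have a3 := Set.ncard_union_le (classSupp (cycTIset W1 W2) ⊤ ∪ classSupp (sharp (Fcore S)) ⊤)
      (classSupp (sharp (Fcore T)) ⊤)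
    have a4 := Set.ncard_union_le (classSupp (cycTIset W1 W2) ⊤) (classSupp (sharp (Fcore S)) ⊤)
    have a5 : D.ncard = (classSupp (cycTIset W1 W2) ⊤ ∪ classSupp (sharp (Fcore S)) ⊤ ∪
      classSupp (sharp (Fcore T)) ⊤).ncard := rfl
    omega
  have r1 := ti_ratio hc.ti
  rw [card_cycTIset hc.defW, ← hc.defW.card, Nat.cast_mul, Nat.cast_pred (card_pos' _),
    Nat.cast_pred (card_pos' _), Nat.cast_mul, mul_comm (♯W1 : ℝ)] at r1
  have r2 := cc_core_le hS tS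
  have r3 := cc_core_le hT tT
  have r4 : (♯M : ℝ) = ♯(Fcore M) * (♯W2 * ♯W1) := by
    have := card_mul_relIndexC (Fcore_le M)
    rw [hepq] at this
    exact_mod_cast this.symm
  rw [ncard_sharp, Nat.cast_pred (card_pos' _), r4] at hcov
  rw [hepq, Nat.cast_mul] at hlb
  have hvq : ♯W1 ^ 4 ≤ ♯V := by
    rw [(FTtypeP_min_Galois h).2]
    exact (Nat.pow_le_pow_right (by omega) (by omega)).trans (gs_gt (by omega) (by omega)).le
  have hu6 := two_mul_lt hS tS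
  refine final_ineq (p := ♯W2) (q := ♯W1) (u := ♯U) (v := ♯V) (k := ♯(Fcore M)) (by exact_mod_cast hb.1)
    (by exact_mod_cast h.lt.le) (by exact_mod_cast (by omega : 6 ≤ ♯U)) (by exact_mod_cast hvq)
    (by exact_mod_cast (by omega : 2 * ♯W2 * ♯V ≤ ♯(Fcore M))) hlb ?_
  have s3 : (G0.ncard : ℝ) ≤ ((G0 \ D).ncard : ℝ) + ((classSupp (cycTIset W1 W2) ⊤).ncard +
      (classSupp (sharp (Fcore S)) ⊤).ncard + (classSupp (sharp (Fcore T)) ⊤).ncard) := by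
    exact_mod_cast s2
  have g0 : (0 : ℝ) ≤ (♯(⊤ : Subgroup G) : ℝ)⁻¹ := by positivity
  have s4 := mul_le_mul_of_nonneg_left (by linarith : -((classSupp (cycTIset W1 W2) ⊤).ncard +
      (classSupp (sharp (Fcore S)) ⊤).ncard + (classSupp (sharp (Fcore T)) ⊤).ncard : ℝ) ≤
      ∑ g ∈ elts G0, ‖τ1 ζ g‖ ^ 2 - G0.ncard) g0
  linarith

namespace P14

/-- the arithmetic of (14.15) -/
theorem arith15 {p q u x : ℕ} (hq : 3 ≤ q) (hp : q < p) (op : Odd p) (oq : Odd q) (ox : Odd x)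
    (hm : p ≡ 1 [MOD q]) (hu : q * u = (p ^ q - 1) / (p - 1)) (hu1 : u ≡ 1 [MOD q])
    (h1 : u * x ≡ 1 [MOD p * q]) (hb : u * x + p * q ≤ p * q * (p * q) + 1) : False := by
  have hp2 := big_cofactor (m := 1) (by simpa using hm) (Nat.ModEq.refl 1) oq op (by omega)
  have a1 : q * u ≡ 1 [MOD p] := hu ▸ gs_modEq (by omega) (by omega)
  have a2 : x ≡ q [MOD p] := by
    have e1 : 1 * x ≡ q * u * x [MOD p] := a1.symm.mul_right x
    have e2 : q * (u * x) ≡ q * 1 [MOD p] := (h1.of_mul_right q).mul_left q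
    rw [one_mul, mul_assoc] at e1
    simpa using e1.trans e2
  have a3 : x ≡ 1 [MOD q] := by
    have e1 : 1 * x ≡ u * x [MOD q] := hu1.symm.mul_right x
    simpa using e1.trans (h1.of_mul_left p)
  obtain ⟨n, hn⟩ : ∃ n, x = p * n + q := ⟨x / p, by
    have := Nat.div_add_mod x p
    rw [a2, Nat.mod_eq_of_lt hp] at this
    exact this.symm⟩
  have a4 : n ≡ 1 [MOD q] := by
    have e1 : 1 * n ≡ p * n [MOD q] := hm.symm.mul_right n
    have e2 : p * n ≡ p * n + q [MOD q] := by simp [Nat.ModEq]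
    rw [one_mul] at e1
    exact (e1.trans e2).trans (hn ▸ a3)
  have a5 : Even n := by
    by_contra hc
    rw [Nat.not_even_iff_odd] at hc
    have := (op.mul hc).add_odd oq
    rw [← hn] at this
    exact (Nat.not_even_iff_odd.2 ox) this
  have a6 : q + 1 ≤ n := by
    have hn0 : 0 < n := by
      rcases Nat.eq_zero_or_pos n with rfl | h
      · have := Nat.le_of_dvd one_pos ((Nat.modEq_iff_dvd' (by omega)).1 a4)
        omega
      · exact h
    have hn1 : n ≠ 1 := by rintro rfl; simp at a5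
    have := Nat.le_of_dvd (by omega) ((Nat.modEq_iff_dvd' hn0).1 a4.symm)
    omega
  have a7 : p * (q + 1) + q ≤ x := by rw [hn]; gcongr
  have a8 : u < p * q := by
    by_contra hc
    push Not at hc
    have := Nat.mul_le_mul hc a7
    have : 2 ≤ p * q := by nlinarith
    nlinarith
  have a9 := gs_gt (p := p) (n := q) (by omega) (by omega)
  rw [← hu] at a9
  have hq3 : q = 3 := by
    by_contra hc
    have : p ^ 3 ≤ p ^ (q - 1) := Nat.pow_le_pow_right (by omega) (by omega)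
    have : q * u ≤ q * (p * q) := by gcongr
    have : q * (p * q) ≤ p * (p * p) := by gcongr
    nlinarith
  subst hq3
  have hp7 : p = 7 := by
    have : p < 9 := by
      by_contra hc
      simp only [Nat.add_one_sub_one] at a9
      nlinarith
    obtain ⟨c, hc⟩ := op
    omega
  subst hp7
  obtain rfl : u = 19 := by norm_num at hu; omega
  omega

end P14

/-- (14.12)-(14.17) -/
theorem FTtype2_exclusion (h : Hyp14 S T U V W W1 W2) : False := by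
  have hb := bounds h
  have hS := h.maxS
  have tS := h.typeS
  have hT := h.maxT
  have tT := h.typeT
  have hc := cti h
  obtain ⟨L, hL, hUL⟩ := mmax_exists (mFT_norm_proper (frobU hS tS).ker_ne_bot
    (ne_top_of_le_mmax hS (U_le tS)))
  obtain ⟨M, hM, hVM⟩ := mmax_exists (mFT_norm_proper (frobU hT tT).ker_ne_bot
    (ne_top_of_le_mmax hT (U_le tT)))
  have hnn := FTtype2_compl_not_normal h hL hUL
  have hUH := U_le_H h hL hUL
  have hne : U ≠ Fcore L := fun e => hnn (e ▸ (Fcore_normal L).norm)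
  obtain ⟨y, hy, hF⟩ := frobL h hL hUL
  have eE := card_conjW hT tT hy
  have eL : (Fcore L).relIndex L = ♯W2 * ♯W1 := by rw [hF.sdprod.relIndex_left, eE]
  obtain ⟨hK, eM⟩ := FTtype2_min_support h hM hVM
  obtain ⟨gT, hv⟩ := FTtypeP_min_Galois h
  have cycV : IsCyclic V := by
    have := (typeP_Galois_P (Ptype_Fcore_kernel_trivial hT tT).1 gT).2.1
    rw [Pc_eq hT tT] at this
    exact (quoBotEquiv V).isCyclic.2 this
  -- (14.12)
  have hn : NotConj L M := by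
    rintro g rfl
    refine hnn ((Fcore_normal _).norm.trans (norm_le_norm_of_isCyclic ?_ hUH))
    rw [Fcore_conj, hK, isCyclic_conj]
    exact cycV
  have h1L := FT_Frobenius_type1 hL hF.isFrobKer
  have h1M := FT_Frobenius_type1 hM (FTtypeII_support_facts hT tT (FTtypeP_min_typeII h)
    (typeP_pair_sym (pair h)) hM hVM).1
  obtain ⟨τL, hτL⟩ := FTtype1_coherence hL h1L
  obtain ⟨φ, hφ, hφ1⟩ := FTtype1_ref_irr hL
  obtain ⟨τM, hτM⟩ := FTtype1_coherence hM h1M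
  obtain ⟨ψ, hψ, hψ1⟩ := FTtype1_ref_irr hM
  -- (14.14)
  have h14 : ♯(Fcore L) + ♯W2 * ♯W1 ≤ ♯W2 * ♯W1 * (♯W2 * ♯W1) + 1 ∨
      (⟪FTDadeF L (Ibridge L φ), τM ψ⟫[⊤] ≠ 0 ∧ ♯W1 = 3 ∧ ♯W2 = 5) := by
    rcases Dade_sub_lin_nonorthogonal (mFT_odd ⊤) (FT_DadeF_hyp hL) (FT_DadeF_hyp hM)
      (disjoint_type1 hL hM h1L h1M hn.symm) hτL hτM (FTtype1_Ind_irr hL h1L φ hφ) hφ hφ1
      (FTtype1_Ind_irr hM h1M ψ hψ) hψ hψ1 with ha | ha
    · refine Or.inr ⟨ha, small_case hb.1 (mFT_odd W2) (mFT_odd W1) h.lt ?_⟩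
      have := core_ltr hL hM h1L h1M hn.symm hτL hτM hφ hφ1 hψ hψ1 ha
      rw [eL, eM, hK, hv] at this
      have h2 := gs_gt (p := ♯W1) (n := ♯W2) (by omega) (by omega)
      have h3 := mul_pos (card_pos' W2) (card_pos' W1)
      nlinarith
    · left
      have := core_ltr hM hL h1M h1L hn hτM hτL hψ hψ1 hφ hφ1 ha
      rwa [eL, eM] at this
  obtain ⟨x, hx, ox, hx1⟩ := exists_cofactor hUH hne
  have hh1 : ♯U * x ≡ 1 [MOD ♯W2 * ♯W1] := by
    rw [← hx, ← eE]; exact modEq_of_dvd_pred (card_pos' _) hF.dvd_pred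
  have hu1 : ♯U ≡ 1 [MOD ♯W1] := modEq_of_dvd_pred (card_pos' _) (frobU hS tS).dvd_pred
  have hu := card_FTtypeP_Galois_compl hS tS (FTtypeP_max_Galois h)
  -- (14.15)
  have hm : ¬ ♯W2 ≡ 1 [MOD ♯W1] := by
    intro hm
    rw [if_pos hm] at hu
    rcases h14 with h14 | ⟨-, e1, e2⟩
    · refine arith15 hb.1 h.lt (mFT_odd W2) (mFT_odd W1) ox hm ?_ hu1 hh1 (hx ▸ h14)
      rw [hu, Nat.mul_div_cancel'
        ((FTtypeP_primes_mod_cases (prime2 h) (prime1 h) (mFT_odd W2) (mFT_odd W1)).2.1 hm)]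
    · rw [e1, e2] at hm
      exact absurd hm (by decide)
  rw [if_neg hm] at hu
  -- (14.16)
  have hu2 : ♯U ≡ 1 [MOD ♯W2 * ♯W1] :=
    (Nat.modEq_and_modEq_iff_modEq_mul hc.coprime.symm).1 ⟨hu ▸ gs_modEq (by omega) (by omega), hu1⟩
  have hxb := big_cofactor hh1 hu2 ((mFT_odd W2).mul (mFT_odd W1)) ox hx1
  rcases h14 with h14 | ⟨ha, e1, e2⟩
  · have h2 := gs_gt (p := ♯W2) (n := ♯W1) (by omega) (by omega)
    have h3 : ♯W2 ^ 2 ≤ ♯W2 ^ (♯W1 - 1) := Nat.pow_le_pow_right (by omega) (by omega)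
    have h4 : ♯W2 * ♯W1 < ♯U := by nlinarith
    have h5 := Nat.mul_le_mul h4 hxb
    nlinarith
  rw [e1, e2] at hu hv hxb
  norm_num at hu hv
  have hlt : ∀ n : ℕ, n ≤ 24 → (n : ℝ) < ((♯(Fcore L) : ℝ) - 1) / (Fcore L).relIndex L := by
    intro n hn
    have h2 : 31 * 31 ≤ ♯(Fcore L) := by rw [hx, hu]; omega
    have h3 : (31 * 31 : ℝ) ≤ ♯(Fcore L) := by exact_mod_cast h2
    have h4 : (n : ℝ) ≤ 24 := by exact_mod_cast hn
    rw [eL, e1, e2, lt_div_iff₀ (by norm_num)]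
    push_cast
    linarith
  obtain ⟨-, -, χ, hχ, hB⟩ := support_coherence hS tS hT tT hL h1L hτL hφ hφ1
    (hlt _ (by rw [hu, e1]; norm_num)) (hlt _ (by rw [hv, e2])) eL.le
  apply ha
  obtain ⟨j0, hj0, hj0'⟩ := exists_irr_ne_cf1 tS.W2_ne_bot
  obtain ⟨-, horth, -⟩ := FTtypeI_bridge_facts hS tS hM h1M hτM hψ hψ1 hj0 hj0'
  rw [hB, cfdotBl, cfdot_suml, Finset.sum_eq_zero fun ξ hξ => by
    obtain ⟨i, j, hi, hj, rfl⟩ := mem_etaSet.1 hξ
    rw [cfdotZl, cfdot_symm0 (horth ψ hψ i (mem_Irr.2 hi) j (mem_Irr.2 hj)), mul_zero]]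
  rcases hχ with rfl | rfl
  · rw [type1_ortho hL hM h1L h1M hn.symm hτL hτM hφ hψ, sub_zero]
  · rw [cfdotNl, type1_ortho hL hM h1L h1M hn.symm hτL hτM (star_seqInd hφ) hψ, neg_zero, sub_zero]

include G in
theorem no_minSimple_odd_group : False := by
  rcases FTtypeP_pair_cases (G := G) with h | ⟨S, T, W, W1, W2, h⟩
  · exact not_all_FTtype1 h
  obtain ⟨U, tS⟩ := typeP_pairW h
  obtain ⟨V, tT⟩ := typeP_pairW (typeP_pair_sym h)
  have hc := FT_cyclicTI_hyp tS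
  rcases lt_trichotomy ♯W1 ♯W2 with e | e | e
  · exact FTtype2_exclusion ⟨h.maxS, h.maxT, tS, tT, e⟩
  · have h1 := hc.coprime
    have h2 := hc.two_lt
    rw [e, Nat.coprime_self] at h1
    omega
  · exact FTtype2_exclusion ⟨h.maxT, h.maxS, tT, tS, e⟩

end Cfsg.Agent.OO.Pf
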