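import Cfsg.Agent.Lib.OO.Pf.PF2_A

/-! # Peterfalvi section 2, second part -/

set_option autoImplicit false
set_option linter.unusedSectionVars false
set_option linter.unusedVariables false

namespace Cfsg.Agent.OO.Pf

open Subgroup Cfsg.Agent.Coprime P2
open scoped Pointwise commutatorElement ComplexConjugate

universe u v w

variable {G : Type u} [Group G] [Finite G]

variable {Γ H L : Subgroup G} {A A1 : Set G} {a b u x : G} {α β φ ψ : G → ℂ}

namespace P2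
theorem Dade_pos (Γ L : Subgroup G) (A : Set G) (α : G → ℂ) (h : ∃ a ∈ A, u ∈ DadeSupp1 Γ L a) :
    Dade Γ L A α u = α h.choose := dif_pos h
theorem Dade_neg (α : G → ℂ) (h : ¬ ∃ a ∈ A, u ∈ DadeSupp1 Γ L a) : Dade Γ L A α u = 0 := dif_neg h
end P2

/-- (2.5) -/
theorem DadeE (h : DadeHyp Γ L A) (hα : α ∈ CF L) (ha : a ∈ A) (hu : u ∈ DadeSupp1 Γ L a) :
    Dade Γ L A α u = α a := by
  have h1 : ∃ a ∈ A, u ∈ DadeSupp1 Γ L a := ⟨a, ha, hu⟩
  obtain ⟨x, hx, e⟩ := Dade_support1_TI h ha h1.choose_spec.1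
    (Set.not_disjoint_iff.2 ⟨u, hu, h1.choose_spec.2⟩)
  rw [Dade_pos _ _ _ _ h1, e, cfunJ hα hx]

theorem Dade_id (h : DadeHyp Γ L A) (hα : α ∈ CF L) (ha : a ∈ A) : Dade Γ L A α a = α a :=
  DadeE h hα ha (Dade_support1_id Γ L a)

theorem Dade_suppOn (Γ L : Subgroup G) (A : Set G) (α : G → ℂ) :
    Dade Γ L A α ∈ suppOn (DadeSupp Γ L A) := fun u hu => Dade_neg α (by rwa [mem_DadeSupp] at hu)

theorem Dade_mem_CF' (h : DadeHyp Γ L A) (α : G → ℂ) : Dade Γ L A α ∈ CF Γ := by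
  refine ⟨suppOn_mono (Dade_support_sub h) (Dade_suppOn Γ L A α), fun g hg u => ?_⟩
  have e : (fun a => a ∈ A ∧ g * u * g⁻¹ ∈ DadeSupp1 Γ L a) =
      fun a => a ∈ A ∧ u ∈ DadeSupp1 Γ L a := by simp only [Dade_support1_conj hg]
  by_cases h1 : ∃ a ∈ A, u ∈ DadeSupp1 Γ L a
  · have h2 : ∃ a ∈ A, g * u * g⁻¹ ∈ DadeSupp1 Γ L a := by simpa only [Dade_support1_conj hg] using h1
    rw [Dade_pos _ _ _ _ h1, Dade_pos _ _ _ _ h2]
    congr 2
  · rw [Dade_neg α h1, Dade_neg α (by simpa only [Dade_support1_conj hg] using h1)]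

theorem Dade_cfunS (h : DadeHyp Γ L A) (hα : α ∈ CF L) :
    Dade Γ L A α ∈ CFon Γ (DadeSupp Γ L A) := ⟨Dade_mem_CF' h α, Dade_suppOn Γ L A α⟩

theorem Dade_mem_CF (h : DadeHyp Γ L A) (hα : α ∈ CF L) : Dade Γ L A α ∈ CF Γ := Dade_mem_CF' h α

theorem Dade_cfun (h : DadeHyp Γ L A) (hα : α ∈ CF L) : Dade Γ L A α ∈ CFon Γ (sharp Γ) :=
  CFon_mono Γ (Dade_support_subD1 h) (Dade_cfunS h hα)

theorem Dade_mul (h : DadeHyp Γ L A) (hα : α ∈ CF L) (ha : a ∈ A) (hx : x ∈ DadeSig Γ L a) :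
    Dade Γ L A α (x * a) = α a := DadeE h hα ha (mem_Dade_support1 hx)

theorem Dade_congr (e : ∀ a ∈ A, α a = β a) : Dade Γ L A α = Dade Γ L A β := by
  ext u
  by_cases h1 : ∃ a ∈ A, u ∈ DadeSupp1 Γ L a
  · rw [Dade_pos _ _ _ _ h1, Dade_pos _ _ _ _ h1, e _ h1.choose_spec.1]
  · rw [Dade_neg α h1, Dade_neg β h1]

theorem Dade1 (h : DadeHyp Γ L A) (α : G → ℂ) : Dade Γ L A α 1 = 0 :=
  Dade_suppOn Γ L A α 1 (not_support_Dade_1 h)

theorem Dade_id1 (h : DadeHyp Γ L A) (hα : α ∈ CFon L A) (ha : a ∈ insert 1 A) :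
    Dade Γ L A α a = α a := by
  rcases ha with rfl | ha
  · rw [Dade1 h, cfun_on0 hα h.one_not_mem]
  · exact Dade_id h hα.1 ha

theorem Dade_aut (Γ L : Subgroup G) (A : Set G) (v : ℂ ≃+* ℂ) (α : G → ℂ) :
    Dade Γ L A (cfAut v α) = cfAut v (Dade Γ L A α) := by
  ext u
  by_cases h1 : ∃ a ∈ A, u ∈ DadeSupp1 Γ L a
  · rw [cfAutE, Dade_pos _ _ _ _ h1, Dade_pos _ _ _ _ h1, cfAutE]
  · rw [cfAutE, Dade_neg α h1, Dade_neg _ h1, map_zero]

theorem Dade_conjC (Γ L : Subgroup G) (A : Set G) (α : G → ℂ) :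
    Dade Γ L A (star α) = star (Dade Γ L A α) := Dade_aut Γ L A conjAut α

/-- (2.7) -/
theorem general_Dade_reciprocity (h : DadeHyp Γ L A) (hα : α ∈ CFon L A) (hφ : φ ∈ CF Γ)
    (hψ : ∀ a ∈ A, ψ a = (♯(DadeSig Γ L a) : ℂ)⁻¹ * ∑ x ∈ elts (DadeSig Γ L a : Set G), φ (x * a)) :
    ⟪Dade Γ L A α, φ⟫[Γ] = ⟪α, ψ⟫[L] := by
  rw [cfdotEl (Dade_support_sub h) (Dade_suppOn Γ L A α), cfdotEl h.subset hα.2,
    sum_Dade_support h (f := fun u => Dade Γ L A α u * conj (φ u)) fun g hg x => by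
      rw [cfunJ (Dade_mem_CF' h α) hg, cfunJ hφ hg]]
  congr 1
  refine Finset.sum_congr rfl fun a ha => ?_
  rw [hψ a (mem_elts.1 ha), Finset.sum_congr rfl fun x hx => by
    rw [Dade_mul h hα.1 (mem_elts.1 ha) (mem_elts.1 hx)], ← Finset.mul_sum]
  simp only [map_mul, map_inv₀, map_natCast, map_sum]
  ring

theorem Dade_reciprocity (h : DadeHyp Γ L A) (hα : α ∈ CFon L A) (hφ : φ ∈ CF Γ)
    (hc : ∀ a ∈ A, ∀ u ∈ DadeSig Γ L a, φ (u * a) = φ a) :
    ⟪Dade Γ L A α, φ⟫[Γ] = ⟪α, cfRes L φ⟫[L] :=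
  general_Dade_reciprocity h hα hφ fun a ha => by
    rw [cfResE _ (h.subset ha), Finset.sum_congr rfl fun x hx => hc a ha x (mem_elts.1 hx),
      sum_elts_const, nsmul_eq_mul, inv_mul_cancel_left₀ (cardC_ne_zero _)]

/-- (2.6)(a) -/
theorem Dade_isometry (h : DadeHyp Γ L A) (hα : α ∈ CFon L A) (hβ : β ∈ CFon L A) :
    ⟪Dade Γ L A α, Dade Γ L A β⟫[Γ] = ⟪α, β⟫[L] :=
  general_Dade_reciprocity h hα (Dade_mem_CF' h β) fun a ha => by
    rw [Finset.sum_congr rfl fun x hx => Dade_mul h hβ.1 ha (mem_elts.1 hx),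
      sum_elts_const, nsmul_eq_mul, inv_mul_cancel_left₀ (cardC_ne_zero _)]

theorem cfnorm_Dade (h : DadeHyp Γ L A) (hα : α ∈ CFon L A) :
    cfnorm Γ (Dade Γ L A α) = cfnorm L α := by
  rw [cfnorm_eq_re, cfnorm_eq_re, Dade_isometry h hα hα]

theorem Dade_cf1 (h : DadeHyp Γ L A) (hα : α ∈ CFon L A) :
    ⟪Dade Γ L A α, cf1 Γ⟫[Γ] = ⟪α, cf1 L⟫[L] := by
  rw [Dade_reciprocity h hα (cf1_mem_CF Γ) fun a ha u hu => by
    rw [cf1E (h.le (h.subset ha)), cf1E (mul_mem (Dade_signalizer_sub _ _ _ hu) (h.le (h.subset ha)))],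
    cfRes_cf1 h.le]

theorem Dade_Ind (h : NormedTI A Γ L) (hA : A ⊆ sharp Γ) (hα : α ∈ CFon L A) :
    Dade Γ L A α = cfInd Γ L α := by
  have hD := (normedTI_Dade h hA).1
  ext u
  by_cases hu : u ∈ classSupp A Γ
  · obtain ⟨a, ha, g, hg, rfl⟩ := hu
    rw [cfunJ (Dade_mem_CF' hD α) hg, cfunJ (cfInd_mem_CF _ _ _) hg, Dade_id hD hα.1 ha,
      normedTI_Ind_id h hα ha (hA ha).1]
  · rw [cfInd_suppOn Γ L hα.2 u hu, Dade_suppOn Γ L A α u (by rwa [Dade_support_normedTI hD h])]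

namespace P2

theorem isCint_sum_orbit {M X : Type*} [Group M] [Finite M] [MulAction M X] (S : Finset X)
    (hS : ∀ (l : M), ∀ x ∈ S, l • x ∈ S) {c : X → ℂ} (hc : ∀ (l : M), ∀ x ∈ S, c (l • x) = c x)
    (hi : ∀ x ∈ S, IsCint (c x)) :
    IsCint (∑ x ∈ S, (Nat.card (MulAction.stabilizer M x) : ℂ) * (Nat.card M : ℂ)⁻¹ * c x) := by
  classical
  rw [← Finset.sum_fiberwise_of_maps_to (t := S.image (Quotient.mk (MulAction.orbitRel M X)))
    (g := Quotient.mk (MulAction.orbitRel M X)) fun x hx => Finset.mem_image_of_mem _ hx]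
  refine isCint_sum fun q hq => ?_
  obtain ⟨x, hx, rfl⟩ := Finset.mem_image.1 hq
  have h1 : ∀ y, y ∈ S.filter (fun y => Quotient.mk (MulAction.orbitRel M X) y =
      Quotient.mk (MulAction.orbitRel M X) x) ↔ y ∈ MulAction.orbit M x := fun y => by
    rw [Finset.mem_filter, Quotient.eq, MulAction.orbitRel_apply]
    exact ⟨fun h => h.2, fun h => ⟨by obtain ⟨l, rfl⟩ := h; exact hS l x hx, h⟩⟩
  rw [Finset.sum_congr rfl (g := fun _ => (Nat.card (MulAction.stabilizer M x) : ℂ) *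
    (Nat.card M : ℂ)⁻¹ * c x) fun y hy => by
      obtain ⟨l, rfl⟩ := (h1 y).1 hy
      simp only
      rw [hc l x hx, Nat.card_congr (MulAction.stabilizerEquivStabilizer (rfl : l • x = l • x)).toEquiv.symm],
    Finset.sum_const, nsmul_eq_mul]
  have h2 : (S.filter (fun y => Quotient.mk (MulAction.orbitRel M X) y =
      Quotient.mk (MulAction.orbitRel M X) x)).card = (MulAction.stabilizer M x).index := by
    rw [MulAction.index_stabilizer, ← Set.ncard_coe_finset]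
    congr 1
    exact Set.ext h1
  have h3 : ((MulAction.stabilizer M x).index : ℂ) * Nat.card (MulAction.stabilizer M x) =
      Nat.card M := by exact_mod_cast index_mul_card _
  have h4 : (Nat.card M : ℂ) ≠ 0 := by exact_mod_cast Nat.card_pos.ne'
  rw [h2, ← mul_assoc, ← mul_assoc, h3, mul_inv_cancel₀ h4, one_mul]
  exact hi x hx

theorem isCint_sum_orbit' {M N X : Type*} [Group M] [Finite M] [Group N] [MulAction N X]
    (ρ : M →* N) (S : Finset X)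
    (hS : ∀ (l : M), ∀ x ∈ S, ρ l • x ∈ S) {c : X → ℂ} (hc : ∀ (l : M), ∀ x ∈ S, c (ρ l • x) = c x)
    (hi : ∀ x ∈ S, IsCint (c x)) :
    IsCint (∑ x ∈ S, (Nat.card ((MulAction.stabilizer N x).comap ρ) : ℂ) * (Nat.card M : ℂ)⁻¹ * c x) :=
  let _ := MulAction.compHom X ρ
  isCint_sum_orbit S hS hc hi

theorem exists_proj {K R M : Subgroup G} (h : IsSdprod K R M) :
    ∃ f : M →* R, ∀ k ∈ K, ∀ r ∈ R, ∀ hm : k * r ∈ M, (f ⟨k * r, hm⟩ : G) = r := by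
  have h1 : ∀ x : M, ∃ r : R, x * (r : G)⁻¹ ∈ K := fun x => by
    obtain ⟨k, hk, r, hr, e⟩ := h.mem_iff.1 x.2
    exact ⟨⟨r, hr⟩, by simpa [← e] using hk⟩
  choose f hf using h1
  have h2 : ∀ (x : M) (r : R), x * (r : G)⁻¹ ∈ K → f x = r := fun x r hr => by
    have : (r : G) * (f x : G)⁻¹ ∈ K ⊓ R := mem_inf.2
      ⟨by simpa [mul_assoc] using mul_mem (inv_mem hr) (hf x), mul_mem r.2 (inv_mem (f x).2)⟩
    rw [h.inf_eq, mem_bot, mul_inv_eq_one] at this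
    exact Subtype.ext this.symm
  refine ⟨MonoidHom.mk' f fun x y => h2 _ _ ?_, fun k hk r hr hm =>
    congrArg Subtype.val (h2 ⟨k * r, hm⟩ ⟨r, hr⟩ (by simpa using hk))⟩
  have := mul_mem (hf x) (conj_mem_of_norm (h.le_norm (f x).2) (hf y))
  simpa [mul_assoc] using this

theorem sum_sdprod {K R M : Subgroup G} (h : IsSdprod K R M) (F : G → ℂ) :
    ∑ y ∈ elts (M : Set G), F y = ∑ r ∈ elts (R : Set G), ∑ k ∈ elts (K : Set G), F (k * r) := by
  rw [← Finset.sum_product']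
  symm
  refine Finset.sum_bij (fun p _ => p.2 * p.1) (fun p hp => ?_) (fun p hp q hq e => ?_)
    (fun y hy => ?_) fun _ _ => rfl
  · simp only [Finset.mem_product, mem_elts, SetLike.mem_coe] at hp ⊢
    exact mul_mem (h.left_le hp.2) (h.right_le hp.1)
  · simp only [Finset.mem_product, mem_elts, SetLike.mem_coe] at hp hq
    have e2 : q.2⁻¹ * p.2 = q.1 * p.1⁻¹ := by
      rw [inv_mul_eq_iff_eq_mul, ← mul_assoc, ← e, mul_inv_cancel_right]
    have : q.2⁻¹ * p.2 ∈ K ⊓ R :=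
      mem_inf.2 ⟨mul_mem (inv_mem hq.2) hp.2, e2 ▸ mul_mem hq.1 (inv_mem hp.1)⟩
    rw [h.inf_eq, mem_bot, inv_mul_eq_one] at this
    exact Prod.ext (by rwa [this, mul_right_inj] at e) this.symm
  · obtain ⟨k, hk, r, hr, e⟩ := h.mem_iff.1 (mem_elts.1 hy)
    exact ⟨(r, k), by simpa using ⟨hr, hk⟩, e⟩

theorem isCint_sdprod {K R M : Subgroup G} (h : IsSdprod K R M) (hM : M ≤ Γ) (hR : R ≤ L)
    (hα : α ∈ ZIrr L) (hφ : φ ∈ ZIrr Γ) : IsCint ((♯R : ℂ)⁻¹ * ∑ r ∈ elts (R : Set G),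
      α r * ((♯K : ℂ)⁻¹ * ∑ k ∈ elts (K : Set G), conj (φ (k * r)))) := by
  classical
  obtain ⟨f, hf⟩ := exists_proj h
  have h1 : ∀ χ, IsChar L χ → IsChar M fun y => if hy : y ∈ M then χ (f ⟨y, hy⟩) else 0 :=
    fun χ hχ => hχ.comp ((inclusion hR).comp f) (fun y hy => dif_neg hy) fun y => by simp
  obtain ⟨χ, ξ, hχ, hξ, rfl⟩ := vcharP.1 hα
  have h2 := Cint_cfdot_vchar (sub_mem (char_vchar (h1 χ hχ)) (char_vchar (h1 ξ hξ)))
    (cfRes_vchar hM hφ)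
  rw [cfdot_cfRes_right, cfdot, sum_sdprod h, ← h.card, Nat.cast_mul, mul_inv, mul_comm (♯K : ℂ)⁻¹,
    mul_assoc, Finset.mul_sum] at h2
  convert h2 using 3 with r hr
  rw [mul_left_comm, Finset.mul_sum]
  congr 1
  refine Finset.sum_congr rfl fun k hk => ?_
  have hm : k * r ∈ M := mul_mem (h.left_le (mem_elts.1 hk)) (h.right_le (mem_elts.1 hr))
  simp only [Pi.sub_apply, dif_pos hm, hf k (mem_elts.1 hk) r (mem_elts.1 hr) hm]

/-- `H(B)` -/
def sigS (Γ L : Subgroup G) (B : Set G) : Subgroup G := ⨅ a ∈ B, DadeSig Γ L a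

theorem mem_sigS {B : Set G} : x ∈ sigS Γ L B ↔ ∀ a ∈ B, x ∈ DadeSig Γ L a := by
  simp [sigS, mem_iInf]

theorem sigS_conj (hL : L ≤ Γ) (hx : x ∈ L) (B : Set G) :
    sigS Γ L (MulAut.conj x • B) = x •ᶜ sigS Γ L B := by
  ext y
  rw [mem_conj, mem_sigS, mem_sigS]
  constructor
  · intro h a ha
    rw [← mem_conj, ← DadeJ hL a hx]
    exact h _ (Set.smul_mem_smul_set ha)
  · rintro h _ ⟨a, ha, rfl⟩
    simp only [MulAut.smul_def, MulAut.conj_apply]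
    rw [DadeJ hL a hx, mem_conj]
    exact h a ha

/-- (2.10.2) -/
theorem sigS_insert (h : DadeHyp Γ L A) {B : Set G} (hB : B ⊆ A) (hne : B.Nonempty) (hb : b ∈ A) :
    sigS Γ L B ⊓ 𝐂[b] = sigS Γ L (insert b B) := by
  obtain ⟨a, ha⟩ := hne
  ext y
  simp only [mem_inf, mem_sigS, Set.forall_mem_insert]
  refine ⟨fun ⟨h1, h2⟩ => ⟨?_, h1⟩, fun ⟨h1, h2⟩ => ⟨h2, Dade_signalizer_cent _ _ _ h1⟩⟩
  have hs := Dade_sdprod h hb
  refine (hs.hall_left (coprime_iff_isPiNum_compl'.1 (Dade_coprime h hb hb))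
    (piGrp_piOf _).compl_compl).mem_of_normal hs.normal.2
    (mem_inf.2 ⟨Dade_signalizer_sub _ _ _ (h1 a ha), h2⟩) ?_
  exact PiGrp.piElt (coprime_iff_isPiNum_compl'.1 (Dade_coprime h (hB ha) hb)) (h1 a ha)

theorem mem_normalizer_set {B : Set G} : x ∈ normalizer B ↔ MulAut.conj x • B = B := by
  rw [mem_set_normalizer_iff, Set.ext_iff]
  refine ⟨fun h y => ?_, fun h y => ?_⟩
  · rw [Set.mem_smul_set_iff_inv_smul_mem, h]
    simp [mul_assoc]
  · rw [← h (x * y * x⁻¹)]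
    exact (Set.smul_mem_smul_set_iff (a := MulAut.conj x)).symm

/-- (2.8) -/
theorem sigS_sdprod (h : DadeHyp Γ L A) {B : Set G} (hB : B ⊆ A) (hne : B.Nonempty) :
    IsSdprod (sigS Γ L B) (L ⊓ normalizer B) (sigS Γ L B ⊔ L ⊓ normalizer B) := by
  refine IsSdprod.of_sup (fun x hx => conj_eq_self_iff.1 ?_) (eq_bot_iff.2 fun y hy => ?_)
  · rw [← sigS_conj h.le hx.1, mem_normalizer_set.1 hx.2]
  · obtain ⟨a, ha⟩ := hne
    have h1 := mem_sigS.1 hy.1 a ha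
    rw [← (Dade_sdprod h (hB ha)).inf_eq]
    exact mem_inf.2 ⟨h1, mem_inf.2 ⟨hy.2.1, Dade_signalizer_cent _ _ _ h1⟩⟩

open Classical in
/-- the inclusion-exclusion formula behind (2.10) -/
theorem sum_sigS (h : DadeHyp Γ L A) (hb : b ∈ A) {f : G → ℂ}
    (hf : ∀ g ∈ Γ, ∀ x, f (g * x * g⁻¹) = f x) :
    (♯(DadeSig Γ L b) : ℂ)⁻¹ * ∑ x ∈ elts (DadeSig Γ L b : Set G), f (x * b) =
      -∑ B ∈ elts {B : Set G | B ⊆ A ∧ B.Nonempty}, if b ∈ normalizer B then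
        (-1) ^ B.ncard * ((♯(sigS Γ L B) : ℂ)⁻¹ * ∑ x ∈ elts (sigS Γ L B : Set G), f (x * b))
        else 0 := by
  set T : Set G → ℂ := fun B => if b ∈ normalizer B then (-1) ^ B.ncard *
    ((♯(sigS Γ L (insert b B)) : ℂ)⁻¹ * ∑ x ∈ elts (sigS Γ L (insert b B) : Set G), f (x * b))
    else 0 with hT
  have hn : ∀ B : Set G, b ∈ normalizer (insert b B) ↔ b ∈ normalizer (B \ {b}) := fun B => by
    have e : ∀ y, b * y * b⁻¹ = b ↔ y = b := fun y => by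
      rw [mul_inv_eq_iff_eq_mul, mul_right_inj]
    simp only [mem_set_normalizer_iff, Set.mem_insert_iff, Set.mem_sdiff, Set.mem_singleton_iff, e]
    refine forall_congr' fun y => ?_
    by_cases hy : y = b <;> simp [hy]
  have h0 : ∑ B ∈ elts {B : Set G | B ⊆ A}, T B = 0 := by
    refine Finset.sum_involution (fun B _ => if b ∈ B then B \ {b} else insert b B) (fun B _ => ?_)
      (fun B _ _ => ?_) (fun B hB => ?_) fun B _ => ?_
    · by_cases h1 : b ∈ B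
      · have h2 := hn B
        rw [Set.insert_eq_of_mem h1] at h2
        simp only [hT, if_pos h1, ← h2, Set.insert_sdiff_singleton]
        split_ifs
        · rw [← Set.ncard_sdiff_singleton_add_one h1]; ring
        · simp
      · have h2 := hn B
        rw [Set.sdiff_singleton_eq_self h1] at h2
        simp only [hT, if_neg h1, h2, Set.insert_eq_of_mem (Set.mem_insert b B)]
        split_ifs
        · rw [Set.ncard_insert_of_notMem h1]; ring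
        · simp
    · by_cases h1 : b ∈ B
      · simp only [if_pos h1]
        exact fun e => (e.symm ▸ h1 : b ∈ B \ {b}).2 rfl
      · simp only [if_neg h1]
        exact fun e => h1 (e ▸ Set.mem_insert b B)
    · have hB : B ⊆ A := mem_elts.1 hB
      rw [mem_elts]
      split_ifs
      · exact Set.sdiff_subset.trans hB
      · exact Set.insert_subset hb hB
    · by_cases h1 : b ∈ B
      · simp [h1]
      · simp [h1]
  have h1 : elts {B : Set G | B ⊆ A} = insert ∅ (elts {B : Set G | B ⊆ A ∧ B.Nonempty}) := by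
    ext B
    rcases B.eq_empty_or_nonempty with rfl | hB
    · simp
    · simp [hB, hB.ne_empty]
  rw [h1, Finset.sum_insert (by simp), add_eq_zero_iff_eq_neg] at h0
  have h2 : sigS Γ L (insert b ∅) = DadeSig Γ L b := by ext; simp [mem_sigS]
  rw [hT] at h0
  simp only [h2, Set.ncard_empty, pow_zero, one_mul] at h0
  rw [if_pos (by simp [mem_set_normalizer_iff])] at h0
  rw [h0]
  congr 1
  refine Finset.sum_congr rfl fun B hB => ?_
  obtain ⟨hB, hne⟩ : B ⊆ A ∧ B.Nonempty := by simpa using hB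
  split_ifs with h3
  · obtain ⟨a, ha⟩ := hne
    have h4 : sigS Γ L B ≤ DadeSig Γ L a := fun y hy => mem_sigS.1 hy a ha
    rw [← sigS_insert h hB ⟨a, ha⟩ hb, ← sum_cent_rcoset
      ((sigS_sdprod h hB ⟨a, ha⟩).le_norm (mem_inf.2 ⟨h.subset hb, h3⟩))
      ((Dade_signalizer_coprime_orderOf h (hB ha) hb).coprime_dvd_left (card_dvd h4))
      fun g hg => hf g (Dade_signalizer_sub _ _ _ (h4 hg))]
  · rfl

end P2

/-- (2.6)(b) -/
theorem Dade_vchar (h : DadeHyp Γ L A) (hα : α ∈ ZIrrOn L A) : Dade Γ L A α ∈ ZIrr Γ := by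
  classical
  refine vchar_of_cfdot (Dade_mem_CF' h α) fun χ hχ => ?_
  have hα' : α ∈ CFon L A := ⟨vchar_mem_CF hα.1, hα.2⟩
  have hf : ∀ g ∈ Γ, ∀ x, conj (χ (g * x * g⁻¹)) = conj (χ x) := fun g hg x => by
    rw [cfunJ hχ.mem_CF hg]
  have hsm : ∀ (l : L), MulAut.conj.comp L.subtype l = MulAut.conj (l : G) := fun _ => rfl
  have hst : ∀ B : Set G, Nat.card ((MulAction.stabilizer (MulAut G) B).comap
      (MulAut.conj.comp L.subtype)) = ♯(L ⊓ normalizer B) := fun B => by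
    rw [← card_map_of_injective L.subtype_injective]
    congr 2
    ext y
    simp only [mem_map, mem_comap, MulAction.mem_stabilizer_iff, hsm, mem_inf, mem_normalizer_set]
    exact ⟨fun ⟨l, h1, h2⟩ => h2 ▸ ⟨l.2, h1⟩, fun ⟨h1, h2⟩ => ⟨⟨y, h1⟩, h2, rfl⟩⟩
  have h1 := isCint_sum_orbit' (MulAut.conj.comp L.subtype)
    (elts {B : Set G | B ⊆ A ∧ B.Nonempty}) (fun l B hB => ?_)
    (c := fun B => (-1) ^ B.ncard * ((♯(L ⊓ normalizer B) : ℂ)⁻¹ *
      ∑ r ∈ elts ((L ⊓ normalizer B : Subgroup G) : Set G), α r * ((♯(sigS Γ L B) : ℂ)⁻¹ *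
        ∑ k ∈ elts (sigS Γ L B : Set G), conj (χ (k * r))))) (fun l B hB => ?_) fun B hB => ?_
  · rw [general_Dade_reciprocity h hα' hχ.mem_CF (ψ := fun a => (♯(DadeSig Γ L a) : ℂ)⁻¹ *
      ∑ x ∈ elts (DadeSig Γ L a : Set G), χ (x * a)) fun _ _ => rfl, cfdotEl h.subset hα.2]
    convert h1.neg using 1
    rw [Finset.sum_congr rfl fun a ha => by
      rw [map_mul, map_inv₀, map_natCast, map_sum, sum_sigS h (mem_elts.1 ha) (f := fun y => conj (χ y)) hf,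
        mul_neg, Finset.mul_sum], Finset.sum_neg_distrib, Finset.sum_comm, mul_neg, Finset.mul_sum]
    congr 1
    refine Finset.sum_congr rfl fun B hB => ?_
    rw [hst, mul_comm (♯(L ⊓ normalizer B) : ℂ), mul_assoc, mul_left_comm (♯(L ⊓ normalizer B) : ℂ),
      mul_inv_cancel_left₀ (cardC_ne_zero _)]
    congr 1
    rw [sum_elts_subset h.subset fun x _ hx => by rw [hα.2 x hx, zero_mul], Finset.mul_sum]
    refine (sum_elts_subset (A := ((L ⊓ normalizer B : Subgroup G) : Set G)) (fun x hx => hx.1)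
      fun x h1 h2 => by rw [if_neg fun h3 => h2 (mem_inf.2 ⟨h1, h3⟩), mul_zero]).symm.trans ?_
    refine Finset.sum_congr rfl fun x hx => ?_
    rw [if_pos (mem_inf.1 (mem_elts.1 hx)).2, mul_left_comm]
  · obtain ⟨hB, hne⟩ : B ⊆ A ∧ B.Nonempty := by simpa using hB
    refine mem_elts.2 ⟨?_, hne.smul_set⟩
    rintro _ ⟨a, ha, rfl⟩
    exact h.conj_mem l l.2 a (hB ha)
  · have e1 : L ⊓ normalizer (MulAut.conj (l : G) • B) = (l : G) •ᶜ (L ⊓ normalizer B) := by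
      ext y
      rw [mem_conj, mem_inf, mem_inf, mem_normalizer_set, mem_normalizer_set, map_mul, map_mul,
        map_inv, mul_smul, mul_smul, inv_smul_eq_iff, L.mul_mem_cancel_right l.2,
        L.mul_mem_cancel_left (inv_mem l.2)]
    rw [hsm, e1, sigS_conj h.le l.2, card_conj, card_conj, Set.ncard_smul_set]
    congr 2
    rw [← sum_elts_equiv (MulAut.conj (l : G)).toEquiv fun _ => conj_mem_conj_iff.symm]
    refine Finset.sum_congr rfl fun r _ => ?_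
    rw [← sum_elts_equiv (MulAut.conj (l : G)).toEquiv fun _ => conj_mem_conj_iff.symm]
    simp only [MulEquiv.toEquiv_eq_coe, EquivLike.coe_coe, MulAut.conj_apply]
    rw [cfunJ hα'.1 l.2]
    congr 2
    refine Finset.sum_congr rfl fun k _ => ?_
    rw [← hf l (h.le l.2) (k * r)]
    congr 2; group
  · obtain ⟨hB, hne⟩ : B ⊆ A ∧ B.Nonempty := by simpa using hB
    obtain ⟨a, ha⟩ := id hne
    exact (isCint_one.neg.pow _).mul (isCint_sdprod (sigS_sdprod h hB hne)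
      (sup_le (fun y hy => Dade_signalizer_sub _ _ _ (mem_sigS.1 hy a ha)) (inf_le_left.trans h.le))
      inf_le_left hα.1 (irr_vchar hχ))

theorem Dade_Zisometry (h : DadeHyp Γ L A) :
    IsometryTo L Γ (ZIrrOn L A) (ZIrrOn Γ (sharp Γ)) (Dade Γ L A) :=
  ⟨fun φ h1 ψ h2 => Dade_isometry h ⟨vchar_mem_CF h1.1, h1.2⟩ ⟨vchar_mem_CF h2.1, h2.2⟩,
    fun φ h1 => mem_ZIrrOn_sharp.2 ⟨Dade_vchar h h1, Dade1 h φ⟩⟩

theorem restr_Dade_hyp (h : DadeHyp Γ L A) (h1 : A1 ⊆ A)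
    (hn : ∀ x ∈ L, ∀ a ∈ A1, x * a * x⁻¹ ∈ A1) : DadeHyp Γ L A1 :=
  ⟨h1.trans h.subset, hn, h.le, fun h2 => h.one_not_mem (h1 h2),
    fun a ha g hg h2 => h.fusion a (h1 ha) g hg (h1 h2), DadeSig Γ L,
    fun a ha => Dade_sdprod h (h1 ha), fun a ha b hb => Dade_coprime h (h1 ha) (h1 hb)⟩

/-- (2.11) -/
theorem restr_DadeE (h : DadeHyp Γ L A) (h1 : A1 ⊆ A) (hn : ∀ x ∈ L, ∀ a ∈ A1, x * a * x⁻¹ ∈ A1)
    (hα : α ∈ CFon L A1) : Dade Γ L A1 α = Dade Γ L A α := by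
  ext u
  by_cases h2 : ∃ a ∈ A1, u ∈ DadeSupp1 Γ L a
  · obtain ⟨a, ha, hu⟩ := h2
    rw [DadeE (restr_Dade_hyp h h1 hn) hα.1 ha hu, DadeE h hα.1 (h1 ha) hu]
  · rw [Dade_neg α h2]
    by_cases h3 : ∃ a ∈ A, u ∈ DadeSupp1 Γ L a
    · obtain ⟨a, ha, hu⟩ := h3
      rw [DadeE h hα.1 ha hu, hα.2 a fun h4 => h2 ⟨a, h4, hu⟩]
    · rw [Dade_neg α h3]

theorem normedTI_Ind_id1 (hTI : NormedTI A Γ L) (hA : A ⊆ sharp Γ) (hα : α ∈ CFon L A)
    (ha : a ∈ insert 1 A) : cfInd Γ L α a = α a := by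
  rw [← Dade_Ind hTI hA hα, Dade_id1 (normedTI_Dade hTI hA).1 hα ha]

theorem normedTI_Zisometry (hTI : NormedTI A Γ L) (hA : A ⊆ sharp Γ) :
    IsometryTo L Γ (ZIrrOn L A) (ZIrrOn Γ (sharp Γ)) (cfInd Γ L) :=
  (Dade_Zisometry (normedTI_Dade hTI hA).1).congr fun φ hφ =>
    (Dade_Ind hTI hA ⟨vchar_mem_CF hφ.1, hφ.2⟩).symm

end Cfsg.Agent.OO.Pf
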