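import Cfsg.Agent.Lib.OO.Pf.PF3_C

/-! # Peterfalvi (3.2), (3.5)-(3.9) -/

set_option autoImplicit false
set_option linter.unusedSectionVars false

namespace Cfsg.Agent.OO.Pf

open Subgroup Cfsg.Agent.Coprime P3
open scoped Pointwise commutatorElement ComplexConjugate

universe u v w

variable {G : Type u} [Group G] [Finite G]

variable {Γ W W1 W2 : Subgroup G} {i j k l i' j' φ ψ ω : G → ℂ}

theorem cycTIiso_mem_CF (h : CycTIHyp Γ W W1 W2) (hφ : φ ∈ CF W) : cycTIiso Γ W W1 W2 φ ∈ CF Γ :=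
  (cycTIiso_spec h).mem_CF φ hφ
theorem cycTI_Zisometry (h : CycTIHyp Γ W W1 W2) :
    IsometryTo W Γ (ZIrr W) (ZIrr Γ) (cycTIiso Γ W W1 W2) :=
  ⟨fun _ hφ _ hψ => (cycTIiso_spec h).isometry _ (vchar_mem_CF hφ) _ (vchar_mem_CF hψ),
    (cycTIiso_spec h).mem_ZIrr⟩
theorem cycTIisometry (h : CycTIHyp Γ W W1 W2) (hφ : φ ∈ CF W) (hψ : ψ ∈ CF W) :
    ⟪cycTIiso Γ W W1 W2 φ, cycTIiso Γ W W1 W2 ψ⟫[Γ] = ⟪φ, ψ⟫[W] := (cycTIiso_spec h).isometry _ hφ _ hψ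
theorem cycTIiso_irr_dirr (h : CycTIHyp Γ W W1 W2) (hω : IsIrr W ω) :
    IsDirr Γ (cycTIiso Γ W W1 W2 ω) :=
  vchar_norm1P ((cycTIiso_spec h).mem_ZIrr _ (irr_vchar hω)) (cfnorm_eq_one_iff.2 (by
    rw [cycTIisometry h hω.mem_CF hω.mem_CF, cfdot_irr_self hω]))
theorem cycTIiso_dirr (h : CycTIHyp Γ W W1 W2) (hi : IsIrr W1 i) (hj : IsIrr W2 j) :
    IsDirr Γ (cycTIeta Γ W W1 W2 i j) := cycTIiso_irr_dirr h (isIrr_cycTIirr h.defW hi hj)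
theorem cycTIiso_vchar (h : CycTIHyp Γ W W1 W2) (hi : IsIrr W1 i) (hj : IsIrr W2 j) :
    cycTIeta Γ W W1 W2 i j ∈ ZIrr Γ := (cycTIiso_dirr h hi hj).vchar
theorem cycTIeta_mem_CF (h : CycTIHyp Γ W W1 W2) (hi : IsIrr W1 i) (hj : IsIrr W2 j) :
    cycTIeta Γ W W1 W2 i j ∈ CF Γ := (cycTIiso_dirr h hi hj).mem_CF
theorem cfdot_cycTIiso_self (h : CycTIHyp Γ W W1 W2) (hi : IsIrr W1 i) (hj : IsIrr W2 j) :
    ⟪cycTIeta Γ W W1 W2 i j, cycTIeta Γ W W1 W2 i j⟫[Γ] = 1 := (cycTIiso_dirr h hi hj).cfdot_self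
open Classical in
theorem cfdot_cycTIiso (h : CycTIHyp Γ W W1 W2) (hi : IsIrr W1 i) (hj : IsIrr W2 j) (hi' : IsIrr W1 i')
    (hj' : IsIrr W2 j') :
    ⟪cycTIeta Γ W W1 W2 i j, cycTIeta Γ W W1 W2 i' j'⟫[Γ] = if i = i' ∧ j = j' then 1 else 0 := by
  rw [cycTIisometry h (isIrr_cycTIirr h.defW hi hj).mem_CF (isIrr_cycTIirr h.defW hi' hj').mem_CF,
    cfdot_irr (isIrr_cycTIirr h.defW hi hj) (isIrr_cycTIirr h.defW hi' hj')]
  simp only [cycTIirr_inj h.defW hi hj hi' hj']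
theorem cfdot_cycTIiso_ne (h : CycTIHyp Γ W W1 W2) (hi : IsIrr W1 i) (hj : IsIrr W2 j)
    (hi' : IsIrr W1 i') (hj' : IsIrr W2 j') (hne : i ≠ i' ∨ j ≠ j') :
    ⟪cycTIeta Γ W W1 W2 i j, cycTIeta Γ W W1 W2 i' j'⟫[Γ] = 0 := by
  rw [cfdot_cycTIiso h hi hj hi' hj', if_neg (not_and_or.2 hne)]
theorem cfnorm_cycTIiso (h : CycTIHyp Γ W W1 W2) (hi : IsIrr W1 i) (hj : IsIrr W2 j) :
    cfnorm Γ (cycTIeta Γ W W1 W2 i j) = 1 := (cycTIiso_dirr h hi hj).cfnorm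
theorem cycTIiso_eqE (h : CycTIHyp Γ W W1 W2) (hi : IsIrr W1 i) (hj : IsIrr W2 j) (hi' : IsIrr W1 i')
    (hj' : IsIrr W2 j') : cycTIeta Γ W W1 W2 i j = cycTIeta Γ W W1 W2 i' j' ↔ i = i' ∧ j = j' := by
  refine ⟨fun e => by_contra fun hne => ?_, by rintro ⟨rfl, rfl⟩; rfl⟩
  have := cfdot_cycTIiso_ne h hi hj hi' hj' (not_and_or.1 hne)
  rw [e, cfdot_cycTIiso_self h hi' hj'] at this
  exact one_ne_zero this
theorem cycTIiso_neqN (h : CycTIHyp Γ W W1 W2) (hi : IsIrr W1 i) (hj : IsIrr W2 j) (hi' : IsIrr W1 i')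
    (hj' : IsIrr W2 j') : cycTIeta Γ W W1 W2 i j ≠ -cycTIeta Γ W W1 W2 i' j' := fun e => by
  have := cfdot_cycTIiso h hi hj hi' hj'
  rw [e, cfdotNl, cfdot_cycTIiso_self h hi' hj'] at this
  split_ifs at this <;> norm_num at this
theorem mem_etaSet : φ ∈ etaSet Γ W W1 W2 ↔
    ∃ i j, IsIrr W1 i ∧ IsIrr W2 j ∧ φ = cycTIeta Γ W W1 W2 i j := by
  simp [etaSet, and_assoc, eq_comm]
theorem cycTIiso_orthonormal (h : CycTIHyp Γ W W1 W2) : Orthonormal' Γ (etaSet Γ W W1 W2) := by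
  refine ⟨fun φ hφ => ?_, fun φ hφ ψ hψ hne => ?_⟩
  · obtain ⟨i, j, hi, hj, rfl⟩ := mem_etaSet.1 hφ
    exact cfdot_cycTIiso_self h hi hj
  · obtain ⟨i, j, hi, hj, rfl⟩ := mem_etaSet.1 hφ
    obtain ⟨k, l, hk, hl, rfl⟩ := mem_etaSet.1 hψ
    exact cfdot_cycTIiso_ne h hi hj hk hl (not_and_or.1 ((cycTIiso_eqE h hi hj hk hl).not.1 hne))
theorem P3.eta_injOn (h : CycTIHyp Γ W W1 W2) :
    Set.InjOn (fun ij : (G → ℂ) × (G → ℂ) => cycTIeta Γ W W1 W2 ij.1 ij.2) (Irr W1 ×ˢ Irr W2 : Finset _) :=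
  fun p hp q hq e => by
    simp only [Finset.coe_product, Set.mem_prod, Finset.mem_coe, mem_Irr] at hp hq
    exact Prod.ext_iff.2 ((cycTIiso_eqE h hp.1 hp.2 hq.1 hq.2).1 e)
theorem sum_etaSet {M : Type v} [AddCommMonoid M] (h : CycTIHyp Γ W W1 W2) (f : (G → ℂ) → M) :
    ∑ φ ∈ etaSet Γ W W1 W2, f φ = ∑ i ∈ Irr W1, ∑ j ∈ Irr W2, f (cycTIeta Γ W W1 W2 i j) := by
  classical
  rw [etaSet, Finset.sum_image (eta_injOn h), Finset.sum_product]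
theorem cycTIiso00 (h : CycTIHyp Γ W W1 W2) : cycTIeta Γ W W1 W2 (cf1 W1) (cf1 W2) = cf1 Γ := by
  rw [cycTIeta, cycTIirr00 h.defW, (cycTIiso_spec h).map_one]
theorem cycTIeta_restrict (h : CycTIHyp Γ W W1 W2) (hi : IsIrr W1 i) (hj : IsIrr W2 j) {x : G}
    (hx : x ∈ cycTIset W1 W2) : cycTIeta Γ W W1 W2 i j x = cycTIirr W1 W2 i j x :=
  (cycTIiso_spec h).restrict _ (isIrr_cycTIirr h.defW hi hj).mem_CF x hx
theorem cfInd_cycTI_alpha (h : CycTIHyp Γ W W1 W2) (hi : IsIrr W1 i) (hj : IsIrr W2 j) :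
    cfInd Γ W (cf1 W - cycTIirr W1 W2 i (cf1 W2) - cycTIirr W1 W2 (cf1 W1) j + cycTIirr W1 W2 i j) =
      cf1 Γ - cycTIeta Γ W W1 W2 i (cf1 W2) - cycTIeta Γ W W1 W2 (cf1 W1) j +
        cycTIeta Γ W W1 W2 i j := by
  rw [← (cycTIiso_spec h).eq_ind _ (cfCycTI_on h hi hj), map_add, map_sub, map_sub,
    (cycTIiso_spec h).map_one]
theorem ortho_cycTIiso_vanish (h : CycTIHyp Γ W W1 W2) (hψ : ψ ∈ CF Γ)
    (ho : ∀ i ∈ Irr W1, ∀ j ∈ Irr W2, ⟪ψ, cycTIeta Γ W W1 W2 i j⟫[Γ] = 0) :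
    ∀ x ∈ cycTIset W1 W2, ψ x = 0 := by
  refine vanish h (cfRes_mem_CF h.ti.le hψ) fun α hα => ?_
  rw [← cfdot_cfInd_left h.ti.le (CF_le_suppOn _ hα.1) hψ, ← (cycTIiso_spec h).eq_ind α hα,
    expand h.defW hα.1]
  simp only [map_sum, map_smul, cfdot_suml, cfdotZl]
  exact Finset.sum_eq_zero fun i hi => Finset.sum_eq_zero fun j hj => by
    rw [cfdot_symm0 (ho i hi j hj), mul_zero]

theorem cycTIiso_cfdot_exchange (h : CycTIHyp Γ W W1 W2) (hψ : ψ ∈ CF Γ)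
    (h0 : ∀ x ∈ cycTIset W1 W2, ψ x = 0) (hi : IsIrr W1 i) (hj : IsIrr W2 j) (hi' : IsIrr W1 i')
    (hj' : IsIrr W2 j') :
    ⟪ψ, cycTIeta Γ W W1 W2 i j⟫[Γ] + ⟪ψ, cycTIeta Γ W W1 W2 i' j'⟫[Γ] =
      ⟪ψ, cycTIeta Γ W W1 W2 i j'⟫[Γ] + ⟪ψ, cycTIeta Γ W W1 W2 i' j⟫[Γ] := by
  have h1 := rect_on h hi hj hi' hj'
  have h2 := cfdot_cfInd_right h.ti.le hψ (CF_le_suppOn _ h1.1)
  rw [← (cycTIiso_spec h).eq_ind _ h1, map_add, map_sub, map_sub, cfdotDr, cfdotBr, cfdotBr,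
    cfdot_eq_zero_of_forall (H := W) fun x _ => (em _).imp (h0 x) (cfun_on0 h1)] at h2
  linear_combination h2

theorem cycTI_NC_eq_zero : cycTI_NC Γ W W1 W2 φ = 0 ↔
    ∀ i ∈ Irr W1, ∀ j ∈ Irr W2, ⟪φ, cycTIeta Γ W W1 W2 i j⟫[Γ] = 0 := by
  simp only [cycTI_NC, Finset.card_eq_zero, Finset.filter_eq_empty_iff, Finset.mem_product, not_not,
    Prod.forall]
  exact ⟨fun h i hi j hj => h i j ⟨hi, hj⟩, fun h i j hij => h i hij.1 j hij.2⟩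
theorem cycTI_NC_0 : cycTI_NC Γ W W1 W2 0 = 0 := cycTI_NC_eq_zero.2 fun _ _ _ _ => cfdot0l _
theorem cycTI_NC_scale_nz {c : ℂ} (hc : c ≠ 0) (φ : G → ℂ) :
    cycTI_NC Γ W W1 W2 (c • φ) = cycTI_NC Γ W W1 W2 φ := by
  simp [cycTI_NC, cfdotZl, hc]
theorem cycTI_NC_iso (h : CycTIHyp Γ W W1 W2) (hi : IsIrr W1 i) (hj : IsIrr W2 j) :
    cycTI_NC Γ W W1 W2 (cycTIeta Γ W W1 W2 i j) = 1 := by
  refine Finset.card_eq_one.2 ⟨(i, j), Finset.ext fun p => ?_⟩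
  simp only [Finset.mem_filter, Finset.mem_product, mem_Irr, Finset.mem_singleton]
  refine ⟨fun ⟨hp, e⟩ => by_contra fun hne => e (cfdot_cycTIiso_ne h hi hj hp.1 hp.2 ?_), ?_⟩
  · simpa only [Prod.ext_iff, not_and_or, eq_comm] using hne
  · rintro rfl
    simp [hi, hj, cfdot_cycTIiso_self h hi hj]
theorem cycTI_NC_opp (φ : G → ℂ) : cycTI_NC Γ W W1 W2 (-φ) = cycTI_NC Γ W W1 W2 φ := by
  simp [cycTI_NC, cfdotNl]
theorem cycTI_NC_smul (c : ℂ) (φ : G → ℂ) : cycTI_NC Γ W W1 W2 (c • φ) ≤ cycTI_NC Γ W W1 W2 φ := by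
  rcases eq_or_ne c 0 with rfl | hc
  · simp [cycTI_NC_0]
  · exact (cycTI_NC_scale_nz hc φ).le
theorem cycTI_NC_add (φ ψ : G → ℂ) :
    cycTI_NC Γ W W1 W2 (φ + ψ) ≤ cycTI_NC Γ W W1 W2 φ + cycTI_NC Γ W W1 W2 ψ := by
  classical
  refine le_trans (Finset.card_le_card fun p hp => ?_) (Finset.card_union_le _ _)
  simp only [Finset.mem_filter, Finset.mem_union, cfdotDl] at hp ⊢
  by_contra! H
  exact hp.2 (by rw [H.1 hp.1, H.2 hp.1, add_zero])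
theorem cycTI_NC_sub (φ ψ : G → ℂ) :
    cycTI_NC Γ W W1 W2 (φ - ψ) ≤ cycTI_NC Γ W W1 W2 φ + cycTI_NC Γ W W1 W2 ψ := by
  rw [sub_eq_add_neg, ← cycTI_NC_opp ψ]; exact cycTI_NC_add _ _
theorem P3.bessel (h : CycTIHyp Γ W W1 W2) (φ : G → ℂ) {s : Finset ((G → ℂ) × (G → ℂ))}
    (hs : s ⊆ Irr W1 ×ˢ Irr W2) : ∑ p ∈ s, ‖⟪φ, cycTIeta Γ W W1 W2 p.1 p.2⟫[Γ]‖ ^ 2 ≤ cfnorm Γ φ := by
  refine (Finset.sum_le_sum_of_subset_of_nonneg hs fun _ _ _ => by positivity).trans ?_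
  rw [Finset.sum_product, ← sum_etaSet h fun η => ‖⟪φ, η⟫[Γ]‖ ^ 2]
  exact (cycTIiso_orthonormal h).bessel φ
theorem cycTI_NC_norm (h : CycTIHyp Γ W W1 W2) (hφ : φ ∈ ZIrr Γ) :
    (cycTI_NC Γ W W1 W2 φ : ℝ) ≤ cfnorm Γ φ :=
  (card_le_sum_norm_sq (fun p hp => by
    simp only [Finset.mem_filter, Finset.mem_product, mem_Irr] at hp
    exact Cint_cfdot_vchar hφ (cycTIiso_vchar h hp.1.1 hp.1.2))
    fun _ hp => (Finset.mem_filter.1 hp).2).trans (bessel h φ (Finset.filter_subset _ _))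
theorem cycTI_NC_dirr (h : CycTIHyp Γ W W1 W2) (hφ : IsDirr Γ φ) : cycTI_NC Γ W W1 W2 φ ≤ 1 := by
  exact_mod_cast hφ.cfnorm ▸ cycTI_NC_norm h hφ.vchar

open Finset in
theorem P3.small_matrix {α β : Type*} [DecidableEq α] [DecidableEq β] {S : Finset α} {T : Finset β}
    {a : α → β → ℂ} (hex : ∀ i ∈ S, ∀ j ∈ T, ∀ k ∈ S, ∀ l ∈ T, a i j + a k l = a i l + a k j)
    (h1 : #((S ×ˢ T).filter fun p => a p.1 p.2 ≠ 0) + 2 < #S + #T) :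
    (∀ i ∈ S, ∀ k ∈ S, ∀ l ∈ T, a k l = a i l) ∨ ∀ j ∈ T, ∀ l ∈ T, ∀ k ∈ S, a k l = a k j := by
  by_contra! H
  obtain ⟨⟨i, hi, k, hk, l, hl, h2⟩, j, hj, m, hm, n, hn, h3⟩ := H
  have hik : k ≠ i := by rintro rfl; exact h2 rfl
  rw [card_filter, sum_product, ← add_sum_erase _ _ hi, ← add_sum_erase _ _ (mem_erase.2 ⟨hik, hk⟩),
    ← add_assoc, ← sum_add_distrib] at h1
  have e1 := card_nsmul_le_sum T
    (fun c => (if a i c ≠ 0 then 1 else 0) + if a k c ≠ 0 then 1 else 0) 1 fun c hc => by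
      have := hex i hi c hc k hk l hl
      split_ifs with g1 g2 g2
      any_goals omega
      exact (h2 (by linear_combination this - not_not.1 g1 + not_not.1 g2)).elim
  have e2 := card_nsmul_le_sum ((S.erase i).erase k)
    (fun d => ∑ c ∈ T, if a d c ≠ 0 then 1 else 0) 1 fun d hd => by
      rw [← card_filter, Nat.succ_le_iff, card_pos]
      have := hex d (mem_of_mem_erase (mem_of_mem_erase hd)) j hj n hn m hm
      by_contra H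
      simp only [Finset.not_nonempty_iff_eq_empty, filter_eq_empty_iff, not_not] at H
      exact h3 (by linear_combination this - H hj + H hm)
  rw [card_erase_of_mem (mem_erase.2 ⟨hik, hk⟩), card_erase_of_mem hi] at e2
  simp only [smul_eq_mul, mul_one] at e1 e2 h1
  omega

open Finset in
theorem P3.small_col {α β : Type*} [DecidableEq α] [DecidableEq β] {S : Finset α} {T : Finset β}
    {a : α → β → ℂ} (h1 : #((S ×ˢ T).filter fun p => a p.1 p.2 ≠ 0) < 2 * #S) {i : α} {j : β}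
    (hj : j ∈ T) (h0 : a i j ≠ 0) (h : ∀ k ∈ S, ∀ l ∈ T, a k l = a i l) :
    ∀ k ∈ S, ∀ l ∈ T, a k l = if l = j then a i j else 0 := fun k hk l hl => by
  rw [h k hk l hl]
  split_ifs with e
  · rw [e]
  by_contra hne
  refine h1.not_ge (le_trans ?_ (card_le_card (s := S ×ˢ {l, j}) fun p hp => ?_))
  · rw [card_product, card_pair e, mul_comm]
  · simp only [mem_product, mem_insert, mem_singleton, mem_filter] at hp ⊢
    rcases hp with ⟨hp, e | e⟩ <;> rw [e]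
    exacts [⟨⟨hp, hl⟩, h _ hp l hl ▸ hne⟩, ⟨⟨hp, hj⟩, h _ hp j hj ▸ h0⟩]

open Classical in
theorem small_cycTI_NC (h : CycTIHyp Γ W W1 W2) (hφ : φ ∈ CF Γ) (h0 : ∀ x ∈ cycTIset W1 W2, φ x = 0)
    (hn : cycTI_NC Γ W W1 W2 φ < 2 * min ♯W1 ♯W2) (hi : IsIrr W1 i) (hj : IsIrr W2 j)
    (ha : ⟪φ, cycTIeta Γ W W1 W2 i j⟫[Γ] ≠ 0) :
    (∀ k ∈ Irr W1, ∀ l ∈ Irr W2, ⟪φ, cycTIeta Γ W W1 W2 k l⟫[Γ] =
      if l = j then ⟪φ, cycTIeta Γ W W1 W2 i j⟫[Γ] else 0) ∨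
    (∀ k ∈ Irr W1, ∀ l ∈ Irr W2, ⟪φ, cycTIeta Γ W W1 W2 k l⟫[Γ] =
      if k = i then ⟪φ, cycTIeta Γ W W1 W2 i j⟫[Γ] else 0) := by
  obtain ⟨c1, c2⟩ := CycTIHyp.card_Irr h
  rw [cycTI_NC] at hn
  refine (small_matrix (a := fun k l => ⟪φ, cycTIeta Γ W W1 W2 k l⟫[Γ]) (fun i hi j hj k hk l hl =>
    cycTIiso_cfdot_exchange h hφ h0 (mem_Irr.1 hi) (mem_Irr.1 hj) (mem_Irr.1 hk) (mem_Irr.1 hl)) ?_).imp
    (fun H => small_col (a := fun k l => ⟪φ, cycTIeta Γ W W1 W2 k l⟫[Γ]) (by omega) (mem_Irr.2 hj) ha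
      (H i (mem_Irr.2 hi)))
    fun H k hk l hl => small_col (a := fun l k => ⟪φ, cycTIeta Γ W W1 W2 k l⟫[Γ]) ?_ (mem_Irr.2 hi) ha
      (H j (mem_Irr.2 hj)) l hl k hk
  · have h1 := CycTIHyp.two_lt h
    have h2 : ♯W1 ≠ ♯W2 := fun e => by
      have := CycTIHyp.coprime h
      rw [e, Nat.coprime_self] at this
      omega
    obtain ⟨a, ha⟩ := CycTIHyp.odd1 h
    obtain ⟨b, hb⟩ := CycTIHyp.odd2 h
    omega
  · rw [Finset.card_filter, Finset.sum_product] at hn ⊢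
    rw [Finset.sum_comm]
    dsimp only at hn ⊢
    omega
theorem cycTI_NC_minn (h : CycTIHyp Γ W W1 W2) (hφ : φ ∈ CF Γ) (h0 : ∀ x ∈ cycTIset W1 W2, φ x = 0)
    (hp : 0 < cycTI_NC Γ W W1 W2 φ) (hn : cycTI_NC Γ W W1 W2 φ < 2 * min ♯W1 ♯W2) :
    min ♯W1 ♯W2 ≤ cycTI_NC Γ W W1 W2 φ := by
  obtain ⟨p, hp⟩ := Finset.card_pos.1 hp
  simp only [Finset.mem_filter, Finset.mem_product, mem_Irr] at hp
  obtain ⟨c1, c2⟩ := CycTIHyp.card_Irr h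
  rcases small_cycTI_NC h hφ h0 hn hp.1.1 hp.1.2 hp.2 with H | H
  · refine (min_le_left _ _).trans (le_trans ?_ (Finset.card_le_card (s := Irr W1 ×ˢ {p.2}) fun q hq => ?_))
    · simp [c1]
    · simp only [Finset.mem_filter, Finset.mem_product, Finset.mem_singleton] at hq ⊢
      rw [hq.2, H _ hq.1 _ (mem_Irr.2 hp.1.2), if_pos rfl]
      exact ⟨⟨hq.1, mem_Irr.2 hp.1.2⟩, hp.2⟩
  · refine (min_le_right _ _).trans (le_trans ?_ (Finset.card_le_card (s := {p.1} ×ˢ Irr W2) fun q hq => ?_))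
    · simp [c2]
    · simp only [Finset.mem_filter, Finset.mem_product, Finset.mem_singleton] at hq ⊢
      rw [hq.1, H _ (mem_Irr.2 hp.1.1) _ hq.2, if_pos rfl]
      exact ⟨⟨mem_Irr.2 hp.1.1, hq.2⟩, hp.2⟩
theorem cycTI_NC_eq_zero_of_lt (h : CycTIHyp Γ W W1 W2) (hφ : φ ∈ CF Γ)
    (h0 : ∀ x ∈ cycTIset W1 W2, φ x = 0) (hn : cycTI_NC Γ W W1 W2 φ < min ♯W1 ♯W2) :
    ∀ i ∈ Irr W1, ∀ j ∈ Irr W2, ⟪φ, cycTIeta Γ W W1 W2 i j⟫[Γ] = 0 :=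
  cycTI_NC_eq_zero.1 (Nat.eq_zero_of_not_pos fun hp =>
    hn.not_ge (cycTI_NC_minn h hφ h0 hp (by omega)))

theorem P3.exists_third {α : Type*} {s : Finset α} (h : 2 < s.card) (a b : α) :
    ∃ c ∈ s, c ≠ a ∧ c ≠ b := by
  classical
  simpa only [Finset.mem_insert, Finset.mem_singleton, not_or] using
    Finset.exists_mem_notMem_of_card_lt_card (s := {a, b}) (Finset.card_le_two.trans_lt h)

theorem P3.bessel3 (h : CycTIHyp Γ W W1 W2) (hφ : φ ∈ ZIrr Γ) (h2 : cfnorm Γ φ = 2)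
    (p q r : (G → ℂ) × (G → ℂ)) (hp : p.1 ∈ Irr W1 ∧ p.2 ∈ Irr W2) (hq : q.1 ∈ Irr W1 ∧ q.2 ∈ Irr W2)
    (hr : r.1 ∈ Irr W1 ∧ r.2 ∈ Irr W2) (hpq : p ≠ q) (hpr : p ≠ r) (hqr : q ≠ r) :
    ∃ a b c : ℤ, ⟪φ, cycTIeta Γ W W1 W2 p.1 p.2⟫[Γ] = a ∧ ⟪φ, cycTIeta Γ W W1 W2 q.1 q.2⟫[Γ] = b ∧
      ⟪φ, cycTIeta Γ W W1 W2 r.1 r.2⟫[Γ] = c ∧ a ^ 2 + b ^ 2 + c ^ 2 ≤ 2 := by
  classical
  obtain ⟨a, ha⟩ := Cint_cfdot_vchar hφ (cycTIiso_vchar h (mem_Irr.1 hp.1) (mem_Irr.1 hp.2))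
  obtain ⟨b, hb⟩ := Cint_cfdot_vchar hφ (cycTIiso_vchar h (mem_Irr.1 hq.1) (mem_Irr.1 hq.2))
  obtain ⟨c, hc⟩ := Cint_cfdot_vchar hφ (cycTIiso_vchar h (mem_Irr.1 hr.1) (mem_Irr.1 hr.2))
  have := bessel h φ (s := {p, q, r}) (by simp only [Finset.insert_subset_iff,
    Finset.singleton_subset_iff, Finset.mem_product]; exact ⟨hp, hq, hr⟩)
  rw [Finset.sum_insert (by simp [hpq, hpr]), Finset.sum_pair hqr, ha, hb, hc, h2] at this
  simp only [Complex.norm_intCast, sq_abs, ← add_assoc] at this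
  exact ⟨a, b, c, ha, hb, hc, by exact_mod_cast this⟩

theorem P3.eq_sub_aux (h : CycTIHyp Γ W W1 W2) (hφ : φ ∈ ZIrr Γ)
    (h2 : cfnorm Γ φ = 2) (hi : IsIrr W1 i) (hj : IsIrr W2 j) (hj' : IsIrr W2 j') (hne : j ≠ j')
    (hV : ∀ x ∈ cycTIset W1 W2, φ x = (cycTIeta Γ W W1 W2 i j - cycTIeta Γ W W1 W2 i j') x) :
    ⟪φ, cycTIeta Γ W W1 W2 i j⟫[Γ] = 1 := by
  by_contra ha
  obtain ⟨c1, c2⟩ := CycTIHyp.card_Irr h
  obtain ⟨d1, d2⟩ := CycTIHyp.two_lt h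
  have hNC : cycTI_NC Γ W W1 W2 φ ≤ 2 := by exact_mod_cast h2 ▸ cycTI_NC_norm h hφ
  have e := fun k l hk hl => cfdot_cycTIiso h hi hj (i' := k) (j' := l) hk hl
  have e' := fun k l hk hl => cfdot_cycTIiso h hi hj' (i' := k) (j' := l) hk hl
  have H := small_cycTI_NC h (φ := φ - (cycTIeta Γ W W1 W2 i j - cycTIeta Γ W W1 W2 i j'))
    (sub_mem (vchar_mem_CF hφ) (sub_mem (cycTIeta_mem_CF h hi hj) (cycTIeta_mem_CF h hi hj')))
    (fun x hx => sub_eq_zero.2 (hV x hx)) (by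
      have := cycTI_NC_sub (Γ := Γ) (W := W) (W1 := W1) (W2 := W2) φ
        (cycTIeta Γ W W1 W2 i j - cycTIeta Γ W W1 W2 i j')
      have := cycTI_NC_sub (Γ := Γ) (W := W) (W1 := W1) (W2 := W2) (cycTIeta Γ W W1 W2 i j)
        (cycTIeta Γ W W1 W2 i j')
      rw [cycTI_NC_iso h hi hj, cycTI_NC_iso h hi hj'] at this
      omega) hi hj (by simpa [cfdotBl, e _ _ hi hj, e' _ _ hi hj, hne.symm, sub_eq_zero] using ha)
  simp only [cfdotBl, e _ _ hi hj, e' _ _ hi hj, hne.symm] at H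
  rcases H with H | H
  · obtain ⟨k, hk, hk1, -⟩ := exists_third (c1 ▸ d1) i i
    obtain ⟨l, hl, hl1, hl2⟩ := exists_third (c1 ▸ d1) i k
    obtain ⟨a, b, c, ea, eb, ec, habc⟩ := bessel3 h hφ h2 (i, j') (k, j) (l, j)
      (by simp [hi, hj']) (by simp [hk, hj]) (by simp [hl, hj]) (by simp [hk1.symm]) (by simp [hl1.symm])
      (by simp [hl2.symm])
    have h1 := H i (mem_Irr.2 hi) j' (mem_Irr.2 hj')
    have h2 := H k hk j (mem_Irr.2 hj)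
    have h3 := H l hl j (mem_Irr.2 hj)
    simp only [ea, eb, ec, e _ _ hi hj', e' _ _ hi hj', e _ _ (mem_Irr.1 hk) hj, e' _ _ (mem_Irr.1 hk) hj,
      e _ _ (mem_Irr.1 hl) hj, e' _ _ (mem_Irr.1 hl) hj, hne, hne.symm, hk1.symm, hl1.symm,
      and_true, and_false, if_true, if_false] at h1 h2 h3
    have g1 : a = -1 := by exact_mod_cast (by linear_combination h1 : (a : ℂ) = -1)
    have g2 : b = c := by exact_mod_cast (by linear_combination h2 - h3 : (b : ℂ) = c)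
    have g3 : b = 0 := by nlinarith
    exact ha (by rw [g3] at h2; linear_combination -h2)
  · obtain ⟨l, hl, hl1, hl2⟩ := exists_third (c2 ▸ d2) j j'
    obtain ⟨a, b, c, ea, eb, ec, habc⟩ := bessel3 h hφ h2 (i, j) (i, j') (i, l)
      (by simp [hi, hj]) (by simp [hi, hj']) (by simp [hl, hi]) (by simp [hne]) (by simp [hl1.symm])
      (by simp [hl2.symm])
    have h1 := H i (mem_Irr.2 hi) j' (mem_Irr.2 hj')
    have h2 := H i (mem_Irr.2 hi) l hl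
    simp only [ea, eb, ec, e _ _ hi hj', e' _ _ hi hj', e _ _ hi (mem_Irr.1 hl), e' _ _ hi (mem_Irr.1 hl),
      hne, hl1.symm, hl2.symm, and_true, and_false, if_true, if_false] at h1 h2
    have g1 : b = a - 2 := by
      exact_mod_cast (by linear_combination h1 : (b : ℂ) = a - 2)
    have g2 : c = a - 1 := by exact_mod_cast (by linear_combination h2 : (c : ℂ) = a - 1)
    have g3 : a = 1 := by nlinarith
    exact ha (by rw [ea, g3, Int.cast_one])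

theorem eq_signed_sub_cTIiso (h : CycTIHyp Γ W W1 W2) {e : ℂ} (he : e = 1 ∨ e = -1) (hφ : φ ∈ ZIrr Γ)
    (h2 : cfnorm Γ φ = 2) (hi : IsIrr W1 i) (hj : IsIrr W2 j) (hj' : IsIrr W2 j') (hne : j ≠ j')
    (hV : ∀ x ∈ cycTIset W1 W2, φ x = (e • (cycTIeta Γ W W1 W2 i j - cycTIeta Γ W W1 W2 i j')) x) :
    φ = e • (cycTIeta Γ W W1 W2 i j - cycTIeta Γ W W1 W2 i j') := by
  wlog he1 : e = 1 generalizing j j' e
  · obtain rfl := he.resolve_left he1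
    simpa using this (Or.inl rfl) hj' hj hne.symm (by simpa using hV) rfl
  subst he1
  rw [one_smul] at hV ⊢
  have h3 := eq_sub_aux h hφ h2 hi hj hj' hne hV
  have h4 := eq_sub_aux h (neg_mem hφ) (by rw [cfnormN, h2]) hi hj' hj hne.symm fun x hx => by
    simp [hV x hx]
  refine sub_eq_zero.1 ((cfnorm_eq0 (sub_mem (vchar_mem_CF hφ) (sub_mem (cycTIeta_mem_CF h hi hj)
    (cycTIeta_mem_CF h hi hj')))).1 ?_)
  rw [cfdotNl, neg_eq_iff_eq_neg] at h4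
  rw [cfnormB, cfnormBd (cfdot_cycTIiso_ne h hi hj hi hj' (Or.inr hne)), cfdotBr, h2, h3, h4,
    cfnorm_cycTIiso h hi hj, cfnorm_cycTIiso h hi hj']
  norm_num

theorem eq_in_cycTIiso (h : CycTIHyp Γ W W1 W2) (hω : IsIrr W ω) (hφ : IsDirr Γ φ)
    (hV : ∀ x ∈ cycTIset W1 W2, φ x = ω x) : φ = cycTIiso Γ W W1 W2 ω := by
  obtain ⟨i, j, hi, hj, rfl⟩ := (cycTIirrP h.defW).1 hω
  have := cycTI_NC_eq_zero_of_lt h (sub_mem hφ.mem_CF (cycTIeta_mem_CF h hi hj))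
    (fun x hx => sub_eq_zero.2 ((hV x hx).trans (cycTIeta_restrict h hi hj hx).symm)) (by
      have := cycTI_NC_sub (Γ := Γ) (W := W) (W1 := W1) (W2 := W2) φ (cycTIeta Γ W W1 W2 i j)
      have := cycTI_NC_dirr h hφ
      have := cycTI_NC_iso h hi hj
      have := CycTIHyp.two_lt h
      omega) i (mem_Irr.2 hi) j (mem_Irr.2 hj)
  rw [cfdotBl, cfdot_cycTIiso_self h hi hj, sub_eq_zero] at this
  exact (cfdot_dirr_eq1 hφ (cycTIiso_dirr h hi hj)).1 this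

theorem cycTIisoC (h : CycTIHyp Γ W W1 W2) (hφ : φ ∈ CF W) :
    cycTIiso Γ W W2 W1 φ = cycTIiso Γ W W1 W2 φ := by
  refine LinearMap.eqOn_span (fun ω hω => ?_) (span_Irr W ▸ hφ)
  have hω := mem_Irr.1 hω
  exact eq_in_cycTIiso h hω (cycTIiso_irr_dirr (CycTIHyp.symm h) hω) fun x hx =>
    (cycTIiso_spec (CycTIHyp.symm h)).restrict _ hω.mem_CF x (cycTIset_comm W1 W2 ▸ hx)
theorem cycTIetaC (h : CycTIHyp Γ W W1 W2) (hi : IsIrr W1 i) (hj : IsIrr W2 j) :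
    cycTIeta Γ W W2 W1 j i = cycTIeta Γ W W1 W2 i j := by
  rw [cycTIeta, cycTIirrC h.defW, cycTIisoC h (isIrr_cycTIirr h.defW hi hj).mem_CF]
theorem cfAut_cycTIiso (h : CycTIHyp Γ W W1 W2) (u : ℂ ≃+* ℂ) (hφ : φ ∈ CF W) :
    cfAut u (cycTIiso Γ W W1 W2 φ) = cycTIiso Γ W W1 W2 (cfAut u φ) := by
  rw [cfun_sum_cfdot hφ]
  simp only [map_sum, map_smul, cfAut_sum, cfAut_smul]
  refine Finset.sum_congr rfl fun ω hω => congrArg _ ?_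
  have hω := mem_Irr.1 hω
  exact eq_in_cycTIiso h (hω.cfAut u) ((cycTIiso_irr_dirr h hω).cfAut u) fun x hx => by
    rw [cfAutE, cfAutE, (cycTIiso_spec h).restrict _ hω.mem_CF x hx]
theorem cfAut_cycTIeta (h : CycTIHyp Γ W W1 W2) (u : ℂ ≃+* ℂ) (hi : IsIrr W1 i) (hj : IsIrr W2 j) :
    cfAut u (cycTIeta Γ W W1 W2 i j) = cycTIeta Γ W W1 W2 (cfAut u i) (cfAut u j) := by
  rw [cycTIeta, cfAut_cycTIiso h u (isIrr_cycTIirr h.defW hi hj).mem_CF, cycTIeta, cycTIirr_aut]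
theorem star_cycTIiso (h : CycTIHyp Γ W W1 W2) (hφ : φ ∈ CF W) :
    star (cycTIiso Γ W W1 W2 φ) = cycTIiso Γ W W1 W2 (star φ) := by
  simpa only [cfAut_conjAut] using cfAut_cycTIiso h conjAut hφ
theorem star_cycTIeta (h : CycTIHyp Γ W W1 W2) (hi : IsIrr W1 i) (hj : IsIrr W2 j) :
    star (cycTIeta Γ W W1 W2 i j) = cycTIeta Γ W W1 W2 (star i) (star j) := by
  simpa only [cfAut_conjAut] using cfAut_cycTIeta h conjAut hi hj

theorem P3.lin_constt (hω : IsLinChar W ω) {x : G} (hx : x ∈ W) :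
    ω (constt (primes (cforder W ω)) x) = ω x := by
  conv_rhs => rw [← constt_mul_constt_compl (primes (cforder W ω)) x]
  have hy := constt_mem (primes (cforder W ω))ᶜ hx
  have := pow_gcd_eq_one.2 ⟨pow_cforder ω hy, lin_char_unity_root hω hy⟩
  rw [(coprime_iff_isPiNum_compl.2 (piElt_constt _ x)).gcd_eq_one, pow_one] at this
  rw [lin_charM hω (constt_mem _ hx) hy, this, mul_one]

theorem cycTIiso_aut_exists (h : CycTIHyp Γ W W1 W2) (hω : IsIrr W ω) {k : ℕ} (hk0 : k ≠ 0)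
    (hk : k.Coprime (cforder W ω)) :
    (∃ u : ℂ ≃+* ℂ, cycTIiso Γ W W1 W2 (ω ^ k) = cfAut u (cycTIiso Γ W W1 W2 ω)) ∧
    ∀ x : G, (orderOf x).Coprime (cforder W ω) →
      cycTIiso Γ W W1 W2 (ω ^ k) x = cycTIiso Γ W W1 W2 ω x := by
  have hl := CycTIHyp.lin h hω
  have hc : ∀ n : ℕ, n.Coprime (cforder W ω) → n.Coprime (partn (primes (cforder W ω)) ♯W) :=
    fun n hn => (coprime_iff_isPiNum_compl'.1 hn).coprime' (isPiNum_partn _ _)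
  obtain ⟨u, h1, h2⟩ := make_pi_cfAut (G := G) (hc k hk)
  have e : ω ^ k = cfAut u ω := cfun_ext (pow_mem_CF hω.mem_CF hk0) (cfAut_mem_CF u hω.mem_CF) fun x hx => by
    have hy := constt_mem (primes (cforder W ω)) hx
    rw [cfAutE, Pi.pow_apply, ← lin_constt hl hx, h1 W ω _ (irr_vchar hω) hy
      (dvd_partn (card_pos' W).ne' (orderOf_dvd_card hy) (piElt_constt _ _)), lin_charX hl hy]
  rw [e, ← cfAut_cycTIiso h u hω.mem_CF]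
  exact ⟨⟨u, rfl⟩, fun x hx => h2 Γ _ x (cycTIiso_irr_dirr h hω).vchar (hc _ hx)⟩

open Polynomial in
theorem P3.exists_poly {H : Subgroup G} (hφ : φ ∈ ZIrr H) {x : G} (hx : x ∈ H) {ζ : ℂ}
    (hζ : IsPrimitiveRoot ζ (orderOf x)) : ∃ P : ℤ[X], ∀ k : ℕ, φ (x ^ k) = aeval (ζ ^ k) P := by
  have key : ∀ χ, IsChar H χ → ∃ P : ℤ[X], ∀ k : ℕ, χ (x ^ k) = aeval (ζ ^ k) P := fun χ hχ => by
    obtain ⟨s, -, h1, h2⟩ := hχ.exists_roots hx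
    have := NeZero.of_pos (orderOf_pos x)
    choose! m _ hm using fun ε hε => hζ.eq_pow_of_pow_eq_one (h1 ε hε)
    refine ⟨(s.map fun ε => X ^ m ε).sum, fun k => ?_⟩
    rw [← zpow_natCast, h2, map_multiset_sum, Multiset.map_map]
    refine congrArg _ (Multiset.map_congr rfl fun ε hε => ?_)
    simp only [zpow_natCast, Function.comp, map_pow, aeval_X]
    rw [← pow_mul, mul_comm, pow_mul, hm ε hε]
  obtain ⟨χ, ψ, hχ, hψ, rfl⟩ := vcharP.1 hφ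
  obtain ⟨P, hP⟩ := key χ hχ
  obtain ⟨Q, hQ⟩ := key ψ hψ
  exact ⟨P - Q, fun k => by simp [hP, hQ]⟩

open Polynomial in
theorem P3.isCint_of_pow {H : Subgroup G} (hφ : φ ∈ ZIrr H) {x : G} (hx : x ∈ H)
    (h : ∀ k : ℕ, k.Coprime (orderOf x) → φ (x ^ k) = φ x) : IsCint (φ x) := by
  have hn := orderOf_pos x
  have hζ := Complex.isPrimitiveRoot_exp _ hn.ne'
  obtain ⟨P, hP⟩ := exists_poly hφ hx hζ
  have hm := cyclotomic.monic (orderOf x) ℤ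
  have := eq_zero_of_natDegree_lt_card_of_eval_eq_zero'
    ((P %ₘ cyclotomic (orderOf x) ℤ).map (algebraMap ℤ ℂ) - C (φ x)) (primitiveRoots (orderOf x) ℂ)
    (fun μ hμ => by
      have hμ := (mem_primitiveRoots hn).1 hμ
      have := NeZero.of_pos hn
      obtain ⟨k, -, hk, rfl⟩ := (hζ.isPrimitiveRoot_iff).1 hμ
      rw [eval_sub, eval_C, eval_map_algebraMap, aeval_modByMonic_eq_self_of_root, ← hP, h k hk, sub_self]
      rw [← eval_map_algebraMap, map_cyclotomic]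
      exact hμ.isRoot_cyclotomic hn) (by
      rw [hζ.card_primitiveRoots, natDegree_sub_C, ← natDegree_cyclotomic _ ℤ]
      refine natDegree_map_le.trans_lt (natDegree_modByMonic_lt _ hm fun e => ?_)
      have := natDegree_cyclotomic (orderOf x) ℤ
      rw [e, natDegree_one] at this
      exact (Nat.totient_pos.2 hn).ne this)
  refine ⟨(P %ₘ cyclotomic (orderOf x) ℤ).coeff 0, ?_⟩
  symm
  simpa [sub_eq_zero] using congrArg (coeff · 0) this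

theorem Cint_cycTIiso_coprime (h : CycTIHyp Γ W W1 W2) (hω : IsIrr W ω) {x : G}
    (hx : (orderOf x).Coprime (cforder W ω)) : IsCint (cycTIiso Γ W W1 W2 ω x) := by
  have hZ := (cycTIiso_irr_dirr h hω).vchar
  by_cases hxΓ : x ∈ Γ
  swap
  · rw [cfun0 (vchar_mem_CF hZ) hxΓ]; exact isCint_zero
  refine isCint_of_pow hZ hxΓ fun k hk => ?_
  obtain ⟨u, h1, h2⟩ := make_pi_cfAut (G := G) hk
  have e : cfAut u ω = ω := cfun_ext (cfAut_mem_CF u hω.mem_CF) hω.mem_CF fun y hy => by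
    rw [cfAutE, ← lin_constt (CycTIHyp.lin h hω) hy, h2 W ω _ (irr_vchar hω)
      ((coprime_iff_isPiNum_compl'.1 hx).coprime' (piElt_constt _ _)).symm]
  rw [← h1 Γ _ x hZ hxΓ dvd_rfl, ← cfAutE, cfAut_cycTIiso h u hω.mem_CF, e]

end Cfsg.Agent.OO.Pf
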