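import Cfsg.Agent.Lib.OO.Pf.PF4_A

/-! # Peterfalvi section 4, (4.5) to (4.10) -/

set_option autoImplicit false
set_option linter.unusedSectionVars false
set_option linter.unusedVariables false

namespace Cfsg.Agent.OO

open Subgroup Cfsg.Agent.Coprime
open scoped Pointwise ComplexConjugate

universe u

variable {G : Type u} [Group G] [Finite G] {Γ L K H M W W1 W2 : Subgroup G} {A A0 : Set G}
  {i j k i1 i2 j1 j2 φ ψ χ θ : G → ℂ} {x : G}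

local notation "ω" => cycTIirr W1 W2
local notation "η" => cycTIeta Γ W W1 W2
local notation "V" => cycTIset W1 W2
local notation "μ₂" => prTIirr L W W1 W2
local notation "δ" => prTIsign L W W1 W2
local notation "μ" => prTIred L W W1 W2
local notation "χₖ" => prTIres L K W W1 W2
local notation "τ" => Dade Γ L A0

namespace Pf

open P4 P2

/-- (4.5)(a) -/
theorem cfRes_prTIirr (h : PrimeTIHyp L K W W1 W2) (hi : IsIrr W1 i) (hj : IsIrr W2 j) :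
    cfRes K (μ₂ i j) = χₖ j :=
  cfRes_ext fun x hx => by rw [prTIirr_split h hi hj, Pi.mul_apply, prTIirr0_K h hi hx, one_mul]

theorem prTIred0 (h : PrimeTIHyp L K W W1 W2) : μ (cf1 W2) = (♯W1 : ℂ) • cf1 K := by
  refine cfun_ext (prTIred_char h (isIrr_cf1 _)).mem_CF
    (Submodule.smul_mem _ _ (cf1_mem_CF_of_normal h.normalK)) fun x hx => ?_
  obtain ⟨a, ha, b, hb, rfl⟩ := h.defL.mem_iff.1 hx
  rw [prTIred, Finset.sum_apply, Finset.sum_congr rfl (g := fun i => (i 1 • i) b) fun i hi => by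
    rw [prTIirr0_eq h (mem_Irr.1 hi), cfSdprodE h.defL.inf_eq _ ha hb, ((prime_cycTIhyp h).lin1
      (mem_Irr.1 hi)).one, one_smul], ← Finset.sum_apply, ← cfReg_sum, Pi.smul_apply, smul_eq_mul]
  by_cases h1 : b = 1
  · rw [h1, cfReg_one, mul_one, cf1E ha, mul_one]
  · rw [cfReg_of_ne _ h1, cf1_of_not_mem fun h2 => h1 ?_, mul_zero]
    rw [← mem_bot, ← h.defL.inf_eq]
    exact mem_inf.2 ⟨(K.mul_mem_cancel_left ha).1 h2, hb⟩

theorem cfInd_prTIres (h : PrimeTIHyp L K W W1 W2) (hj : IsIrr W2 j) : cfInd L K (χₖ j) = μ j := by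
  rw [prTIres, cfIndRes (prTIirr_irr h (isIrr_cf1 _) hj).mem_CF, cfInd_cfun1 h.normalK, h.relIndex,
    ← prTIred0 h, prTIred, prTIred, Finset.sum_mul]
  exact Finset.sum_congr rfl fun i hi => (prTIirr_split h (mem_Irr.1 hi) hj).symm

theorem prTIres_irr (h : PrimeTIHyp L K W W1 W2) (hj : IsIrr W2 j) : IsIrr K (χₖ j) := by
  have h1 := prTIirr_irr h (isIrr_cf1 W1) hj
  refine (h1.isChar.cfRes h.K_le).isIrr_of_cfdot ?_
  rw [cfdot_Res_l h.K_le h1.mem_CF (cfRes_mem_CF h.K_le h1.mem_CF), ← prTIres, cfInd_prTIres h hj,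
    cfdot_prTIirr_red h (isIrr_cf1 _) hj hj, if_pos rfl]

theorem prTIres_1 (h : PrimeTIHyp L K W W1 W2) (hi : IsIrr W1 i) (hj : IsIrr W2 j) :
    χₖ j 1 = μ₂ i j 1 := by rw [← cfRes_prTIirr h hi hj, cfRes1]

theorem prTIirr_1 (h : PrimeTIHyp L K W W1 W2) (hi : IsIrr W1 i) (hj : IsIrr W2 j) :
    μ₂ i j 1 = μ₂ (cf1 W1) j 1 := by rw [← prTIres_1 h hi hj, prTIres_1 h (isIrr_cf1 _) hj]

theorem prTIred_1 (h : PrimeTIHyp L K W W1 W2) (hi : IsIrr W1 i) (hj : IsIrr W2 j) :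
    μ j 1 = ♯W1 * μ₂ i j 1 := by
  rw [← cfInd_prTIres h hj, cfInd1 h.K_le, h.relIndex, prTIres_1 h hi hj]

theorem prTIred_on (h : PrimeTIHyp L K W W1 W2) (hj : IsIrr W2 j) : μ j ∈ CFon L K := by
  rw [← cfInd_prTIres h hj]; exact cfInd_normal h.normalK.2 (cfRes_mem_suppOn _)

theorem cfRes_prTIred (h : PrimeTIHyp L K W W1 W2) (hj : IsIrr W2 j) :
    cfRes K (μ j) = (♯W1 : ℂ) • χₖ j := by
  rw [prTIred, map_sum, Finset.sum_congr rfl fun i hi => cfRes_prTIirr h (mem_Irr.1 hi) hj,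
    Finset.sum_const, (prime_cycTIhyp h).card_Irr.1, Nat.cast_smul_eq_nsmul]

theorem prTIres_aut (h : PrimeTIHyp L K W W1 W2) (u : ℂ ≃+* ℂ) (hj : IsIrr W2 j) :
    χₖ (cfAut u j) = cfAut u (χₖ j) := by
  rw [prTIres, prTIres, cfAut_cfRes, ← prTIirr_aut h u (isIrr_cf1 _) hj, cfAut_cf1]

theorem prTIres_star (h : PrimeTIHyp L K W W1 W2) (hj : IsIrr W2 j) :
    χₖ (star j) = star (χₖ j) := prTIres_aut h conjAut hj

theorem prTIres0 (h : PrimeTIHyp L K W W1 W2) : χₖ (cf1 W2) = cf1 K := by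
  rw [prTIres, prTIirr00 h, cfRes_cf1 h.K_le]

theorem prTIres_inj (h : PrimeTIHyp L K W W1 W2) (hj : IsIrr W2 j) (hk : IsIrr W2 k) :
    χₖ j = χₖ k ↔ j = k :=
  ⟨fun e => (prTIred_inj h hj hk).1 (by rw [← cfInd_prTIres h hj, e, cfInd_prTIres h hk]),
    fun e => by rw [e]⟩

theorem inertia_prTIres (h : PrimeTIHyp L K W W1 W2) (hj : IsIrr W2 j) : inertia L (χₖ j) = L :=
  le_antisymm (fun _ hx => hx.1) fun x hx =>
    ⟨hx, cfConjg_cfRes_of_mem (prTIirr_irr h (isIrr_cf1 _) hj).mem_CF hx (h.normalK.2 hx)⟩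

theorem P4.supp_K (h : PrimeTIHyp L K W W1 W2) (hχ : IsIrr L χ)
    (hn : ∀ i ∈ Irr W1, ∀ j ∈ Irr W2, χ ≠ μ₂ i j) : χ ∈ suppOn (K : Set G) := fun x hx => by
  by_cases hL : x ∈ L
  · obtain ⟨y, hy, w, hw, h1, rfl⟩ := h.exists_conj hL hx
    rw [cfunJ hχ.mem_CF (h.K_le hy), not_prTIirr_vanish h hχ hn hw h1]
  · exact cfun0 hχ.mem_CF hL

/-- (4.5)(b), first assertion -/
theorem prTIres_irr_cases (h : PrimeTIHyp L K W W1 W2) (hθ : IsIrr K θ) :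
    (∃ j, IsIrr W2 j ∧ θ = χₖ j) ∨ (inertia L θ = K ∧ IsIrr L (cfInd L K θ) ∧
      ∀ i ∈ Irr W1, ∀ j ∈ Irr W2, cfInd L K θ ≠ μ₂ i j) := by
  classical
  refine or_iff_not_imp_left.2 fun hn => ?_
  have h1 : ∀ χ, IsIrr L χ → ⟪cfInd L K θ, χ⟫[L] ≠ 0 → ∀ i ∈ Irr W1, ∀ j ∈ Irr W2, χ ≠ μ₂ i j := by
    rintro χ hχ h0 i hi j hj rfl
    rw [← Frobenius_reciprocity h.K_le hθ.mem_CF hχ.mem_CF,
      cfRes_prTIirr h (mem_Irr.1 hi) (mem_Irr.1 hj)] at h0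
    exact hn ⟨j, mem_Irr.1 hj, hθ.eq_of_cfdot_ne_zero (prTIres_irr h (mem_Irr.1 hj)) h0⟩
  have hK : K ≤ inertia L θ := fun x hx => ⟨h.K_le hx, cfConjg_id hθ.mem_CF hx⟩
  have hL : inertia L θ ≤ L := fun x hx => hx.1
  have h2 := (cfInd_Hall_central_Inertia h.normalK hθ
    ((der_mono hL).trans (h.defL.der_le_of_ab (ab_of_isCyclic h.cycW1)))
    ((h.defL.isHallIn_left h.coprime).mono hK hL)).2.1
  have h3 : ((Irr L).filter fun χ => ⟪cfInd L K θ, χ⟫[L] ≠ 0).card ≤ 1 := by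
    refine Finset.card_le_one.2 fun a ha b hb => ?_
    simp only [Finset.mem_filter, mem_Irr] at ha hb
    refine ha.1.eq_of_cfdot_ne_zero hb.1 fun e => ?_
    have h4 := cfdot_of_suppOn h.K_le (supp_K h ha.1 (h1 a ha.1 ha.2)) b
    rw [e, mul_zero, ← cfdot_cfRes_left, ← cfdot_cfRes_right] at h4
    have h5 := cfdot_constt_eq_zero (ha.1.isChar.cfRes h.K_le) hθ
      (by rw [← cfdot_Ind_irr h.K_le hθ.isChar ha.1.isChar]; exact ha.2) (hb.1.isChar.cfRes h.K_le) h4.symm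
    exact hb.2 (by rw [← Frobenius_reciprocity h.K_le hθ.mem_CF hb.1.mem_CF, h5])
  have h4 : inertia L θ ≤ K := relIndex_eq_one.1 (by
    have := relIndex_pos K (inertia L θ); omega)
  have h5 := inertia_Ind_irr h.normalK hθ h4
  exact ⟨le_antisymm h4 hK, h5, h1 _ h5 (by rw [cfdot_irr_self h5]; exact one_ne_zero)⟩

/-- (4.5)(b), second assertion -/
theorem prTIind_irr_cases (h : PrimeTIHyp L K W W1 W2) (hχ : IsIrr L χ) :
    (∃ i j, IsIrr W1 i ∧ IsIrr W2 j ∧ χ = μ₂ i j) ∨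
      ∃ θ, IsIrr K θ ∧ (∀ j ∈ Irr W2, θ ≠ χₖ j) ∧ χ = cfInd L K θ := by
  obtain ⟨θ, hθ, h0⟩ := constt_cfRes_irr hχ h.K_le
  rw [← cfdot_Ind_irr h.K_le hθ.isChar hχ.isChar] at h0
  by_cases h1 : ∃ j, IsIrr W2 j ∧ θ = χₖ j
  · obtain ⟨j, hj, rfl⟩ := h1
    rw [cfInd_prTIres h hj, prTIred, cfdot_suml] at h0
    obtain ⟨i, hi, h2⟩ := Finset.exists_ne_zero_of_sum_ne_zero h0
    exact Or.inl ⟨i, j, mem_Irr.1 hi, hj,
      ((prTIirr_irr h (mem_Irr.1 hi) hj).eq_of_cfdot_ne_zero hχ h2).symm⟩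
  · exact Or.inr ⟨θ, hθ, fun j hj e => h1 ⟨j, mem_Irr.1 hj, e⟩,
      (((prTIres_irr_cases h hθ).resolve_left h1).2.1.eq_of_cfdot_ne_zero hχ h0).symm⟩

/-- a reducible character induced from `K` is one of the `μ_j` -/
theorem prTIred_of_not_irr (h : PrimeTIHyp L K W W1 W2) (hθ : IsIrr K θ)
    (hn : ¬ IsIrr L (cfInd L K θ)) : ∃ j, IsIrr W2 j ∧ θ = χₖ j ∧ cfInd L K θ = μ j := by
  obtain ⟨j, hj, rfl⟩ := (prTIres_irr_cases h hθ).resolve_right fun h1 => hn h1.2.1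
  exact ⟨j, hj, rfl, cfInd_prTIres h hj⟩

theorem P4.sum_coset_eq_zero (hχ : IsIrr L χ) (hM : M ⊴ L) (h : ¬ M ≤ cfker L χ) (x : G) :
    ∑ m ∈ elts (M : Set G), χ (m * x) = 0 := by
  have h1 : (fun x => ∑ m ∈ elts (M : Set G), χ (m * x)) ∈ CF L := by
    refine ⟨fun y hy => Finset.sum_eq_zero fun m hm => cfun0 hχ.mem_CF fun h2 =>
      hy ((L.mul_mem_cancel_left (hM.1 (mem_elts.1 hm))).1 h2), fun g hg y => ?_⟩
    dsimp only
    rw [← sum_elts_conj (hM.2 hg)]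
    refine Finset.sum_congr rfl fun m _ => ?_
    rw [← cfunJ hχ.mem_CF hg (m * y)]
    congr 1; group
  have h2 : M ≤ cfker L fun x => ∑ m ∈ elts (M : Set G), χ (m * x) := fun a ha =>
    ⟨hM.1 ha, fun y => by
      simp only [← mul_assoc]; exact sum_elts_mul_right ha fun m => χ (m * y)⟩
  refine congrFun (eq_zero_of_cfdot_irr h1 fun ξ hξ => ?_) x
  by_cases h3 : M ≤ cfker L ξ
  · have h4 : ∀ m ∈ elts (M : Set G), ⟪fun x => χ (m * x), ξ⟫[L] = 0 := fun m hm => by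
      rw [← cfdot_irr_ne hχ hξ fun e => h (e ▸ h3), cfdot, cfdot,
        ← sum_elts_mul_left (hM.1 (mem_elts.1 hm)) fun x => χ x * conj (ξ x)]
      simp only [cfkerMl (h3 (mem_elts.1 hm))]
    rw [← Finset.sum_eq_zero h4, ← cfdot_suml]
    congr 1
    ext y; simp
  · exact cfdot_eq_zero_of_cfker h1 hξ h2 h3

/-- the kernels of the `χ_j` -/
theorem le_cfker_prTIres_iff (h : PrimeTIHyp L K W W1 W2) (hM : M ⊴ L) (hMK : M ≤ K)
    (hj : IsIrr W2 j) : M ≤ cfker K (χₖ j) ↔ M ⊓ W2 ≤ cfker W2 j := by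
  have h0 := prTIirr_irr h (isIrr_cf1 W1) hj
  have hl := (prime_cycTIhyp h).lin2 hj
  obtain ⟨x, hx, h1⟩ := exists_mem_ne_one h.W1_ne_bot
  have h2 : ∀ y ∈ W2, μ₂ (cf1 W1) j (y * x) = δ j * j y := fun y hy => by
    rw [prTIirr_W1 h (isIrr_cf1 _) hj hx h1 hy, cf1E hx, one_mul]
  rw [prTIres, cfker_Res_char h0.isChar h.K_le, le_inf_iff, and_iff_right hMK]
  refine ⟨fun h3 y hy => (mem_cfker_lin hl).2 ?_, fun h3 => by_contra fun h4 => ?_⟩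
  · have h4 := h2 y hy.2
    rw [cfkerMl (h3 hy.1), ← one_mul x, h2 1 (one_mem _), hl.one] at h4
    exact (mul_left_cancel₀ (prTIsign_ne_zero _ _ _ _ _) h4).symm
  · have h5 := sum_cent_rcoset (hM.2 (h.W1_le hx)) (h.coprime_orderOf hMK hx)
      (f := μ₂ (cf1 W1) j) fun g hg => cfunJ h0.mem_CF (hM.1 hg)
    have h6 : M ⊓ 𝐂[x] = M ⊓ W2 := by rw [← h.prime_act x hx h1, ← inf_assoc, inf_eq_left.2 hMK]
    rw [sum_coset_eq_zero h0 hM h4, mul_zero, h6, Finset.sum_congr rfl fun y hy => by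
      rw [h2 y (mem_elts.1 hy).2, (mem_cfker_lin hl).1 (h3 (mem_elts.1 hy))], sum_elts_const,
      nsmul_eq_mul, inv_mul_cancel_left₀ (cardC_ne_zero _), mul_one] at h5
    exact prTIsign_ne_zero _ _ _ _ _ h5.symm

open Classical in
theorem card_prTIres_cfker (h : PrimeTIHyp L K W W1 W2) (hM : M ⊴ L) (hMK : M ≤ K) :
    ((Irr W2).filter fun j => M ≤ cfker K (χₖ j)).card = M.relIndex W2 := by
  have hab : Ab W2 := ab_of_isCyclic h.cycW2
  rw [← inf_relIndex_right, ← card_irr_cfker_of_der_le (normalIn_of_ab hab inf_le_right)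
    (by rw [ab_iff_der.1 hab]; exact bot_le)]
  congr 1
  exact Finset.filter_congr fun j hj => le_cfker_prTIres_iff h hM hMK (mem_Irr.1 hj)

theorem primeTIhyp_quotient (h : PrimeTIHyp L K W W1 W2) (hM : M ⊴ L) (hMK : M ≤ K) (hW : ¬ W2 ≤ M) :
    PrimeTIHyp (L ⁒ M) (K ⁒ M) (W ⁒ M) (W1 ⁒ M) (W2 ⁒ M) := by
  have h1 : W1 ≤ 𝐍(M) := h.W1_le.trans hM.2
  refine ⟨h.defL.quo_of_le_left hM.2 hMK, quo_ne_bot h1 fun h2 => h.W1_ne_bot ?_, h.hallW1.quo hM.2,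
    isCyclic_quo h.cycW1 M, quo_ne_bot ((h.W2_le.trans h.K_le).trans hM.2) hW, quo_mono M h.W2_le,
    isCyclic_quo h.cycW2 M, fun z hz h2 => ?_, h.defW.quo_of_coprime (h.W_le.trans hM.2)
      (coprime_card_mono h.coprime.symm le_rfl h.W2_le), odd_quo h.odd M⟩
  · rw [← h.defL.inf_eq, inf_eq_right.2 (h2.trans hMK)]
  · obtain ⟨x, hx, rfl⟩ := (mem_quo_of_le h1).1 hz
    rw [← quo_inf_cent1 hMK (h1 hx) (h.coprime_orderOf hMK hx),
      h.prime_act x hx fun e => h2 (by rw [e, coset_one])]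

theorem prDade_supp_disjoint (h : PrimeTIHyp L K W W1 W2) (hx : x ∈ V) : x ∉ K := fun h1 =>
  (V_sub h hx).2 (h.inf_eq ▸ mem_inf.2 ⟨h1, (V_sub h hx).1⟩)

end Pf

/-! ### (4.6) to (4.10) -/

namespace PrimeDadeHyp

theorem A_subset (h : PrimeDadeHyp Γ L K H A A0 W W1 W2) : A ⊆ A0 := h.defA0 ▸ Set.subset_union_left
theorem classSupp_subset (h : PrimeDadeHyp Γ L K H A A0 W W1 W2) : classSupp V L ⊆ A0 :=
  h.defA0 ▸ Set.subset_union_right
theorem V_subset (h : PrimeDadeHyp Γ L K H A A0 W W1 W2) : V ⊆ A0 :=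
  (subset_classSupp _ _).trans h.classSupp_subset
theorem sharp_subset (h : PrimeDadeHyp Γ L K H A A0 W W1 W2) : sharp H ⊆ A := fun x hx =>
  h.le_A x hx.1 hx.2 ⟨mem_inf.2 ⟨h.H_le hx.1, mem_cent1_self x⟩, hx.2⟩
theorem dadeA (h : PrimeDadeHyp Γ L K H A A0 W W1 W2) : DadeHyp Γ L A :=
  restr_Dade_hyp h.dade h.A_subset h.A_conj
/-- `τ` is the identity on `V` -/
theorem Dade_V (h : PrimeDadeHyp Γ L K H A A0 W W1 W2) (hφ : φ ∈ CF L) (hx : x ∈ V) :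
    τ φ x = φ x := Dade_id h.dade hφ (h.V_subset hx)
/-- a class function of `L` whose restriction to `K` has support in `A` and which vanishes on `W₁`
has support in `A₀` -/
theorem mem_CFon (h : PrimeDadeHyp Γ L K H A A0 W W1 W2) (hφ : φ ∈ CF L)
    (hK : ∀ x ∈ K, x ∉ A → φ x = 0) (hW : ∀ x ∈ W1, x ≠ 1 → φ x = 0) : φ ∈ CFon L A0 := by
  refine mem_CFon_of hφ fun x hx h0 => ?_
  by_cases h1 : x ∈ K
  · exact hK x h1 fun h2 => h0 (h.A_subset h2)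
  · obtain ⟨y, hy, w, hw, h2, rfl⟩ := h.prTI.exists_conj hx h1
    rw [cfunJ hφ (h.prTI.K_le hy)]
    refine hW w (by_contra fun h3 => h0 (h.classSupp_subset (conj_mem_classSupp
      ((mem_cycTIset' h.prTI.defW).2 ⟨hw, h3, h2⟩) (h.prTI.K_le hy)))) fun e => h2 (e ▸ one_mem _)

end PrimeDadeHyp

open Classical in
/-- the set `𝒯` of (4.9) -/
noncomputable def uniformTIred (L W W1 W2 : Subgroup G) (k : G → ℂ) : Finset (G → ℂ) :=
  ((Irr W2).filter fun j => j ≠ cf1 W2 ∧ prTIred L W W1 W2 j 1 = prTIred L W W1 W2 k 1).image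
    (prTIred L W W1 W2)

namespace Pf

open P4 P2

/-- (4.7), first part -/
theorem prDade_irr_on (h : PrimeDadeHyp Γ L K H A A0 W W1 W2) (hθ : IsIrr K θ)
    (hk : ¬ H ≤ cfker K θ) : θ ∈ CFon K (insert 1 A) := by
  refine mem_CFon_of hθ.mem_CF fun x hx h1 => irr_reg_off_ker_0 hθ
    (h.normalH.mono h.H_le h.prTI.K_le) hk (eq_bot_iff.2 fun y hy => by_contra fun h2 => h1 ?_)
  by_cases h3 : x = 1
  · exact Or.inl h3
  · exact Or.inr (h.le_A y hy.1 h2 ⟨mem_inf.2 ⟨hx, mem_cent1_comm.1 hy.2⟩, h3⟩)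

/-- (4.7), second part -/
theorem prDade_Ind_irr_on (h : PrimeDadeHyp Γ L K H A A0 W W1 W2) (hθ : IsIrr K θ)
    (hk : ¬ H ≤ cfker K θ) : cfInd L K θ ∈ CFon L (insert 1 A) :=
  cfInd_on_of_conj K (fun g hg a ha => by
    rcases ha with rfl | ha
    · simp
    · exact Or.inr (h.A_conj g hg a ha)) (prDade_irr_on h hθ hk).2

/-- (4.7), third part -/
theorem cfker_prTIres (h : PrimeDadeHyp Γ L K H A A0 W W1 W2) (hj : IsIrr W2 j) (hj0 : j ≠ cf1 W2) :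
    ¬ H ≤ cfker K (χₖ j) := by
  rw [le_cfker_prTIres_iff h.prTI h.normalH h.H_le hj, inf_eq_right.2 h.W2_le, hj.le_cfker_iff]
  exact hj0

/-- (4.7), fourth part -/
theorem prDade_TIres_on (h : PrimeDadeHyp Γ L K H A A0 W W1 W2) (hj : IsIrr W2 j) (hj0 : j ≠ cf1 W2) :
    χₖ j ∈ CFon K (insert 1 A) := prDade_irr_on h (prTIres_irr h.prTI hj) (cfker_prTIres h hj hj0)

/-- (4.7), last part -/
theorem prDade_TIred_on (h : PrimeDadeHyp Γ L K H A A0 W W1 W2) (hj : IsIrr W2 j) (hj0 : j ≠ cf1 W2) :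
    μ j ∈ CFon L (insert 1 A) := by
  rw [← cfInd_prTIres h.prTI hj]
  exact prDade_Ind_irr_on h (prTIres_irr h.prTI hj) (cfker_prTIres h hj hj0)

theorem prTIred_mem_seqIndD (h : PrimeDadeHyp Γ L K H A A0 W W1 W2) (hj : IsIrr W2 j)
    (hj0 : j ≠ cf1 W2) : μ j ∈ seqIndD K L H ⊥ := by
  classical
  rw [← cfInd_prTIres h.prTI hj]
  exact Finset.mem_image_of_mem _ (Finset.mem_filter.2
    ⟨mem_Irr.2 (prTIres_irr h.prTI hj), bot_le, cfker_prTIres h hj hj0⟩)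

/-- (4.8), second part -/
theorem prDade_TIsign_eq (h : PrimeTIHyp L K W W1 W2) (hi : IsIrr W1 i) (hj : IsIrr W2 j)
    (hk : IsIrr W2 k) (e : μ₂ i j 1 = μ₂ i k 1) : δ j = δ k := by
  obtain ⟨a, ha⟩ := prTIirr1_mod h hi hj
  obtain ⟨b, hb⟩ := prTIirr1_mod h hi hk
  have h1 := (prime_cycTIhyp h).two_lt.1
  have h2 : ∀ z : ℤ, (2 : ℂ) ≠ ♯W1 * z := fun z e => by
    have : (♯W1 : ℤ) ∣ 2 := ⟨z, by exact_mod_cast e⟩
    have := Int.le_of_dvd two_pos this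
    omega
  rcases prTIsign_eq L W W1 W2 j with e1 | e1 <;> rcases prTIsign_eq L W W1 W2 k with e2 | e2 <;>
    rw [e1] at ha ⊢ <;> rw [e2] at hb ⊢
  · exact absurd (by push_cast; linear_combination hb - ha + e) (h2 (b - a))
  · exact absurd (by push_cast; linear_combination ha - hb - e) (h2 (a - b))

/-- (4.8), first part -/
theorem prDade_sub_TIirr_on (h : PrimeDadeHyp Γ L K H A A0 W W1 W2) (hi : IsIrr W1 i)
    (hj : IsIrr W2 j) (hk : IsIrr W2 k) (hj0 : j ≠ cf1 W2) (hk0 : k ≠ cf1 W2)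
    (e : μ₂ i j 1 = μ₂ i k 1) : μ₂ i j - μ₂ i k ∈ CFon L A0 := by
  refine h.mem_CFon (sub_mem (prTIirr_irr h.prTI hi hj).mem_CF (prTIirr_irr h.prTI hi hk).mem_CF)
    (fun x hx h1 => ?_) fun x hx h1 => ?_
  · by_cases h2 : x = 1
    · rw [h2, Pi.sub_apply, e, sub_self]
    · have h3 : x ∉ insert 1 A := fun h3 => h3.elim h2 h1
      rw [Pi.sub_apply, ← cfResE (μ₂ i j) hx, ← cfResE (μ₂ i k) hx, cfRes_prTIirr h.prTI hi hj,
        cfRes_prTIirr h.prTI hi hk, cfun_on0 (prDade_TIres_on h hj hj0) h3,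
        cfun_on0 (prDade_TIres_on h hk hk0) h3, sub_self]
  · rw [Pi.sub_apply, ← one_mul x, prTIirr_W1 h.prTI hi hj hx h1 (one_mem _),
      prTIirr_W1 h.prTI hi hk hx h1 (one_mem _), prDade_TIsign_eq h.prTI hi hj hk e,
      (h.cycTI.lin2 hj).one, (h.cycTI.lin2 hk).one, sub_self]

/-- (4.8), last part -/
theorem prDade_sub_TIirr (h : PrimeDadeHyp Γ L K H A A0 W W1 W2) (hi : IsIrr W1 i)
    (hj : IsIrr W2 j) (hk : IsIrr W2 k) (hj0 : j ≠ cf1 W2) (hk0 : k ≠ cf1 W2)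
    (e : μ₂ i j 1 = μ₂ i k 1) : τ (μ₂ i j - μ₂ i k) = δ j • (η i j - η i k) := by
  by_cases hjk : j = k
  · simp [hjk]
  have h1 := prDade_sub_TIirr_on h hi hj hk hj0 hk0 e
  have h2 := prTIirr_irr h.prTI hi hj
  have h3 := prTIirr_irr h.prTI hi hk
  refine eq_signed_sub_cTIiso h.cycTI (prTIsign_eq _ _ _ _ _)
    (Dade_vchar h.dade ⟨sub_mem (irr_vchar h2) (irr_vchar h3), h1.2⟩) ?_ hi hj hk hjk fun x hx => ?_
  · rw [cfnorm_Dade h.dade h1, cfnormBd (cfdot_irr_ne h2 h3 fun e =>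
      hjk ((prTIirr_inj h.prTI hi hj hi hk).1 e).2), cfnorm_irr h2, cfnorm_irr h3]
    norm_num
  · rw [h.Dade_V h1.1 hx, Pi.smul_apply, Pi.sub_apply, Pi.sub_apply,
      cycTIeta_restrict h.cycTI hi hj hx, cycTIeta_restrict h.cycTI hi hk hx,
      prTIirr_id h.prTI hi hj (V_sub h.prTI hx).1 (V_sub h.prTI hx).2,
      prTIirr_id h.prTI hi hk (V_sub h.prTI hx).1 (V_sub h.prTI hx).2,
      ← prDade_TIsign_eq h.prTI hi hj hk e, smul_eq_mul, mul_sub]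

theorem P4.irr1_eq (h : PrimeTIHyp L K W W1 W2) (hi : IsIrr W1 i) (hj : IsIrr W2 j) (hk : IsIrr W2 k)
    (e : μ j 1 = μ k 1) : μ₂ i j 1 = μ₂ i k 1 := by
  rw [prTIred_1 h hi hj, prTIred_1 h hi hk] at e
  exact mul_left_cancel₀ (cardC_ne_zero _) e

theorem prDade_sub_TIred (h : PrimeDadeHyp Γ L K H A A0 W W1 W2) (hj : IsIrr W2 j) (hk : IsIrr W2 k)
    (hj0 : j ≠ cf1 W2) (hk0 : k ≠ cf1 W2) (e : μ j 1 = μ k 1) :
    τ (μ j - μ k) = δ j • (∑ i ∈ Irr W1, η i j - ∑ i ∈ Irr W1, η i k) := by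
  rw [prTIred, prTIred, ← Finset.sum_sub_distrib, ← Finset.sum_sub_distrib, map_sum, Finset.smul_sum]
  exact Finset.sum_congr rfl fun i hi => prDade_sub_TIirr h (mem_Irr.1 hi) hj hk hj0 hk0
    (irr1_eq h.prTI (mem_Irr.1 hi) hj hk e)

theorem mem_uniformTIred : φ ∈ uniformTIred L W W1 W2 k ↔
    ∃ j, IsIrr W2 j ∧ j ≠ cf1 W2 ∧ μ j 1 = μ k 1 ∧ φ = μ j := by
  simp only [uniformTIred, Finset.mem_image, Finset.mem_filter, mem_Irr, and_assoc, eq_comm (a := φ)]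

/-- (4.9) -/
theorem uniform_prTIred_coherent (h : PrimeDadeHyp Γ L K H A A0 W W1 W2) (hk : IsIrr W2 k)
    (hk0 : k ≠ cf1 W2) :
    (PairwiseOrth L (uniformTIred L W W1 W2 k) ∧
      (∀ φ ∈ uniformTIred L W W1 W2 k, star φ ≠ φ ∧ star φ ∈ uniformTIred L W W1 W2 k) ∧
      ZspanOn (uniformTIred L W W1 W2 k) (sharp L) = ZspanOn (uniformTIred L W W1 W2 k) A) ∧
    ∃ τ1 : (G → ℂ) →+ (G → ℂ), (∀ j ∈ Irr W2, τ1 (μ j) = δ k • ∑ i ∈ Irr W1, η i j) ∧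
      CoherentWith L Γ (uniformTIred L W W1 W2 k) (sharp L) τ τ1 := by
  classical
  have hp := h.prTI
  refine ⟨⟨⟨fun h0 => ?_, fun φ h1 ψ h2 hne => ?_⟩, fun φ h1 => ?_, le_antisymm (fun φ hφ => ?_)
    (zchar_onS (h.A_le.trans (sharp_mono hp.K_le)))⟩, ?_⟩
  · obtain ⟨j, hj, -, -, e⟩ := mem_uniformTIred.1 h0
    exact prTIred_neq0 hp hj e.symm
  · obtain ⟨j, hj, -, -, rfl⟩ := mem_uniformTIred.1 h1
    obtain ⟨l, hl, -, -, rfl⟩ := mem_uniformTIred.1 h2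
    rw [cfdot_prTIred hp hj hl, if_neg fun e => hne (by rw [e])]
  · obtain ⟨j, hj, h2, h3, rfl⟩ := mem_uniformTIred.1 h1
    refine ⟨prTIred_not_real hp hj h2, mem_uniformTIred.2 ⟨star j, hj.star, fun e => h2 ?_, ?_,
      (prTIred_star hp hj).symm⟩⟩
    · rw [← star_star j, e, star_cf1]
    · rw [prTIred_star hp hj, cfConjCE, (Cnat_char1 (prTIred_char hp hj)).conj_eq, h3]
  · have h1 : φ ∈ suppOn (insert 1 A) := Zspan_le (fun ξ hξ => by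
      obtain ⟨j, hj, h2, -, rfl⟩ := mem_uniformTIred.1 hξ
      exact (prDade_TIred_on h hj h2).2) hφ.1
    refine ⟨hφ.1, fun x hx => ?_⟩
    by_cases h2 : x = 1
    · exact zchar_on hφ x fun h3 => h3.2 h2
    · exact h1 x fun h3 => h3.elim h2 hx
  · let ν : (G → ℂ) →ₗ[ℂ] (G → ℂ) :=
      ∑ l ∈ Irr W2, (cfdotL L (μ₂ (cf1 W1) l)).smulRight (δ k • ∑ i ∈ Irr W1, η i l)
    have hν : ∀ j ∈ Irr W2, ν (μ j) = δ k • ∑ i ∈ Irr W1, η i j := fun j hj => by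
      rw [LinearMap.sum_apply, Finset.sum_eq_single_of_mem j hj fun l hl hne => by
        rw [LinearMap.smulRight_apply, cfdotL_apply, cfdot_symm0 (by
          rw [cfdot_prTIirr_red hp (isIrr_cf1 _) (mem_Irr.1 hl) (mem_Irr.1 hj), if_neg hne]), zero_smul],
        LinearMap.smulRight_apply, cfdotL_apply, cfdotC, cfdot_prTIirr_red hp (isIrr_cf1 _)
          (mem_Irr.1 hj) (mem_Irr.1 hj), if_pos rfl, map_one, one_smul]
    refine ⟨ν.toAddMonoidHom, hν, isometryTo_zchar _ (fun ξ h1 ζ h2 => ?_) fun ξ h1 => ?_,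
      fun φ hφ => ?_⟩
    · obtain ⟨j, hj, -, -, rfl⟩ := mem_uniformTIred.1 h1
      obtain ⟨l, hl, -, -, rfl⟩ := mem_uniformTIred.1 h2
      rw [LinearMap.toAddMonoidHom_coe, hν j (mem_Irr.2 hj), hν l (mem_Irr.2 hl), cfdotZl, cfdotZr,
        conj_prTIsign, ← mul_assoc, prTIsign_mul_self, one_mul, cfdot_prTIred hp hj hl, cfdot_suml,
        Finset.sum_congr rfl (g := fun _ => if j = l then 1 else 0) fun i hi => by
          rw [cfdot_sumr, Finset.sum_eq_single_of_mem i hi fun i' hi' hne =>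
            cfdot_cycTIiso_ne h.cycTI (mem_Irr.1 hi) hj (mem_Irr.1 hi') hl (Or.inl hne.symm),
            cfdot_cycTIiso h.cycTI (mem_Irr.1 hi) hj (mem_Irr.1 hi) hl]
          simp, Finset.sum_const, h.cycTI.card_Irr.1]
      split_ifs <;> simp
    · obtain ⟨j, hj, -, -, rfl⟩ := mem_uniformTIred.1 h1
      rw [LinearMap.toAddMonoidHom_coe, hν j (mem_Irr.2 hj)]
      refine scale_zchar ?_ (sum_mem fun i hi => cycTIiso_vchar h.cycTI (mem_Irr.1 hi) hj)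
      rcases prTIsign_eq L W W1 W2 k with e | e <;> rw [e]
      exacts [isCint_one, isCint_one.neg]
    · obtain ⟨z, -, e⟩ := zchar_pivot (a := fun _ => 1) (prTIred_1_neq0 hp hk) (fun ξ hξ => by
        obtain ⟨j, hj, -, h3, rfl⟩ := mem_uniformTIred.1 hξ
        rw [h3, one_mul]) hφ.1 (zchar_on hφ 1 fun h3 => h3.2 rfl)
      rw [e, map_sum, map_sum]
      refine Finset.sum_congr rfl fun ξ hξ => ?_
      obtain ⟨j, hj, h2, h3, rfl⟩ := mem_uniformTIred.1 hξ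
      rw [map_zsmul, map_zsmul, one_smul, prDade_sub_TIred h hj hk h2 hk0 h3,
        LinearMap.toAddMonoidHom_coe, map_sub, hν j (mem_Irr.2 hj), hν k (mem_Irr.2 hk), ← smul_sub,
        prDade_TIsign_eq hp (isIrr_cf1 W1) hj hk (irr1_eq hp (isIrr_cf1 W1) hj hk h3)]

/-- (4.10) -/
theorem prDade_sub2_TIirr (h : PrimeDadeHyp Γ L K H A A0 W W1 W2) (hi : IsIrr W1 i) (hj : IsIrr W2 j) :
    δ j • μ₂ i j - δ j • μ₂ (cf1 W1) j - μ₂ i (cf1 W2) + μ₂ (cf1 W1) (cf1 W2) ∈ CFon L A0 ∧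
    τ (δ j • μ₂ i j - δ j • μ₂ (cf1 W1) j - μ₂ i (cf1 W2) + μ₂ (cf1 W1) (cf1 W2)) =
      η i j - η (cf1 W1) j - η i (cf1 W2) + η (cf1 W1) (cf1 W2) := by
  have hp := h.prTI
  have hc := prime_cycTIhyp hp
  have hα := cfCycTI_on hc hi hj
  have h1 : δ j • μ₂ i j - δ j • μ₂ (cf1 W1) j - μ₂ i (cf1 W2) + μ₂ (cf1 W1) (cf1 W2) =
      cfInd L W (cfCycTI W W1 W2 i j) := by
    rw [cfInd_cycTI_alpha hc hi hj, cycTIiso_prTIirr, cycTIiso_prTIirr, cycTIiso_prTIirr,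
      prTIsign0 hp, one_smul, prTIirr00 hp]
    abel
  have h2 : η i j - η (cf1 W1) j - η i (cf1 W2) + η (cf1 W1) (cf1 W2) =
      cfInd Γ W (cfCycTI W W1 W2 i j) := by
    rw [cfInd_cycTI_alpha h.cycTI hi hj, cycTIiso00 h.cycTI]
    abel
  rw [h1, h2]
  have h3 := cfInd_on L W hα.2
  refine ⟨CFon_mono L h.classSupp_subset h3, funext fun u => ?_⟩
  by_cases hu : u ∈ classSupp V Γ
  · obtain ⟨a, ha, g, hg, rfl⟩ := hu
    rw [cfunJ (Dade_mem_CF' h.dade _) hg, cfunJ (cfInd_mem_CF _ _ _) hg, h.Dade_V h3.1 ha,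
      normedTI_Ind_id hc.ti hα ha (hp.W_le (V_sub hp ha).1),
      normedTI_Ind_id h.cycTI.ti hα ha (h.cycTI.le (V_sub hp ha).1)]
  · rw [cfInd_suppOn Γ W hα.2 u hu]
    by_cases h4 : u ∈ DadeSupp Γ L A0
    · obtain ⟨a, ha, h4⟩ := mem_DadeSupp.1 h4
      rw [DadeE h.dade h3.1 ha h4]
      refine cfun_on0 h3 fun ⟨v, hv, t, ht, e⟩ => hu ?_
      rw [e, Dade_support1J h.dade.le v ht] at h4
      obtain ⟨y, hy, g, hg, rfl⟩ := mem_supp1.1 h4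
      have h5 : y ∈ DadeSig Γ L v ⊓ (L ⊓ 𝐂[v]) := mem_inf.2 ⟨hy, mem_inf.2 ⟨hp.W_le (h.cycTI.cent_eq hv ▸
        mem_inf.2 ⟨Dade_signalizer_sub _ _ _ hy, Dade_signalizer_cent _ _ _ hy⟩),
        Dade_signalizer_cent _ _ _ hy⟩⟩
      rw [(Dade_sdprod h.dade (h.V_subset hv)).inf_eq, mem_bot] at h5
      rw [h5, one_mul]
      exact conj_mem_classSupp hv hg
    · exact Dade_suppOn _ _ _ _ u h4

end Pf

end Cfsg.Agent.OO
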