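import Cfsg.Agent.Lib.OO.Pf.PF5_B

/-! # Peterfalvi section 5: (5.3)(b), (5.8) and (5.9) -/

set_option autoImplicit false
set_option linter.unusedSectionVars false
set_option linter.unusedVariables false

namespace Cfsg.Agent.OO.Pf

open Subgroup Cfsg.Agent.Coprime P5
open scoped Pointwise ComplexConjugate

universe u

variable {G : Type u} [Group G] [Finite G] {Γ L K H H0 M W W1 W2 : Subgroup G} {A A0 : Set G}
  {φ ψ χ θ ξ β i j k : G → ℂ} {S S1 S2 X Y : Finset (G → ℂ)}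
variable {τ1 : (G → ℂ) →+ (G → ℂ)} {R : (G → ℂ) → Finset (G → ℂ)} {c d : ℂ}

local notation "η" => cycTIeta Γ W W1 W2
local notation "V" => cycTIset W1 W2
local notation "δ" => prTIsign L W W1 W2
local notation "μ" => prTIred L W W1 W2
local notation "τ" => Dade Γ L A0

namespace P5

theorem prDade_iso (h : PrimeDadeHyp Γ L K H A A0 W W1 W2) (hS : S ⊆ seqIndD K L H ⊥) :
    IsometryTo L Γ (ZspanOn S (sharp L)) (ZIrrOn Γ (sharp Γ)) τ :=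
  Dade_isometryTo_zchar h.dade (fun φ hφ => seqInd_vcharW h.prTI.K_le (seqInd_subT _ _ _ _ (hS hφ)))
    fun φ hφ => by
      obtain ⟨θ, h1, -, h2, rfl⟩ := mem_seqIndD.1 (hS hφ)
      exact suppOn_mono (Set.insert_subset_insert h.A_subset) (prDade_Ind_irr_on h h1 h2).2

theorem prDade_cases (h : PrimeDadeHyp Γ L K H A A0 W W1 W2) (hφ : φ ∈ seqIndD K L H ⊥) :
    IsIrr L φ ∨ ∃ j, IsIrr W2 j ∧ j ≠ cf1 W2 ∧ φ = μ j := by
  obtain ⟨θ, h1, -, h2, rfl⟩ := mem_seqIndD.1 hφ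
  refine (em _).imp_right fun h3 => ?_
  obtain ⟨j, hj, e1, e2⟩ := prTIred_of_not_irr h.prTI h1 h3
  exact ⟨j, hj, fun e => h2 (by rw [e1, e, prTIres0 h.prTI, cfker_cf1]; exact h.H_le), e2⟩

theorem prDade_ne_cf1 (h : PrimeDadeHyp Γ L K H A A0 W W1 W2) (hk : IsIrr W2 k)
    (hφ : μ k ∈ seqIndD K L H ⊥) : k ≠ cf1 W2 := by
  obtain h1 | ⟨j, hj, h1, e⟩ := prDade_cases h hφ
  · exact absurd h1 (prTIred_not_irr h.prTI hk)
  · rwa [(prTIred_inj h.prTI hk hj).1 e]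

theorem prDade_vanish (h : PrimeDadeHyp Γ L K H A A0 W W1 W2) (hS : S ⊆ seqIndD K L H ⊥)
    (hφ : φ ∈ Zspan S) {x : G} (hx : x ∈ V) : τ φ x = 0 := by
  have := Zspan_le (fun ξ hξ => seqInd_on h.prTI.normalK (seqInd_subT _ _ _ _ (hS hξ))) hφ
  rw [h.Dade_V this.1 hx, cfun_on0 this (prDade_supp_disjoint h.prTI hx)]

theorem dirr_sum_ortho (hX : Orthonormal' Γ X) (hd : ∀ α ∈ X, IsDirr Γ α) (hψ : IsDirr Γ ψ)
    (h0 : ⟪∑ α ∈ X, α, ψ⟫[Γ] = 0) (hφ : φ ∈ X) : ⟪φ, ψ⟫[Γ] = 0 := by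
  classical
  by_contra h1
  have h2 := hX.cfdot_sum_subset subset_rfl hφ
  rcases (hd φ hφ).eq_or_eq_neg hψ h1 with e | e <;> rw [if_pos hφ, e] at h2
  · simp [h0] at h2
  · simp [cfdotNr, h0] at h2

open Classical in
/-- a signed column of the `η` matrix -/
noncomputable def col (Γ W W1 W2 : Subgroup G) (c : ℂ) (j : G → ℂ) : Finset (G → ℂ) :=
  (Irr W1).image fun i => c • cycTIeta Γ W W1 W2 i j

theorem mem_col : φ ∈ col Γ W W1 W2 c j ↔ ∃ i, IsIrr W1 i ∧ φ = c • η i j := by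
  simp only [col, Finset.mem_image, mem_Irr, eq_comm (a := φ)]

theorem col_dirr (h : CycTIHyp Γ W W1 W2) (hc : c = 1 ∨ c = -1) (hj : IsIrr W2 j)
    (hφ : φ ∈ col Γ W W1 W2 c j) : IsDirr Γ φ :=
  let ⟨_, hi, e⟩ := mem_col.1 hφ; e ▸ (cycTIiso_dirr h hi hj).smul_sign hc

theorem col_ortho_eta (h : CycTIHyp Γ W W1 W2) (hj : IsIrr W2 j) (hk : IsIrr W2 k) (hi : IsIrr W1 i)
    (hne : j ≠ k) (hφ : φ ∈ col Γ W W1 W2 c j) : ⟪φ, η i k⟫[Γ] = 0 := by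
  obtain ⟨i', hi', rfl⟩ := mem_col.1 hφ
  rw [cfdotZl, cfdot_cycTIiso_ne h hi' hj hi hk (.inr hne), mul_zero]

theorem col_orth (h : CycTIHyp Γ W W1 W2) (hj : IsIrr W2 j) (hk : IsIrr W2 k) (hne : j ≠ k) :
    Orth Γ (col Γ W W1 W2 c j) (col Γ W W1 W2 d k) := fun φ hφ ψ hψ => by
  obtain ⟨i, hi, rfl⟩ := mem_col.1 hψ
  rw [cfdotZr, col_ortho_eta h hj hk hi hne hφ, mul_zero]

theorem col_orthonormal (h : CycTIHyp Γ W W1 W2) (hc : c = 1 ∨ c = -1) (hj : IsIrr W2 j) :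
    Orthonormal' Γ (col Γ W W1 W2 c j) :=
  ⟨fun φ hφ => (col_dirr h hc hj hφ).cfdot_self, fun φ hφ ψ hψ hne => by
    obtain ⟨i, hi, rfl⟩ := mem_col.1 hφ
    obtain ⟨i', hi', rfl⟩ := mem_col.1 hψ
    rw [cfdotZl, cfdotZr, cfdot_cycTIiso_ne h hi hj hi' hj (.inl fun e => hne (by rw [e]))]; simp⟩

theorem col_inj (h : CycTIHyp Γ W W1 W2) (hc : c = 1 ∨ c = -1) (hj : IsIrr W2 j) :
    Set.InjOn (fun i => c • η i j) (Irr W1) := fun a ha b hb e =>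
  ((cycTIiso_eqE h (mem_Irr.1 ha) hj (mem_Irr.1 hb) hj).1
    (smul_right_injective _ (by rcases hc with rfl | rfl <;> simp) e)).1

theorem sum_col (h : CycTIHyp Γ W W1 W2) (hc : c = 1 ∨ c = -1) (hj : IsIrr W2 j) :
    ∑ α ∈ col Γ W W1 W2 c j, α = c • ∑ i ∈ Irr W1, η i j := by
  classical rw [col, Finset.sum_image (col_inj h hc hj), Finset.smul_sum]

theorem card_col (h : CycTIHyp Γ W W1 W2) (hc : c = 1 ∨ c = -1) (hj : IsIrr W2 j) :
    (col Γ W W1 W2 c j).card = ♯W1 := by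
  classical rw [col, Finset.card_image_of_injOn (col_inj h hc hj), h.card_Irr.1]

theorem sign_neg (hc : c = 1 ∨ c = -1) : -c = 1 ∨ -c = -1 := by rcases hc with rfl | rfl <;> simp

theorem star_ne_cf1 (hj : j ≠ cf1 W2) : star j ≠ cf1 W2 := fun e => hj (by
  rw [← star_star j, e, star_cf1])

open Classical in
theorem prDade_subcoh (h : PrimeDadeHyp Γ L K H A A0 W W1 W2)
    (hS : ConjSubset S (seqIndD K L H ⊥)) (hr : ∀ χ ∈ S, star χ ≠ χ) :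
    ∃ R, Subcoherent L Γ S τ R ∧
      (∀ φ ∈ S, IsIrr L φ → ∀ α ∈ R φ, ∀ i ∈ Irr W1, ∀ j ∈ Irr W2, ⟪α, η i j⟫[Γ] = 0) ∧
      ∀ j, IsIrr W2 j → R (μ j) = col Γ W W1 W2 (δ j) j ∪ col Γ W W1 W2 (-δ j) (star j) := by
  have hp := h.prTI
  have hc := h.cycTI
  have hI := (ConjSubset.refl hS.2).filter (IsIrr L) fun φ _ h => h.star
  obtain ⟨R1, h1, -⟩ := irr_subcoherent (fun χ hχ => (Finset.mem_filter.1 hχ).2) hI.2
    (fun χ hχ => hr χ (hI.1 hχ)) (prDade_iso h (hI.1.trans hS.1))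
  obtain ⟨R, r1, r2⟩ : ∃ R : (G → ℂ) → Finset (G → ℂ), (∀ φ, IsIrr L φ → R φ = R1 φ) ∧
      ∀ j, IsIrr W2 j → R (μ j) = col Γ W W1 W2 (δ j) j ∪ col Γ W W1 W2 (-δ j) (star j) := by
    refine ⟨fun φ => if h : ∃ j, IsIrr W2 j ∧ φ = μ j then
      col Γ W W1 W2 (δ h.choose) h.choose ∪ col Γ W W1 W2 (-δ h.choose) (star h.choose) else R1 φ,
      fun φ hφ => dif_neg fun ⟨j, hj, e⟩ => prTIred_not_irr hp hj (e ▸ hφ), fun j hj => ?_⟩
    have h2 : ∃ l, IsIrr W2 l ∧ μ j = μ l := ⟨j, hj, rfl⟩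
    dsimp only
    rw [dif_pos h2, ← (prTIred_inj hp hj h2.choose_spec.1).1 h2.choose_spec.2]
  have hs := prTIsign_eq L W W1 W2
  have o1 : ∀ φ ∈ S, IsIrr L φ → ∀ α ∈ R φ, ∀ i ∈ Irr W1, ∀ j ∈ Irr W2, ⟪α, η i j⟫[Γ] = 0 := by
    intro φ hφ hirr α hα i hi j hj
    have hφ' := Finset.mem_filter.2 ⟨hφ, hirr⟩
    have hm := h1.sub_star_mem (.refl hI.2) hφ'
    refine dirr_sum_ortho (h1.R_orth φ hφ') (fun _ => h1.dirr hφ')
      (cycTIiso_dirr hc (mem_Irr.1 hi) (mem_Irr.1 hj)) ?_ (r1 φ hirr ▸ hα)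
    rw [← h1.sum_R φ hφ']
    refine cycTI_NC_eq_zero_of_lt hc (Dade_mem_CF' h.dade _)
      (fun x => prDade_vanish h (hI.1.trans hS.1) hm.1) ?_ i hi j hj
    have := cycTI_NC_norm hc (h1.tau_vchar hm)
    rw [h1.isometry.cfnorm hm, cfnormBd (h1.cfdot_star hφ'), cfnorm_conjC, cfnorm_irr hirr] at this
    have h3 : cycTI_NC Γ W W1 W2 (τ (φ - star φ)) ≤ 2 := by exact_mod_cast this.trans_eq one_add_one_eq_two
    exact h3.trans_lt (lt_min hc.two_lt.1 hc.two_lt.2)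
  have o2 : ∀ φ ∈ S, IsIrr L φ → ∀ j, IsIrr W2 j → Orth Γ (R φ) (R (μ j)) := by
    intro φ hφ hirr j hj α hα β hβ
    rw [r2 j hj, Finset.mem_union, mem_col, mem_col] at hβ
    rcases hβ with ⟨i, hi, rfl⟩ | ⟨i, hi, rfl⟩ <;>
      rw [cfdotZr, o1 φ hφ hirr α hα i (mem_Irr.2 hi) _ (mem_Irr.2 (by simp [hj, hj.star])), mul_zero]
  have hT := fun φ (hφ : φ ∈ S) => seqInd_subT _ _ _ _ (hS.1 hφ)
  refine ⟨R, ⟨fun φ hφ => seqInd_char hp.K_le (hT φ hφ), hr, hS.2, prDade_iso h hS.1,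
    seqInd_orthogonal hp.normalK hT, fun φ hφ α hα => ?_, fun φ hφ => ?_, fun φ hφ => ?_,
    fun ξ hξ φ hφ h2 h3 => ?_⟩, o1, r2⟩
  · obtain hi | ⟨j, hj, h0, rfl⟩ := prDade_cases h (hS.1 hφ)
    · exact h1.R_mem φ (Finset.mem_filter.2 ⟨hφ, hi⟩) α (r1 φ hi ▸ hα)
    · rw [r2 j hj, Finset.mem_union] at hα
      exact hα.elim (fun h => (col_dirr hc (hs j) hj h).vchar)
        fun h => (col_dirr hc (sign_neg (hs j)) hj.star h).vchar
  · obtain hi | ⟨j, hj, h0, rfl⟩ := prDade_cases h (hS.1 hφ)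
    · exact r1 φ hi ▸ h1.R_orth φ (Finset.mem_filter.2 ⟨hφ, hi⟩)
    · exact r2 j hj ▸ (col_orthonormal hc (hs j) hj).union (col_orthonormal hc (sign_neg (hs j)) hj.star)
        (col_orth hc hj hj.star (hc.star_ne2 hj h0).symm)
  · obtain hi | ⟨j, hj, h0, rfl⟩ := prDade_cases h (hS.1 hφ)
    · exact r1 φ hi ▸ h1.sum_R φ (Finset.mem_filter.2 ⟨hφ, hi⟩)
    · rw [r2 j hj, Finset.sum_union ((col_orth hc hj hj.star (hc.star_ne2 hj h0).symm).disjoint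
        (col_orthonormal hc (hs j) hj)), sum_col hc (hs j) hj, sum_col hc (sign_neg (hs j)) hj.star,
        ← prTIred_star hp hj, prDade_sub_TIred h hj hj.star h0 (star_ne_cf1 h0)
          (by rw [prTIred_star hp hj, star_char1 (prTIred_char hp hj)]), smul_sub, neg_smul, sub_eq_add_neg]
  · obtain hi | ⟨j, hj, h0, rfl⟩ := prDade_cases h (hS.1 hφ) <;>
      obtain hi' | ⟨k, hk, h0', rfl⟩ := prDade_cases h (hS.1 hξ)
    · exact r1 φ hi ▸ r1 ξ hi' ▸ h1.orth_R ξ (Finset.mem_filter.2 ⟨hξ, hi'⟩) φ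
        (Finset.mem_filter.2 ⟨hφ, hi⟩) h2 h3
    · exact o2 φ hφ hi k hk
    · exact (o2 ξ hξ hi' j hj).symm
    · rw [← prTIred_star hp hk] at h3
      have n1 : j ≠ k := fun e => cardC_ne_zero W1 (by rwa [cfdot_prTIred hp hj hk, if_pos e] at h2)
      have n2 : j ≠ star k := fun e =>
        cardC_ne_zero W1 (by rwa [cfdot_prTIred hp hj hk.star, if_pos e] at h3)
      intro α hα β hβ
      rw [r2 _ ‹_›, Finset.mem_union] at hα hβ
      rcases hα with hα | hα <;> rcases hβ with hβ | hβ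
      exacts [col_orth hc hj hk n1 α hα β hβ, col_orth hc hj hk.star n2 α hα β hβ,
        col_orth hc hj.star hk (fun e => n2 (by simp [← e])) α hα β hβ,
        col_orth hc hj.star hk.star (fun e => n1 (star_injective e)) α hα β hβ]

end P5

open Classical in
/-- (5.3)(b) -/
theorem prDade_subcoherent (h : PrimeDadeHyp Γ L K H A A0 W W1 W2)
    (hS : ConjSubset S (seqIndD K L H ⊥)) (hr : ∀ χ ∈ S, star χ ≠ χ) :
    ∃ R, Subcoherent L Γ S (Dade Γ L A0) R ∧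
      (∀ φ ∈ S, IsIrr L φ → ∀ α ∈ R φ, ∀ i ∈ Irr W1, ∀ j ∈ Irr W2,
        ⟪α, cycTIeta Γ W W1 W2 i j⟫[Γ] = 0) ∧
      ∀ j ∈ Irr W2, j ≠ cf1 W2 → R (prTIred L W W1 W2 j) =
        (Irr W1).image (fun i => prTIsign L W W1 W2 j • cycTIeta Γ W W1 W2 i j) ∪
        (Irr W1).image (fun i => -(prTIsign L W W1 W2 j • cycTIeta Γ W W1 W2 i (star j))) := by
  obtain ⟨R, h1, h2, h3⟩ := prDade_subcoh h hS hr
  exact ⟨R, h1, h2, fun j hj _ => by simp only [h3 j (mem_Irr.1 hj), col, neg_smul]⟩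

/-- the images of the irreducible members of a coherent set are orthogonal to the `η_{ij}` -/
theorem coherent_prDade_ortho_cycTIiso (h : PrimeDadeHyp Γ L K H A A0 W W1 W2)
    (hS : ConjSubset S (seqIndD K L H ⊥)) (hr : ∀ χ ∈ S, star χ ≠ χ)
    (h1 : CoherentWith L Γ S (sharp L) (Dade Γ L A0) τ1) (hχ : χ ∈ S) (hirr : IsIrr L χ) {i j : G → ℂ}
    (hi : IsIrr W1 i) (hj : IsIrr W2 j) : ⟪τ1 χ, cycTIeta Γ W W1 W2 i j⟫[Γ] = 0 := by
  obtain ⟨R, h2, h3, -⟩ := prDade_subcoh h hS hr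
  obtain ⟨E, hE, e⟩ := mem_coherent_sum_subseq h2 (.refl hS.2) h1 hχ
  rw [e, cfdot_suml]
  exact Finset.sum_eq_zero fun α hα => h3 χ hχ hirr α (hE hα) i (mem_Irr.2 hi) j (mem_Irr.2 hj)

/-- (5.8) -/
theorem coherent_prDade_TIred (h : PrimeDadeHyp Γ L K H A A0 W W1 W2)
    (hS : ConjSubset S (seqIndD K L H ⊥)) (hr : ∀ χ ∈ S, star χ ≠ χ) (hχ : χ ∈ S) (hirr : IsIrr L χ)
    {k : G → ℂ} (hk : IsIrr W2 k) (hμ : prTIred L W W1 W2 k ∈ S)
    (h1 : CoherentWith L Γ S (sharp L) (Dade Γ L A0) τ1) :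
    τ1 (prTIred L W W1 W2 k) = prTIsign L W W1 W2 k • ∑ i ∈ Irr W1, cycTIeta Γ W W1 W2 i k ∨
    (τ1 (prTIred L W W1 W2 k) = -prTIsign L W W1 W2 k • ∑ i ∈ Irr W1, cycTIeta Γ W W1 W2 i (star k) ∧
      ∀ l, IsIrr W2 l → prTIred L W W1 W2 l ∈ S →
        prTIred L W W1 W2 l 1 = prTIred L W W1 W2 k 1 → l = k ∨ l = star k) := by
  classical
  have hp := h.prTI
  have hc := h.cycTI
  have hs := prTIsign_eq L W W1 W2
  have i0 := isIrr_cf1 W1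
  obtain ⟨R, h2, -, h3⟩ := prDade_subcoh h hS hr
  have o : ∀ l, IsIrr W2 l → μ l ∈ S → ∀ j, IsIrr W2 j → l ≠ j → star l ≠ j → ∀ i, IsIrr W1 i →
      ⟪τ1 (μ l), η i j⟫[Γ] = 0 := fun l hl hl' j hj n1 n2 i hi => by
    obtain ⟨E, hE, e⟩ := mem_coherent_sum_subseq h2 (.refl hS.2) h1 hl'
    rw [e, cfdot_suml]
    refine Finset.sum_eq_zero fun α hα => ?_
    have := hE hα
    rw [h3 l hl, Finset.mem_union] at this
    exact this.elim (col_ortho_eta hc hl hj hi n1) (col_ortho_eta hc hl.star hj hi n2)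
  have k0 := prDade_ne_cf1 h hk (hS.1 hμ)
  obtain ⟨E, hE, e⟩ := mem_coherent_sum_subseq h2 (.refl hS.2) h1 hμ
  have cE : E.card = ♯W1 := by
    have := h1.cfnorm (mem_zchar hμ)
    rw [e, ((h2.R_orth _ hμ).subset hE).cfnorm_sum_one, cfnorm_prTIred hp hk] at this
    exact_mod_cast this
  have hV : ∀ x ∈ V, τ1 (μ k) x = 0 := fun x hx => by
    have c1 := Cint_vchar1 (h2.vchar hχ)
    have c2 := Cint_vchar1 (h2.vchar hμ)
    have u : χ 1 • μ k - μ k 1 • χ ∈ ZspanOn S (sharp L) := (zcharD1E fun _ => h2.mem_CF).2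
      ⟨sub_mem (scale_zchar c1 (mem_zchar hμ)) (scale_zchar c2 (mem_zchar hχ)), by simp [mul_comm]⟩
    have := prDade_vanish h hS.1 u.1 hx
    rw [← h1.eq u, map_sub, map_Cint_smul τ1 c1, map_Cint_smul τ1 c2] at this
    simpa [irr1_neq0 hirr, ortho_cycTIiso_vanish hc (vchar_mem_CF (h1.vchar_mem hχ)) (fun i hi j hj =>
      coherent_prDade_ortho_cycTIiso h hS hr h1 hχ hirr (mem_Irr.1 hi) (mem_Irr.1 hj)) x hx] using this
  have hm : ∀ i, IsIrr W1 i → (δ k • η i k ∈ E ↔ δ k • η (cf1 W1) k ∈ E) := fun i hi => by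
    have := cycTIiso_cfdot_exchange hc (vchar_mem_CF (h1.vchar_mem hμ)) hV hi hk i0 (isIrr_cf1 W2)
    rw [o k hk hμ _ (isIrr_cf1 _) k0 (star_ne_cf1 k0) _ hi, o k hk hμ _ (isIrr_cf1 _) k0 (star_ne_cf1 k0) _ i0,
      add_zero, zero_add] at this
    have h4 : ⟪τ1 (μ k), δ k • η i k⟫[Γ] = ⟪τ1 (μ k), δ k • η (cf1 W1) k⟫[Γ] := by
      rw [cfdotZr, cfdotZr, this]
    have h5 : ∀ i, IsIrr W1 i → δ k • η i k ∈ R (μ k) := fun i hi =>
      h3 k hk ▸ Finset.mem_union_left _ (mem_col.2 ⟨i, hi, rfl⟩)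
    rw [e, (h2.R_orth _ hμ).cfdot_sum_subset hE (h5 i hi),
      (h2.R_orth _ hμ).cfdot_sum_subset hE (h5 _ i0)] at h4
    split_ifs at h4 <;> simp_all
  by_cases ha : δ k • η (cf1 W1) k ∈ E
  · left
    rw [e, ← sum_col hc (hs k) hk, Finset.eq_of_subset_of_card_le (s := col Γ W W1 W2 (δ k) k)
      (fun α hα => let ⟨i, hi, e⟩ := mem_col.1 hα; e ▸ (hm i hi).2 ha) (by rw [cE, card_col hc (hs k) hk])]
  have e' : τ1 (μ k) = -δ k • ∑ i ∈ Irr W1, η i (star k) := by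
    rw [e, ← sum_col hc (sign_neg (hs k)) hk.star, Finset.eq_of_subset_of_card_le (s := E)
      (fun α hα => (Finset.mem_union.1 (h3 k hk ▸ hE hα)).resolve_left fun h' =>
        let ⟨i, hi, e⟩ := mem_col.1 h'; ha ((hm i hi).1 (e ▸ hα)))
      (by rw [cE, card_col hc (sign_neg (hs k)) hk.star])]
  refine .inr ⟨e', fun l hl hl' e1 => by_contra fun hn => ?_⟩
  rw [not_or] at hn
  have := congrArg (⟪·, η (cf1 W1) k⟫[Γ]) (h1.sub_smul (fun _ => h2.mem_CF) hl' hμ isCint_one (by simpa))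
  have s : ∀ j, IsIrr W2 j → ⟪∑ i ∈ Irr W1, η i j, η (cf1 W1) k⟫[Γ] = if j = k then 1 else 0 := by
    intro j hj
    rw [cfdot_suml, Finset.sum_eq_single_of_mem _ (mem_Irr.2 i0) fun i hi hne =>
      cfdot_cycTIiso_ne hc (mem_Irr.1 hi) hj i0 hk (.inl hne), cfdot_cycTIiso hc i0 hj i0 hk]
    simp
  simp only [one_smul] at this
  rw [prDade_sub_TIred h hl hk (prDade_ne_cf1 h hl (hS.1 hl')) k0 e1, cfdotZl, cfdotBl, cfdotBl,
    o l hl hl' k hk hn.1 (fun e => hn.2 (by simp [← e])) _ i0, e', cfdotZl, s l hl, s k hk, s _ hk.star]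
    at this
  simp [hn.1, hc.star_ne2 hk k0, prTIsign_ne_zero] at this

/-- (5.9)(a) -/
theorem cfAut_Dade_coherent (u : ℂ ≃+* ℂ) (h : DadeHyp Γ L A)
    (h1 : CoherentWith L Γ S (sharp L) (Dade Γ L A) τ1) (hS : ∀ φ ∈ S, φ ∈ CF L)
    (hu : ∀ φ ∈ S, cfAut u φ ∈ S) (hχ : χ ∈ S) (hirr : IsIrr L χ) (hψ : ψ ∈ S) (hirr' : IsIrr L ψ)
    (hne : ψ ≠ χ) : cfAut u (τ1 χ) = τ1 (cfAut u χ) := by
  obtain ⟨p, p0, hp⟩ := hirr'.exists_one
  obtain ⟨q, q0, hq⟩ := hirr.exists_one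
  have m : ∀ a ∈ S, ∀ b ∈ S, a 1 = q → b 1 = p → p • a - q • b ∈ ZspanOn S (sharp L) :=
    fun a ha b hb e1 e2 => (zcharD1E hS).2 ⟨sub_mem (nsmul_mem (mem_zchar ha) _)
      (nsmul_mem (mem_zchar hb) _), by simp [e1, e2, mul_comm]⟩
  have uq : cfAut u χ 1 = q := by rw [cfAutE, hq, map_natCast]
  have m1 := h1.eq (m χ hχ ψ hψ hq hp)
  have m2 := h1.eq (m _ (hu χ hχ) _ (hu ψ hψ) uq (by rw [cfAutE, hp, map_natCast]))
  have m3 := congrFun m2 1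
  rw [Dade1 h] at m3
  rw [← cfAut_nsmul, ← cfAut_nsmul, ← cfAut_sub, Dade_aut, ← m1, cfAut_sub, cfAut_nsmul,
    cfAut_nsmul] at m2
  simp only [map_sub, map_nsmul, cfAut_sub, cfAut_nsmul] at m2 m3
  have m4 := congrFun (h1.sub_smul hS hχ (hu χ hχ) isCint_one (by rw [uq, hq, one_mul])) 1
  rw [Dade1 h, one_smul, Pi.sub_apply, eq_comm, sub_eq_zero,
    ← (Cint_vchar1 (h1.vchar_mem hχ)).aut_eq u, ← cfAutE] at m4
  have da := h1.dirr (hu χ hχ) (hirr.cfAut u)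
  have dc := (h1.dirr hχ hirr).cfAut u
  have dd := (h1.dirr hψ hirr').cfAut u
  have ab : ⟪τ1 (cfAut u ψ), τ1 (cfAut u χ)⟫[Γ] = 0 := by
    rw [h1.cfdot_mem (hu ψ hψ) (hu χ hχ),
      cfdot_irr_ne (hirr'.cfAut u) (hirr.cfAut u) fun e => hne (cfAut_inj u e)]
  generalize τ1 (cfAut u χ) = a at *
  generalize τ1 (cfAut u ψ) = b at *
  generalize cfAut u (τ1 χ) = c at *
  generalize cfAut u (τ1 ψ) = d at *
  have a1 := da.one_ne_zero
  have p0' : (p : ℂ) ≠ 0 := by exact_mod_cast p0.ne'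
  by_contra n1
  have n2 : c ≠ -a := fun e => a1 (by rw [e, Pi.neg_apply] at m4; linear_combination -m4 / 2)
  have m5 := congrArg (⟪·, a⟫[Γ]) m2
  simp only [cfdotBl, cfdotMnl, da.cfdot_self, ab, cfdot_dirr_eq_zero dc da n1 n2] at m5
  rcases dd.eq_or_eq_neg da (fun e => p0' (by simpa [e] using m5)) with rfl | rfl
  · have : ((p + q : ℕ) : ℂ) = 0 := by
      rw [da.cfdot_self] at m5; push_cast; linear_combination m5
    exact absurd (by exact_mod_cast this : p + q = 0) (by omega)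
  · obtain rfl : p = q := by
      rw [cfdotNl, da.cfdot_self] at m5
      have : (p : ℂ) = q := by linear_combination m5
      exact_mod_cast this
    have m6 := congrFun m2 1
    simp only [Pi.sub_apply, Pi.mul_apply, Pi.natCast_apply, Pi.neg_apply, nsmul_eq_mul, m4] at m3 m6
    exact a1 (mul_left_cancel₀ p0' (by linear_combination (m3 - m6) / 2))

theorem star_Dade_coherent (h : DadeHyp Γ L A) (h1 : CoherentWith L Γ S (sharp L) (Dade Γ L A) τ1)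
    (hS : ∀ φ ∈ S, φ ∈ CF L) (hu : ∀ φ ∈ S, star φ ∈ S) (hχ : χ ∈ S) (hirr : IsIrr L χ)
    (hne : star χ ≠ χ) : star (τ1 χ) = τ1 (star χ) := by
  simpa only [cfAut_conjAut] using cfAut_Dade_coherent conjAut h h1 hS
    (by simpa only [cfAut_conjAut]) hχ hirr (hu χ hχ) hirr.star hne

theorem cfConjC_Dade_coherent (h : DadeHyp Γ L A)
    (h1 : CoherentWith L Γ (seqIndD K L H M) (sharp L) (Dade Γ L A) τ1) (hodd : Odd ♯L) (hK : K ⊴ L)
    (hH : H ≤ K) (hirr : IsIrr L χ) (hχ : χ ∈ seqIndD K L H M) : star (τ1 χ) = τ1 (star χ) :=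
  star_Dade_coherent h h1 (fun _ h => seqInd_mem_CF (seqInd_subT _ _ _ _ h)) (fun _ => star_seqInd) hχ
    hirr (seqInd_conjC_neq hodd hK hH hχ)

/-- (5.9)(b) -/
theorem Dade_irr_sub_conjC (h : DadeHyp Γ L A) (hirr : IsIrr L χ) (hA : χ ∈ suppOn (insert 1 A)) :
    ∃ ξ, IsIrr Γ ξ ∧ Dade Γ L A (χ - star χ) = ξ - star ξ := by
  classical
  by_cases hr : star χ = χ
  · exact ⟨cf1 Γ, isIrr_cf1 Γ, by simp [hr]⟩
  have m : χ - star χ ∈ ZIrrOn L A := mem_ZIrrOn.2 ⟨(sub_conjC_vchar (irr_vchar hirr)).1, fun x hx => by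
    by_cases e : x = 1
    · rw [e, Pi.sub_apply, star_char1 hirr.isChar, sub_self]
    · exact sub_mem hA (star_mem_suppOn hA) x fun h' => h'.elim e hx⟩
  obtain ⟨α, β, ha, hb, hab, e⟩ := vchar_norm2 (Dade_vchar h m) (Dade1 h _) (by
    rw [(Dade_Zisometry h).cfnorm m, cfnormBd (cfdot_irr_ne hirr hirr.star (Ne.symm hr)), cfnorm_conjC,
      cfnorm_irr hirr]; norm_num)
  refine ⟨α, ha, ?_⟩
  have := Dade_conjC Γ L A (χ - star χ)
  rw [star_sub, star_star, ← neg_sub, map_neg, e, star_sub] at this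
  have h2 := congrArg (⟪·, α⟫[Γ]) this
  simp only [cfdotNl, cfdotBl, cfdot_irr_self ha, cfdot_irr_ne hb ha hab.symm, cfdot_irr ha.star ha] at h2
  rw [e, ← hb.star.eq_of_cfdot_ne_zero ha fun e' => ?_, star_star]
  rw [e'] at h2
  split_ifs at h2 <;> norm_num at h2

end Cfsg.Agent.OO.Pf
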