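import Cfsg.Agent.Lib.OO.Pf.PF6_B

/-! # Peterfalvi (6.8): Sibley's coherence theorem, case (B) and conclusion -/

set_option autoImplicit false
set_option linter.unusedSectionVars false
set_option linter.unusedVariables false

namespace Cfsg.Agent.OO

open Subgroup Cfsg.Agent.Coprime
open scoped Pointwise ComplexConjugate

universe u

variable {G : Type u} [Group G] [Finite G] {Γ L H Z W1 W2 : Subgroup G}
  {R : (G → ℂ) → Finset (G → ℂ)} {τ1 : (G → ℂ) →+ (G → ℂ)} {η1 η χ φ β y l : G → ℂ} {p : ℕ}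

local notation "𝒳" => seqIndD H L Z ⊥
local notation "𝒴" => seqIndD H L H (der H)
local notation "𝒮" => seqIndD H L H ⊥

namespace Pf.P6.Ctx

/-- (6.8.2.1) -/
theorem const_of_prime (h : Ctx Γ L H Z R p τ1 η1) (hq : (♯Z).Prime) {x : G} (hx : x ∈ sharp Z) {z : G}
    (hz : z ∈ sharp Z) : τ1 η1 x = τ1 η1 z := by
  have e := eq_zpowers_of_prime hq hx.1 (mem_sharp.1 hx).2
  have ho : orderOf x = ♯Z := by rw [← e, Nat.card_zpowers]
  obtain ⟨k, rfl⟩ := (Submonoid.mem_powers_iff _ _).1 (mem_powers_iff_mem_zpowers.2 (e.ge hz.1))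
  have hk : k.Coprime ♯Z := ((Nat.Prime.coprime_iff_not_dvd hq).2 fun hd =>
    (mem_sharp.1 hz).2 (orderOf_dvd_iff_pow_eq_one.1 (ho ▸ hd))).symm
  obtain ⟨v, hv, -⟩ := make_pi_cfAut (G := G) hk
  have hY : ∀ φ ∈ 𝒴, φ ∈ CF L := fun φ hφ => (h.irrY φ hφ).mem_CF
  have h1 := cfAut_Dade_coherent v (normedTI_Dade h.ti h.sharp_le).1 (h.cohY.congr fun φ hφ =>
    (Dade_Ind h.ti h.sharp_le (zcharD1_seqInd_on h.coh.normal (seqInd_subT _ _ _ _) hφ)).symm) hY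
    (fun φ hφ => cfAut_seqInd v hφ) h.mem (h.irrY _ h.mem) (star_seqInd h.mem) (h.irrY _ (star_seqInd h.mem))
    (seqInd_conjC_neq h.frob.odd h.coh.normal le_rfl h.mem)
  have hm := cfAut_seqInd v h.mem
  have h2 := congrFun (h.tauY hm) x
  rw [normedTI_Ind_id1 h.ti h.sharp_le (h.subY_on hm) (Set.mem_insert_of_mem _ (sharp_mono h.ZH hx)),
    Pi.sub_apply, Pi.sub_apply, cfker1 (h.kerY hm hx.1), cfker1 (h.kerY h.mem hx.1), degY h.HL hm,
    degY h.HL h.mem, sub_self, ← h1, cfAutE,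
    hv Γ _ x h.dirr.vchar (h.ti.le (h.normalZ.le hx.1)) ho.dvd] at h2
  exact (sub_eq_zero.1 h2.symm).symm

theorem bound (h : Ctx Γ L H Z R p τ1 η1) (hy : y ∈ Zspan 𝒴) (h1 : ⟪τ1 y, τ1 y⟫[Γ] = 1) (hχ : χ ∈ 𝒳)
    {d : ℕ} (hd : χ 1 = d * H.relIndex L) :
    ∃ b : ℤ, ⟪cfInd Γ L (χ - (d : ℂ) • η1), τ1 y⟫[Γ] = -b ∧ b ≤ d := by
  have hs := h.coh.subcoh
  have hχ' := h.XS.1 hχ
  have hm := sub_seqInd_zchar (fun φ hφ => hs.mem_CF hφ) hχ' (h.YS.1 h.mem) (isCint_natCast d)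
    (by rw [hd, degY h.HL h.mem])
  have hβ := (mem_ZIrrOn.1 (hs.isometry.2 _ hm)).1
  have o1 : ⟪χ, (d : ℂ) • η1⟫[L] = 0 := by rw [cfdotZr, h.ortho hχ h.mem, mul_zero]
  obtain ⟨X, hX, Y, hY, e, hXY, hYR⟩ := subcoherent_split hs hχ' hβ
  have hn := (subcoherent_norm_tau hs hχ' hm o1 (by rw [cfdotZr, h.ortho (h.XS.2 _ hχ) h.mem, mul_zero]) e
    (vchar_mem_CF (zchar_trans_vchar (hs.R_mem _ hχ') hX)) hXY hYR).1
  have hn2 := hs.isometry.cfnorm hm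
  rw [e, cfnormBd hXY, cfnormBd o1, cfnormZ, cfnorm_irr (h.irrY _ h.mem), Complex.norm_natCast] at hn2
  have hX0 : ⟪X, τ1 y⟫[Γ] = 0 := cfdot_zchar_eq_zero hX fun α hα => cfdot_symm0
    (coherent_ortho_supp hs h.YS h.cohY hχ' (Finset.disjoint_left.1 h.disj hχ) hy hα)
  obtain ⟨b, hb⟩ := Cint_cfdot_vchar hY (h.cohY.vchar hy)
  refine ⟨b, by rw [e, cfdotBl, hX0, hb, zero_sub], ?_⟩
  have hcs := cfCauchySchwarz (H := Γ) Y (τ1 y)
  rw [hb, cfnorm_eq_one_iff.2 h1, Complex.norm_intCast, sq_abs] at hcs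
  have : (b : ℝ) ≤ d := (abs_le_of_sq_le_sq' (by linarith) (Nat.cast_nonneg d)).2
  exact_mod_cast this

open Classical in
/-- (6.8.2) -/
theorem caseB (h : Ctx Γ L H Z R p τ1 η1) (hq : (♯Z).Prime) (hB : Z ≤ 𝐂(L))
    (hlt : H.relIndex L < Z.relIndex H) : Coherent L Γ (𝒳 ∪ 𝒴) (sharp L) (cfInd Γ L) := by
  have hZL := h.normalZ.le
  obtain ⟨x, hx⟩ := sharp_nonempty.2 h.ne_bot
  have hC : ∀ x ∈ sharp Z, L ⊓ 𝐂[x] = L := fun x hx => inf_eq_left.2 (le_cent1_iff.2 (hB hx.1))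
  obtain ⟨k, hk⟩ := h.congr_mod (fun x hx y hy => by rw [hC x hx, hC y hy])
    (fun x hx y hy => h.const_of_prime hq hx hy) hx
  have hres : cfRes Z (τ1 η1) = τ1 η1 x • cf1 Z + ((Z.relIndex H : ℂ) * (-k : ℤ)) • cfReg Z := by
    refine cfun_ext (cfRes_mem_CF (hZL.trans h.ti.le) h.dirr.mem_CF) (add_mem (Submodule.smul_mem _ _
      (cf1_mem_CF Z)) (Submodule.smul_mem _ _ (cfReg_mem_CF Z))) fun z hz => ?_
    rw [cfResE _ hz, Pi.add_apply, Pi.smul_apply, Pi.smul_apply, cf1E hz]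
    by_cases h1 : z = 1
    · rw [h1, cfReg_one, smul_eq_mul, smul_eq_mul]
      rw [← card_mul_relIndexC h.ZH] at hk
      push_cast
      linear_combination -hk
    · rw [cfReg_of_ne _ h1, h.const_of_prime hq (mem_sharp.2 ⟨hz, h1⟩) hx]; simp
  have key := fun l (hl : IsLinChar Z l) (hne : l ≠ cf1 Z) => h.pivot_of (φ := cfInd L Z l) (a := Z.relIndex H)
    (k := -k) (CFon_mono L h.ZH (cfInd_normal h.normalZ.norm (CF_le_suppOn Z hl.mem_CF)))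
    (by rw [cfInd1 hZL, hl.one, mul_one, ← Nat.cast_mul, relIndex_mul_relIndex _ _ _ h.ZH h.HL])
    (fun η hη => by
      rw [← Frobenius_reciprocity hZL hl.mem_CF (h.irrY η hη).mem_CF, cfRes_of_le_cfker (h.kerY hη), cfdotZr,
        hl.isIrr.cfdot_cf1 hne, mul_zero])
    (by
      rw [cfnorm_Ind_irr' h.normalZ hl.isIrr, le_antisymm (inertia_le L l) ((le_inf le_rfl
        (le_cent_symm hB)).trans (cent_sub_inertia (CF_le_suppOn Z hl.mem_CF))),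
        ← relIndex_mul_relIndex _ _ _ h.ZH h.HL, sq]
      exact_mod_cast Nat.mul_lt_mul_of_pos_left hlt (relIndex_pos _ _))
    (by
      rw [← cfdot_cfRes_right, ← Frobenius_reciprocity hZL hl.mem_CF (cfRes_mem_CF h.ti.le h.dirr.mem_CF),
        cfResRes hZL, hres, cfdotDr, cfdotZr, cfdotZr, hl.isIrr.cfdot_cf1 hne, cfdot_cfReg, hl.one]
      simp)
  have hab : Ab Z := ab_of_le_Zc h.le_Zc
  obtain ⟨l0, hl0, hne0⟩ := exists_irr_ne_cf1 h.ne_bot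
  obtain ⟨y, hy, y1, y2, y3⟩ := exists_pivot h.irrY h.cohY h.mem (key l0 (irr_abelian_lin hab hl0) hne0).2.2
  refine h.coherent_of_pivot hy y1 y2 fun χ hχ => ?_
  obtain ⟨θ, hθ, -, hkθ, rfl⟩ := mem_seqIndD.1 hχ
  obtain ⟨l, hl, e, hm⟩ := h.lin hθ
  have hne := mt hm hkθ
  have hv := y3 _ (key l hl hne).1 (key l hl hne).2.1
  choose! d hd0 hd using fun θ (hθ : IsIrr H θ) => hθ.exists_one
  have hI := cfun_sum_constt (cfInd_mem_CF H Z l)
  have hmem : θ ∈ (Irr H).filter fun χ => ⟪cfInd H Z l, χ⟫[H] ≠ 0 := Finset.mem_filter.2 ⟨mem_Irr.2 hθ, by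
    rw [← Frobenius_reciprocity h.ZH hl.mem_CF hθ.mem_CF, e, cfdotZr, cfdot_irr_self hl.isIrr, mul_one,
      map_ne_zero]
    exact irr1_neq0 hθ⟩
  have hT : ∀ ξ ∈ (Irr H).filter fun χ => ⟪cfInd H Z l, χ⟫[H] ≠ 0,
      IsIrr H ξ ∧ ⟪cfInd H Z l, ξ⟫[H] = d ξ ∧ cfInd L H ξ ∈ 𝒳 := fun ξ hξ => by
    obtain ⟨hξ, h0⟩ := Finset.mem_filter.1 hξ
    rw [mem_Irr] at hξ
    obtain ⟨l', hl', e', -⟩ := h.lin hξ
    have h1 := h0
    rw [← Frobenius_reciprocity h.ZH hl.mem_CF hξ.mem_CF, e', cfdotZr] at h0 ⊢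
    obtain rfl := hl.isIrr.eq_of_cfdot_ne_zero hl'.isIrr (right_ne_zero_of_mul h0)
    refine ⟨hξ, by rw [cfdot_irr_self hl.isIrr, mul_one, hd ξ hξ, map_natCast],
      mem_seqIndD.2 ⟨ξ, hξ, bot_le, fun hk => hne ?_, rfl⟩⟩
    exact hl.isIrr.le_cfker_iff.1 ((sub_cfker_constt_Ind_irr h.ZH le_rfl (h.HL.trans h.normalZ.norm) hξ
      hl.isIrr h1).2 hk)
  generalize ((Irr H).filter fun χ => ⟪cfInd H Z l, χ⟫[H] ≠ 0) = T at hI hmem hT
  rw [Finset.sum_congr rfl fun ξ hξ => congrArg (· • ξ) (hT ξ hξ).2.1] at hI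
  have hdeg : ∀ ξ ∈ T, cfInd L H ξ 1 = d ξ * H.relIndex L := fun ξ hξ => by
    rw [cfInd1 h.HL, hd ξ (hT ξ hξ).1, mul_comm]
  choose! b hb hbd using fun ξ (hξ : ξ ∈ T) => h.bound hy y1 (hT ξ hξ).2.2 (hdeg ξ hξ)
  have h1 : (Z.relIndex H : ℂ) = ∑ ξ ∈ T, (d ξ : ℂ) * d ξ := by
    have := congrFun hI 1
    rw [cfInd1 h.ZH, hl.one, mul_one, Finset.sum_apply] at this
    rw [this]
    exact Finset.sum_congr rfl fun ξ hξ => by rw [Pi.smul_apply, hd ξ (hT ξ hξ).1, smul_eq_mul]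
  have h2 : cfInd L Z l - (Z.relIndex H : ℂ) • η1 = ∑ ξ ∈ T, (d ξ : ℂ) • (cfInd L H ξ - (d ξ : ℂ) • η1) := by
    rw [← cfIndInd' h.ZH h.HL hl.mem_CF, hI, h1, map_sum, Finset.sum_smul, ← Finset.sum_sub_distrib]
    exact Finset.sum_congr rfl fun ξ _ => by rw [map_smul, smul_sub, smul_smul]
  rw [h2, map_sum, cfdot_suml, h1, Finset.sum_congr rfl fun ξ hξ => by rw [map_smul, cfdotZl, hb ξ hξ]] at hv
  have h3 : ∑ ξ ∈ T, (d ξ : ℤ) * (d ξ - b ξ) = 0 := by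
    rw [← Int.cast_inj (α := ℂ)]
    push_cast
    simp only [mul_sub, Finset.sum_sub_distrib, mul_neg, Finset.sum_neg_distrib] at hv ⊢
    linear_combination hv
  have h4 := (Finset.sum_eq_zero_iff_of_nonneg fun ξ hξ => mul_nonneg (Nat.cast_nonneg _)
    (sub_nonneg.2 (hbd ξ hξ))).1 h3 θ hmem
  refine ⟨d θ, hdeg θ hmem, ?_⟩
  rw [hb θ hmem, ← sub_eq_zero.1 ((mul_eq_zero.1 h4).resolve_left (Nat.cast_ne_zero.2 (hd0 θ hθ).ne')),
    Int.cast_natCast]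

open Classical in
/-- (6.8.3) -/
theorem extend (h : Ctx Γ L H Z R p τ1 η1) (hc : Coherent L Γ (𝒳 ∪ 𝒴) (sharp L) (cfInd Γ L))
    {D : Subgroup G} (hZD : Z ≤ D) (hDH : D ≤ H) (hD : ⁅D, H⁆ ≤ Z)
    (hb : 2 * H.relIndex L < Z.relIndex D * (♯Z - 1)) : Coherent L Γ 𝒮 (sharp L) (cfInd Γ L) := by
  have hs := h.coh.subcoh
  refine ext_ind hs.conj_mem (h.XS.union h.YS) (.refl hs.conj_mem) hc fun S1 h1 h2 _ h3 h4 => ?_
  obtain ⟨χ, hχ, hn⟩ := Finset.not_subset.1 h4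
  have hη := degY h.HL h.mem
  refine ⟨χ, hχ, hn, extend_coherent hs h1 (h2 (Finset.mem_union_right _ h.mem)) hχ hn h3 ?_ ?_⟩
  · obtain ⟨a, -, ha⟩ := dvd_index_seqInd1 h.HL (seqInd_subT _ _ _ _ hχ)
    exact ⟨a, isCint_natCast a, by rw [ha, hη]⟩
  · refine lt_of_lt_of_le ?_ (Finset.sum_le_sum_of_subset_of_nonneg (Finset.subset_union_left.trans h2)
      fun ψ _ _ => div_nonneg (sq_nonneg _) (cfnorm_ge0 _))
    rw [sum_seqIndD_square_re h.coh.normal h.ZH h.normalZ (.bot L) bot_le, hη]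
    obtain ⟨θ, hθ, -, -, rfl⟩ := mem_seqIndD.1 hχ
    have hk : Z ≤ cfker H θ := by
      by_contra hk
      exact hn (h2 (Finset.mem_union_left _ (mem_seqIndD.2 ⟨θ, hθ, bot_le, hk, rfl⟩)))
    have h5 := irr1_bound hθ hDH (hD.trans hk)
    obtain ⟨d, hd0, hd⟩ := hθ.exists_one
    rw [hd, Complex.natCast_re] at h5
    rw [cfInd1 h.HL, hd, ← Nat.cast_mul, Complex.natCast_re, Complex.natCast_re, relIndex_bot_left,
      ← Nat.cast_pred (card_pos' Z), ← relIndex_mul_relIndex _ _ _ h.ZH h.HL,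
      ← relIndex_mul_relIndex _ _ _ hZD hDH]
    have h6 : d ≤ D.relIndex H := (Nat.le_self_pow two_ne_zero d).trans (by exact_mod_cast h5)
    have h7 := Nat.mul_lt_mul_of_pos_left (Nat.mul_lt_mul_of_lt_of_le hb h6 (relIndex_pos _ _))
      (relIndex_pos H L)
    have : 2 * (H.relIndex L * d) * H.relIndex L < Z.relIndex D * D.relIndex H * H.relIndex L * (♯Z - 1) := by
      linarith
    exact_mod_cast this

end Pf.P6.Ctx

namespace Pf.P6

/-- the common form of hypotheses (c1) and (c2) -/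
structure Hyp (Γ L H W1 W2 : Subgroup G) (R : (G → ℂ) → Finset (G → ℂ)) : Prop where
  defL : IsSdprod H W1 L
  ne_bot : W1 ≠ ⊥
  co : (♯H).Coprime ♯W1
  reg : ∀ x ∈ W1, x ≠ 1 → H ⊓ 𝐂[x] = W2
  le_der : W2 ≤ der H
  prime : W2 = ⊥ ∨ (♯W2).Prime
  sub : Subcoherent L Γ (seqIndD H L H ⊥) (cfInd Γ L) R

theorem Hyp.frob (h : Hyp Γ L H W1 W2 R) {N : Subgroup G} (hN : N ⊴ L) (h2 : W2 ≤ N) (hlt : N < H) :
    IsFrob (L ⁒ N) (H ⁒ N) (W1 ⁒ N) := by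
  have hW : W1 ≤ 𝐍(N) := h.defL.right_le.trans hN.norm
  have hH : H ≤ 𝐍(N) := h.defL.left_le.trans hN.norm
  have := (semiregular_quo hlt.le hW (coprime_card_mono h.co hlt.le le_rfl) fun x hx h1 =>
    (h.reg x hx h1).le.trans h2).isFrob (quo_le_norm _ h.defL.le_norm) (quo_ne_bot hH hlt.not_ge)
    (quo_ne_bot hW fun e => h.ne_bot (le_bot_iff.1 ((le_inf (e.trans hlt.le) le_rfl).trans h.defL.inf_eq.le)))
  rwa [← quo_sup hH hW, h.defL.sup_eq] at this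

theorem Hyp.bound (h : Hyp Γ L H W1 W2 R) (ho : Odd ♯L) {N D : Subgroup G} (hN : N ⊴ L) (hD : D ⊴ L)
    (h2 : D ⊓ W2 ≤ N) (hlt : N < D) (hDH : D ≤ H) : 2 * H.relIndex L + 1 ≤ N.relIndex D := by
  have hW : W1 ≤ 𝐍(N) := h.defL.right_le.trans hN.norm
  have hc := coprime_card_mono h.co (hlt.le.trans hDH) le_rfl
  have := regular_norm_dvd_pred (quo_le_norm N (h.defL.right_le.trans hD.norm)) (semiregular_quo hlt.le hW hc
    fun x hx h1 => (le_inf inf_le_left ((inf_le_inf_right _ hDH).trans (h.reg x hx h1).le)).trans h2)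
  rw [card_quo_of_coprime hW hc, card_quo (hD.le.trans hN.norm), ← h.defL.relIndex_left] at this
  exact two_mul_lt (odd_relIndex ho le_rfl) (odd_relIndex ho hD.le) this
    (lt_of_le_of_ne (relIndex_pos _ _) fun e => hlt.not_ge (relIndex_eq_one.1 e.symm))

theorem Hyp.coherent (h : Hyp Γ L H W1 W2 R) (hodd : Odd ♯L) (hnil : Nil H) (hTI : NormedTI (sharp H) Γ L) :
    Coherent L Γ 𝒮 (sharp L) (cfInd Γ L) := by
  classical
  have hH := h.defL.normal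
  have hlt := der_lt (sol_of_nil hnil) (sharp_nonempty.1 hTI.nonempty)
  have hF := h.frob hH.der h.le_der hlt
  have hC : CohHyp Γ H L (cfInd Γ L) R := ⟨hH, sol_of_nil hnil, h.sub⟩
  have hO : OddFrobQuo H L ⊥ := ⟨hodd, .bot L, bot_le, nil_quo hnil _, by rw [sup_bot_eq]; exact hF.isFrobKer⟩
  rcases non_coherent_chief hC hO with hc | ⟨-, p, hp, hpH, hd, -⟩
  · exact hc
  have := Fact.mk hp
  replace hpH : IsPGroup p H := hpH.of_equiv (quoBotEquiv H).symm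
  have hsyl : Syl p H Γ := by
    refine IsSylowIn.of_syl_norm (hH.le.trans hTI.le) ?_
    rw [hTI.norm_eq_of_sharp]
    exact (h.defL.hall_left (piGrp_singleton hpH) ((piGrp_compl_singleton hp).2
      ((Nat.Prime.coprime_iff_not_dvd hp).1 (h.co.coprime_dvd_left
        (dvd_card_of_isPGroup hpH hlt.ne_bot))))).syl
  have hirr : ∀ η ∈ 𝒴, IsIrr L η := fun η hη => by
    obtain ⟨θ, hθ, hk, hn, rfl⟩ := mem_seqIndD.1 hη
    obtain ⟨α, hα, rfl⟩ := hθ.exists_cfMod (der_normal H).norm hk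
    rw [cfIndMod hH.der (der_le H) hH.le hα.mem_CF]
    exact (irr_induced_Frobenius_ker hF.isFrobKer hα fun e => hn (by rw [e, cfMod_cf1, cfker_cf1])).1.cfMod
      hH.der.norm
  obtain ⟨τ1, h1⟩ := uniform_degree_coherence (subset_subcoherent h.sub (seqInd_conjC_subset1 H L (der H) le_rfl))
    fun φ hφ ψ hψ => (degY hH.le hφ).trans (degY hH.le hψ).symm
  obtain ⟨η1, hη⟩ := seqIndD_nonempty L (der_normal H) hlt.not_ge
  have hcent : ∀ g ∈ L, g ∉ H → ∀ z ∈ Zc H, z ∈ 𝐂[g] → z ∈ W2 := fun g hg hgH z hz hc => by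
    obtain ⟨a, ha, b, hb, rfl⟩ := h.defL.mem_iff.1 hg
    refine (h.reg b hb fun e => hgH (by rwa [e, mul_one])).le ⟨hz.1, mem_cent1_comm.1 ?_⟩
    exact (Subgroup.mul_mem_cancel_left _ (le_cent1_iff.2 hz.2 ha)).1 (mem_cent1_comm.1 hc)
  by_cases hA : Zc H ⊓ W2 = ⊥
  · have hZ : (der H ⊓ Zc H) ⊴ L := hH.der.inf hH.Zc
    have hZ1 := inf_Zc_ne_bot hnil (der_normal H) (mt le_bot_iff.2 hd)
    have hx : Ctx Γ L H (der H ⊓ Zc H) R p τ1 η1 :=
      ⟨hp, hTI, hC, hO, hsyl, hirr, h1, hη, hZ, hZ1, inf_le_right, inf_le_left⟩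
    have hb := h.bound hodd (.bot L) hZ ((inf_le_inf_right _ inf_le_right).trans hA.le) hZ1.bot_lt hx.ZH
    obtain ⟨D, hDH, hD⟩ := exists_isChiefIn_above hH hZ (inf_le_left.trans_lt hlt)
    refine hx.extend (hx.caseA fun g hg hgH => le_bot_iff.1 fun z hz => hA.le ⟨hz.1.2, hcent g hg hgH z hz.1.2 hz.2⟩)
      hD.le hDH (chief_central hD hH hDH (nil_quo hnil _)) ?_
    have h2 : 1 < (der H ⊓ Zc H).relIndex D :=
      lt_of_le_of_ne (relIndex_pos _ _) fun e => hD.lt.not_ge (relIndex_eq_one.1 e.symm)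
    rw [relIndex_bot_left] at hb
    have := relIndex_pos H L
    have h3 : 2 * H.relIndex L ≤ ♯(der H ⊓ Zc H) - 1 := by omega
    nlinarith
  · have hq := h.prime.resolve_left fun e => hA (by rw [e, inf_bot_eq])
    have hZc : W2 ≤ Zc H := le_of_prime_of_inf_ne_bot hq (by rwa [inf_comm])
    have hB : W2 ≤ 𝐂(L) := by
      rw [← h.defL.sup_eq]
      refine le_cent_sup (hZc.trans (Zc_le_cent H)) (le_cent_symm fun x hx => le_cent1_iff.1 ?_)
      by_cases h1 : x = 1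
      · rw [h1, cent1_one]; exact le_top
      · exact (h.reg x hx h1).ge.trans inf_le_right
    have hZ : W2 ⊴ L := ⟨(h.le_der.trans hlt.le).trans hH.le, le_norm_of_le_cent (le_cent_symm hB)⟩
    have hx : Ctx Γ L H W2 R p τ1 η1 := ⟨hp, hTI, hC, hO, hsyl, hirr, h1, hη, hZ,
      ne_bot_of_prime_dvd hq dvd_rfl, hZc, h.le_der⟩
    obtain ⟨D, hDH, hD⟩ := exists_isChiefIn_above hH hZ (h.le_der.trans_lt hlt)
    have hb := h.bound hodd hZ hD.normal_top inf_le_right hD.lt hDH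
    have hb' := h.bound hodd hZ hH inf_le_right (h.le_der.trans_lt hlt) le_rfl
    refine hx.extend (hx.caseB hq hB (by omega)) hD.le hDH (chief_central hD hH hDH (nil_quo hnil _)) ?_
    have h3 : 1 ≤ ♯W2 - 1 := by have := hq.two_le; omega
    nlinarith

end Pf.P6

namespace Pf

/-- (6.8) -/
theorem Sibley_coherence {H W1 : Subgroup G} (hodd : Odd ♯L) (hnil : Nil H)
    (hTI : NormedTI (sharp H) Γ L)
    (hc : IsFrob L H W1 ∨ ∃ W2 : Subgroup G, (♯W2).Prime ∧ W2 ≤ der H ∧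
      ∃ (A0 : Set G) (W : Subgroup G), PrimeDadeHyp Γ L H H (sharp H) A0 W W1 W2) :
    Coherent L Γ (seqIndD H L H ⊥) (sharp L) (cfInd Γ L) := by
  rcases hc with hF | ⟨W2, hq, hd, A0, W, h⟩
  · have hH := hF.ker_normal
    obtain ⟨R, hR, -⟩ := irr_subcoherent (S := seqIndD H L H ⊥) (L := L) (Γ := Γ) (τ := cfInd Γ L)
      (fun χ hχ => by
        obtain ⟨θ, hθ, h1, rfl⟩ := seqIndC1P.1 hχ
        exact (irr_induced_Frobenius_ker hF.isFrobKer hθ h1).1)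
      (fun χ => star_seqInd) (fun χ => seqInd_conjC_neq hodd hH le_rfl)
      (sub_iso_to (fun φ hφ => mem_ZIrrOn.2 ⟨zchar_seqInd_vchar hH.le (seqInd_subT _ _ _ _) (zcharW hφ),
        (zcharD1_seqInd_on hH (seqInd_subT _ _ _ _) hφ).2⟩) le_rfl
        (normedTI_Zisometry hTI (sharp_mono (hH.le.trans hTI.le))))
    exact P6.Hyp.coherent (W2 := ⊥) ⟨hF.sdprod, hF.compl_ne_bot, hF.coprime, hF.semiregular, bot_le,
      Or.inl rfl, hR⟩ hodd hnil hTI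
  · have hH := h.normalH
    obtain ⟨R, hR, -⟩ := prDade_subcoherent h (.refl fun χ => star_seqInd)
      fun χ => seqInd_conjC_neq hodd hH le_rfl
    refine P6.Hyp.coherent ⟨h.prTI.defL, h.prTI.W1_ne_bot, h.prTI.coprime, h.prTI.prime_act, hd,
      Or.inr hq, hR.congr fun φ hφ => ?_⟩ hodd hnil hTI
    have hφ' := zcharD1_seqInd_on hH (seqInd_subT _ _ _ _) hφ
    rw [← restr_DadeE h.dade (h.defA0 ▸ Set.subset_union_left) h.A_conj hφ',
      Dade_Ind hTI (sharp_mono (hH.le.trans hTI.le)) hφ']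

end Pf

end Cfsg.Agent.OO
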