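import Cfsg.Agent.Lib.OO.CF5

/-! # Peterfalvi (6.7) -/

set_option autoImplicit false
set_option linter.unusedSectionVars false
set_option linter.unusedVariables false

namespace Cfsg.Agent.OO.Pf

open Subgroup Cfsg.Agent.Coprime
open scoped Pointwise ComplexConjugate

universe u

variable {G : Type u} [Group G] [Finite G] {Γ L : Subgroup G}

namespace P6T

/-- the sum of an invariant integral function over a set on which `P` acts freely -/
theorem sum_free_action {X : Type*} (P : Subgroup G) (a : G → X → X) (h1 : ∀ w, a 1 w = w)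
    (hm : ∀ x y w, a (x * y) w = a x (a y w)) (f : X → ℂ) (hf : ∀ x ∈ P, ∀ w, f (a x w) = f w)
    (hi : ∀ w, IsIntegral ℤ (f w)) (s : Finset X) (hs : ∀ x ∈ P, ∀ w ∈ s, a x w ∈ s)
    (hfree : ∀ x ∈ P, ∀ w ∈ s, a x w = w → x = 1) :
    ∃ t, IsIntegral ℤ t ∧ ∑ w ∈ s, f w = ♯P * t := by
  classical
  induction s using Finset.strongInduction with
  | H s ih =>
    rcases s.eq_empty_or_nonempty with rfl | ⟨w, hw⟩
    · exact ⟨0, isIntegral_zero, by simp⟩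
    set O := (elts (P : Set G)).image fun x => a x w with hO
    have hOs : O ⊆ s := Finset.image_subset_iff.2 fun x hx => hs x (mem_elts.1 hx) w hw
    have hwO : w ∈ O := Finset.mem_image.2 ⟨1, mem_elts.2 P.one_mem, h1 w⟩
    obtain ⟨t, ht, e⟩ := ih (s \ O) (Finset.sdiff_ssubset hOs ⟨w, hwO⟩) (fun x hx v hv => by
      rw [Finset.mem_sdiff] at hv ⊢
      refine ⟨hs x hx v hv.1, fun h => hv.2 ?_⟩
      obtain ⟨y, hy, e⟩ := Finset.mem_image.1 h
      exact Finset.mem_image.2 ⟨x⁻¹ * y, mem_elts.2 (P.mul_mem (P.inv_mem hx) (mem_elts.1 hy)), by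
        rw [hm, e, ← hm, inv_mul_cancel, h1]⟩) fun x hx v hv => hfree x hx v (Finset.mem_sdiff.1 hv).1
    refine ⟨t + f w, ht.add (hi w), ?_⟩
    rw [← Finset.sum_sdiff hOs, e, hO, Finset.sum_image, Finset.sum_congr rfl fun x hx =>
      hf x (mem_elts.1 hx) w, sum_elts_const, nsmul_eq_mul, mul_add]
    intro x hx y hy e
    have hx : x ∈ P := mem_elts.1 hx
    have hy : y ∈ P := mem_elts.1 hy
    refine (inv_mul_eq_one.1 (hfree _ (P.mul_mem (P.inv_mem hx) hy) w hw ?_))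
    simp only at e
    rw [hm, ← e, ← hm, inv_mul_cancel, h1]

theorem irr_conv_set {φ : G → ℂ} (hφ : IsIrr Γ φ) {A : Set G} (hA : A ⊆ Γ)
    (hJ : ∀ g ∈ Γ, ∀ a, g * a * g⁻¹ ∈ A ↔ a ∈ A) {v : G} (hv : v ∈ Γ) :
    φ 1 * ∑ u ∈ elts A, φ (u * v) = (∑ u ∈ elts A, φ u) * φ v := by
  classical
  have := Fintype.ofFinite Γ
  have key : ∀ ψ : G → ℂ, ∑ u ∈ elts A, ψ u = ∑ g : Γ, A.indicator 1 (g : G) * ψ g := fun ψ => by
    rw [← sum_elts_subtype Γ fun g => A.indicator 1 g * ψ g,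
      ← sum_elts_subset hA fun x _ hx => by simp [hx]]
    exact Finset.sum_congr rfl fun x hx => by simp [mem_elts.1 hx]
  rw [key, key]
  exact Char.irr_convolution hφ.coe (G := Γ) (f := fun g => A.indicator 1 (g : G)) (fun g h => by
    by_cases hg : (g : G) ∈ A
    · simp [hg, (hJ h h.2 g).2 hg]
    · simp [hg, (hJ h h.2 g).not.2 hg]) ⟨v, hv⟩

theorem eq_one_of_conj_eq_inv (hodd : Odd ♯L) {k x : G} (hk : k ∈ L) (hx : x ∈ L)
    (h : k * x * k⁻¹ = x⁻¹) : x = 1 := by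
  have key : ∀ y ∈ L, y ∈ zpowers (y ^ 2) := fun y hy => mem_zpowers_pow_iff.2
    (Nat.coprime_two_left.2 (hodd.of_dvd_nat (orderOf_dvd_card hy)))
  have h2 : k ^ 2 ∈ 𝐂[x] := mem_cent1_iff_conj.2 (by
    calc k ^ 2 * x * (k ^ 2)⁻¹ = k * (k * x * k⁻¹) * k⁻¹ := by rw [pow_two]; group
      _ = (k * x * k⁻¹)⁻¹ := by rw [conj_inv, ← h]
      _ = x := by rw [h, inv_inv])
  have h3 := mem_cent1_iff_conj.1 (zpowers_le.2 h2 (key k hk))
  have h4 := key x hx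
  rwa [pow_two, eq_inv_iff_mul_eq_one.1 (h3.symm.trans h), zpowers_one_eq_bot, mem_bot] at h4

theorem mem_classSupp_singleton {x y : G} : y ∈ classSupp {x} Γ ↔ ∃ g ∈ Γ, y = g * x * g⁻¹ := by
  simp [classSupp]

end P6T

open P6T in
/-- (6.7) -/
theorem constant_irr_mod_TI_Sylow {Z P : Subgroup G} {p : ℕ} (hp : p.Prime) (hP : Syl p P Γ)
    (hodd : Odd ♯L) (hTI : NormedTI (sharp P) Γ L) (hZ : Z ⊴ L) (hZ1 : Z ≠ ⊥) (hZP : Z ≤ Zc P)
    (hC : ∀ x ∈ sharp Z, ∀ y ∈ sharp Z, ♯(L ⊓ 𝐂[x]) = ♯(L ⊓ 𝐂[y])) {φ : G → ℂ} (hφ : IsIrr Γ φ)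
    (hc : ∀ x ∈ sharp Z, ∀ y ∈ sharp Z, φ x = φ y) {x : G} (hx : x ∈ sharp Z) :
    IsCint (φ x) ∧ EqCmod ♯P (φ x) (φ 1) := by
  classical
  have := Fact.mk hp
  obtain ⟨hxZ, hx1⟩ := mem_sharp_iff.1 hx
  have hZΓ : Z ≤ Γ := hZ.le.trans hTI.le
  have hxP : x ∈ P := (hZP hxZ).1
  have hL : Γ ⊓ 𝐍(P) = L := hTI.norm_eq_of_sharp
  have hPL : P ≤ L := hL ▸ le_inf hP.le (le_norm_self P)
  obtain ⟨n, -, hn⟩ := hφ.exists_one
  have hint : IsCint (φ x) := by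
    obtain ⟨m, hm⟩ := Cnat_cfdot_char (hφ.isChar.cfRes hZΓ) (isChar_cf1 Z)
    rw [cfdot_cfRes_left, cfdot_cf1r, ← Finset.add_sum_erase _ _ (mem_elts.2 Z.one_mem),
      Finset.sum_congr rfl (g := fun _ => φ x) fun y hy => hc y (mem_sharp_iff.2
        ⟨mem_elts.1 (Finset.mem_of_mem_erase hy), Finset.ne_of_mem_erase hy⟩) x hx,
      Finset.sum_const, Finset.card_erase_of_mem (mem_elts.2 Z.one_mem), card_elts, nsmul_eq_mul,
      Nat.cast_pred (card_pos' Z), hn] at hm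
    have h1 : (♯Z : ℂ) - 1 ≠ 0 := sub_ne_zero.2 (by exact_mod_cast (one_lt_card hZ1).ne')
    have h2 := cardC_ne_zero Z
    have e : φ x = (((♯Z * m - n : ℚ) / (♯Z - 1) : ℚ) : ℂ) := by
      push_cast
      rw [eq_div_iff h1, ← hm]
      field_simp
      ring
    have := Aint_char hφ.isChar x
    rw [e] at this ⊢
    exact isCint_of_isIntegral_rat this
  refine ⟨hint, ?_⟩
  obtain ⟨c, hcx⟩ := hint
  set C := classSupp {x} Γ with hCd
  set D := classSupp {x} L with hDd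
  have hCΓ : C ⊆ Γ := classSupp_subset (Set.singleton_subset_iff.2 (hZΓ hxZ)) (le_norm_self Γ)
  have hDC : D ⊆ C := classSupp_mono subset_rfl hTI.le
  have hDZ : D ⊆ sharp Z := classSupp_subset_of_conj (Set.singleton_subset_iff.2 hx)
    fun g hg b hb => conj_mem_sharp (hZ.norm hg) hb
  have hval : ∀ v ∈ C, φ v = φ v⁻¹ := by
    intro v hv
    obtain ⟨g, hg, rfl⟩ := mem_classSupp_singleton.1 hv
    rw [conj_inv, cfunJ hφ.mem_CF hg, cfunJ hφ.mem_CF hg]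
    exact hc _ hx _ (inv_mem_sharp hx)
  let f : G × G → ℂ := fun w => φ (w.1 * w.2) - φ (w.1 * w.2⁻¹)
  have hsum : ∑ w ∈ elts C ×ˢ elts C, f w = 0 := by
    rw [Finset.sum_product_right]
    refine Finset.sum_eq_zero fun v hv => ?_
    have hv := mem_elts.1 hv
    refine (mul_eq_zero.1 ?_).resolve_left (irr1_neq0 hφ)
    simp only [f]
    rw [Finset.sum_sub_distrib, mul_sub,
      irr_conv_set hφ hCΓ (fun g hg a => classSupp_conj_mem_iff hg) (hCΓ hv),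
      irr_conv_set hφ hCΓ (fun g hg a => classSupp_conj_mem_iff hg) (Γ.inv_mem (hCΓ hv)),
      hval v hv, sub_self]
  have hsub : elts D ×ˢ elts D ⊆ elts C ×ˢ elts C :=
    Finset.product_subset_product (fun _ h => mem_elts.2 (hDC (mem_elts.1 h)))
      fun _ h => mem_elts.2 (hDC (mem_elts.1 h))
  have hfix : ∀ y ∈ P, y ≠ 1 → ∀ u ∈ C, y * u * y⁻¹ = u → u ∈ D := by
    intro y hy hy1 u hu e
    obtain ⟨g, hg, rfl⟩ := mem_classSupp_singleton.1 hu
    have h1 : g * x * g⁻¹ ∈ L := hTI.cent1_le (mem_sharp_iff.2 ⟨hy, hy1⟩) (mem_inf.2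
      ⟨Γ.mul_mem (Γ.mul_mem hg (hZΓ hxZ)) (Γ.inv_mem hg), mem_cent1_comm.1 (mem_cent1_iff_conj.2 e)⟩)
    have h2 : g * x * g⁻¹ ∈ P := (hP.mono hPL hTI.le).mem_of_mem_norm h1 ((hL ▸ inf_le_right : L ≤ _) h1)
      ((hP.piGrp.piElt hxP).conj g)
    exact ⟨x, rfl, g, hTI.mem_of_conj g hg x (mem_sharp_iff.2 ⟨hxP, hx1⟩)
      (mem_sharp_iff.2 ⟨h2, conj_ne_one.2 hx1⟩), rfl⟩
  obtain ⟨t, ht, e⟩ := sum_free_action P (fun y (w : G × G) => (y * w.1 * y⁻¹, y * w.2 * y⁻¹))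
    (fun w => by simp) (fun a b w => by simp [mul_assoc]) f (fun y hy w => by
      simp only [f]
      rw [conj_inv, conj_mul, conj_mul, cfunJ hφ.mem_CF (hP.le hy), cfunJ hφ.mem_CF (hP.le hy)])
    (fun w => (Aint_char hφ.isChar _).sub (Aint_char hφ.isChar _))
    (elts C ×ˢ elts C \ elts D ×ˢ elts D) (fun y hy w hw => by
      simpa only [Finset.mem_sdiff, Finset.mem_product, mem_elts, hCd, hDd,
        classSupp_conj_mem_iff (hP.le hy), classSupp_conj_mem_iff (hPL hy)] using hw)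
    (fun y hy w hw e => by
      simp only [Finset.mem_sdiff, Finset.mem_product, mem_elts] at hw
      by_contra hy1
      exact hw.2 ⟨hfix y hy hy1 _ hw.1.1 (congrArg Prod.fst e), hfix y hy hy1 _ hw.1.2 (congrArg Prod.snd e)⟩)
  have hD : ∑ w ∈ elts D ×ˢ elts D, f w = D.ncard * (φ x - φ 1) := by
    rw [Finset.sum_product, ← card_elts_set, ← nsmul_eq_mul, ← Finset.sum_const]
    refine Finset.sum_congr rfl fun u hu => ?_
    have hval' : ∀ v ∈ elts D, φ (u * v) = φ x := fun v hv => by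
      refine hc _ (mem_sharp_iff.2 ⟨Z.mul_mem (hDZ (mem_elts.1 hu)).1 (hDZ (mem_elts.1 hv)).1, ?_⟩) x hx
      obtain ⟨g, hg, rfl⟩ := mem_classSupp_singleton.1 (mem_elts.1 hu)
      obtain ⟨h, hh, rfl⟩ := mem_classSupp_singleton.1 (mem_elts.1 hv)
      refine fun e => hx1 (eq_one_of_conj_eq_inv hodd (L.mul_mem (L.inv_mem hh) hg) (hZ.le hxZ) ?_)
      calc h⁻¹ * g * x * (h⁻¹ * g)⁻¹ = h⁻¹ * (g * x * g⁻¹ * (h * x * h⁻¹)) * h * x⁻¹ := by group
        _ = x⁻¹ := by rw [e]; group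
    rw [Finset.sum_eq_single_of_mem u hu fun v hv hne => ?_]
    · simp only [f]; rw [hval' u hu, mul_inv_cancel]
    · simp only [f]
      rw [hval' v hv, hc _ (mem_sharp_iff.2 ⟨Z.mul_mem (hDZ (mem_elts.1 hu)).1
        (Z.inv_mem (hDZ (mem_elts.1 hv)).1), fun e => hne (mul_inv_eq_one.1 e).symm⟩) x hx, sub_self]
  have hcard : D.ncard = (L ⊓ 𝐂[x]).relIndex L := by
    rw [hDd, (NormedTI.mk (A := {x}) (L := L ⊓ 𝐂[x]) (Set.singleton_nonempty x) inf_le_left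
      (by rintro y hy _ rfl; exact mem_cent1_iff_conj.1 hy.2)
      (by rintro y hy _ rfl e; exact mem_inf.2 ⟨hy, mem_cent1_iff_conj.2 e⟩)).ncard_classSupp,
      Set.ncard_singleton, one_mul]
  have hco : (♯P).Coprime D.ncard := (hP.mono hPL hTI.le).hall.coprime.coprime_dvd_right
    (hcard ▸ relIndex_dvd_of_le_left _ (le_inf hPL (le_cent1_iff.2 (hZP hxZ).2)))
  rw [← Finset.sum_sdiff hsub, e, hD, hcx, hn] at hsum
  have h0 := cardC_ne_zero P
  have e2 : t = (((D.ncard * (n - c) : ℚ) / ♯P : ℚ) : ℂ) := by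
    push_cast
    rw [eq_div_iff h0]
    linear_combination hsum
  rw [e2] at ht
  obtain ⟨k, hk⟩ := isCint_of_isIntegral_rat ht
  rw [← e2] at hk
  have h3 : (♯P : ℤ) ∣ D.ncard * (c - n) := ⟨-k, by
    rw [hk] at hsum
    exact_mod_cast (by linear_combination hsum : (D.ncard : ℂ) * (c - n) = ♯P * -k)⟩
  obtain ⟨j, hj⟩ := (Nat.isCoprime_iff_coprime.2 hco).dvd_of_dvd_mul_left h3
  exact ⟨j, by rw [hcx, hn]; exact_mod_cast hj⟩

end Cfsg.Agent.OO.Pf
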