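import Cfsg.Agent.Lib.OO.PF6

/-! # Peterfalvi section 7, part A: (7.1) – (7.7) -/

set_option autoImplicit false
set_option linter.unusedSectionVars false
set_option linter.unusedVariables false

namespace Cfsg.Agent.OO.Pf

open Subgroup Cfsg.Agent.Coprime
open scoped Pointwise ComplexConjugate

universe u

variable {G : Type u} [Group G] [Finite G] {Γ L H : Subgroup G} {A : Set G} {χ α φ ψ ζ : G → ℂ} {a : G}

theorem invDadeE (Γ L : Subgroup G) (χ : G → ℂ) (ha : a ∈ A) : invDade Γ L A χ a =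
    (♯(DadeSig Γ L a) : ℂ)⁻¹ * ∑ x ∈ elts (DadeSig Γ L a : Set G), χ (x * a) := if_pos ha

theorem invDade_suppOn (Γ L : Subgroup G) (A : Set G) (χ : G → ℂ) : invDade Γ L A χ ∈ suppOn A :=
  fun _ ha => if_neg ha

theorem invDade_on (h : DadeHyp Γ L A) (hχ : χ ∈ CF Γ) : invDade Γ L A χ ∈ CFon L A := by
  have h0 := invDade_suppOn Γ L A χ
  refine mem_CFon.2 ⟨mem_CF_of (fun x hx => h0 x fun h' => hx (h.subset h')) fun x hx a _ => ?_, h0⟩
  by_cases ha : a ∈ A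
  · rw [invDadeE _ _ _ (h.conj_mem x hx a ha), invDadeE _ _ _ ha, DadeJ h.le a hx, card_conj,
      ← sum_elts_equiv (A := DadeSig Γ L a) (MulAut.conj x).toEquiv fun y => conj_mem_conj_iff.symm]
    refine congrArg _ (Finset.sum_congr rfl fun y _ => ?_)
    rw [← cfunJ hχ (h.le hx) (y * a)]
    simp [mul_assoc]
  · rw [h0 a ha, h0 _ fun h' => ha (by simpa [mul_assoc] using h.conj_mem _ (inv_mem hx) _ h')]

theorem invDade_eq_of_const (Γ L : Subgroup G) (ha : a ∈ A)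
    (hc : ∀ x ∈ DadeSig Γ L a, χ (x * a) = χ a) : invDade Γ L A χ a = χ a := by
  rw [invDadeE _ _ _ ha, Finset.sum_congr rfl fun x hx => hc x (mem_elts.1 hx), sum_elts_const, nsmul_eq_mul,
    inv_mul_cancel_left₀ (cardC_ne_zero _)]

theorem invDade_cfun1 (h : DadeHyp Γ L A) : invDade Γ L A (cf1 Γ) = A.indicator 1 := by
  ext a
  by_cases ha : a ∈ A
  · have h1 := h.le (h.subset ha)
    rw [invDade_eq_of_const _ _ ha fun x hx => by
      rw [cf1E h1, cf1E (mul_mem (Dade_signalizer_sub Γ L a hx) h1)], cf1E h1, Set.indicator_of_mem ha]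
    rfl
  · rw [invDade_suppOn _ _ _ _ a ha, Set.indicator_of_notMem ha]

theorem invDade_normedTI (h : DadeHyp Γ L A) (hTI : NormedTI A Γ L) (χ : G → ℂ) (ha : a ∈ A) :
    invDade Γ L A χ a = χ a :=
  invDade_eq_of_const _ _ ha fun x hx => by
    rw [((Dade_normedTI_P h).1 hTI).2 a ha, mem_bot] at hx
    rw [hx, one_mul]

theorem invDade_restr {A1 : Set G} (Γ L : Subgroup G) (h : A1 ⊆ A) (χ : G → ℂ) (ha : a ∈ A1) :
    invDade Γ L A1 χ a = invDade Γ L A χ a := by rw [invDadeE _ _ _ ha, invDadeE _ _ _ (h ha)]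

theorem invDade_reciprocity (h : DadeHyp Γ L A) (hχ : χ ∈ CF Γ) (hα : α ∈ CFon L A) :
    ⟪Dade Γ L A α, χ⟫[Γ] = ⟪α, invDade Γ L A χ⟫[L] :=
  general_Dade_reciprocity h hα hχ fun _ ha => invDadeE _ _ _ ha

theorem DadeK (h : DadeHyp Γ L A) (hα : α ∈ CFon L A) : invDade Γ L A (Dade Γ L A α) = α := by
  ext a
  by_cases ha : a ∈ A
  · rw [invDade_eq_of_const _ _ ha fun x hx => by rw [Dade_mul h hα.1 ha hx, Dade_id h hα.1 ha],
      Dade_id h hα.1 ha]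
  · rw [invDade_suppOn _ _ _ _ a ha, cfun_on0 hα ha]

theorem leC_norm_invDade (h : DadeHyp Γ L A) (hχ : χ ∈ CF Γ) :
    cfnorm L (invDade Γ L A χ) ≤ cfnorm Γ χ ∧
      (cfnorm L (invDade Γ L A χ) = cfnorm Γ χ ↔ χ = Dade Γ L A (invDade Γ L A χ)) := by
  have h1 := invDade_on h hχ
  have h2 : ⟪Dade Γ L A (invDade Γ L A χ), χ - Dade Γ L A (invDade Γ L A χ)⟫[Γ] = 0 := by
    rw [cfdotBr, invDade_reciprocity h hχ h1, Dade_isometry h h1 h1, sub_self]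
  have h3 := cfnormDd h2
  rw [add_sub_cancel, cfnorm_Dade h h1] at h3
  have h4 := cfnorm_ge0 (H := Γ) (χ - Dade Γ L A (invDade Γ L A χ))
  refine ⟨by linarith, ?_⟩
  rw [← sub_eq_zero (a := χ), ← cfnorm_eq0 (sub_mem hχ (Dade_mem_CF' h _))]
  constructor <;> intro <;> linarith

theorem leC_cfnorm_invDade_support (h : DadeHyp Γ L A) (hχ : χ ∈ CF Γ) :
    cfnorm L (invDade Γ L A χ) ≤ (♯Γ : ℝ)⁻¹ * ∑ g ∈ elts (DadeSupp Γ L A), ‖χ g‖ ^ 2 ∧
      (cfnorm L (invDade Γ L A χ) = (♯Γ : ℝ)⁻¹ * ∑ g ∈ elts (DadeSupp Γ L A), ‖χ g‖ ^ 2 ↔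
        ∀ a ∈ A, ∀ u ∈ DadeSig Γ L a, χ (u * a) = χ a) := by
  have h1 := indicator_mem_CF (Dade_support_sub h) (fun g hg x hx => (Dade_support_norm hg).2 hx) hχ
  have h2 : invDade Γ L A ((DadeSupp Γ L A).indicator χ) = invDade Γ L A χ := by
    ext a
    by_cases ha : a ∈ A
    · rw [invDadeE _ _ _ ha, invDadeE _ _ _ ha, Finset.sum_congr rfl fun x hx =>
        Set.indicator_of_mem (mem_Dade_support ha (mem_elts.1 hx)) χ]
    · rw [invDade_suppOn _ _ _ _ a ha, invDade_suppOn _ _ _ _ a ha]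
  have h3 := leC_norm_invDade h h1.1
  rw [h2, cfnormE (Dade_support_sub h) h1.2, Finset.sum_congr rfl fun x hx => by
    rw [Set.indicator_of_mem (mem_elts.1 hx)]] at h3
  have h4 := (invDade_on h hχ).1
  refine ⟨h3.1, h3.2.trans ⟨fun e a ha u hu => ?_, fun e => funext fun g => ?_⟩⟩
  · rw [← Set.indicator_of_mem (mem_Dade_support ha hu) χ, ← Set.indicator_of_mem
      (subset_Dade_support Γ L A ha) χ, e, Dade_mul h h4 ha hu, Dade_id h h4 ha]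
  · by_cases hg : g ∈ DadeSupp Γ L A
    · obtain ⟨a, ha, hg'⟩ := mem_DadeSupp.1 hg
      rw [Set.indicator_of_mem hg, DadeE h h4 ha hg', invDade_eq_of_const _ _ ha (e a ha)]
      obtain ⟨y, hy, t, ht, rfl⟩ := hg'
      rw [cfunJ hχ ht, ← e a ha _ hy, inv_mul_cancel_right]
    · rw [Set.indicator_of_notMem hg, Dade_suppOn _ _ _ _ g hg]

theorem cfnormE_invDade (h : DadeHyp Γ L A) (χ : G → ℂ) :
    cfnorm L (invDade Γ L A χ) = (♯L : ℝ)⁻¹ * ∑ a ∈ elts A, ‖invDade Γ L A χ a‖ ^ 2 :=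
  cfnormE h.subset (invDade_suppOn _ _ _ _)

theorem P7.sum_partition {ι : Type*} (I : Finset ι) (B : ι → Set G) {X : Set G} (h : ∀ i ∈ I, B i ⊆ X)
    (hd : ∀ i ∈ I, ∀ j ∈ I, i ≠ j → Disjoint (B i) (B j)) (f : G → ℝ) :
    ∑ g ∈ elts X, f g = ∑ g ∈ elts (X \ ⋃ i ∈ I, B i), f g + ∑ i ∈ I, ∑ g ∈ elts (B i), f g := by
  classical
  rw [← Finset.sum_biUnion (t := fun i => elts (B i)) fun i hi j hj hij => by
    simpa [Function.onFun, ← Finset.disjoint_coe] using hd i hi j hj hij,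
    ← Finset.sum_sdiff (s₁ := I.biUnion fun i => elts (B i)) fun x hx => by
      obtain ⟨i, hi, hx⟩ := Finset.mem_biUnion.1 hx
      exact mem_elts.2 (h i hi (mem_elts.1 hx))]
  congr 2
  ext x
  simp

theorem Dade_cover_inequality {ι : Type*} (I : Finset ι) (L : ι → Subgroup G) (A : ι → Set G)
    (h : ∀ i ∈ I, DadeHyp Γ (L i) (A i))
    (hd : ∀ i ∈ I, ∀ j ∈ I, i ≠ j → Disjoint (DadeSupp Γ (L i) (A i)) (DadeSupp Γ (L j) (A j)))
    {G0 : Set G} (hG0 : G0 = (Γ : Set G) \ ⋃ i ∈ I, DadeSupp Γ (L i) (A i)) (hχ : χ ∈ CF Γ)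
    (h1 : cfnorm Γ χ = 1) :
    (♯Γ : ℝ)⁻¹ * (∑ g ∈ elts G0, ‖χ g‖ ^ 2 - G0.ncard) +
      ∑ i ∈ I, (cfnorm (L i) (invDade Γ (L i) (A i) χ) - (A i).ncard / ♯(L i)) ≤ 0 := by
  have h2 := P7.sum_partition I _ (fun i hi => Dade_support_sub (h i hi)) hd
  rw [← hG0] at h2
  have h3 := h2 fun _ => 1
  simp only [Finset.sum_const, card_elts_set, nsmul_eq_mul, mul_one] at h3
  have h4 : (♯Γ : ℝ)⁻¹ * (G0.ncard : ℝ) + ∑ i ∈ I, ((A i).ncard : ℝ) / ♯(L i) = 1 := by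
    rw [← inv_mul_cancel₀ (cardR_pos Γ).ne', ← card_elts, card_elts_set] 
    nth_rewrite 3 [h3]
    rw [mul_add, Finset.mul_sum, ← card_elts_set (Γ : Set G), card_elts]
    refine congrArg _ (Finset.sum_congr rfl fun i hi => ?_)
    have := congrArg (Nat.cast (R := ℝ)) (card_Dade_support (h i hi))
    have a1 := cardR_pos Γ
    have a2 := cardR_pos (L i)
    push_cast at this
    field_simp
    linarith
  rw [cfnorm, h2, mul_add] at h1
  have h5 := Finset.sum_le_sum fun i hi => (leC_cfnorm_invDade_support (h i hi) hχ).1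
  rw [← Finset.mul_sum] at h5
  rw [Finset.sum_sub_distrib, mul_sub]
  linarith

theorem DadeHyp.normal_of_sharp (h : DadeHyp Γ L (sharp H)) : H ⊴ L := by
  refine ⟨fun x hx => ?_, le_norm_iff.2 fun g hg x hx => ?_⟩ <;> by_cases e : x = 1
  · exact e ▸ one_mem L
  · exact h.subset ⟨hx, e⟩
  · simp [e]
  · exact (h.conj_mem g hg x ⟨hx, e⟩).1

theorem P7.cfnorm_sharp (h0 : φ 1 = 0) (h : ∀ x ∈ L, x ≠ 1 → φ x = ψ x) :
    cfnorm L φ = cfnorm L ψ - ‖ψ 1‖ ^ 2 / ♯L := by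
  classical
  have h1 : (1 : G) ∈ elts (L : Set G) := mem_elts.2 L.one_mem
  rw [cfnorm, cfnorm, ← Finset.add_sum_erase _ _ h1, ← Finset.add_sum_erase _ _ h1, h0,
    Finset.sum_congr rfl fun x hx => by
      rw [h x (mem_elts.1 (Finset.mem_of_mem_erase hx)) (Finset.ne_of_mem_erase hx)]]
  simp only [norm_zero]
  ring

theorem P7.conj_one (hH : H ≤ L) {ξ : G → ℂ} (h : ξ ∈ seqIndT H L) : conj (ξ 1) = ξ 1 :=
  (Cnat_char1 (seqInd_char hH h)).conj_eq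

theorem P7.cfReg_sum (hH : H ⊴ L) : cfReg L = ∑ ξ ∈ seqIndT H L, (ξ 1 / ⟪ξ, ξ⟫[L]) • ξ := by
  refine ((seqInd_orthogonal hH subset_rfl).expansion (fun ξ => seqInd_mem_CF) (span_seqIndT hH ▸
    mem_CFon_of (cfReg_mem_CF L) fun x _ hx => cfReg_of_ne L fun e => hx (e ▸ H.one_mem))).trans
    (Finset.sum_congr rfl fun ξ hξ => ?_)
  rw [cfdotC, cfdot_cfReg, P7.conj_one hH.le hξ]

theorem invDade_seqInd_sum (h : DadeHyp Γ L (sharp H)) {ξ0 : G → ℂ} (h0 : ξ0 ∈ seqIndT H L)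
    (hχ : χ ∈ CF Γ) {c : (G → ℂ) → ℂ}
    (hc : ∀ ξ ∈ seqIndT H L, c ξ = ⟪Dade Γ L (sharp H) (ξ - (ξ 1 / ξ0 1) • ξ0), χ⟫[Γ]) :
    (∀ a ∈ sharp H, invDade Γ L (sharp H) χ a = ∑ ξ ∈ seqIndT H L, conj (c ξ) / ⟪ξ, ξ⟫[L] * ξ a) ∧
    cfnorm L (invDade Γ L (sharp H) χ) = ∑ ξ ∈ seqIndT H L, ‖c ξ‖ ^ 2 / cfnorm L ξ -
      ‖∑ ξ ∈ seqIndT H L, conj (c ξ) / ⟪ξ, ξ⟫[L] * ξ 1‖ ^ 2 / ♯L := by
  have hH := DadeHyp.normal_of_sharp h
  have h1 := invDade_on h hχ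
  have ho := seqInd_orthogonal hH subset_rfl
  set ρ := invDade Γ L (sharp H) χ
  have h2 : ∑ ξ ∈ seqIndT H L, (conj (c ξ) / ⟪ξ, ξ⟫[L]) • ξ = ρ - (⟪ρ, ξ0⟫[L] / ξ0 1) • cfReg L := by
    nth_rewrite 1 [ho.expansion (φ := ρ) (fun ξ => seqInd_mem_CF)
      (span_seqIndT hH ▸ CFon_mono L (sharp_subset H) h1)]
    rw [P7.cfReg_sum hH, Finset.smul_sum, ← Finset.sum_sub_distrib]
    refine Finset.sum_congr rfl fun ξ hξ => ?_
    rw [hc ξ hξ, invDade_reciprocity h hχ (sub_seqInd_on hH hξ h0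
      (div_mul_cancel₀ _ (seqInd1_neq0 hH.le h0)).symm), conj_cfdot, cfdotBr, cfdotZr, map_div₀,
      P7.conj_one hH.le hξ, P7.conj_one hH.le h0, smul_smul, ← sub_smul]
    congr 1
    ring
  have h3 : ∀ a, a ≠ 1 → ρ a = (∑ ξ ∈ seqIndT H L, (conj (c ξ) / ⟪ξ, ξ⟫[L]) • ξ) a := fun a ha => by
    rw [h2, Pi.sub_apply, Pi.smul_apply, cfReg_of_ne L ha, smul_zero, sub_zero]
  refine ⟨fun a ha => by simpa using h3 a ha.2, ?_⟩
  rw [P7.cfnorm_sharp (cfun_on0 h1 (one_not_mem_sharp H)) fun x _ => h3 x, ho.cfnorm_sum, Finset.sum_apply]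
  congr 1
  refine Finset.sum_congr rfl fun ξ hξ => ?_
  have := (cfnorm_seqInd_gt0 hH.le hξ).ne'
  rw [cfdot_self, norm_div, Complex.norm_conj, Complex.norm_real, Real.norm_of_nonneg (cfnorm_ge0 _)]
  field_simp

end Cfsg.Agent.OO.Pf
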