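import Cfsg.Agent.Lib.OO.Pf.PF7_A
import Cfsg.Agent.Lib.OO.BG3

/-! # Peterfalvi section 7, part B: (7.8) – (7.11) -/

set_option autoImplicit false
set_option linter.unusedSectionVars false
set_option linter.unusedVariables false

namespace Cfsg.Agent.OO.Pf

open Subgroup Cfsg.Agent.Coprime
open scoped Pointwise ComplexConjugate

universe u

variable {G : Type u} [Group G] [Finite G] {Γ L H : Subgroup G} {A : Set G} {χ α φ ψ ζ ξ : G → ℂ} {a : G}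

namespace P7

theorem cint_deg (hH : H ≤ L) (hξ : ξ ∈ seqIndT H L) : IsCint (ξ 1 / H.relIndex L) := by
  obtain ⟨a, -, h⟩ := dvd_index_seqInd1 hH hξ
  rw [h, mul_div_cancel_right₀ _ (relIndexC_ne_zero H L)]
  exact isCint_natCast a

theorem cfdot_Ind1 (hH : H ⊴ L) : ⟪cfInd L H (cf1 H), cfInd L H (cf1 H)⟫[L] = H.relIndex L := by
  rw [cfnorm_Ind_irr hH (isIrr_cf1 H), inertia_cf1 hH.norm]

theorem conj_self (φ : G → ℂ) : conj ⟪φ, φ⟫[L] = ⟪φ, φ⟫[L] := conj_cfdot φ φ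

variable {ν : (G → ℂ) →+ (G → ℂ)}

theorem tau_sub (h : DadeHyp Γ L (sharp H))
    (hν : CoherentWith L Γ (seqIndD H L H ⊥) (sharp L) (Dade Γ L (sharp H)) ν) (hζ : ζ ∈ seqIndD H L H ⊥)
    (h1 : ζ 1 = H.relIndex L) (hξ : ξ ∈ seqIndD H L H ⊥) :
    ξ - (ξ 1 / H.relIndex L) • ζ ∈ CFon L (sharp H) ∧
    Dade Γ L (sharp H) (ξ - (ξ 1 / H.relIndex L) • ζ) = ν ξ - (ξ 1 / H.relIndex L) • ν ζ := by
  have hH := DadeHyp.normal_of_sharp h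
  have e : ξ 1 = ξ 1 / H.relIndex L * ζ 1 := by rw [h1, div_mul_cancel₀ _ (relIndexC_ne_zero H L)]
  exact ⟨sub_seqInd_on hH (seqInd_subT _ _ _ _ hξ) (seqInd_subT _ _ _ _ hζ) e, hν.sub_smul
    (fun φ hφ => seqInd_mem_CF (seqInd_subT _ _ _ _ hφ)) hξ hζ (cint_deg hH.le (seqInd_subT _ _ _ _ hξ)) e⟩

theorem invDade_apply (h : DadeHyp Γ L (sharp H))
    (hν : CoherentWith L Γ (seqIndD H L H ⊥) (sharp L) (Dade Γ L (sharp H)) ν) (hζ : ζ ∈ seqIndD H L H ⊥)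
    (h1 : ζ 1 = H.relIndex L) (hχ : χ ∈ CF Γ) (ha : a ∈ sharp H) :
    invDade Γ L (sharp H) χ a = conj ⟪Dade Γ L (sharp H) (cfInd L H (cf1 H) - ζ), χ⟫[Γ] +
      ∑ ξ ∈ seqIndD H L H ⊥, conj (⟪ν ξ, χ⟫[Γ] - ξ 1 / H.relIndex L * ⟪ν ζ, χ⟫[Γ]) / ⟪ξ, ξ⟫[L] * ξ a := by
  classical
  have hH := DadeHyp.normal_of_sharp h
  have he := relIndexC_ne_zero H L
  rw [(invDade_seqInd_sum h (seqInd_subT _ _ _ _ hζ) hχ fun _ _ => rfl).1 a ha,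
    ← Finset.add_sum_erase _ _ (seqIndT_Ind1 H L), ← seqIndC1_rem hH, h1, cfInd1 hH.le, cf1_one, mul_one,
    div_self he, one_smul, cfdot_Ind1 hH]
  congr 1
  · rw [cfInd_cfun1 hH, Pi.smul_apply, cf1E ha.1, smul_eq_mul, mul_one, div_mul_cancel₀ _ he]
  · exact Finset.sum_congr rfl fun ξ hξ => by rw [(tau_sub h hν hζ h1 hξ).2, cfdotBl, cfdotZl]

theorem int_ineq {x : ℝ} (hx : 2 ≤ x) (a : ℤ) : 0 ≤ x * a ^ 2 - 2 * a := by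
  have : (a : ℝ) ≤ a ^ 2 := by exact_mod_cast Int.le_self_sq a
  nlinarith [sq_nonneg (a : ℝ)]

end P7

open P7

theorem Dade_Ind1_sub_lin (h : DadeHyp Γ L (sharp H)) {ν : (G → ℂ) →+ (G → ℂ)}
    (hν : CoherentWith L Γ (seqIndD H L H ⊥) (sharp L) (Dade Γ L (sharp H)) ν)
    (h2 : 1 < (seqIndD H L H ⊥).card) (hirr : IsIrr L ζ) (hζ : ζ ∈ seqIndD H L H ⊥)
    (h1 : ζ 1 = H.relIndex L) {β : G → ℂ} (hβ : β = Dade Γ L (sharp H) (cfInd L H (cf1 H) - ζ)) :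
    ((∀ ξ ∈ seqIndD H L H ⊥, ⟪ν ξ, cf1 Γ⟫[Γ] = 0) ∧ ⟪β, cf1 Γ⟫[Γ] = 1 ∧ β ∈ ZIrr Γ ∧
      cfnorm Γ β = H.relIndex L + 1) ∧
    (∃ Δ ∈ CF Γ, (∀ ξ ∈ seqIndD H L H ⊥, ⟪Δ, ν ξ⟫[Γ] = 0) ∧ ⟪Δ, cf1 Γ⟫[Γ] = 0 ∧
      (∃ a : ℤ, ⟪β, ν ζ⟫[Γ] = a - 1 ∧ β = cf1 Γ - ν ζ +
          (a : ℂ) • ∑ ξ ∈ seqIndD H L H ⊥, (ξ 1 / H.relIndex L / ⟪ξ, ξ⟫[L]) • ν ξ + Δ ∧
        cfnorm L (invDade Γ L (sharp H) (ν ζ)) =
          (1 - 1 / (♯H : ℝ)) / H.relIndex L * a ^ 2 - 2 / (♯H : ℝ) * a + (1 - H.relIndex L / (♯H : ℝ)) ∧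
        cfnorm Γ Δ = H.relIndex L - 1 - ((♯H - 1 : ℝ) / H.relIndex L * a ^ 2 - 2 * a)) ∧
      (2 * H.relIndex L + 1 ≤ ♯H → 1 - H.relIndex L / (♯H : ℝ) ≤ cfnorm L (invDade Γ L (sharp H) (ν ζ)) ∧
        cfnorm Γ Δ ≤ H.relIndex L - 1)) ∧
    ∀ χ ∈ ZIrr Γ, (∀ ξ ∈ seqIndD H L H ⊥, ⟪χ, ν ξ⟫[Γ] = 0) →
      (∀ x ∈ sharp H, invDade Γ L (sharp H) χ x = ⟪β, χ⟫[Γ]) ∧
      cfnorm L (invDade Γ L (sharp H) χ) = (♯H - 1 : ℝ) / ♯L * ‖⟪β, χ⟫[Γ]‖ ^ 2 := by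
  have hH := DadeHyp.normal_of_sharp h
  have he := relIndexC_ne_zero H L
  have hT := seqInd_subT H L H ⊥
  have ho := seqInd_orthogonal hH hT
  have hζζ := cfdot_irr_self hirr
  have hs := fun ξ => tau_sub (ξ := ξ) h hν hζ h1
  have hd := fun ξ (hξ : ξ ∈ seqIndD H L H ⊥) => (cint_deg hH.le (hT hξ)).conj_eq
  have hn := fun ξ (hξ : ξ ∈ seqIndD H L H ⊥) => cfdot_self_ne_zero (seqInd_mem_CF (hT hξ)) (ho.ne_zero hξ)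
  have h3 : ∀ ξ ∈ seqIndD H L H ⊥, ⟪ν ξ, cf1 Γ⟫[Γ] = ξ 1 / H.relIndex L * ⟪ν ζ, cf1 Γ⟫[Γ] := fun ξ hξ => by
    have := Dade_cf1 h (hs ξ hξ).1
    rw [(hs ξ hξ).2, cfdotBl, cfdotBl, cfdotZl, cfdotZl, seqInd_ortho_1 hH.le le_rfl hξ,
      seqInd_ortho_1 hH.le le_rfl hζ] at this
    linear_combination this
  have h4 : ⟪ν ζ, cf1 Γ⟫[Γ] = 0 := by_contra fun h4 => by
    obtain ⟨ξ, hξ, hne⟩ := Finset.exists_mem_ne h2 ζ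
    have h5 := (hν.cfdot_mem hξ hζ).trans (ho.2 ξ hξ ζ hζ hne)
    refine mul_ne_zero (div_ne_zero (seqInd1_neq0 hH.le (hT hξ)) he) h4 ((h3 ξ hξ).symm.trans ?_)
    rcases (hν.dirr hζ hirr).eq_or_eq_neg (isIrr_cf1 Γ).isDirr h4 with e | e <;> rw [e] at h5
    · exact h5
    · rwa [cfdotNr, neg_eq_zero] at h5
  replace h3 : ∀ ξ ∈ seqIndD H L H ⊥, ⟪ν ξ, cf1 Γ⟫[Γ] = 0 := fun ξ hξ => by rw [h3 ξ hξ, h4, mul_zero]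
  have hon := cfInd1_sub_lin_on hH (hT hζ) h1
  have hβ1 : ⟪β, cf1 Γ⟫[Γ] = 1 := by
    rw [hβ, Dade_cf1 h hon, cfdotBl, seqInd_ortho_1 hH.le le_rfl hζ, sub_zero,
      cfdot_cfInd_left hH.le (CF_le_suppOn H (cf1_mem_CF H)) (cf1_mem_CF L), ← cfdot_cfRes_right,
      cfRes_cf1 hH.le, cfdot_cf1]
  have hβZ : β ∈ ZIrr Γ := hβ ▸ Dade_vchar h (cfInd1_sub_lin_vchar hH (hT hζ) h1)
  have hI := fun ξ (hξ : ξ ∈ seqIndD H L H ⊥) => seqInd_ortho_Ind1 hH le_rfl hξ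
  have hββ : ⟪β, β⟫[Γ] = H.relIndex L + 1 := by
    rw [hβ, Dade_isometry h hon hon, cfdotBl, cfdotBr, cfdotBr, cfdot_Ind1 hH, hI ζ hζ, cfdot_symm0 (hI ζ hζ), hζζ]
    ring
  refine ⟨⟨h3, hβ1, hβZ, cfnorm_eq_of_cfdot (by rw [hββ]; push_cast; rfl)⟩, ?_, fun χ hχ h0 => ?_⟩
  swap
  · have h5 : ∀ x ∈ sharp H, invDade Γ L (sharp H) χ x = ⟪β, χ⟫[Γ] := fun x hx => by
      rw [invDade_apply h hν hζ h1 (vchar_mem_CF hχ) hx, ← hβ, (Cint_cfdot_vchar hβZ hχ).conj_eq,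
        Finset.sum_eq_zero fun ξ hξ => by simp [cfdot_symm0 (h0 ξ hξ), cfdot_symm0 (h0 ζ hζ)], add_zero]
    refine ⟨h5, ?_⟩
    rw [cfnormE_invDade h, Finset.sum_congr rfl fun x hx => by rw [h5 x (mem_elts.1 hx)], Finset.sum_const,
      card_elts_set, ncard_sharp, nsmul_eq_mul, Nat.cast_sub (card_pos' H), Nat.cast_one]
    ring
  obtain ⟨a, ha⟩ := (Cint_cfdot_vchar hβZ (hν.vchar_mem hζ)).add isCint_one
  replace ha : ⟪β, ν ζ⟫[Γ] = a - 1 := by linear_combination ha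
  set Y := ∑ ξ ∈ seqIndD H L H ⊥, (ξ 1 / H.relIndex L / ⟪ξ, ξ⟫[L]) • ν ξ with hY
  have hY1 : ∀ η ∈ seqIndD H L H ⊥, ⟪Y, ν η⟫[Γ] = η 1 / H.relIndex L := fun η hη => by
    rw [← div_mul_cancel₀ (η 1 / H.relIndex L) (hn η hη),
      ← ho.cfdot_sum (fun ξ => ξ 1 / H.relIndex L / ⟪ξ, ξ⟫[L]) hη, cfdot_suml, cfdot_suml]
    exact Finset.sum_congr rfl fun ξ hξ => by rw [cfdotZl, cfdotZl, hν.cfdot_mem hξ hη]
  have hY0 : ∀ φ, (∀ η ∈ seqIndD H L H ⊥, ⟪φ, ν η⟫[Γ] = 0) → ⟪φ, Y⟫[Γ] = 0 := fun φ h0 => by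
    rw [cfdot_sumr]
    exact Finset.sum_eq_zero fun η hη => by rw [cfdotZr, h0 η hη, mul_zero]
  have hYY : ⟪Y, Y⟫[Γ] = (♯H - 1) / H.relIndex L := by
    rw [← mul_div_mul_left _ _ he, ← sum_seqIndC1_square hH, Finset.sum_div]
    nth_rewrite 2 [hY]
    rw [cfdot_sumr]
    refine Finset.sum_congr rfl fun η hη => ?_
    rw [cfdotZr, hY1 η hη, map_div₀, hd η hη, conj_self]
    ring
  have hβν : ∀ ξ ∈ seqIndD H L H ⊥, ⟪β, ν ξ⟫[Γ] = ξ 1 / H.relIndex L * a - ⟪ζ, ξ⟫[L] := fun ξ hξ => by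
    have := Dade_isometry h hon (hs ξ hξ).1
    rw [← hβ, (hs ξ hξ).2, cfdotBr, cfdotZr, ha, cfdotBl, cfdotBr, cfdotBr, cfdotZr, cfdotZr, hd ξ hξ,
      cfdot_symm0 (hI ξ hξ), cfdot_symm0 (hI ζ hζ), hζζ] at this
    linear_combination this
  obtain ⟨Δ, hΔ⟩ : ∃ Δ, Δ = β - (cf1 Γ - ν ζ + (a : ℂ) • Y) := ⟨_, rfl⟩
  have hΔ1 : ∀ ξ ∈ seqIndD H L H ⊥, ⟪Δ, ν ξ⟫[Γ] = 0 := fun ξ hξ => by
    rw [hΔ, cfdotBl, cfdotDl, cfdotBl, cfdotZl, hβν ξ hξ, cfdot_symm0 (h3 ξ hξ), hν.cfdot_mem hζ hξ, hY1 ξ hξ]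
    ring
  have hY2 : ⟪cf1 Γ, Y⟫[Γ] = 0 := hY0 _ fun η hη => cfdot_symm0 (h3 η hη)
  have hΔ2 : ⟪Δ, cf1 Γ⟫[Γ] = 0 := by
    rw [hΔ, cfdotBl, cfdotDl, cfdotBl, cfdotZl, hβ1, cfdot_cf1, h4, cfdot_symm0 hY2]
    ring
  have eβ : β = cf1 Γ - ν ζ + (a : ℂ) • Y + Δ := by rw [hΔ, add_sub_cancel]
  have hr : (♯L : ℝ) = ♯H * H.relIndex L := by exact_mod_cast (card_mul_relIndex hH.le).symm
  have hh := (cardR_pos H).ne'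
  have her : (0 : ℝ) < H.relIndex L := by exact_mod_cast relIndex_pos H L
  have n1 : cfnorm L (invDade Γ L (sharp H) (ν ζ)) =
      (1 - 1 / (♯H : ℝ)) / H.relIndex L * a ^ 2 - 2 / (♯H : ℝ) * a + (1 - H.relIndex L / (♯H : ℝ)) := by
    have e1 := ho.expansion (fun ξ hξ => seqInd_mem_CF (hT hξ)) (Submodule.subset_span hζ)
    rw [cfnorm_sharp (ψ := (a : ℂ) • cf1 H + ζ) (invDade_suppOn _ _ _ _ 1 (one_not_mem_sharp H))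
      fun x _ hx1 => ?_, cfnormDd (by rw [cfdotZl, cfdot_symm0 (seqInd_ortho_cfuni hH le_rfl hζ), mul_zero]),
      cfnormZ, cfnorm_irr hirr, cfnorm_eq_of_cfdot (r := (H.relIndex L : ℝ)⁻¹) (by
        have := cfdot_of_suppOn hH.le (CF_le_suppOn H (cf1_mem_CF H)) (cf1 H)
        rw [cfdot_cf1] at this
        push_cast
        exact eq_inv_of_mul_eq_one_right this), Pi.add_apply, Pi.smul_apply, cf1_one, h1, smul_eq_mul, mul_one,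
      show (a : ℂ) + H.relIndex L = ((a + H.relIndex L : ℝ) : ℂ) by push_cast; rfl, Complex.norm_real,
      Complex.norm_intCast, sq_abs, Real.norm_eq_abs, sq_abs, hr]
    · field_simp
      ring
    by_cases hx : x ∈ H
    swap
    · rw [invDade_suppOn _ _ _ _ x fun h => hx h.1, Pi.add_apply, Pi.smul_apply, cf1_of_not_mem hx,
        cfun_on0 (seqInd_on hH (hT hζ)) hx, smul_zero, add_zero]
    have e2 := congrFun (sum_seqIndC1 hH) x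
    have e3 := congrFun e1 x
    rw [Pi.sub_apply, cfReg_of_ne L hx1, Pi.smul_apply, cf1E hx] at e2
    simp only [Finset.sum_apply, Pi.smul_apply, smul_eq_mul] at e2 e3
    rw [invDade_apply h hν hζ h1 (vchar_mem_CF (hν.vchar_mem hζ)) ⟨hx, hx1⟩, ← hβ, ha, Pi.add_apply,
      Pi.smul_apply, cf1E hx, Finset.sum_congr rfl (g := fun ξ => ⟪ζ, ξ⟫[L] / ⟪ξ, ξ⟫[L] * ξ x -
        (H.relIndex L : ℂ)⁻¹ * (ξ 1 / ⟪ξ, ξ⟫[L] * ξ x)) fun ξ hξ => by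
        rw [hν.cfdot_mem hξ hζ, hν.cfdot_mem hζ hζ, hζζ, mul_one, map_sub, hd ξ hξ, conj_cfdot]; ring,
      Finset.sum_sub_distrib, ← Finset.mul_sum, ← e3, e2]
    simp only [map_sub, map_intCast, map_one, smul_eq_mul]
    field_simp
    ring
  have n2 : cfnorm Γ Δ = H.relIndex L - 1 - ((♯H - 1 : ℝ) / H.relIndex L * a ^ 2 - 2 * a) := by
    refine cfnorm_eq_of_cfdot ?_
    have e1 : ⟪β, Y⟫[Γ] = a * ((♯H - 1) / H.relIndex L) - 1 := by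
      rw [eβ, cfdotDl, cfdotDl, cfdotBl, cfdotZl, hY2, hYY, hY0 Δ hΔ1, cfdotC (ν ζ), hY1 ζ hζ, h1, div_self he,
        map_one]
      ring
    have e2 : ⟪β, Δ⟫[Γ] = ⟪Δ, Δ⟫[Γ] := by
      nth_rewrite 1 [eβ]
      rw [cfdotDl, cfdotDl, cfdotBl, cfdotZl, cfdot_symm0 hΔ2, cfdot_symm0 (hΔ1 ζ hζ), cfdot_symm0 (hY0 Δ hΔ1)]
      ring
    nth_rewrite 2 [eβ] at hββ
    rw [cfdotDr, cfdotDr, cfdotBr, cfdotZr, hβ1, ha, e1, e2, map_intCast] at hββ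
    push_cast
    linear_combination hββ
  refine ⟨Δ, hΔ ▸ sub_mem (vchar_mem_CF hβZ) (add_mem (sub_mem (cf1_mem_CF Γ) (vchar_mem_CF (hν.vchar_mem hζ)))
    (Submodule.smul_mem _ _ (sum_mem fun ξ hξ => Submodule.smul_mem _ _ (vchar_mem_CF (hν.vchar_mem hξ))))),
    hΔ1, hΔ2, ⟨a, ha, eβ, n1, n2⟩, fun hle => ?_⟩
  have hle' : (2 : ℝ) * H.relIndex L + 1 ≤ ♯H := by exact_mod_cast hle
  have k := int_ineq (x := (♯H - 1 : ℝ) / H.relIndex L) (by rw [le_div_iff₀ her]; linarith) a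
  refine ⟨?_, by linarith⟩
  have := mul_nonneg (inv_pos.2 (cardR_pos H)).le k
  rw [n1, le_add_iff_nonneg_left]
  refine this.trans_eq ?_
  field_simp

theorem cfdot_real_vchar_even (hodd : Odd ♯Γ) (hφ : φ ∈ ZIrr Γ) (hφr : star φ = φ) (hψ : ψ ∈ ZIrr Γ)
    (hψr : star ψ = ψ) : EqCmod 2 ⟪φ, ψ⟫[Γ] (⟪φ, cf1 Γ⟫[Γ] * ⟪ψ, cf1 Γ⟫[Γ]) := by
  classical
  have h1 : ∀ χ : G → ℂ, ∃ z : ℤ, IsIrr Γ χ → ⟪φ, χ⟫[Γ] * ⟪ψ, χ⟫[Γ] = z := fun χ => by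
    by_cases h : IsIrr Γ χ
    · obtain ⟨z, hz⟩ := (Cint_cfdot_vchar_irr hφ h).mul (Cint_cfdot_vchar_irr hψ h)
      exact ⟨z, fun _ => hz⟩
    · exact ⟨0, fun h' => absurd h' h⟩
  choose f hf using h1
  have h2 : ∀ θ ∈ ZIrr Γ, star θ = θ → ∀ χ, IsIrr Γ χ → ⟪θ, star χ⟫[Γ] = ⟪θ, χ⟫[Γ] := fun θ hθ e χ h => by
    rw [cfdot_conjCr, e, (Cint_cfdot_vchar_irr hθ h).conj_eq]
  have h3 : ((∑ χ ∈ (Irr Γ).erase (cf1 Γ), f χ : ℤ) : ZMod 2) = 0 := by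
    push_cast
    refine Finset.sum_involution (fun χ _ => star χ) (fun χ hχ => ?_) (fun χ hχ _ e => ?_) (fun χ hχ => ?_)
      fun χ _ => star_star χ
    · have hχ := mem_Irr.1 (Finset.mem_of_mem_erase hχ)
      have : f (star χ) = f χ := by
        have := hf _ hχ.star
        rw [h2 φ hφ hφr χ hχ, h2 ψ hψ hψr χ hχ, hf χ hχ] at this
        exact_mod_cast this.symm
      rw [this, CharTwo.add_self_eq_zero]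
    · exact Finset.ne_of_mem_erase hχ ((odd_eq_conj_irr1 hodd (mem_Irr.1 (Finset.mem_of_mem_erase hχ))).1 e)
    · exact Finset.mem_erase.2 ⟨fun e => Finset.ne_of_mem_erase hχ (by rw [← star_star χ, e, star_cf1]),
        mem_Irr.2 (mem_Irr.1 (Finset.mem_of_mem_erase hχ)).star⟩
  obtain ⟨z, hz⟩ := (ZMod.intCast_zmod_eq_zero_iff_dvd _ 2).1 h3
  refine ⟨z, ?_⟩
  rw [cfdot_sum_irr (vchar_mem_CF hφ), ← Finset.add_sum_erase _ _ (cf1_mem_Irr Γ),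
    (Cint_cfdot_vchar_irr hψ (isIrr_cf1 Γ)).conj_eq, add_sub_cancel_left, Finset.sum_congr rfl fun χ hχ => by
      have hχ := mem_Irr.1 (Finset.mem_of_mem_erase hχ)
      rw [(Cint_cfdot_vchar_irr hψ hχ).conj_eq, hf χ hχ]]
  exact_mod_cast hz

theorem disjoint_Dade_ortho {L1 L2 : Subgroup G} {A1 A2 : Set G}
    (hd : Disjoint (DadeSupp Γ L1 A1) (DadeSupp Γ L2 A2)) (φ ψ : G → ℂ) :
    ⟪Dade Γ L1 A1 φ, Dade Γ L2 A2 ψ⟫[Γ] = 0 :=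
  cfdot_complement (Dade_suppOn _ _ _ _) (Dade_suppOn _ _ _ _) hd

theorem P7.tau_sub_star (hodd : Odd ♯Γ) (h : DadeHyp Γ L (sharp H)) {ν : (G → ℂ) →+ (G → ℂ)}
    (c : CoherentWith L Γ (seqIndD H L H ⊥) (sharp L) (Dade Γ L (sharp H)) ν) (i : IsIrr L χ)
    (m : χ ∈ seqIndD H L H ⊥) :
    Dade Γ L (sharp H) (χ - star χ) = ν χ - star (ν χ) ∧ ⟪ν χ, star (ν χ)⟫[Γ] = 0 := by
  have hH := DadeHyp.normal_of_sharp h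
  have ho := Odd.of_dvd_nat hodd (card_dvd h.le)
  rw [cfConjC_Dade_coherent h c ho hH le_rfl i m, c.cfdot_mem m (star_seqInd m), ← map_sub ν,
    c.eq (zchar_onS (sharp_mono hH.le) (cfAut_conjAut χ ▸ seqInd_sub_aut_zchar hH conjAut m))]
  exact ⟨rfl, seqInd_conjC_ortho ho hH le_rfl m⟩

section Disjoint

variable {L1 L2 H1 H2 : Subgroup G} {ν1 ν2 : (G → ℂ) →+ (G → ℂ)}

theorem disjoint_coherent_ortho (hodd : Odd ♯Γ) (h1 : DadeHyp Γ L1 (sharp H1))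
    (h2 : DadeHyp Γ L2 (sharp H2)) (hd : Disjoint (DadeSupp Γ L1 (sharp H1)) (DadeSupp Γ L2 (sharp H2)))
    (c1 : CoherentWith L1 Γ (seqIndD H1 L1 H1 ⊥) (sharp L1) (Dade Γ L1 (sharp H1)) ν1)
    (c2 : CoherentWith L2 Γ (seqIndD H2 L2 H2 ⊥) (sharp L2) (Dade Γ L2 (sharp H2)) ν2) {χ1 χ2 : G → ℂ}
    (i1 : IsIrr L1 χ1) (m1 : χ1 ∈ seqIndD H1 L1 H1 ⊥) (i2 : IsIrr L2 χ2) (m2 : χ2 ∈ seqIndD H2 L2 H2 ⊥) :
    ⟪ν1 χ1, ν2 χ2⟫[Γ] = 0 := by_contra fun h => by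
  have h3 := disjoint_Dade_ortho hd (χ1 - star χ1) (χ2 - star χ2)
  obtain ⟨a2, b2⟩ := tau_sub_star hodd h2 c2 i2 m2
  have d2 := c2.dirr m2 i2
  have h4 : ⟪ν2 χ2 - star (ν2 χ2), ν2 χ2 - star (ν2 χ2)⟫[Γ] = 2 := by
    rw [cfdotBl, cfdotBr, cfdotBr, d2.cfdot_self, d2.star.cfdot_self, b2, cfdot_symm0 b2]
    norm_num
  rw [(tau_sub_star hodd h1 c1 i1 m1).1, a2] at h3
  rcases (c1.dirr m1 i1).eq_or_eq_neg d2 h with e | e <;> rw [e] at h3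
  · exact two_ne_zero (h4.symm.trans h3)
  · rw [star_neg, ← neg_sub', cfdotNl, h4, neg_eq_zero] at h3
    exact two_ne_zero h3

theorem Dade_sub_lin_nonorthogonal (hodd : Odd ♯Γ) (h1 : DadeHyp Γ L1 (sharp H1))
    (h2 : DadeHyp Γ L2 (sharp H2)) (hd : Disjoint (DadeSupp Γ L1 (sharp H1)) (DadeSupp Γ L2 (sharp H2)))
    (c1 : CoherentWith L1 Γ (seqIndD H1 L1 H1 ⊥) (sharp L1) (Dade Γ L1 (sharp H1)) ν1)
    (c2 : CoherentWith L2 Γ (seqIndD H2 L2 H2 ⊥) (sharp L2) (Dade Γ L2 (sharp H2)) ν2) {ζ1 ζ2 : G → ℂ}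
    (i1 : IsIrr L1 ζ1) (m1 : ζ1 ∈ seqIndD H1 L1 H1 ⊥) (d1 : ζ1 1 = H1.relIndex L1)
    (i2 : IsIrr L2 ζ2) (m2 : ζ2 ∈ seqIndD H2 L2 H2 ⊥) (d2 : ζ2 1 = H2.relIndex L2) :
    ⟪Dade Γ L1 (sharp H1) (cfInd L1 H1 (cf1 H1) - ζ1), ν2 ζ2⟫[Γ] ≠ 0 ∨
      ⟪Dade Γ L2 (sharp H2) (cfInd L2 H2 (cf1 H2) - ζ2), ν1 ζ1⟫[Γ] ≠ 0 := by
  have key : ∀ {L H : Subgroup G} {ν : (G → ℂ) →+ (G → ℂ)} {ζ : G → ℂ}, DadeHyp Γ L (sharp H) →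
      CoherentWith L Γ (seqIndD H L H ⊥) (sharp L) (Dade Γ L (sharp H)) ν → IsIrr L ζ →
      ζ ∈ seqIndD H L H ⊥ → ζ 1 = H.relIndex L → ∀ Δ, Δ = Dade Γ L (sharp H) (cfInd L H (cf1 H) - ζ) + ν ζ →
      Δ ∈ ZIrr Γ ∧ star Δ = Δ ∧ ⟪Δ, cf1 Γ⟫[Γ] = 1 := by
    rintro L H ν ζ h c i m d _ rfl
    obtain ⟨⟨a1, a2, a3, -⟩, -⟩ := Dade_Ind1_sub_lin h c (seqInd_nontrivial (Odd.of_dvd_nat hodd (card_dvd h.le))
      (DadeHyp.normal_of_sharp h) le_rfl m) i m d rfl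
    refine ⟨add_mem a3 (c.vchar_mem m), ?_, by rw [cfdotDl, a1 ζ m, a2, add_zero]⟩
    rw [star_add, ← Dade_conjC, star_sub, ← cfInd_star, star_cf1, ← sub_add_sub_cancel _ ζ, map_add,
      (tau_sub_star hodd h c i m).1, add_assoc, sub_add_cancel]
  obtain ⟨a1, a2, a3⟩ := key h1 c1 i1 m1 d1 _ rfl
  obtain ⟨b1, b2, b3⟩ := key h2 c2 i2 m2 d2 _ rfl
  obtain ⟨z, hz⟩ := cfdot_real_vchar_even hodd a1 a2 b1 b2
  by_contra! h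
  rw [a3, b3, cfdotDl, cfdotDr, cfdotDr, disjoint_Dade_ortho hd, h.1, cfdot_symm0 h.2,
    disjoint_coherent_ortho hodd h1 h2 hd c1 c2 i1 m1 i2 m2] at hz
  have : (0 + 0 + (0 + 0) - 1 * 1 : ℤ) = 2 * z := by exact_mod_cast hz
  omega

end Disjoint

theorem odd_Frobenius_index_ler (hodd : Odd ♯L) (hF : IsFrobKer L H) : 2 * H.relIndex L + 1 ≤ ♯H := by
  obtain ⟨R, hF⟩ := hF
  obtain ⟨k, hk⟩ := hF.dvd_pred
  have h1 := one_lt_card hF.ker_ne_bot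
  obtain ⟨a, ha⟩ := Odd.of_dvd_nat hodd (card_dvd hF.ker_le)
  obtain ⟨b, hb⟩ := Odd.of_dvd_nat hodd (card_dvd hF.compl_le)
  rw [hF.sdprod.relIndex_left]
  rcases k with _ | _ | k
  · omega
  · omega
  · rw [mul_add, mul_add] at hk
    omega

end Cfsg.Agent.OO.Pf
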