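import Cfsg.Agent.Lib.OO.Pf.PF7_B
import Cfsg.Agent.Lib.OO.PF7Defs

/-! # Peterfalvi section 7, part C: (7.10), (7.11) -/

set_option autoImplicit false
set_option linter.unusedSectionVars false
set_option linter.unusedVariables false

namespace Cfsg.Agent.OO.Pf

open Subgroup Cfsg.Agent.Coprime
open scoped Pointwise ComplexConjugate

universe u

variable {G : Type u} [Group G] [Finite G] {Γ L H : Subgroup G} {A : Set G} {χ α φ ψ ζ ξ : G → ℂ} {a : G}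

namespace P7

theorem bessel {κ : Type*} (T : Finset κ) (v : κ → G → ℂ) (h1 : ∀ s ∈ T, ⟪v s, v s⟫[Γ] = 1)
    (h0 : ∀ s ∈ T, ∀ t ∈ T, s ≠ t → ⟪v s, v t⟫[Γ] = 0) (β : G → ℂ) :
    ∑ s ∈ T, ‖⟪β, v s⟫[Γ]‖ ^ 2 ≤ cfnorm Γ β := by
  classical
  rw [← Finset.sum_image (f := fun η => ‖⟪β, η⟫[Γ]‖ ^ 2) (g := v) fun s hs t ht e => by_contra fun hne =>
    one_ne_zero ((h1 t ht).symm.trans (by simpa only [e] using h0 s hs t ht hne))]
  refine Orthonormal'.bessel ⟨?_, ?_⟩ β <;> simp only [Finset.forall_mem_image]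
  exacts [h1, fun s hs t ht hne => h0 s hs t ht fun e => hne (e ▸ rfl)]

theorem frob_dade (hTI : NormedTI (sharp H) Γ L) (hF : IsFrobKer L H) : DadeHyp Γ L (sharp H) :=
  (normedTI_Dade hTI (sharp_mono (hF.choose_spec.ker_le.trans hTI.le))).1

theorem frob_irr (hF : IsFrobKer L H) (hφ : φ ∈ seqIndD H L H ⊥) : IsIrr L φ := by
  obtain ⟨θ, h1, h2, rfl⟩ := seqIndC1P.1 hφ
  exact (irr_induced_Frobenius_ker hF h1 h2).1

theorem frob_coh (hodd : Odd ♯Γ) (hTI : NormedTI (sharp H) Γ L) (hF : IsFrobKer L H) :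
    ∃ ν ζ, CoherentWith L Γ (seqIndD H L H ⊥) (sharp L) (Dade Γ L (sharp H)) ν ∧
      ζ ∈ seqIndD H L H ⊥ ∧ ζ 1 = H.relIndex L := by
  have hH := DadeHyp.normal_of_sharp (frob_dade hTI hF)
  obtain ⟨R, hR⟩ := hF
  have hN := Frobenius_sol_kernel_nil hR
  obtain ⟨ν, hν⟩ := (Sibley_coherence (Odd.of_dvd_nat hodd (card_dvd hTI.le)) hN hTI (.inl hR)).congr
    fun φ hφ => (Dade_Ind hTI (sharp_mono (hH.le.trans hTI.le))
      (zcharD1_seqInd_on hH (seqInd_subT _ _ _ _) hφ)).symm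
  obtain ⟨ζ, hζ⟩ := exists_linInd hH.le (sol_of_nil hN) (NormalIn.bot H) hR.ker_ne_bot.symm
  exact ⟨ν, ζ, hν, hζ⟩

theorem classSupp_disjoint {K : Subgroup G} (h : (♯H).Coprime ♯K) :
    Disjoint (classSupp (sharp H) Γ) (classSupp (sharp K) Γ) := by
  refine Set.disjoint_left.2 ?_
  rintro _ ⟨a, ha, g, -, rfl⟩ ⟨b, hb, k, -, e⟩
  have h1 : orderOf a = orderOf b := by
    rw [← orderOf_conj g a, e, orderOf_conj]
  exact ha.2 (orderOf_eq_one_iff.1 (Nat.eq_one_of_dvd_coprimes h (orderOf_dvd_card ha.1)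
    (h1 ▸ orderOf_dvd_card hb.1)))

theorem sum_deg_sq (hH : H ⊴ L) (hF : IsFrobKer L H) :
    ∑ φ ∈ seqIndD H L H ⊥, ‖φ 1 / H.relIndex L‖ ^ 2 = (♯H - 1 : ℝ) / H.relIndex L := by
  refine Complex.ofReal_injective ?_
  push_cast
  rw [← mul_div_mul_left _ _ (relIndexC_ne_zero H L), ← sum_seqIndC1_square hH, Finset.sum_div]
  refine Finset.sum_congr rfl fun φ hφ => ?_
  rw [← Complex.mul_conj', (cint_deg hH.le (seqInd_subT _ _ _ _ hφ)).conj_eq, cfdot_irr_self (frob_irr hF hφ)]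
  ring

end P7

open P7

theorem coherent_Frobenius_bound {ι : Type*} {I : Finset ι} {L H : ι → Subgroup G}
    (h : FrobPartitionHyp Γ I L H) :
    ∃ i ∈ I, ∃ e k : ℝ, e = (H i).relIndex (L i) ∧ k = ♯(H i) ∧
      (e - 1) * ((k - 2 * e - 1) / (e * k) + 2 / (k * (k + 2))) ≤
        ((((Γ : Set G) \ ⋃ i ∈ I, classSupp (sharp (H i)) Γ).ncard : ℝ) - 1) / ♯Γ := by
  classical
  have hD := fun i hi => frob_dade (h.ti i hi) (h.frob i hi)
  have hE := fun i hi => Dade_support_normedTI (hD i hi) (h.ti i hi)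
  have hd : ∀ i ∈ I, ∀ j ∈ I, i ≠ j →
      Disjoint (DadeSupp Γ (L i) (sharp (H i))) (DadeSupp Γ (L j) (sharp (H j))) := fun i hi j hj hij => by
    rw [hE i hi, hE j hj]
    exact classSupp_disjoint (h.coprime i hi j hj hij)
  choose! ν ζ hν hζ h1 using fun i hi => frob_coh h.odd (h.ti i hi) (h.frob i hi)
  have hirr := fun i hi φ => frob_irr (φ := φ) (h.frob i hi)
  have hoL := fun i hi => Odd.of_dvd_nat h.odd (card_dvd (hD i hi).le)
  have hN := fun i hi => DadeHyp.normal_of_sharp (hD i hi)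
  have h78 := fun i hi => Dade_Ind1_sub_lin (hD i hi) (hν i hi)
    (seqInd_nontrivial (hoL i hi) (hN i hi) le_rfl (hζ i hi)) (hirr i hi _ (hζ i hi)) (hζ i hi) (h1 i hi) rfl
  have ho := fun i hi j hj hij φ ψ hφ hψ => disjoint_coherent_ortho (χ1 := φ) (χ2 := ψ) h.odd (hD i hi)
    (hD j hj) (hd i hi j hj hij) (hν i hi) (hν j hj) (hirr i hi φ hφ) hφ (hirr j hj ψ hψ) hψ
  obtain ⟨i, hi, hmin⟩ := I.exists_min_image (fun i => ♯(H i)) (Finset.card_pos.1 (by have := h.two_le; omega))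
  refine ⟨i, hi, _, _, rfl, rfl, ?_⟩
  obtain ⟨⟨-, -, hβ, -⟩, ⟨Δ, -, -, -, ⟨a, -, eβ, -⟩, hΔ⟩, -⟩ := h78 i hi
  obtain ⟨n1, n2⟩ := hΔ (odd_Frobenius_index_ler (hoL i hi) (h.frob i hi))
  set B := (I.erase i).filter fun j =>
    ⟪Dade Γ (L j) (sharp (H j)) (cfInd (L j) (H j) (cf1 (H j)) - ζ j), ν i (ζ i)⟫[Γ] = 0 with hB
  have hB1 : ∀ j ∈ B, j ∈ I := fun j hj => Finset.mem_of_mem_erase (Finset.mem_filter.1 hj).1
  have hB2 : ∑ j ∈ B, (♯(H j) - 1 : ℝ) / (H j).relIndex (L j) ≤ cfnorm Γ Δ := by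
    refine le_trans ?_ (bessel (B.sigma fun j => seqIndD (H j) (L j) (H j) ⊥) (fun p => ν p.1 p.2) ?_ ?_ Δ)
    · rw [Finset.sum_sigma]
      refine Finset.sum_le_sum fun j hj => ?_
      have hjI := hB1 j hj
      have hij := (Finset.ne_of_mem_erase (Finset.mem_filter.1 hj).1).symm
      have hx := (Cint_cfdot_vchar hβ ((hν j hjI).vchar_mem (hζ j hjI))).one_le_norm
        ((Dade_sub_lin_nonorthogonal h.odd (hD i hi) (hD j hjI) (hd i hi j hjI hij) (hν i hi) (hν j hjI)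
          (hirr i hi _ (hζ i hi)) (hζ i hi) (h1 i hi) (hirr j hjI _ (hζ j hjI)) (hζ j hjI)
          (h1 j hjI)).resolve_right (not_not.2 (Finset.mem_filter.1 hj).2))
      rw [← sum_deg_sq (hN j hjI) (h.frob j hjI)]
      refine Finset.sum_le_sum fun φ hφ => ?_
      have e1 := disjoint_Dade_ortho (hd i hi j hjI hij) (cfInd (L i) (H i) (cf1 (H i)) - ζ i)
        (φ - (φ 1 / (H j).relIndex (L j)) • ζ j)
      rw [(tau_sub (hD j hjI) (hν j hjI) (hζ j hjI) (h1 j hjI) hφ).2, cfdotBr, cfdotZr,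
        (cint_deg (hN j hjI).le (seqInd_subT _ _ _ _ hφ)).conj_eq, sub_eq_zero] at e1
      nth_rewrite 1 [eβ] at e1
      rw [cfdotDl, cfdotDl, cfdotBl, cfdotZl, cfdot_suml, cfdot_symm0 ((h78 j hjI).1.1 φ hφ),
        ho i hi j hjI hij _ _ (hζ i hi) hφ, Finset.sum_eq_zero fun ξ hξ => by
          rw [cfdotZl, ho i hi j hjI hij _ _ hξ hφ, mul_zero], sub_zero, mul_zero, zero_add, zero_add] at e1
      rw [e1, norm_mul]
      gcongr
      exact le_mul_of_one_le_right (norm_nonneg _) hx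
    · rintro ⟨j, φ⟩ hj
      obtain ⟨hj, hφ⟩ := Finset.mem_sigma.1 hj
      exact ((hν j (hB1 j hj)).dirr hφ (hirr j (hB1 j hj) φ hφ)).cfdot_self
    · rintro ⟨j, φ⟩ hj ⟨k, ψ⟩ hk hne
      obtain ⟨hj, hφ⟩ := Finset.mem_sigma.1 hj
      obtain ⟨hk, hψ⟩ := Finset.mem_sigma.1 hk
      obtain rfl | hjk := eq_or_ne j k
      · exact ((hν j (hB1 j hj)).cfdot_mem hφ hψ).trans ((seqInd_orthogonal (hN j (hB1 j hj))
          (seqInd_subT _ _ _ _)).2 φ hφ ψ hψ fun e => hne (by rw [show φ = ψ from e]))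
      · exact ho j (hB1 j hj) k (hB1 k hk) hjk _ _ hφ hψ
  have hχ := (hν i hi).dirr (hζ i hi) (hirr i hi _ (hζ i hi))
  set G0 := (Γ : Set G) \ ⋃ i ∈ I, classSupp (sharp (H i)) Γ with hG0
  have hc := Dade_cover_inequality I L (fun i => sharp (H i)) hD hd (G0 := G0)
    (by rw [hG0, Set.iUnion₂_congr hE]) hχ.mem_CF hχ.cfnorm
  have hA : ∀ j ∈ I, ((sharp (H j)).ncard / ♯(L j) : ℝ) = (♯(H j) - 1) / (H j).relIndex (L j) / ♯(H j) :=
    fun j hj => by
      rw [ncard_sharp, Nat.cast_sub (card_pos' _), Nat.cast_one, ← card_mul_relIndex (hN j hj).le, Nat.cast_mul,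
        div_div, mul_comm]
  have c1 : 1 ≤ ∑ g ∈ elts G0, ‖ν i (ζ i) g‖ ^ 2 := by
    refine le_trans (one_le_pow₀ ((Cint_vchar1 hχ.vchar).one_le_norm hχ.one_ne_zero))
      (Finset.single_le_sum (f := fun g => ‖ν i (ζ i) g‖ ^ 2) (fun _ _ => by positivity) (mem_elts.2 ⟨Γ.one_mem, ?_⟩))
    simp only [Set.mem_iUnion, one_mem_classSupp, not_exists]
    exact fun j _ => one_not_mem_sharp _
  have hk := cardR_pos (H i)
  have c2 : -((∑ j ∈ B, (♯(H j) - 1 : ℝ) / (H j).relIndex (L j)) / (♯(H i) + 2)) ≤ ∑ j ∈ I.erase i,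
      (cfnorm (L j) (invDade Γ (L j) (sharp (H j)) (ν i (ζ i))) - (sharp (H j)).ncard / ♯(L j)) := by
    rw [Finset.sum_div, ← Finset.sum_neg_distrib, hB, Finset.sum_filter]
    refine Finset.sum_le_sum fun j hj => ?_
    obtain ⟨hij, hj⟩ := Finset.mem_erase.1 hj
    split_ifs with h0
    · rw [hA j hj, le_sub_iff_add_le, neg_add_eq_sub]
      refine le_trans (sub_nonpos.2 ?_) (cfnorm_ge0 _)
      have h3 := one_lt_card (h.frob i hi).choose_spec.ker_ne_bot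
      have h4 : ♯(H i) + 2 ≤ ♯(H j) := by
        obtain ⟨a, ha⟩ := Odd.of_dvd_nat (hoL i hi) (card_dvd (hN i hi).le)
        obtain ⟨b, hb⟩ := Odd.of_dvd_nat (hoL j hj) (card_dvd (hN j hj).le)
        have h5 := hmin j hj
        have h6 : ♯(H j) ≠ ♯(H i) := fun e => h3.ne' ((Nat.coprime_self _).1 (e ▸ h.coprime j hj i hi hij :))
        omega
      gcongr
      · exact div_nonneg (sub_nonneg.2 (by exact_mod_cast card_pos' _)) (Nat.cast_nonneg _)
      · exact_mod_cast h4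
    · rw [((h78 j hj).2.2 _ hχ.vchar fun ξ hξ => ho i hi j hj hij.symm _ _ (hζ i hi) hξ).2, ncard_sharp,
        Nat.cast_sub (card_pos' _), Nat.cast_one, sub_nonneg]
      exact le_mul_of_one_le_right (div_nonneg (sub_nonneg.2 (by exact_mod_cast card_pos' _)) (Nat.cast_nonneg _))
        (one_le_pow₀ ((Cint_cfdot_vchar (h78 j hj).1.2.2.1 hχ.vchar).one_le_norm h0))
  rw [← Finset.add_sum_erase _ _ hi, hA i hi] at hc
  have he : (0 : ℝ) < (H i).relIndex (L i) := by exact_mod_cast relIndex_pos _ _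
  have c3 := div_le_div_of_nonneg_right (hB2.trans n2) (show (0 : ℝ) ≤ ♯(H i) + 2 by positivity)
  have c4 := mul_le_mul_of_nonneg_left (sub_le_sub_right c1 (G0.ncard : ℝ)) (inv_pos.2 (cardR_pos Γ)).le
  have c5 : ((H i).relIndex (L i) - 1 : ℝ) * ((♯(H i) - 2 * (H i).relIndex (L i) - 1) /
      ((H i).relIndex (L i) * ♯(H i)) + 2 / (♯(H i) * (♯(H i) + 2))) = 1 - (H i).relIndex (L i) / ♯(H i) -
      (♯(H i) - 1) / (H i).relIndex (L i) / ♯(H i) - ((H i).relIndex (L i) - 1) / (♯(H i) + 2) := by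
    field_simp
    ring
  rw [c5, div_eq_inv_mul (_ - 1 : ℝ) ♯Γ]
  linarith

theorem no_coherent_Frobenius_partition {ι : Type*} {I : Finset ι} {L H : ι → Subgroup G}
    (h : FrobPartitionHyp Γ I L H) : (Γ : Set G) \ ⋃ i ∈ I, classSupp (sharp (H i)) Γ ≠ {1} := fun e => by
  obtain ⟨i, hi, _, _, rfl, rfl, h1⟩ := coherent_Frobenius_bound h
  have h2 : (2 : ℝ) * (H i).relIndex (L i) + 1 ≤ ♯(H i) := by
    exact_mod_cast odd_Frobenius_index_ler (Odd.of_dvd_nat h.odd (card_dvd (h.ti i hi).le)) (h.frob i hi)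
  have h3 : (1 : ℝ) < (H i).relIndex (L i) := by
    obtain ⟨R, hR⟩ := h.frob i hi
    rw [hR.sdprod.relIndex_left]
    exact_mod_cast one_lt_card hR.compl_ne_bot
  rw [e, Set.ncard_singleton, Nat.cast_one, sub_self, zero_div] at h1
  refine h1.not_gt (mul_pos (sub_pos.2 h3) (add_pos_of_nonneg_of_pos (div_nonneg (by linarith) ?_) ?_))
  · positivity
  · have := cardR_pos (H i)
    positivity

end Cfsg.Agent.OO.Pf
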