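import Cfsg.Agent.Lib.OO.PF8Defs
import Cfsg.Agent.Lib.OO.PF7
import Cfsg.Agent.Lib.OO.Quo
import Cfsg.Agent.Lib.OO.BG6
import Cfsg.Agent.Lib.OO.BG10
import Cfsg.Agent.Lib.OO.BG13
import Cfsg.Agent.Lib.OO.BG14
import Cfsg.Agent.Lib.OO.BG15
import Cfsg.Agent.Lib.OO.BG16

/-! # Peterfalvi section 8, part A: types `𝓕` and `𝓟` -/

set_option autoImplicit false
set_option linter.unusedSectionVars false

namespace Cfsg.Agent.OO.Pf

open Subgroup Cfsg.Agent.Coprime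
open scoped Pointwise

universe u

variable {G : Type u} [Group G] [Finite G]

namespace P8
variable {M U U0 U1 V W W1 W2 H S T : Subgroup G} {g x : G}

theorem typeFInertia_conj (h : TypeFInertia M U U1) (g : G) :
    TypeFInertia (g •ᶜ M) (g •ᶜ U) (g •ᶜ U1) := by
  refine ⟨h.1.conj g, fun x hx h1 => ?_⟩
  rw [Fcore_conj, mem_conj_iff_exists] at hx
  obtain ⟨y, hy, rfl⟩ := hx
  rw [cent1_conj, ← conj_inf]
  exact conj_mono g (h.2 y hy (conj_ne_one.1 h1))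

theorem typeFCompl_conj (h : TypeFCompl M U U0) (g : G) :
    TypeFCompl (g •ᶜ M) (g •ᶜ U) (g •ᶜ U0) := by
  refine ⟨conj_mono g h.1, by rw [expo_conj, expo_conj, h.2.1], ?_⟩
  rw [Fcore_conj, ← conj_sup]
  exact h.2.2.conj g

theorem ofTypeF_conj (h : OfTypeF M U) (g : G) : OfTypeF (g •ᶜ M) (g •ᶜ U) := by
  obtain ⟨h1, h2, h3, ⟨U1, h4, h5⟩, U0, h6⟩ := h
  exact ⟨by rwa [Fcore_conj, Ne, conj_eq_bot_iff], by rwa [Ne, conj_eq_bot_iff],
    by rw [Fcore_conj]; exact h3.conj g, ⟨_, ab_conj.2 h4, typeFInertia_conj h5 g⟩,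
    _, typeFCompl_conj h6 g⟩

theorem image_cycTIset (g : G) (W1 W2 : Subgroup G) :
    (fun x => g * x * g⁻¹) '' cycTIset W1 W2 = cycTIset (g •ᶜ W1) (g •ᶜ W2) := by
  ext x
  rw [mem_cycTIset_iff, ← conj_sup, mem_conj, mem_conj, mem_conj, ← mem_cycTIset_iff]
  exact ⟨by rintro ⟨y, hy, rfl⟩; simpa [mul_assoc] using hy, fun h => ⟨_, h, by group⟩⟩

theorem normedTI_cycTIset_conj (h : NormedTI (cycTIset W1 W2) ⊤ W) (g : G) :
    NormedTI (cycTIset (g •ᶜ W1) (g •ᶜ W2)) ⊤ (g •ᶜ W) := by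
  have := h.conj g
  rwa [image_cycTIset, conj_top] at this

theorem normedTI_sharp_conj (h : NormedTI (sharp H) ⊤ M) (g : G) :
    NormedTI (sharp (g •ᶜ H)) ⊤ (g •ᶜ M) := by
  have := h.conj_sharp g
  rwa [conj_top] at this

/-- a fixed-point-free element fixes no non-principal irreducible character -/
theorem eq_cf1_of_cfConjg_eq {u : G} (hu : u ∈ 𝐍(H)) (hC : H ⊓ 𝐂[u] = ⊥) {χ : G → ℂ} (hχ : IsIrr H χ)
    (he : cfConjg u χ = χ) : χ = cf1 H := by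
  classical
  by_contra hne
  -- Lang's map is onto
  have hL : ∀ h ∈ H, ∃ k ∈ H, k⁻¹ * (u⁻¹ * k * u) = h := by
    let f : H → H := fun k => ⟨k⁻¹ * (u⁻¹ * k * u), mul_mem (inv_mem k.2) (conj_mem_of_norm' hu k.2)⟩
    have hf : Function.Injective f := by
      intro a b hab
      have e : (a : G)⁻¹ * (u⁻¹ * a * u) = (b : G)⁻¹ * (u⁻¹ * b * u) := congrArg Subtype.val hab
      have : (b : G) * (a : G)⁻¹ ∈ H ⊓ 𝐂[u] := by
        refine mem_inf.2 ⟨mul_mem b.2 (inv_mem a.2), ?_⟩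
        rw [← cent1_inv, mem_cent1]
        calc (b : G) * (a : G)⁻¹ * u⁻¹ = b * ((a : G)⁻¹ * (u⁻¹ * a * u)) * u⁻¹ * (a : G)⁻¹ := by group
          _ = _ := by rw [e]; group
      rw [hC, mem_bot, mul_inv_eq_one] at this
      exact Subtype.ext this.symm
    intro h hh
    obtain ⟨k, hk⟩ := Finite.surjective_of_injective hf ⟨h, hh⟩
    exact ⟨k, k.2, congrArg Subtype.val hk⟩
  have h1 : ∑ ψ ∈ Irr H, ⟪cfConjg u ψ, ψ⟫[H] = 1 := by
    simp only [cfdot, cfConjgE]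
    rw [← Finset.mul_sum, Finset.sum_comm, Finset.sum_eq_single 1]
    · rw [second_orthogonality_relation (by simp) H.one_mem,
        if_pos ⟨1, H.one_mem, by simp⟩, cent1_one, inf_top_eq, inv_mul_cancel₀ (cardC_ne_zero H)]
    · intro x hx hx1
      rw [mem_elts] at hx
      rw [second_orthogonality_relation (conj_mem_of_norm' hu hx) hx, if_neg]
      rintro ⟨h, hh, e⟩
      obtain ⟨k, hk, rfl⟩ := hL h hh
      have : k * x * k⁻¹ ∈ H ⊓ 𝐂[u] := by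
        refine mem_inf.2 ⟨mul_mem (mul_mem hk hx) (inv_mem hk), ?_⟩
        rw [mem_cent1]
        nth_rw 2 [← e]
        group
      rw [hC, mem_bot] at this
      exact conj_ne_one.2 hx1 this
    · intro h; exact absurd (mem_elts.2 H.one_mem) h
  have h2 : ∑ ψ ∈ Irr H, ⟪cfConjg u ψ, ψ⟫[H] =
      (((Irr H).filter fun ψ => cfConjg u ψ = ψ).card : ℂ) := by
    rw [Finset.card_filter, Nat.cast_sum]
    refine Finset.sum_congr rfl fun ψ hψ => ?_
    rw [cfdot_irr ((mem_Irr.1 hψ).cfConjg hu) (mem_Irr.1 hψ)]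
    split_ifs <;> simp
  rw [h2, Nat.cast_eq_one, Finset.card_eq_one] at h1
  obtain ⟨a, ha⟩ := h1
  have e1 : χ ∈ (Irr H).filter fun ψ => cfConjg u ψ = ψ := Finset.mem_filter.2 ⟨mem_Irr.2 hχ, he⟩
  have e2 : cf1 H ∈ (Irr H).filter fun ψ => cfConjg u ψ = ψ :=
    Finset.mem_filter.2 ⟨cf1_mem_Irr H, cfConjg_cf1 hu⟩
  rw [ha, Finset.mem_singleton] at e1 e2
  exact hne (e1.trans e2.symm)

end P8
open P8

theorem compl_of_typeF {M U V : Subgroup G} (hV : IsSdprod (Fcore M) V M) (h : OfTypeF M U) :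
    OfTypeF M V := by
  obtain ⟨g, hg, rfl⟩ := h.sdprod.exists_conj hV (h.sdprod.coprime_of_left (Fcore_isHallIn M))
    (Or.inl (sol_of_nil (Fcore_nil M)))
  have := ofTypeF_conj h g
  rwa [conj_eq_of_mem (Fcore_le M hg)] at this

theorem Frobenius_of_typeF {M U : Subgroup G} (h : IsFrob M (Fcore M) U) : OfTypeF M U :=
  ⟨h.ker_ne_bot, h.compl_ne_bot, h.sdprod,
    ⟨⊥, ab_bot, NormalIn.bot U, fun x hx h1 => (h.semiregular_sym x hx h1).le⟩,
    U, le_rfl, rfl, by rwa [h.sup_eq]⟩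

theorem typeF_context {M U : Subgroup G} (hodd : Odd ♯M) (h : OfTypeF M U) :
    (∀ U0, TypeFCompl M U U0 → ♯U0 = expo U) ∧ (IsFrob M (Fcore M) U ↔ IsZGroup U) ∧
    ∀ U1 χ, TypeFInertia M U U1 → IsIrr (Fcore M) χ → χ ≠ cf1 (Fcore M) → inertia U χ ≤ U1 := by
  have hU := h.sdprod.right_le
  have ha : ∀ U0, TypeFCompl M U U0 → ♯U0 = expo U := fun U0 h0 => by
    have := odd_regular_Zgroup (hodd.of_dvd_nat (card_dvd (h0.1.trans hU))) h.ne_bot h0.2.2.le_norm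
      h0.2.2.semiregular
    rw [← h0.2.1, expo, IsZGroup.exponent_eq_card]
  refine ⟨ha, ⟨fun hF => odd_regular_Zgroup (hodd.of_dvd_nat (card_dvd hU)) h.ne_bot hF.le_norm
    hF.semiregular, fun hZ => ?_⟩, fun U1 χ h1 hχ hne u hu => ?_⟩
  · obtain ⟨U0, h0⟩ := h.compl
    have e : U0 = U := eq_of_le_of_card_le h0.1 (by rw [ha U0 h0, expo, IsZGroup.exponent_eq_card])
    have := h0.2.2
    rwa [e, h.sdprod.sup_eq] at this
  · by_contra hn
    refine hne (eq_cf1_of_cfConjg_eq (h.sdprod.le_norm hu.1) ?_ hχ hu.2)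
    rw [eq_bot_iff]
    intro x hx
    by_contra h0
    exact hn (h1.2 x hx.1 h0 ⟨hu.1, mem_cent1_comm.1 hx.2⟩)

section TypeP
variable {M U W W1 W2 : Subgroup G}

theorem of_typeP_sol (h : OfTypeP M U W W1 W2) : Sol M :=
  h.defM.sol (h.defM'.sol (sol_of_nil (Fcore_nil M)) (sol_of_nil h.nilU)) (sol_of_ab (ab_of_isCyclic h.cycW1))

theorem typeP_cent_compl (h : OfTypeP M U W W1 W2) : der M ⊓ 𝐂(W1) = W2 := by
  obtain ⟨x, hx⟩ := exists_zpowers_eq h.cycW1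
  rw [← h.prime_act x (hx ▸ mem_zpowers x) (fun e => h.W1_ne_bot (by rw [← hx, e, zpowers_one_eq_bot])),
    ← hx, cent_zpowers]

theorem typeP_cent_core_compl (h : OfTypeP M U W W1 W2) : Fcore M ⊓ 𝐂(W1) = W2 :=
  le_antisymm ((inf_le_inf_right _ h.defM'.left_le).trans (typeP_cent_compl h).le)
    (le_inf h.W2_le (le_cent_symm (le_cent_symm h.defW.le_cent)))

theorem P8.coprime_der (h : OfTypeP M U W W1 W2) : (♯(der M)).Coprime ♯W1 :=
  h.defM.coprime_of_right h.hallW1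

theorem P8.coprime_W (h : OfTypeP M U W W1 W2) : (♯W1).Coprime ♯W2 :=
  (coprime_card_mono (coprime_der h) (h.W2_le.trans h.defM'.left_le) le_rfl).symm

theorem typePF_exclusion (h : OfTypeP M U W W1 W2) (K : Subgroup G) : ¬ OfTypeF M K := by
  rintro ⟨-, -, hK, -, K0, h0, he, hF⟩
  obtain ⟨p, hp, hd⟩ := exists_prime_dvd h.W1_ne_bot
  have h1 : p ∣ ♯K := by
    have : p ∣ ♯(Fcore M) * ♯K := hK.card ▸ hd.trans (card_dvd h.defM.right_le)
    refine (hp.dvd_mul.1 this).resolve_left fun h2 => ?_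
    exact hp.one_lt.ne' (Nat.eq_one_of_dvd_coprimes (coprime_der h) (h2.trans (card_dvd h.defM'.left_le)) hd)
  have h2 : p ∣ ♯K0 := by
    obtain ⟨x, hx, ho⟩ := cauchy hp h1
    have : p ∣ expo K := by
      have := Monoid.order_dvd_exponent (⟨x, hx⟩ : K)
      rwa [Subgroup.orderOf_mk, ho] at this
    exact (he ▸ this).trans Group.exponent_dvd_nat_card
  obtain ⟨x, hx, ho⟩ := cauchy hp h2
  have hx1 : x ≠ 1 := fun e => hp.one_lt.ne (by rw [← ho, e, orderOf_one])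
  have hxM : x ∈ M := hK.right_le (h0 hx)
  obtain ⟨g, hg, hle⟩ := h.hallW1.hall.exists_le_conj (of_typeP_sol h) (zpowers_le.2 hxM)
    (piGrp_zpowers.2 (by rw [PiElt, ho]; exact (isPiNum_prime hp).2 ⟨hp, hd⟩))
  refine h.W2_ne_bot (conj_eq_bot_iff.1 (eq_bot_iff.2 ((le_inf ?_ ?_).trans (hF.semiregular x hx hx1).le) : g •ᶜ W2 = ⊥))
  · exact conj_le_of_mem_norm ((Fcore_normal M).norm hg) h.W2_le
  · rw [← cent_zpowers]
    exact (conj_le_cent_conj.2 h.defW.le_cent).trans (cent_anti hle)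

theorem of_typeP_compl_conj (h : OfTypeP M U W W1 W2) {W1x : Subgroup G} (hx : IsSdprod (der M) W1x M) :
    ∃ x ∈ M, W1x = x •ᶜ W1 := by
  obtain ⟨g, hg, e⟩ := h.defM.exists_conj hx (coprime_der h) (Or.inr (Or.inl (sol_of_ab (ab_of_isCyclic h.cycW1))))
  exact ⟨g, der_le M hg, e⟩

theorem conj_of_typeP (h : OfTypeP M U W W1 W2) (x : G) :
    OfTypeP (x •ᶜ M) (x •ᶜ U) (x •ᶜ W) (x •ᶜ W1) (x •ᶜ W2) where
  defW := h.defW.conj x
  cycW1 := isCyclic_conj.2 h.cycW1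
  hallW1 := h.hallW1.conj x
  W1_ne_bot := by rw [Ne, conj_eq_bot_iff]; exact h.W1_ne_bot
  defM := by rw [der_conj]; exact h.defM.conj x
  nilU := nil_conj.2 h.nilU
  U_le := by rw [der_conj]; exact conj_mono x h.U_le
  W1_le_norm := conj_le_norm_conj.2 h.W1_le_norm
  defM' := by rw [der_conj, Fcore_conj]; exact h.defM'.conj x
  not_cyc := by rw [Fcore_conj, isCyclic_conj]; exact h.not_cyc
  der2_le := by
    rw [Fit_conj, der2, ← conj_commutator, ← conj_commutator]; exact conj_mono x h.der2_le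
  defF := by rw [Fcore_conj, cent_conj, ← conj_inf, ← conj_sup, h.defF, Fit_conj]
  fit_le := by rw [Fit_conj, der_conj]; exact conj_mono x h.fit_le
  cycW2 := isCyclic_conj.2 h.cycW2
  W2_ne_bot := by rw [Ne, conj_eq_bot_iff]; exact h.W2_ne_bot
  W2_le := by rw [Fcore_conj]; exact conj_mono x h.W2_le
  W2_le_der2 := by rw [der2, ← conj_commutator, ← conj_commutator]; exact conj_mono x h.W2_le_der2
  prime_act := fun y hy h1 => by
    obtain ⟨z, hz, rfl⟩ := mem_conj_iff_exists.1 hy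
    rw [der_conj, cent1_conj, ← conj_inf, h.prime_act z hz (conj_ne_one.1 h1)]
  tiV := normedTI_cycTIset_conj h.tiV x

theorem P8.hall_U (h : OfTypeP M U W W1 W2) : Hall (piOf (Fcore M))ᶜ U (der M) :=
  h.defM'.hall_left_iff.1 ((Fcore_hall M).mono h.defM'.left_le (der_le M))

theorem of_typeP_conj (h : OfTypeP M U W W1 W2) {Ux Wx W1x W2x : Subgroup G}
    (hx : OfTypeP M Ux Wx W1x W2x) :
    ∃ x ∈ M, x •ᶜ U = Ux ∧ x •ᶜ W1 = W1x ∧ x •ᶜ W2 = W2x ∧ x •ᶜ W = Wx := by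
  obtain ⟨y, hy, e⟩ := of_typeP_compl_conj h hx.defM
  have hy' := conj_of_typeP h y
  rw [conj_eq_of_mem hy, ← e] at hy'
  obtain ⟨c, hc, e2⟩ := coprime_Hall_trans hx.defM.le_norm (coprime_der hx)
    (sol_of_le (of_typeP_sol h) (der_le M)) (hall_U hx) hx.W1_le_norm (hall_U hy') hy'.W1_le_norm
  have hm : c * y ∈ M := mul_mem (der_le M hc.1) hy
  have e1 : (c * y) •ᶜ W1 = W1x := by rw [← conj_conj, ← e, conj_eq_of_mem_cent hc.2]
  have e3 : (c * y) •ᶜ W2 = W2x := by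
    rw [← typeP_cent_compl h, ← typeP_cent_compl hx, conj_inf, ← cent_conj, e1, ← der_conj,
      conj_eq_of_mem hm]
  exact ⟨c * y, hm, by rw [← conj_conj, e2], e1, e3,
    by rw [← h.defW.sup_eq, conj_sup, e1, e3, hx.defW.sup_eq]⟩

variable [MinOdd G]

theorem typeP_context (h : OfTypeP M U W W1 W2) :
    IsDprod (Fcore M) (U ⊓ 𝐂(Fcore M)) (Fit M) ∧ (der U ≤ 𝐂(Fcore M) ∧ (U ≠ ⊥ → ¬ U ≤ 𝐂(Fcore M))) ∧
    NormedTI (cycTIset W1 W2) ⊤ W ∧ CycTIHyp ⊤ W W1 W2 := by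
  have hc : (♯(Fcore M)).Coprime ♯U :=
    h.defM'.coprime_of_left ((Fcore_isHallIn M).mono h.defM'.left_le (der_le M))
  have h1 : U ⊓ Fit M ≤ 𝐂(Fcore M) := le_cent_of_nil_of_coprime (Fit_nil M) inf_le_right (Fcore_le_Fit M)
    (coprime_card_mono hc.symm inf_le_left le_rfl)
  have h2 : U ⊓ Fit M = U ⊓ 𝐂(Fcore M) := le_antisymm (le_inf inf_le_left h1) (le_inf inf_le_left
    ((inf_le_inf_right _ (h.U_le.trans (der_le M))).trans (le_sup_right.trans h.defF.le)))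
  refine ⟨h2 ▸ (h.defM'.of_left_le (Fcore_le_Fit M) h.fit_le).toDprod h1,
    ⟨(le_inf (der_le U) ((der_mono h.U_le).trans h.der2_le)).trans h1, fun hU hC => hU ?_⟩, h.tiV,
    h.defW, h.defW.isCyclic h.cycW1 h.cycW2 (coprime_W h), mFT_odd W, h.tiV⟩
  have := le_Fcore (h.defM.isHallIn_left (coprime_der h)) (der_normal M).norm
    ((h.defM'.toDprod hC).nil (Fcore_nil M) h.nilU)
  exact h.defM'.left_eq_iff.1 (le_antisymm h.defM'.left_le this)

theorem FTtypeP_neq1 (hM : IsCoatom M) (h : OfTypeP M U W W1 W2) : FTtype M ≠ 1 :=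
  ((FTtype_Pmax hM).1 (typePfacts hM h).1).ne'

theorem P8.typeII_IV_of (h : OfTypeP M U W W1 W2) {Ux Wx W1x W2x : Subgroup G}
    (hx : OfTypeII_IV M Ux Wx W1x W2x) : OfTypeII_IV M U W W1 W2 := by
  obtain ⟨x, -, e1, e2, -⟩ := of_typeP_conj hx.typeP h
  exact ⟨h, by rw [← e1, Ne, conj_eq_bot_iff]; exact hx.U_ne_bot, by rw [← e2, card_conj]; exact hx.prime,
    hx.tiF⟩

theorem compl_of_typeII (hM : IsCoatom M) (h : OfTypeP M U W W1 W2) (ht : FTtype M = 2) :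
    OfTypeII M U W W1 W2 := by
  obtain ⟨Ux, Wx, W1x, W2x, hx⟩ := (FTtypeP hM 2).1 ht
  obtain ⟨x, hxM, e1, -⟩ := of_typeP_conj hx.base.typeP h
  refine ⟨typeII_IV_of h hx.base, e1 ▸ ab_conj.2 hx.abU, fun hn => hx.not_norm_le ?_, ?_, hx.defF⟩
  · rwa [← e1, norm_conj, ← conj_eq_of_mem hxM, conj_le_conj_iff] at hn
  · have := ofTypeF_conj hx.typeF x
    rwa [← der_conj, conj_eq_of_mem hxM, e1] at this

theorem compl_of_typeIII (hM : IsCoatom M) (h : OfTypeP M U W W1 W2) (ht : FTtype M = 3) :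
    OfTypeIII M U W W1 W2 := by
  obtain ⟨Ux, Wx, W1x, W2x, hx⟩ := (FTtypeP hM 3).1 ht
  obtain ⟨x, hxM, e1, -⟩ := of_typeP_conj hx.1.typeP h
  exact ⟨typeII_IV_of h hx.1, e1 ▸ ab_conj.2 hx.2.1, by
    rw [← e1, norm_conj]; exact conj_le_of_mem hxM hx.2.2⟩

theorem compl_of_typeIV (hM : IsCoatom M) (h : OfTypeP M U W W1 W2) (ht : FTtype M = 4) :
    OfTypeIV M U W W1 W2 := by
  obtain ⟨Ux, Wx, W1x, W2x, hx⟩ := (FTtypeP hM 4).1 ht
  obtain ⟨x, hxM, e1, -⟩ := of_typeP_conj hx.1.typeP h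
  exact ⟨typeII_IV_of h hx.1, by rw [← e1, ab_conj]; exact hx.2.1, by
    rw [← e1, norm_conj]; exact conj_le_of_mem hxM hx.2.2⟩

theorem compl_of_typeV (hM : IsCoatom M) (h : OfTypeP M U W W1 W2) (ht : FTtype M = 5) :
    OfTypeV M U W W1 W2 := by
  obtain ⟨Ux, Wx, W1x, W2x, hx⟩ := (FTtypeP hM 5).1 ht
  obtain ⟨x, hxM, e1, e2, -⟩ := of_typeP_conj hx.1 h
  refine ⟨h, by rw [← e1, hx.2.1, conj_bot], ?_⟩
  rw [← e2, card_conj]
  exact hx.2.2

theorem compl_of_typeII_IV (hM : IsCoatom M) (h : OfTypeP M U W W1 W2) (ht : FTtype M ≠ 5) :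
    OfTypeII_IV M U W W1 W2 := by
  have h1 := FTtypeP_neq1 hM h
  have h2 := FTtype_range M
  obtain h3 | h3 | h3 : FTtype M = 2 ∨ FTtype M = 3 ∨ FTtype M = 4 := by omega
  exacts [(compl_of_typeII hM h h3).base, (compl_of_typeIII hM h h3).1, (compl_of_typeIV hM h h3).1]

end TypeP

theorem typeP_pair_sym {S T W W1 W2 : Subgroup G} (h : TypePPair S T W W1 W2) :
    TypePPair T S W W2 W1 :=
  ⟨h.defW.symm, h.maxT, h.maxS, h.cycW, h.W2_ne_bot, h.W1_ne_bot, cycTIset_symm W1 W2 ▸ h.tiV, h.defT,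
    h.defS, inf_comm S T ▸ h.inf_eq, h.type2.symm, h.typeT, h.typeS,
    fun M hM h1 => (h.conj M hM h1).imp fun _ => Or.symm⟩

theorem P8.typePPair_conj {S T W W1 W2 : Subgroup G} (h : TypePPair S T W W1 W2) (g : G) :
    TypePPair (g •ᶜ S) (g •ᶜ T) (g •ᶜ W) (g •ᶜ W1) (g •ᶜ W2) where
  defW := h.defW.conj g
  maxS := isCoatom_conj h.maxS g
  maxT := isCoatom_conj h.maxT g
  cycW := isCyclic_conj.2 h.cycW
  W1_ne_bot := by rw [Ne, conj_eq_bot_iff]; exact h.W1_ne_bot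
  W2_ne_bot := by rw [Ne, conj_eq_bot_iff]; exact h.W2_ne_bot
  tiV := normedTI_cycTIset_conj h.tiV g
  defS := by rw [der_conj]; exact h.defS.conj g
  defT := by rw [der_conj]; exact h.defT.conj g
  inf_eq := by rw [← conj_inf, h.inf_eq]
  type2 := by rw [FTtype_conj, FTtype_conj]; exact h.type2
  typeS := by rw [FTtype_conj]; exact h.typeS
  typeT := by rw [FTtype_conj]; exact h.typeT
  conj := fun M hM h1 => by
    obtain ⟨x, hx⟩ := h.conj M hM h1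
    exact ⟨x * g⁻¹, by simpa only [← conj_conj, inv_conj_conj] using hx⟩

variable [MinOdd G]

theorem FTtypeP_witness {M : Subgroup G} (hM : IsCoatom M) (ht : FTtype M ≠ 1) :
    ∃ U W W1 W2, OfTypeP M U W W1 W2 := by
  have h2 := FTtype_range M
  obtain h3 | h3 | h3 | h3 : FTtype M = 2 ∨ FTtype M = 3 ∨ FTtype M = 4 ∨ FTtype M = 5 := by omega
  · obtain ⟨U, W, W1, W2, h⟩ := (FTtypeP hM 2).1 h3; exact ⟨U, W, W1, W2, h.base.typeP⟩
  · obtain ⟨U, W, W1, W2, h⟩ := (FTtypeP hM 3).1 h3; exact ⟨U, W, W1, W2, h.1.typeP⟩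
  · obtain ⟨U, W, W1, W2, h⟩ := (FTtypeP hM 4).1 h3; exact ⟨U, W, W1, W2, h.1.typeP⟩
  · obtain ⟨U, W, W1, W2, h⟩ := (FTtypeP hM 5).1 h3; exact ⟨U, W, W1, W2, h.1⟩

theorem FTtypeP_pair_cases : (∀ M : Subgroup G, IsCoatom M → FTtype M = 1) ∨
    ∃ S T W W1 W2 : Subgroup G, TypePPair S T W W1 W2 := BGsummaryI

theorem typeP_pairW {S T W W1 W2 : Subgroup G} (h : TypePPair S T W W1 W2) :
    ∃ U, OfTypeP S U W W1 W2 := by
  obtain ⟨U0, W0, X1, X2, h0⟩ := FTtypeP_witness h.maxS h.typeS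
  obtain ⟨y, hy, e⟩ := of_typeP_compl_conj h0 h.defS
  have h1 := conj_of_typeP h0 y
  rw [conj_eq_of_mem hy, ← e] at h1
  generalize y •ᶜ U0 = U at h1
  generalize y •ᶜ W0 = W' at h1
  generalize y •ᶜ X2 = W2' at h1
  have hW : W ≤ S := h.inf_eq ▸ inf_le_left
  have h2 : W2 ≤ der S := le_of_coprime_relIndex (h.defW.right_le.trans hW) (der_normal S).norm
    (by rw [h.defS.relIndex_left]; exact (h.defW.coprime_of_isCyclic h.cycW).symm)
  have h3 : W2 ≤ W2' := typeP_cent_compl h1 ▸ le_inf h2 h.defW.le_cent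
  have h4 : W2' ≤ W := by
    obtain ⟨a, ha, ha1⟩ := exists_mem_ne_one h.W1_ne_bot
    obtain ⟨b, hb, hb1⟩ := exists_mem_ne_one h.W2_ne_bot
    have hv : a * b ∈ cycTIset W1 W2 := (mem_cycTIset h.defW).2 ⟨a, ha, ha1, b, hb, hb1, rfl⟩
    refine (le_inf le_top ?_).trans (h.tiV.cent1_le hv)
    rw [le_cent1_iff]
    exact mul_mem (le_cent_symm h1.defW.le_cent ha) ((ab_of_isCyclic h1.cycW2).le_cent (h3 hb))
  have h5 : W2' = W2 := by
    refine le_antisymm ?_ h3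
    have := (h.defW.inf_of_right_le h2).sup_eq
    rw [inf_comm W1, h.defS.inf_eq, bot_sup_eq] at this
    exact this ▸ le_inf h4 (h1.W2_le.trans h1.defM'.left_le)
  subst h5
  obtain rfl : W' = W := h1.defW.sup_eq.symm.trans h.defW.sup_eq
  exact ⟨U, h1⟩

end Cfsg.Agent.OO.Pf
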