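import Cfsg.Agent.Lib.OO.Pf.PF8_A

/-! # Peterfalvi section 8, part B: the Dade isometry of a maximal subgroup -/

set_option autoImplicit false
set_option linter.unusedSectionVars false

namespace Cfsg.Agent.OO.Pf

open Subgroup Cfsg.Agent.Coprime P8
open scoped Pointwise

universe u

variable {G : Type u} [Group G] [Finite G]

theorem FT_Dade_supportS (M : Subgroup G) {A B : Set G} (h : A ⊆ B) :
    FTDadeSupp M A ⊆ FTDadeSupp M B := Set.biUnion_subset_biUnion_left h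

theorem P8.mem_FTDadeSupp {M : Subgroup G} {A : Set G} {y : G} : y ∈ FTDadeSupp M A ↔
    ∃ x ∈ A, ∃ r ∈ FTsignalizer M x, ∃ g : G, y = g * (r * x) * g⁻¹ := by
  simp only [FTDadeSupp, Set.mem_iUnion, mem_classSupp_iff, exists_prop]
  exact ⟨fun ⟨x, hx, z, hz, g, _, e⟩ => ⟨x, hx, _, hz, g, by rw [e, inv_mul_cancel_right]⟩,
    fun ⟨x, hx, r, hr, g, e⟩ => ⟨x, hx, r * x, by simpa using hr, g, trivial, e⟩⟩

theorem FT_Dade_support_norm (M : Subgroup G) (A : Set G) (g : G) {x : G} :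
    g * x * g⁻¹ ∈ FTDadeSupp M A ↔ x ∈ FTDadeSupp M A := by
  simp only [FTDadeSupp, Set.mem_iUnion, classSupp_conj_mem_iff (mem_top g)]

theorem P8.FTsignalizer_of_le {M : Subgroup G} {x : G} (h : 𝐂[x] ≤ M) : FTsignalizer M x = ⊥ := if_pos h

theorem P8.FTsignalizer_of_not_le {M : Subgroup G} {x : G} (h : ¬ 𝐂[x] ≤ M) :
    FTsignalizer M x = Fcore (Nx x) ⊓ 𝐂[x] := if_neg h

theorem P8.FTsignalizer_le (M : Subgroup G) (x : G) : FTsignalizer M x ≤ 𝐂[x] := by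
  by_cases h : 𝐂[x] ≤ M
  · rw [FTsignalizer_of_le h]; exact bot_le
  · rw [FTsignalizer_of_not_le h]; exact inf_le_right

theorem P8.mem_FTsupp {M : Subgroup G} {y : G} :
    y ∈ FTsupp M ↔ ∃ x ∈ FTcore M, x ≠ 1 ∧ y ∈ FTder M ∧ y ∈ 𝐂[x] ∧ y ≠ 1 := by
  simp only [FTsupp, FTsupp1, Set.mem_iUnion, mem_sharp_iff, mem_inf, exists_prop, and_assoc]

theorem P8.mem_FTsupp_of_zpowers {M : Subgroup G} {x y : G} (hx : x ∈ FTsupp M) (hy : y ∈ zpowers x)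
    (h1 : y ≠ 1) : y ∈ FTsupp M := by
  obtain ⟨z, hz, hz1, h2, h3, -⟩ := mem_FTsupp.1 hx
  exact mem_FTsupp.2 ⟨z, hz, hz1, zpowers_le.2 h2 hy, zpowers_le.2 h3 hy, h1⟩

theorem FT_primeTI_hyp {M U W W1 W2 : Subgroup G} [MinOdd G] (h : OfTypeP M U W W1 W2) :
    PrimeTIHyp M (der M) W W1 W2 :=
  ⟨h.defM, h.W1_ne_bot, h.hallW1, h.cycW1, h.W2_ne_bot, h.W2_le.trans h.defM'.left_le, h.cycW2,
    h.prime_act, h.defW, mFT_odd W⟩

variable [MinOdd G]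

section OneMaximal
variable {M : Subgroup G}

theorem FTcore_facts (hM : IsCoatom M) : IsHallIn (Fcore M) ⊤ ∧ IsHallIn (FTcore M) ⊤ ∧
    ∀ p : ℕ, p.Prime → ∀ S, Syl p S (FTcore M) → S ≠ ⊥ → 𝐍(S) ≤ M := by
  rw [def_FTcore hM]
  refine ⟨(((Fcore_hall M).mono (Fcore_sub_Msigma hM) (Ms_normal M).le).trans (Msigma_Hall_G hM)
    (piGrp_iff_piOf_subset.1 ((Ms_piGrp M).of_le (Fcore_sub_Msigma hM)))).isHallIn,
    (Msigma_Hall_G hM).isHallIn, fun p hp S hS h1 => ?_⟩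
  haveI := Fact.mk hp
  have hs : p ∈ sigmaS M := mem_of_isPGroup_of_piGrp hS.isPGroup h1 ((Ms_piGrp M).of_le hS.le)
  exact norm_sigma_Sylow hs (hS.trans_hall (Msigma_Hall hM) hs)

theorem P8.sdprod_FTder {U K : Subgroup G} (hM : IsCoatom M) (h : KappaCompl M U K) :
    IsSdprod (Ms M) U (FTder M) := by
  obtain ⟨⟨h1, h2, -⟩, h3, -⟩ := kappa_structure hM h
  by_cases hK : K = ⊥
  · rw [FTder_type1 ((FTtype_Fmax hM).1 ((trivg_kappa hM h.hallK).1 hK)), ← h2.left_eq_iff.2 hK]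
    rwa [h2.left_eq_iff.2 hK] at h1 ⊢
  · rw [FTder_typeP fun e => hK ((trivg_kappa hM h.hallK).2 ((FTtype_Fmax hM).2 e))]
    exact (h3 hK).1

theorem P8.FTcore_of_le_two (ht : FTtype M ≤ 2) : FTcore M = Fcore M := if_pos ht

theorem FTtypeI_II_facts {U : Subgroup G} (hM : IsCoatom M) (ht : FTtype M ≤ 2)
    (hU : IsSdprod (Fcore M) U (FTder M)) :
    (∀ p : ℕ, p.Prime → ∀ S, Syl p S U → Ab S ∧ rank S ≤ 2) ∧
    (∀ X : Set G, X.Nonempty → X ⊆ sharp U → Fcore M ⊓ centralizer X ≠ ⊥ →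
      UniqMax (centralizer X) M) ∧
    ((FTsupp M \ FTsupp1 M).Nonempty → NormedTI (FTsupp M \ FTsupp1 M) ⊤ M) := by
  have e : Fcore M = Ms M := by rw [← FTcore_of_le_two ht, def_FTcore hM]
  rw [e] at hU ⊢
  obtain ⟨K, hK⟩ : ∃ K, KappaCompl M U K := by
    obtain ⟨V, K, h⟩ := kappa_witness hM
    have h1 := sdprod_FTder hM h
    obtain ⟨g, hg, rfl⟩ := h1.exists_conj hU (h1.coprime_of_left
      ((Msigma_Hall hM).mono h1.left_le (FTder_normal M).le).isHallIn)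
      (Or.inl (sol_of_le (mmax_sol hM) (Ms_normal M).le))
    have hg' := (Ms_normal M).le hg
    exact ⟨g •ᶜ K, h.hallU.conj_of_mem hg', h.hallK.conj_of_mem hg', conj_sup g V K ▸ h.prod.conj g⟩
  obtain ⟨h1, -, -, h2, h3⟩ := BGsummaryB hM hK
  refine ⟨h1, fun X ⟨x, hx⟩ hX hC => ?_, h3⟩
  rw [← centralizer_closure] at hC ⊢
  exact h2 _ ((closure_le U).2 (hX.trans (sharp_subset U)))
    (fun e => (hX hx).2 (by simpa [e] using subset_closure (k := X) hx)) hC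

theorem FTsupport_facts (hM : IsCoatom M) :
    (∀ x ∈ FTsupp0 M, ∀ a : G, a * x * a⁻¹ ∈ FTsupp0 M → ∃ y ∈ M, a * x * a⁻¹ = y * x * y⁻¹) ∧
    (∀ x ∈ FTsupp0 M, ¬ 𝐂[x] ≤ M → x ∈ FTsupp1 M ∧ UniqMax 𝐂[x] (Nx x)) ∧
    ∀ x ∈ FTsupp0 M, ¬ 𝐂[x] ≤ M →
      (IsSdprod (Fcore (Nx x)) (M ⊓ Nx x) (Nx x) ∧
        IsSdprod (Fcore (Nx x) ⊓ 𝐂[x]) (M ⊓ 𝐂[x]) 𝐂[x]) ∧
      (∀ y ∈ FTsupp0 M, (♯(Fcore (Nx x))).Coprime ♯(M ⊓ 𝐂[y])) ∧
      x ∈ FTsupp (Nx x) \ FTsupp1 (Nx x) ∧ FTtype (Nx x) ≤ 2 ∧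
      (FTtype (Nx x) = 2 → IsFrobKer M (Fcore M)) := by
  obtain ⟨h1, h2, h3⟩ := BGsummaryII hM (X := FTsupp0 M) (Or.inr rfl)
  refine ⟨h2, fun x hx h => ⟨h1 x hx h, (h3 x hx h).1⟩, fun x hx h => ?_⟩
  obtain ⟨-, a, b, c, d, e⟩ := h3 x hx h
  exact ⟨a, b, c, d, fun h => (e h).imp fun _ h => h.1⟩

theorem norm_FTsuppX (hM : IsCoatom M) {A : Set G} (hA : ∀ x ∈ M, ∀ a ∈ A, x * a * x⁻¹ ∈ A)
    (h1 : FTsupp1 M ⊆ A) (h0 : A ⊆ FTsupp0 M) {g : G} (hg : ∀ a ∈ A, g * a * g⁻¹ ∈ A) : g ∈ M := by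
  have hn : closure A ⊴ M := ⟨(closure_le M).2 ((h0.trans (FTsupp0_sub M)).trans (sharp_subset M)),
    le_norm_closure hA⟩
  obtain ⟨x, hx⟩ := FTsupp1_neq0 hM
  rw [← mmax_normal hM hn fun e => hx.2 (by simpa [e] using subset_closure (k := A) (h1 hx))]
  refine mem_norm_of_conj_le ?_
  rw [conj_closure]
  exact closure_mono (by rintro _ ⟨a, ha, rfl⟩; exact hg a ha)

theorem P8.mem_FTsupp1 (hM : IsCoatom M) {x : G} : x ∈ FTsupp1 M ↔ x ∈ Ms M ∧ x ≠ 1 := by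
  rw [FTsupp1, def_FTcore hM, mem_sharp_iff]

theorem FTsignalizerJ (hM : IsCoatom M) (x : G) {y : G} (hy : y ∈ FTsupp0 M) :
    FTsignalizer (x •ᶜ M) (x * y * x⁻¹) = x •ᶜ FTsignalizer M y := by
  by_cases h : 𝐂[y] ≤ M
  · rw [FTsignalizer_of_le h, FTsignalizer_of_le (by rwa [cent1_conj, conj_le_conj_iff]), conj_bot]
  · have h1 := (mem_FTsupp1 hM).1 ((FTsupport_facts hM).2.1 y hy h).1
    rw [FTsignalizer_of_not_le h, FTsignalizer_of_not_le (by rwa [cent1_conj, conj_le_conj_iff]),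
      FT_signalizer_baseJ x (Msigma_ell1 hM h1.1 h1.2), Fcore_conj, cent1_conj, conj_inf]

theorem P8.FTsignalizer_sdprod (hM : IsCoatom M) {a : G} (ha : a ∈ FTsupp0 M) :
    IsSdprod (FTsignalizer M a) (M ⊓ 𝐂[a]) (⊤ ⊓ 𝐂[a]) := by
  rw [top_inf_eq]
  by_cases h : 𝐂[a] ≤ M
  · rw [FTsignalizer_of_le h, inf_eq_right.2 h]; exact IsSdprod.bot_left _
  · rw [FTsignalizer_of_not_le h]; exact ((FTsupport_facts hM).2.2 a ha h).1.2

theorem P8.FTsignalizer_coprime (hM : IsCoatom M) {a b : G} (ha : a ∈ FTsupp0 M) (hb : b ∈ FTsupp0 M) :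
    (♯(FTsignalizer M a)).Coprime ♯(M ⊓ 𝐂[b]) := by
  by_cases h : 𝐂[a] ≤ M
  · rw [FTsignalizer_of_le h]; simp
  · rw [FTsignalizer_of_not_le h]
    exact coprime_card_mono (((FTsupport_facts hM).2.2 a ha h).2.1 b hb) inf_le_left le_rfl

theorem FT_Dade0_hyp (hM : IsCoatom M) : DadeHyp ⊤ M (FTsupp0 M) :=
  ⟨(FTsupp0_sub M).trans (sharp_subset M), FTsupp0_norm M, le_top, fun h => (FTsupp0_sub M h).2 rfl,
    fun a ha g _ h => (FTsupport_facts hM).1 a ha g h,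
    FTsignalizer M, fun _ => FTsignalizer_sdprod hM, fun _ ha _ => FTsignalizer_coprime hM ha⟩

theorem P8.Fcore_sharp_norm (M : Subgroup G) :
    ∀ g ∈ M, ∀ x ∈ sharp (Fcore M), g * x * g⁻¹ ∈ sharp (Fcore M) :=
  fun _ hg _ => conj_mem_sharp ((Fcore_normal M).norm hg)

theorem FT_Dade_hyp (hM : IsCoatom M) : DadeHyp ⊤ M (FTsupp M) :=
  restr_Dade_hyp (FT_Dade0_hyp hM) (FTsupp_sub0 M) (FTsupp_norm M)
theorem FT_Dade1_hyp (hM : IsCoatom M) : DadeHyp ⊤ M (FTsupp1 M) :=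
  restr_Dade_hyp (FT_Dade0_hyp hM) (FTsupp1_sub0 hM) (FTsupp1_norm M)
theorem FT_DadeF_hyp (hM : IsCoatom M) : DadeHyp ⊤ M (sharp (Fcore M)) :=
  restr_Dade_hyp (FT_Dade0_hyp hM) (Fcore_sub_FTsupp0 hM) (Fcore_sharp_norm M)

theorem def_FTsignalizer0 (hM : IsCoatom M) {x : G} (hx : x ∈ FTsupp0 M) :
    DadeSig ⊤ M x = FTsignalizer M x :=
  def_Dade_signalizer (FTsignalizer_sdprod hM hx) (FTsignalizer_coprime hM hx hx)

theorem FT_Dade_supportE (hM : IsCoatom M) {A : Set G} (hA : A ⊆ FTsupp0 M) :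
    DadeSupp ⊤ M A = FTDadeSupp M A :=
  Set.iUnion₂_congr fun a ha => by rw [DadeSupp1, def_FTsignalizer0 hM (hA ha)]

theorem FT_DadeE (hM : IsCoatom M) {φ : G → ℂ} (h : φ ∈ CFon M (FTsupp M)) :
    FTDade M φ = FTDade0 M φ := restr_DadeE (FT_Dade0_hyp hM) (FTsupp_sub0 M) (FTsupp_norm M) h
theorem FT_Dade1E (hM : IsCoatom M) {φ : G → ℂ} (h : φ ∈ CFon M (FTsupp1 M)) :
    FTDade1 M φ = FTDade0 M φ := restr_DadeE (FT_Dade0_hyp hM) (FTsupp1_sub0 hM) (FTsupp1_norm M) h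
theorem FT_DadeF_E (hM : IsCoatom M) {φ : G → ℂ} (h : φ ∈ CFon M (sharp (Fcore M))) :
    FTDadeF M φ = FTDade0 M φ :=
  restr_DadeE (FT_Dade0_hyp hM) (Fcore_sub_FTsupp0 hM) (Fcore_sharp_norm M) h

theorem P8.FTDadeSupp_conj (hM : IsCoatom M) (g : G) {A B : Set G} (hA : A ⊆ FTsupp0 M)
    (h : ∀ x, g * x * g⁻¹ ∈ B ↔ x ∈ A) : FTDadeSupp (g •ᶜ M) B = FTDadeSupp M A := by
  ext y
  rw [mem_FTDadeSupp, mem_FTDadeSupp]
  constructor
  · rintro ⟨x, hx, r, hr, z, rfl⟩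
    obtain ⟨x, rfl⟩ : ∃ x', x = g * x' * g⁻¹ := ⟨g⁻¹ * x * g, by group⟩
    rw [h] at hx
    rw [FTsignalizerJ hM g (hA hx), mem_conj] at hr
    exact ⟨x, hx, _, hr, z * g, by group⟩
  · rintro ⟨x, hx, r, hr, z, rfl⟩
    refine ⟨_, (h x).2 hx, g * r * g⁻¹, ?_, z * g⁻¹, by group⟩
    rw [FTsignalizerJ hM g (hA hx)]
    exact conj_mem_conj hr

theorem FT_Dade1_supportJ (hM : IsCoatom M) (g : G) :
    FTDadeSupp (g •ᶜ M) (FTsupp1 (g •ᶜ M)) = FTDadeSupp M (FTsupp1 M) :=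
  FTDadeSupp_conj hM g (FTsupp1_sub0 hM) fun _ => mem_FTsupp1_conj
theorem FT_Dade_supportJ (hM : IsCoatom M) (g : G) :
    FTDadeSupp (g •ᶜ M) (FTsupp (g •ᶜ M)) = FTDadeSupp M (FTsupp M) :=
  FTDadeSupp_conj hM g (FTsupp_sub0 M) fun _ => mem_FTsupp_conj
theorem FT_Dade0_supportJ (hM : IsCoatom M) (g : G) :
    FTDadeSupp (g •ᶜ M) (FTsupp0 (g •ᶜ M)) = FTDadeSupp M (FTsupp0 M) :=
  FTDadeSupp_conj hM g subset_rfl fun _ => mem_FTsupp0_conj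

variable {U W W1 W2 : Subgroup G}

theorem FT_cyclicTI_hyp (h : OfTypeP M U W W1 W2) : CycTIHyp ⊤ W W1 W2 := (typeP_context h).2.2.2

theorem FTtypeP_pair_witness (hM : IsCoatom M) (h : OfTypeP M U W W1 W2) :
    ∃ T, TypePPair M T W W1 W2 ∧ ∃ V, OfTypeP T V W W2 W1 := by
  suffices h : ∃ T, TypePPair M T W W1 W2 from h.imp fun T h => ⟨h, typeP_pairW (typeP_pair_sym h)⟩
  obtain h1 | ⟨S, T, X, X1, X2, hST⟩ := FTtypeP_pair_cases (G := G)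
  · exact absurd (h1 M hM) (FTtypeP_neq1 hM h)
  obtain ⟨T, X, X1, X2, hT⟩ : ∃ T X X1 X2, TypePPair M T X X1 X2 := by
    obtain ⟨y, rfl | rfl⟩ := hST.conj M hM (FTtypeP_neq1 hM h)
    exacts [⟨_, _, _, _, typePPair_conj hST y⟩, ⟨_, _, _, _, typePPair_conj (typeP_pair_sym hST) y⟩]
  obtain ⟨V, hV⟩ := typeP_pairW hT
  obtain ⟨x, hx, -, rfl, rfl, rfl⟩ := of_typeP_conj hV h
  have := typePPair_conj hT x
  rw [conj_eq_of_mem hx] at this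
  exact ⟨_, this⟩

theorem P8.uniqMax_cent_of_typeP (hM : IsCoatom M) (h : OfTypeP M U W W1 W2) {X : Subgroup G}
    (hX : X ≤ W2) (hp : (♯X).Prime) : UniqMax 𝐂(X) M := by
  obtain ⟨h1, h2, h3, -⟩ := typePfacts hM h
  exact (Ptype_structure h1 h2).2.2.1.2 X (h3 ▸ hX) hp

theorem of_typeP_pair (hM : IsCoatom M) (h : OfTypeP M U W W1 W2) {T V : Subgroup G} (hT : IsCoatom T)
    (hV : OfTypeP T V W W2 W1) : TypePPair M T W W1 W2 := by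
  obtain ⟨S, hS, V1, hV1⟩ := FTtypeP_pair_witness hM h
  obtain ⟨x, hx, hp⟩ := exists_prime_order_mem h.W1_ne_bot
  rw [← Nat.card_zpowers] at hp
  have h1 := uniqMax_cent_of_typeP hT hV (zpowers_le.2 hx) hp
  rwa [← h1.eq hS.maxT (uniqMax_cent_of_typeP hS.maxT hV1 (zpowers_le.2 hx) hp).le]

theorem FTtypeP_supp0_def (hM : IsCoatom M) (h : OfTypeP M U W W1 W2) :
    FTsupp0 M = FTsupp M ∪ classSupp (cycTIset W1 W2) M := by
  obtain ⟨h1, -, h3, -⟩ := typePfacts hM h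
  rw [← FTsupp0_typeP h1 h.defW h.defM h3, Set.union_diff_cancel (FTsupp_sub0 M)]

theorem P8.prDade_hyp (hM : IsCoatom M) (h : OfTypeP M U W W1 W2) {H : Subgroup G} (hH : H ⊴ M)
    (h1 : W2 ≤ H) (h2 : H ≤ FTcore M) :
    PrimeDadeHyp ⊤ M (der M) H (FTsupp M) (FTsupp0 M) W W1 W2 := by
  have e := FTder_typeP (FTtypeP_neq1 hM h)
  exact ⟨FT_primeTI_hyp h, FT_cyclicTI_hyp h, FT_Dade0_hyp hM, hH, h1,
    h2.trans (e ▸ FTcore_le_FTder hM), FTsupp_norm M,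
    fun x hx hx1 y hy => mem_FTsupp.2 ⟨x, h2 hx, hx1, e ▸ hy.1.1, hy.1.2, hy.2⟩, e ▸ FTsupp_sub_der M,
    FTtypeP_supp0_def hM h⟩

theorem FT_prDade_hypF (hM : IsCoatom M) (h : OfTypeP M U W W1 W2) :
    PrimeDadeHyp ⊤ M (der M) (Fcore M) (FTsupp M) (FTsupp0 M) W W1 W2 :=
  prDade_hyp hM h (Fcore_normal M) h.W2_le (Fcore_le_FTcore hM)

theorem FT_prDade_hyp (hM : IsCoatom M) (h : OfTypeP M U W W1 W2) :
    PrimeDadeHyp ⊤ M (der M) (FTcore M) (FTsupp M) (FTsupp0 M) W W1 W2 :=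
  prDade_hyp hM h (FTcore_normal M) (h.W2_le.trans (Fcore_le_FTcore hM)) le_rfl

theorem P8.calSP_not_real (hM : IsCoatom M) (h : OfTypeP M U W W1 W2) {χ : G → ℂ} (hχ : χ ∈ calSP M) :
    star χ ≠ χ := seqInd_conjC_neq (mFT_odd M) (der_normal M) (FT_prDade_hyp hM h).H_le hχ

theorem FTtypeP_coh_base (hM : IsCoatom M) (h : OfTypeP M U W W1 W2) :
    ∃ R, FTcohBase M W W1 W2 R := by
  obtain ⟨R, h1, h2, h3⟩ := prDade_subcoherent (FT_prDade_hyp hM h)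
    (ConjSubset.refl fun _ => star_seqInd) fun _ => calSP_not_real hM h
  exact ⟨R, h1, h2, h3⟩

theorem coherent_ortho_cycTIiso (hM : IsCoatom M) (h : OfTypeP M U W W1 W2) {S1 : Finset (G → ℂ)}
    {τ1 : (G → ℂ) →+ (G → ℂ)} (hS : ConjSubset S1 (calSP M))
    (hτ : CoherentWith M ⊤ S1 (sharp M) (FTDade0 M) τ1) {χ i j : G → ℂ} (hχ : χ ∈ S1) (hirr : IsIrr M χ)
    (hi : IsIrr W1 i) (hj : IsIrr W2 j) : ⟪τ1 χ, cycTIeta ⊤ W W1 W2 i j⟫[⊤] = 0 :=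
  coherent_prDade_ortho_cycTIiso (FT_prDade_hyp hM h) hS (fun _ hx => calSP_not_real hM h (hS.1 hx)) hτ
    hχ hirr hi hj

theorem FTtypeP_coherent_TIred (hM : IsCoatom M) (h : OfTypeP M U W W1 W2) {S1 : Finset (G → ℂ)}
    {τ1 : (G → ℂ) →+ (G → ℂ)} (hS : ConjSubset S1 (calSP M))
    (hτ : CoherentWith M ⊤ S1 (sharp M) (FTDade0 M) τ1) {χ j : G → ℂ} (hχ : χ ∈ S1) (hirr : IsIrr M χ)
    (hj : IsIrr W2 j) (hμ : prTIred M W W1 W2 j ∈ S1) :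
    τ1 (prTIred M W W1 W2 j) = prTIsign M W W1 W2 j • ∑ i ∈ Irr W1, cycTIeta ⊤ W W1 W2 i j ∨
    (τ1 (prTIred M W W1 W2 j) = -prTIsign M W W1 W2 j • ∑ i ∈ Irr W1, cycTIeta ⊤ W W1 W2 i (star j) ∧
      ∀ l, IsIrr W2 l → prTIred M W W1 W2 l ∈ S1 →
        prTIred M W W1 W2 l 1 = prTIred M W W1 W2 j 1 → l = j ∨ l = star j) :=
  coherent_prDade_TIred (FT_prDade_hyp hM h) hS (fun _ hx => calSP_not_real hM h (hS.1 hx)) hχ hirr hj
    hμ hτ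

open Classical in
theorem size_red_subseq_seqInd_typeP (h : OfTypeP M U W W1 W2) {S1 : Finset (G → ℂ)}
    (hS : S1 ⊆ seqIndT (der M) M) (hred : ∀ φ ∈ S1, ¬ IsIrr M φ) :
    S1.card = ((Irr W2).filter fun j => prTIred M W W1 W2 j ∈ S1).card := by
  have hp := FT_primeTI_hyp h
  symm
  refine Finset.card_bij (fun j _ => prTIred M W W1 W2 j) (fun j hj => (Finset.mem_filter.1 hj).2)
    (fun j hj k hk e => (prTIred_inj hp (mem_Irr.1 (Finset.mem_filter.1 hj).1)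
      (mem_Irr.1 (Finset.mem_filter.1 hk).1)).1 e) fun φ hφ => ?_
  obtain ⟨θ, hθ, rfl⟩ := mem_seqIndT.1 (hS hφ)
  obtain ⟨j, hj, -, e⟩ := prTIred_of_not_irr hp hθ (hred _ hφ)
  exact ⟨j, Finset.mem_filter.2 ⟨mem_Irr.2 hj, e ▸ hφ⟩, e.symm⟩

end OneMaximal

theorem FTtypeII_ker_TI {M : Subgroup G} (hM : IsCoatom M) (ht : FTtype M = 2) :
    NormedTI (FTsupp0 M) ⊤ M ∧ NormedTI (FTsupp M) ⊤ M ∧ NormedTI (FTsupp1 M) ⊤ M := by
  suffices h : NormedTI (FTsupp0 M) ⊤ M from ⟨h, h.mono (FTsupp_neq0 hM) (FTsupp_sub0 M) (FTsupp_norm M),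
    h.mono (FTsupp1_neq0 hM) (FTsupp1_sub0 hM) (FTsupp1_norm M)⟩
  obtain ⟨U, W, W1, W2, h⟩ := (FTtypeP hM 2).1 ht
  refine ⟨FTsupp0_neq0 hM, le_top, FTsupp0_norm M, fun g _ a ha hg => ?_⟩
  have hC : 𝐂[a] ≤ M := by
    by_contra hn
    have := ((FTsupport_facts hM).2.1 a ha hn).1
    rw [FTsupp1_type2 ht] at this
    exact hn ((le_inf le_top le_rfl).trans (h.base.tiF.cent1_le (sharp_mono (Fcore_le_Fit M) this)))
  obtain ⟨y, hy, e⟩ := (FTsupport_facts hM).1 a ha g hg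
  have : y⁻¹ * g ∈ 𝐂[a] := by
    rw [mem_cent1_iff_conj]
    calc _ = y⁻¹ * (g * a * g⁻¹) * y := by group
      _ = a := by rw [e]; group
  simpa using mul_mem hy (hC this)

theorem P8.FTsignalizer_eq_Rx {M : Subgroup G} (hM : IsCoatom M) {x : G} (hx : x ∈ Ms M) (h1 : x ≠ 1) :
    FTsignalizer M x = Rx x := by
  obtain ⟨-, -, h3, h4⟩ := BGsummaryD hM
  by_cases h : 𝐂[x] ≤ M
  · rw [FTsignalizer_of_le h, (h3 x hx h1).2.1.right_eq_iff.1 (inf_eq_right.2 h)]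
  · rw [FTsignalizer_of_not_le h, (h4 x hx h1 h).1.2, Rx]

theorem P8.A1til_eq {M : Subgroup G} (hM : IsCoatom M) : A1til M = classSupp (sigmaSupp M) ⊤ := by
  ext y
  rw [mem_FTDadeSupp, mem_classSupp_iff]
  simp only [sigmaSupp, sigmaCover, Set.mem_iUnion, Set.mem_setOf_eq, exists_prop, mem_FTsupp1 hM,
    mem_sharp_iff]
  constructor
  · rintro ⟨x, hx, r, hr, g, rfl⟩
    refine ⟨r * x, ⟨x, hx, ?_⟩, g, trivial, rfl⟩
    rwa [mem_cent1.1 (FTsignalizer_le M x hr), inv_mul_cancel_left, ← FTsignalizer_eq_Rx hM hx.1 hx.2]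
  · rintro ⟨z, ⟨x, hx, hr⟩, g, -, rfl⟩
    rw [← FTsignalizer_eq_Rx hM hx.1 hx.2] at hr
    exact ⟨x, hx, _, hr, g, by rw [mem_cent1.1 (FTsignalizer_le M x hr), mul_inv_cancel_left]⟩

theorem P8.coprime_FTcore {M L : Subgroup G} (hM : IsCoatom M) (hL : IsCoatom L) (hn : NotConj L M) :
    (♯(FTcore M)).Coprime ♯(FTcore L) := by
  rw [def_FTcore hM, def_FTcore hL]
  exact (Ms_piGrp M).coprime_of_disjoint (Ms_piGrp L) fun p h1 h2 =>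
    Set.disjoint_left.1 (sigma_partition hM hL hn) h1 h2

theorem FT_Dade1_support_disjoint {S T : Subgroup G} (hS : IsCoatom S) (hT : IsCoatom T)
    (hn : NotConj T S) : Disjoint (A1til S) (A1til T) := by
  rw [A1til_eq hS, A1til_eq hT]
  exact mFT_partition.2.1 S T hS hT hn

theorem FT_Dade_support_partition :
    (∀ p ∈ piOf (⊤ : Subgroup G), ∃ M : Subgroup G, IsCoatom M ∧ p ∈ piOf (FTcore M)) ∧
    (∀ M L : Subgroup G, IsCoatom M → IsCoatom L → NotConj L M → (♯(FTcore M)).Coprime ♯(FTcore L)) ∧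
    (∀ M : Subgroup G, IsCoatom M → (A1til M).ncard = (♯(FTcore M) - 1) * M.index) ∧
    (∀ M : Subgroup G, IsCoatom M → (1 : G) ∉ A1til M) ∧
    (∀ M L : Subgroup G, IsCoatom M → IsCoatom L → NotConj L M → Disjoint (A1til M) (A1til L)) ∧
    ((∀ M : Subgroup G, IsCoatom M → FTtype M = 1) →
      ∀ x : G, x ≠ 1 → ∃ M : Subgroup G, IsCoatom M ∧ x ∈ A1til M) ∧
    ∀ S T W W1 W2 : Subgroup G, TypePPair S T W W1 W2 →
      (∀ L : Subgroup G, IsCoatom L → Disjoint (classSupp (cycTIset W1 W2) ⊤) (A1til L)) ∧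
      ∀ x : G, x ≠ 1 → x ∈ classSupp (cycTIset W1 W2) ⊤ ∨
        ∃ L : Subgroup G, IsCoatom L ∧ x ∈ A1til L := by
  obtain ⟨h1, -, h3, h4⟩ := mFT_partition (G := G)
  refine ⟨fun p hp => (sigma_mmax_exists hp).imp fun M h => ⟨h.1, by
      rw [def_FTcore h.1, pi_Msigma h.1]; exact h.2⟩, fun M L => coprime_FTcore,
    fun M hM => by rw [A1til_eq hM, def_FTcore hM, card_class_support_sigma hM],
    fun M hM => by rw [A1til_eq hM]; exact h1 M hM, fun M L => FT_Dade1_support_disjoint,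
    fun h x hx => (h3 (fun M hM => ((FTtype_Pmax hM.1).1 hM).ne' (h M hM.1)) x hx).imp
      fun M h => ⟨h.1, by rw [A1til_eq h.1]; exact h.2⟩, fun S T W W1 W2 h => ?_⟩
  obtain ⟨U, hU⟩ := typeP_pairW h
  obtain ⟨a, b, c, -⟩ := typePfacts h.maxS hU
  obtain ⟨h5, h6⟩ := h4 S W1 a b
  rw [c] at h5 h6
  exact ⟨fun L hL => by rw [A1til_eq hL]; exact h5 L hL, fun x hx => (h6 x hx).imp_right fun h =>
    h.imp fun L h => ⟨h.1, by rw [A1til_eq h.1]; exact h.2⟩⟩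

theorem P8.notConj_conj {S T : Subgroup G} (hn : NotConj T S) (g : G) : NotConj (g •ᶜ T) S :=
  fun x e => hn (g⁻¹ * x) (by rw [← conj_conj, ← e, inv_conj_conj])

theorem P8.support_a2 {S T : Subgroup G} (hS : IsCoatom S) (hT : IsCoatom T) (hn : NotConj T S) {x : G}
    (h1 : x ∈ FTsupp1 S) (h2 : x ∈ FTsupp T) : ¬ 𝐂[x] ≤ S ∧ 𝐂[x] ≤ T := by
  have hc : (♯(FTcore T)).Coprime ♯(zpowers x) :=
    coprime_card_mono (coprime_FTcore hS hT hn).symm le_rfl (zpowers_le.2 h1.1)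
  have ht : FTtype T ≤ 2 := by
    by_contra h
    rw [FTsupp_eq1 (not_le.1 h)] at h2
    exact h1.2 (by simpa [inf_eq_bot_of_coprime_card hc] using mem_inf.2 ⟨h2.1, mem_zpowers x⟩)
  obtain ⟨z, hz, hz1, hx, hxz, hx1⟩ := mem_FTsupp.1 h2
  obtain ⟨V, K, h⟩ := kappa_witness hT
  have h3 := sdprod_FTder hT h
  rw [← def_FTcore hT] at h3
  obtain ⟨g, hg, hle⟩ := h3.exists_le_conj (h3.coprime_of_left
    ((FTcore_facts hT).2.1.mono h3.left_le le_top)) (zpowers_le.2 hx) hc (Or.inr (Or.inr inferInstance))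
  have h4 := h3.conj_right (h3.left_le hg)
  rw [FTcore_of_le_two ht] at h4 hz
  have h5 := (FTtypeI_II_facts hT ht h4).2.1 {x} (Set.singleton_nonempty x)
    (Set.singleton_subset_iff.2 ⟨hle (mem_zpowers x), hx1⟩)
    fun e => hz1 (by simpa [e] using mem_inf.2 ⟨hz, mem_cent1_comm.1 hxz⟩)
  exact ⟨fun h => hn.ne (h5.eq hS h).symm, h5.le⟩

theorem P8.support_a1 {S T : Subgroup G} (hS : IsCoatom S) (hT : IsCoatom T) (hn : NotConj T S) :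
    FTsupports S T ↔ ¬ Disjoint (FTsupp1 S) (FTsupp T) := by
  rw [Set.not_disjoint_iff]
  refine ⟨fun ⟨x, hx, h1, h2⟩ => ?_, fun ⟨x, h1, h2⟩ => ⟨x, FTsupp1_sub hS h1, support_a2 hS hT hn h1 h2⟩⟩
  obtain ⟨-, h3, h4⟩ := FTsupport_facts hS
  obtain ⟨h5, h6⟩ := h3 x (FTsupp_sub0 S hx) h1
  exact ⟨x, h5, h6.eq hT h2 ▸ (h4 x (FTsupp_sub0 S hx) h1).2.2.1.1⟩

theorem P8.support_b {S T : Subgroup G} (hS : IsCoatom S) (hT : IsCoatom T) (hn : NotConj T S) :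
    (∃ x : G, FTsupports S (x •ᶜ T)) ↔ ¬ Disjoint (A1til S) (Atil T) := by
  simp only [support_a1 hS (isCoatom_conj hT _) (notConj_conj hn _), Set.not_disjoint_iff]
  constructor
  · rintro ⟨g, y, h1, h2⟩
    refine ⟨y, mem_FTDadeSupp.2 ⟨y, h1, 1, one_mem _, 1, by group⟩, ?_⟩
    rw [Atil, ← FT_Dade_supportJ hT g]
    exact mem_FTDadeSupp.2 ⟨y, h2, 1, one_mem _, 1, by group⟩
  · rintro ⟨y, h1, h2⟩
    obtain ⟨b, hb, s, hs, g, e⟩ := mem_FTDadeSupp.1 h2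
    have hC : 𝐂[b] ≤ T := by
      by_contra h
      exact Set.disjoint_left.1 (FT_Dade1_support_disjoint hS hT hn) h1 (mem_FTDadeSupp.2
        ⟨b, ((FTsupport_facts hT).2.1 b (FTsupp_sub0 T hb) h).1, s, hs, g, e⟩)
    rw [FTsignalizer_of_le hC, mem_bot] at hs
    obtain ⟨a, ha, r, hr, k, e'⟩ := mem_FTDadeSupp.1 h1
    have ha0 := FTsupp1_sub0 hS ha
    have hc := FTsignalizer_coprime hS ha0 ha0
    have h3 : a ∈ zpowers (r * a) := by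
      have := constt_eq_of_mul (π := piOf (S ⊓ 𝐂[a])) ((piGrp_piOf _).piElt
        (mem_inf.2 ⟨(FTsupp0_sub S ha0).1, mem_cent1_self a⟩))
        (PiGrp.piElt (coprime_iff_isPiNum_compl'.1 hc) hr) (mem_cent1.1 (FTsignalizer_le S a hr)).symm
      rw [mem_cent1.1 (FTsignalizer_le S a hr)]
      have h9 := constt_mem_zpowers (piOf (S ⊓ 𝐂[a] : Subgroup G)) (a * r)
      rwa [this] at h9
    refine ⟨k⁻¹ * g, a, ha, mem_FTsupp_of_zpowers (x := r * a) ?_ h3 ha.2⟩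
    have : r * a = (k⁻¹ * g) * b * (k⁻¹ * g)⁻¹ := by
      calc r * a = k⁻¹ * y * k := by rw [e']; group
        _ = _ := by rw [e, hs]; group
    rw [this]
    exact mem_FTsupp_conj.2 hb

theorem FT_Dade_support_disjoint {S T : Subgroup G} (hS : IsCoatom S) (hT : IsCoatom T)
    (hn : NotConj T S) :
    ((FTsupports S T ↔ ¬ Disjoint (FTsupp1 S) (FTsupp T)) ∧
      ∀ x ∈ FTsupp1 S ∩ FTsupp T, ¬ 𝐂[x] ≤ S ∧ 𝐂[x] ≤ T) ∧
    ((∃ x : G, FTsupports S (x •ᶜ T)) ↔ ¬ Disjoint (A1til S) (Atil T)) ∧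
    (Disjoint (A1til S) (Atil T) ∨ Disjoint (A1til T) (Atil S)) := by
  refine ⟨⟨support_a1 hS hT hn, fun x hx => support_a2 hS hT hn hx.1 hx.2⟩, support_b hS hT hn, ?_⟩
  by_contra h
  rw [not_or, ← support_b hS hT hn, ← support_b hT hS hn.symm] at h
  obtain ⟨⟨g, x, hx, h1, h2⟩, k, h3⟩ := h
  obtain ⟨y, h4, h5⟩ := Set.not_disjoint_iff.1
    ((support_a1 hT (isCoatom_conj hS _) (notConj_conj hn.symm _)).1 h3)
  obtain ⟨-, h6, h7⟩ := FTsupport_facts hS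
  have e := (h6 x (FTsupp_sub0 S hx) h1).2.eq (isCoatom_conj hT g) h2
  obtain ⟨-, h8, -, h9, -⟩ := h7 x (FTsupp_sub0 S hx) h1
  rw [← e, FTtype_conj] at h9
  obtain ⟨z, rfl⟩ : ∃ z, y = k * z * k⁻¹ := ⟨k⁻¹ * y * k, by group⟩
  rw [mem_FTsupp_conj] at h5
  have h10 := h8 z (FTsupp_sub0 S h5)
  rw [← e, Fcore_conj, card_conj, ← FTcore_of_le_two h9] at h10
  refine (FTsupp_sub S h5).2 (orderOf_eq_one_iff.1 (Nat.eq_one_of_dvd_coprimes h10 ?_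
    (orderOf_dvd_card (mem_inf.2 ⟨(FTsupp_sub S h5).1, mem_cent1_self z⟩))))
  rw [← orderOf_conj k]
  exact orderOf_dvd_card h4.1

end Cfsg.Agent.OO.Pf
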