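import Cfsg.Agent.Lib.OO.Pf.PF9_D

/-! # Peterfalvi section 9, part E: (9.11) -/

set_option autoImplicit false
set_option linter.unusedSectionVars false

namespace Cfsg.Agent.OO.Pf

open Subgroup Cfsg.Agent.Coprime P9
open scoped Pointwise

universe u

variable {G : Type u} [Group G] [Finite G]

namespace P9

theorem pow_gt {a q : ℕ} (ha : 0 < a) (hq : 3 ≤ q) :
    1 + 2 * q * a + q ^ 2 * a ^ 2 + (q + 2) * a ^ 3 < (2 * a + 1) ^ q := by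
  induction q, hq using Nat.le_induction with
  | base => nlinarith [Nat.pow_pos (n := 2) ha]
  | succ q hq ih =>
    have h1 := Nat.mul_lt_mul_of_pos_right ih (show 0 < 2 * a + 1 by omega)
    have h2 : (2 * q + 1) * a ^ 2 ≤ 4 * q * a ^ 2 := Nat.mul_le_mul_right _ (by omega)
    have h3 : 1 * a ^ 3 ≤ 2 * q ^ 2 * a ^ 3 := Nat.mul_le_mul_right _ (by nlinarith)
    rw [pow_succ (2 * a + 1)]
    nlinarith [Nat.zero_le ((q + 2) * a ^ 4)]

theorem cfdot_cf1_cf1 {A B K : Subgroup G} (hA : A ≤ K) :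
    ⟪cf1 A, cf1 B⟫[K] = (((A ⊓ B).relIndex K : ℕ) : ℂ)⁻¹ := by
  have h1 := cfdot_of_suppOn (inf_le_left.trans hA : A ⊓ B ≤ K) (CF_le_suppOn _ (cf1_mem_CF _)) (cf1 (A ⊓ B))
  rw [cfdot_cf1] at h1
  rw [← eq_inv_of_mul_eq_one_right h1, cfdotE, cfdotE]
  congr 1
  refine Finset.sum_congr rfl fun x _ => ?_
  by_cases h1 : x ∈ A <;> by_cases h2 : x ∈ B <;> simp [cf1, h1, h2]

open Classical in
/-- (9.11.6) to (9.11.8) -/
theorem coherence_core {L Γ : Subgroup G} {S S1 S4 : Finset (G → ℂ)} {τ : (G → ℂ) →ₗ[ℂ] (G → ℂ)}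
    {R : (G → ℂ) → Finset (G → ℂ)} (hS : Subcoherent L Γ S τ R) (h1 : ConjSubset S1 S) {ψ1 A : G → ℂ}
    {n : ℕ} (hψ : ψ1 ∈ S1) (hi1 : ∀ ψ ∈ S1, IsIrr L ψ ∧ ψ 1 = ψ1 1) (hc : S1.card = 2 * n) (hn : 1 < n)
    (h3 : ∀ φ ∈ S, φ ∉ S1 → φ 1 = n * ψ1 1) (h4 : ∀ φ ∈ S4, φ ∈ S ∧ φ ∉ S1 ∧ IsIrr L φ)
    (hA : A ∈ ZIrr Γ) (hAτ : ∀ φ ∈ ZspanOn S (sharp L), ⟪A, τ φ⟫[Γ] = -⟪ψ1, φ⟫[L])
    (hlt : cfnorm Γ A < S4.card) :
    ∃ χ ∈ S4, Coherent L Γ (insert χ (insert (star χ) S1)) (sharp L) τ := by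
  have hCF : ∀ φ ∈ S, φ ∈ CF L := fun φ => hS.mem_CF
  have h3' := (ConjSubset.refl hS.conj_mem).sdiff h1.2
  obtain ⟨τ1, t1⟩ := uniform_degree_coherence (subset_subcoherent hS h1)
    fun φ hφ ψ hψ => (hi1 φ hφ).2.trans (hi1 ψ hψ).2.symm
  have d3 : ∀ φ ∈ S \ S1, φ 1 = n * ψ1 1 := fun φ hφ =>
    h3 φ (Finset.mem_sdiff.1 hφ).1 (Finset.mem_sdiff.1 hφ).2
  obtain ⟨τ3, t3⟩ := uniform_degree_coherence (subset_subcoherent hS h3')
    fun φ hφ ψ hψ => (d3 φ hφ).trans (d3 ψ hψ).symm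
  have m4 : ∀ φ ∈ S4, φ ∈ S \ S1 := fun φ hφ => Finset.mem_sdiff.2 ⟨(h4 φ hφ).1, (h4 φ hφ).2.1⟩
  have key : ∀ {T : Finset (G → ℂ)} {ν : (G → ℂ) →+ (G → ℂ)}, T ⊆ S → CoherentWith L Γ T (sharp L) τ ν →
      ∀ {φ ψ}, φ ∈ T → ψ ∈ T → φ 1 = ψ 1 → φ - ψ ∈ ZspanOn S (sharp L) ∧ τ (φ - ψ) = ν φ - ν ψ :=
    fun hT t φ ψ hφ hψ e => by
      have a1 := sub_seqInd_zchar hCF (hT hφ) (hT hψ) isCint_one (e.trans (one_mul _).symm)
      have a2 := t.sub_smul (fun φ hφ => hCF φ (hT hφ)) hφ hψ isCint_one (e.trans (one_mul _).symm)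
      simp only [one_smul] at a1 a2
      exact ⟨a1, a2⟩
  have o13 : ∀ φ ∈ S \ S1, ⟪ψ1, φ⟫[L] = 0 := fun φ hφ => hS.orth.2 _ (h1.1 hψ) _ (h3'.1 hφ)
    fun e => (Finset.mem_sdiff.1 hφ).2 (e ▸ hψ)
  have a6 : ∀ φ ∈ S \ S1, ⟪A, τ3 φ⟫[Γ] = 0 := fun φ hφ => by
    by_contra h0
    have hd : ∀ ψ ∈ S4, ∀ η ∈ S4, ⟪τ3 ψ, τ3 η⟫[Γ] = ⟪ψ, η⟫[L] := fun ψ hψ η hη =>
      t3.cfdot_mem (m4 ψ hψ) (m4 η hη)
    have o4 := orthonormal_of_irr fun φ hφ => (h4 φ hφ).2.2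
    have b1 := (o4.image hd).bessel A
    rw [Finset.sum_image (o4.injOn hd)] at b1
    refine hlt.not_ge ((card_le_sum_norm_sq (fun ψ hψ => Cint_cfdot_vchar hA (t3.vchar_mem (m4 ψ hψ)))
      fun ψ hψ => ?_).trans b1)
    obtain ⟨b2, b3⟩ := key h3'.1 t3 (m4 ψ hψ) hφ ((d3 _ (m4 ψ hψ)).trans (d3 φ hφ).symm)
    have := hAτ _ b2
    rw [b3, cfdotBr, cfdotBr, o13 φ hφ, o13 ψ (m4 ψ hψ), sub_self, neg_zero, sub_eq_zero] at this
    rwa [this]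
  obtain ⟨χ, hχ⟩ := Finset.card_pos.1 (Nat.cast_pos.1 ((cfnorm_ge0 A).trans_lt hlt))
  obtain ⟨c1, c2, c3⟩ := h4 χ hχ
  have a7 : ∀ r ∈ R χ, ⟪A, r⟫[Γ] = 0 := fun r hr => by
    obtain ⟨E, hE, e⟩ := mem_coherent_sum_subseq hS h3' t3 (m4 χ hχ)
    have b1 : E.card = 1 := by
      have := ((hS.R_orth χ c1).subset hE).cfnorm_sum_one
      rw [← e, t3.cfnorm (mem_zchar (m4 χ hχ)), cfnorm_irr c3] at this
      exact_mod_cast this.symm
    have b2 : (R χ).card = 2 := by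
      have := hS.card_R c1
      rw [cfnorm_irr c3, mul_one] at this
      exact_mod_cast this
    have b3 : (R χ \ E).card = 1 := by rw [Finset.card_sdiff_of_subset hE, b1, b2]
    have b4 := a6 χ (m4 χ hχ)
    have b5 : ⟪A, ∑ α ∈ R χ \ E, α⟫[Γ] = 0 := by
      rw [Finset.sum_sdiff_eq_sub hE, ← e, ← hS.sum_R χ c1, t3.eq (hS.sub_star_mem h3' (m4 χ hχ)) |>.symm,
        map_sub, cfdotBr, cfdotBr, b4, a6 _ (h3'.2 χ (m4 χ hχ)), sub_zero, sub_zero]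
    rw [e] at b4
    by_cases hrE : r ∈ E
    · rwa [Finset.eq_singleton_iff_unique_mem.2 ⟨hrE, fun x hx => Finset.card_le_one.1 b1.le x hx r hrE⟩,
        Finset.sum_singleton] at b4
    · have := Finset.mem_sdiff.2 ⟨hr, hrE⟩
      rwa [Finset.eq_singleton_iff_unique_mem.2 ⟨this, fun x hx => Finset.card_le_one.1 b3.le x hx r this⟩,
        Finset.sum_singleton] at b5
  have i1 := (hi1 ψ1 hψ).1
  have hβ := sub_seqInd_zchar hCF c1 (h1.1 hψ) (isCint_natCast n) (h3 χ c1 c2)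
  obtain ⟨X, hX, Y, hY, e, hXY, hYR⟩ := subcoherent_split hS c1 (mem_ZIrrOn.1 (hS.isometry.2 _ hβ)).1
  have o1 : ∀ φ ∈ S \ S1, ∀ ψ ∈ S1, ⟪φ, ψ⟫[L] = 0 := fun φ hφ ψ hψ => hS.orth.2 _ (h3'.1 hφ) _ (h1.1 hψ)
    fun e => (Finset.mem_sdiff.1 hφ).2 (e ▸ hψ)
  have o2 : ⟪χ, (n : ℂ) • ψ1⟫[L] = 0 := by rw [cfdotZr, o1 χ (m4 χ hχ) ψ1 hψ, mul_zero]
  have hXv := zchar_trans_vchar (hS.R_mem χ c1) hX
  have n1 := (subcoherent_norm_tau hS c1 hβ o2 (by rw [cfdotZr, o1 _ (h3'.2 χ (m4 χ hχ)) ψ1 hψ, mul_zero])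
    e (vchar_mem_CF hXv) hXY hYR).1
  have n2 := hS.isometry.cfnorm hβ
  rw [e, cfnormBd hXY, cfnormBd o2, cfnormZ, cfnorm_irr i1, Complex.norm_natCast] at n2
  have oX : ∀ ψ ∈ S1, ⟪X, τ1 ψ⟫[Γ] = 0 := fun ψ hψ => cfdot_zchar_eq_zero hX fun r hr =>
    cfdot_symm0 (coherent_ortho_supp hS h1 t1 c1 c2 (mem_zchar hψ) hr)
  obtain ⟨y, hy⟩ := Cint_cfdot_vchar hY (t1.vchar_mem hψ)
  obtain ⟨x, hx⟩ := Cint_cfdot_vchar hA (t1.vchar_mem hψ)
  have f1 : ∀ ψ ∈ S1.erase ψ1, ⟪Y, τ1 ψ⟫[Γ] = ((y - n : ℤ) : ℂ) ∧ ⟪A, τ1 ψ⟫[Γ] = ((x + 1 : ℤ) : ℂ) :=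
    fun ψ h0 => by
      obtain ⟨hne, h0⟩ := Finset.mem_erase.1 h0
      obtain ⟨b1, b2⟩ := key h1.1 t1 h0 hψ (hi1 ψ h0).2
      have b3 := hS.isometry.1 _ hβ _ b1
      have b4 := hAτ _ b1
      have b5 := cfdot_irr_ne i1 (hi1 ψ h0).1 hne.symm
      simp only [e, b2, cfdotBl, cfdotBr, cfdotZl, oX ψ h0, oX ψ1 hψ, hy, hx, o1 χ (m4 χ hχ) ψ h0,
        o1 χ (m4 χ hχ) ψ1 hψ, b5, cfdot_irr_self i1] at b3 b4
      push_cast
      exact ⟨by linear_combination -b3, by linear_combination b4⟩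
  have hd : ∀ ψ ∈ S1, ∀ η ∈ S1, ⟪τ1 ψ, τ1 η⟫[Γ] = ⟪ψ, η⟫[L] := fun ψ hψ η hη => t1.cfdot_mem hψ hη
  have o4 := orthonormal_of_irr fun φ hφ => (hi1 φ hφ).1
  have ce : ((S1.erase ψ1).card : ℤ) = 2 * n - 1 := by
    rw [Finset.card_erase_of_mem hψ, hc, Nat.cast_pred (by omega)]; push_cast; rfl
  have n3 := (o4.image hd).cfnorm_proj Y
  rw [Finset.sum_image (o4.injOn hd), Finset.sum_image (o4.injOn hd), ← Finset.add_sum_erase _ _ hψ,
    ← Finset.add_sum_erase _ _ hψ, Finset.sum_congr rfl fun ψ h0 => by rw [(f1 ψ h0).1],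
    Finset.sum_congr rfl (s₁ := S1.erase ψ1) (f := fun ψ => ⟪Y, τ1 ψ⟫[Γ] • τ1 ψ) fun ψ h0 => by
      rw [(f1 ψ h0).1], hy, Finset.sum_const, nsmul_eq_mul, ← Int.cast_natCast, ce, Complex.norm_intCast,
    Complex.norm_intCast, sq_abs, sq_abs] at n3
  set Z := Y - ((y : ℂ) • τ1 ψ1 + ∑ ψ ∈ S1.erase ψ1, ((y - n : ℤ) : ℂ) • τ1 ψ) with hZ
  have n4 := cfnorm_ge0 (H := Γ) Z
  rw [cfnorm_irr c3] at n1 n2
  have n5 : (y : ℤ) ^ 2 + (2 * n - 1) * (y - n) ^ 2 ≤ n ^ 2 := by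
    have : (y : ℝ) ^ 2 + ((2 * n - 1 : ℤ) : ℝ) * ((y - n : ℤ) : ℝ) ^ 2 ≤ n ^ 2 := by linarith
    exact_mod_cast this
  have n6 : 0 ≤ (n - y) * (n - y - 1) := by
    rcases le_or_gt (n - y) 0 with h | h
    · exact mul_nonneg_of_nonpos_of_nonpos h (by omega)
    · exact mul_nonneg h.le (by omega)
  have n7 : (n - y) * (n - y - 1) = 0 := by nlinarith
  have n8 : Z = 0 := by
    have : (n : ℤ) ^ 2 = y ^ 2 + (2 * n - 1) * (y - n) ^ 2 := by linear_combination -2 * n * n7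
    have : (n : ℝ) ^ 2 = (y : ℝ) ^ 2 + ((2 * n - 1 : ℤ) : ℝ) * ((y - n : ℤ) : ℝ) ^ 2 := by exact_mod_cast this
    refine (cfnorm_eq0 (sub_mem (vchar_mem_CF hY) (add_mem (Submodule.smul_mem _ _ (vchar_mem_CF
      (t1.vchar_mem hψ))) (sum_mem fun ψ h0 => Submodule.smul_mem _ _ (vchar_mem_CF
        (t1.vchar_mem (Finset.mem_of_mem_erase h0))))))).1 (by linarith)
  rw [hZ, sub_eq_zero] at n8
  have n9 := hAτ _ hβ
  rw [e, cfdotBr, cfdotBr, cfdotZr, cfdot_irr_self i1, o13 χ (m4 χ hχ), cfdot_symm0 (cfdot_zchar_eq_zero hX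
    fun r hr => cfdot_symm0 (a7 r hr)), n8, cfdotDr, cfdotZr, cfdot_sumr, hx, Finset.sum_congr rfl
    fun ψ h0 => by rw [cfdotZr, (f1 ψ h0).2], Finset.sum_const, nsmul_eq_mul, ← Int.cast_natCast, ce] at n9
  simp only [map_intCast, map_natCast] at n9
  have n10 : 0 - (y * x + (2 * n - 1) * ((y - n) * (x + 1))) = -(0 - (n : ℤ) * 1) := by exact_mod_cast n9
  have n11 : y = n := by
    rcases mul_eq_zero.1 n7 with h | h
    · omega
    · have : (n : ℤ) * (x + 1) = 1 := by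
        obtain rfl : y = n - 1 := by omega
        linear_combination n10
      have := Int.eq_one_of_mul_eq_one_right (by omega) this
      omega
  rw [n11, sub_self, Int.cast_zero, Int.cast_natCast] at n8
  simp only [zero_smul, Finset.sum_const_zero, add_zero] at n8
  exact ⟨χ, hχ, extend_coherent_with hS h1 t1 hψ c1 c2 (isCint_natCast n) (h3 χ c1 c2) (n8 ▸ hXY) (n8 ▸ e)⟩

variable [MinOdd G] {M U W W1 W2 H0 H1 : Subgroup G} {a : ℕ}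

/-- (9.11.2) -/
theorem inf_conj_cases (h : PtypeHyp M U W W1 W2 H0) (hn : GaloisPn M U W1 H0 H1 a)
    (hd : ∀ ζ ∈ calSH M (H0 ⊔ Pc M U H0), ζ 1 = (♯W1 * a : ℕ) ∨ ζ 1 = (♯W1 * Pu M U H0 : ℕ))
    (ha : a ≠ Pu M U H0) {w : G} (hw : w ∈ W1) (hw1 : w ≠ 1) :
    U ⊓ secCent (w •ᶜ H1) H0 ⊓ (U ⊓ secCent H1 H0) = Pc M U H0 := by
  classical
  obtain ⟨l, hl⟩ := exists_l0 h hn
  obtain ⟨θ, h1, h2, h3⟩ := exists_theta h hn
    (l := fun v => if v = 1 ∨ v = w then cfConjg v l else cf1 (v •ᶜ H1)) fun v hv => by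
      split_ifs
      · exact (hl v hv).1
      · exact ⟨isLinChar_cf1 _, (conj_facts h hn hv).1.trans (cfker_cf1 _).ge⟩
  have h4 : ∀ v ∈ W1, v = 1 ∨ v = w → ¬ v •ᶜ H1 ≤ cfker (Fcore M) θ := fun v hv e => by
    rw [← not_le_cfker_res h1 (conj_facts h hn hv).2.1, h3 v hv, if_pos e]
    exact (hl v hv).2
  have h5 := inertia_le_Dw h hn (one_mem _) h1 h2 (h4 1 (one_mem _) (Or.inl rfl))
  rw [one_conj] at h5
  have h6 : inertia U θ = U ⊓ secCent (w •ᶜ H1) H0 ⊓ (U ⊓ secCent H1 H0) := le_antisymm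
    (le_inf (inertia_le_Dw h hn hw h1 h2 (h4 w hw (Or.inr rfl))) h5) fun y hy =>
      mem_inertia_of_forall h hn h1 h2 hy.1.1 fun v hv => by
        by_cases e : v = 1 ∨ v = w
        · rcases e with rfl | rfl
          · exact Or.inr ((one_conj H1).symm ▸ hy.2.2)
          · exact Or.inr hy.1.2
        · left
          rw [← not_le_cfker_res h1 (conj_facts h hn hv).2.1, h3 v hv, if_neg e, cfker_cf1]
  have h7 := C_le_inertia h h1.mem_CF h2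
  obtain ⟨ξ, b1, b2, b3⟩ := exists_ext h h1 h2 le_rfl
  obtain ⟨-, -, b4, b5⟩ := ind_mem h (inertia_le _ _) b1 (b2 ▸ le_rfl) (fun e => h4 1 (one_mem _) (Or.inl rfl)
    ((conj_facts h hn (one_mem _)).2.1.trans (b2 ▸ (not_le_cfker_res b1 le_sup_left).2 e)))
    (Ptype_Fcore_extensions_normal h).1 ((sup_le_sup_left h7 H0).trans b3)
  have key : ∀ {X Y : Subgroup G}, X ≤ Y → Y ≤ U → X.relIndex U = Y.relIndex U → X = Y :=
    fun {X Y} c1 c2 e => eq_of_le_of_card_le c1 (Nat.eq_of_mul_eq_mul_right (relIndex_pos Y U) (by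
      rw [card_mul_relIndex c2, ← e, card_mul_relIndex (c1.trans c2)])).le
  have hq := (PtypeHyp.prime_q h).pos
  rcases hd _ b4 with e | e <;> rw [b5, Nat.cast_inj, Nat.mul_right_inj hq.ne'] at e
  · have c1 := key h5 inf_le_left (e.trans hn.a_eq)
    rw [h6, inf_eq_right, ← conj_D h hw] at c1
    have c2 : W1 ≤ 𝐍(U ⊓ secCent H1 H0) := by
      rw [← eq_zpowers_of_prime (PtypeHyp.prime_q h) hw hw1, zpowers_le, ← conj_eq_self_iff]
      exact (eq_of_le_of_card_le c1 (card_conj _ _).le).symm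
    refine (ha (hn.a_eq.trans (congrArg (relIndex · U) (le_antisymm (fun y hy => mem_C_of_forall h hn.le
      hn.sup hy.1 fun v hv => ?_) (inf_le_inf_left U (secCent_anti H0 hn.le)))))).elim
    rw [← conj_eq_of_mem_norm (c2 hv), conj_D h hv] at hy
    exact hy.2
  · exact h6 ▸ (key h7 (inertia_le _ _) e.symm).symm

theorem exists_cent (h : PtypeHyp M U W W1 W2 H0) (hn : GaloisPn M U W1 H0 H1 a) {z : G}
    (hz : z ∈ Fcore M ⊔ U ⊓ secCent H1 H0) : ∃ x ∈ Fcore M, x ≠ 1 ∧ z ∈ 𝐂[x] := by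
  have hH := h.chief.normal.2
  have hM := (HD_le h inf_le_left).trans (der_le M) hz
  have h1 : constt (piOf (Fcore M))ᶜ z ∈ secCent H1 H0 := constt_mem _ (sup_le ((le_secCent_iff hH).2
    ((commutator_mono le_rfl hn.le).trans (PtypeHyp.der_le h))) inf_le_right hz)
  have h2 := quo_inf_cent1 h.chief.le h1.1 ((coprime_iff_isPiNum_compl.2 (piElt_constt _ z)).coprime_dvd_left
    (card_dvd h.chief.le))
  obtain ⟨x, hx, hx1⟩ := exists_mem_ne_one (Zc_ne_bot (nil_of_le (Fcore_nil M) (inf_le_left :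
    Fcore M ⊓ 𝐂[constt (piOf (Fcore M))ᶜ z] ≤ _)) fun e => by
      rw [e, bot_quo] at h2
      exact (PtypeHyp.prime_p h).one_lt.ne' (hn.card ▸ relIndex_eq_one.2 ((quo_eq_bot_iff
        (hn.le.trans hH)).1 (le_bot_iff.1 (h2.symm ▸ le_inf (quo_mono H0 hn.le) (le_cent1_iff.2
          ((coset_mem_cent_iff' h1.1 (hn.le.trans hH)).2 h1)))))))
  refine ⟨x, hx.1.1, hx1, mem_of_constt_mem (π := piOf (Fcore M)) (mem_cent1.2 (mem_cent_iff.1 hx.2 _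
    ⟨(Fcore_hall M).mem_of_normal (Fcore_normal M).2 (constt_mem _ hM) (piElt_constt _ z),
      mem_cent1.2 (commute_constt_constt _ _ z)⟩)) (mem_cent1_comm.1 hx.1.2)⟩

/-- (9.11.4) -/
theorem cfdot_gamma (h : PtypeHyp M U W W1 W2 H0) (hn : GaloisPn M U W1 H0 H1 a)
    (hc : ∀ w ∈ W1, w ≠ 1 → U ⊓ secCent (w •ᶜ H1) H0 ⊓ (U ⊓ secCent H1 H0) = Pc M U H0) :
    cfnorm M (cfInd M (Fcore M ⊔ U ⊓ secCent H1 H0) (cf1 (Fcore M ⊔ U ⊓ secCent H1 H0))) =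
      a + (♯W1 - 1 : ℕ) * (a ^ 2 / Pu M U H0) := by
  classical
  set D := U ⊓ secCent H1 H0 with hD
  have hDU : D ≤ U := inf_le_left
  have a9 : D ⊴ U := normalIn_of_der_le
    ((PtypeHyp.der_U_le h).trans (inf_le_inf_left U (secCent_anti H0 hn.le))) hDU
  have a12 : Fcore M ⊔ D ⊴ der M := ⟨HD_le h hDU, h.typeP.defM'.sup_eq.ge.trans (sup_le
    (le_norm_of_le le_sup_left) (le_norm_sup h.typeP.defM'.le_norm a9.2))⟩
  have h1 := cf1_mem_CF_of_normal a12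
  have h2 : ∀ w ∈ W1, w •ᶜ (Fcore M ⊔ D) = Fcore M ⊔ U ⊓ secCent (w •ᶜ H1) H0 := fun w hw => by
    rw [conj_sup, conj_D h hw, (Fcore_normal M).conj_eq (W1_le h hw)]
  have ha : (a : ℂ) ≠ 0 := Nat.cast_ne_zero.2 (by have := hn.one_lt; omega)
  refine cfnorm_eq_of_cfdot ?_
  rw [← cfIndInd' a12.1 (der_le M) (cf1_mem_CF _), cfInd_cfun1 a12, relIndex_HD_K h hDU, ← hn.a_eq, map_smul,
    cfdotZl, cfdotZr, ← cfdot_Res_l (der_le M) (cfInd_mem_CF _ _ _) h1,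
    cfResInd (der_le M) _ (CF_le_suppOn _ h1) (der_normal M).2, sum_elts_sdprod h.typeP.defM,
    Finset.sum_congr rfl fun k hk => Finset.sum_congr rfl fun w hw => by
      rw [cfConjgM, cfConjg_id (cfConjg_mem_CF ((der_normal M).2 (W1_le h (mem_elts.1 hw))) h1)
        (mem_elts.1 hk)], sum_elts_const, ← Nat.cast_smul_eq_nsmul ℂ, smul_smul,
    inv_mul_cancel₀ (cardC_ne_zero _), one_smul, cfdot_suml,
    ← Finset.add_sum_erase _ _ (mem_elts.2 (one_mem W1)), cfConjg_one, cfdot_cf1_cf1 a12.1, inf_idem,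
    relIndex_HD_K h hDU, ← hn.a_eq, Finset.sum_congr rfl (g := fun _ => ((Pu M U H0 : ℕ) : ℂ)⁻¹)
      fun w hw => ?_, Finset.sum_const, Finset.card_erase_of_mem (mem_elts.2 (one_mem W1)), card_elts,
    nsmul_eq_mul, map_natCast]
  · push_cast; field_simp
  obtain ⟨hw1, hw⟩ := Finset.mem_erase.1 hw
  have hw := mem_elts.1 hw
  rw [cfConjg_cf1_conj, h2 w hw, cfdot_cf1_cf1 (HD_le h inf_le_left), sup_inf_of_le_left
    (Or.inr (inf_le_left.trans h.typeP.defM'.le_norm)) le_sup_left, inf_comm U, inf_assoc, inf_comm U,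
    sup_inf_of_le_right (Or.inr (hDU.trans h.typeP.defM'.le_norm)) hDU, h.typeP.defM'.inf_eq, bot_sup_eq,
    ← inf_eq_right.2 hDU, ← inf_assoc, inf_comm _ U, hc w hw hw1,
    relIndex_HD_K h (D := Pc M U H0) inf_le_left, Pu]

end P9

variable [MinOdd G] {M U W W1 W2 H0 : Subgroup G}

theorem Ptype_core_coherence (h : PtypeHyp M U W W1 W2 H0) :
    Coherent M ⊤ (calSH M (H0 ⊔ der (Pc M U H0))) (sharp M) (FTDade0 M) := by
  classical
  set S := calSH M (H0 ⊔ der (Pc M U H0)) with hS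
  have hD := FT_prDade_hypF h.max h.typeP
  have hK := der_normal M
  obtain ⟨R, hR, -⟩ := prDade_subcoherent hD (S := S) (seqInd_conjC_subset1 _ _ _ le_rfl)
    fun χ hχ => seqInd_conjC_neq (mFT_odd M) hK (nHK h).1 hχ
  have i1 : ∀ χ, cfInd M (der M) χ 1 = ♯W1 * χ 1 := fun χ => by
    rw [cfInd1 (der_le M), h.typeP.defM.relIndex_left]
  by_cases hg : PGalois M U H0
  · have : ∀ φ ∈ S, φ 1 = ♯W1 * Pu M U H0 := fun φ hφ => by
      obtain ⟨χ, hχ, rfl⟩ := seqIndP.1 hφ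
      rw [i1, ((typeP_Galois_characters h hg).2.1 χ hχ).1]
    exact uniform_degree_coherence hR fun φ hφ ψ hψ => (this φ hφ).trans (this ψ hψ).symm
  obtain ⟨H1, a, hn⟩ := typeP_Galois_Pn h hg
  have hp := PtypeHyp.prime_p h
  have hq := PtypeHyp.prime_q h
  have hC : Pc M U H0 ≤ U := inf_le_left
  set S1 := S.filter fun φ : G → ℂ => φ 1 = ((♯W1 * a : ℕ) : ℂ) with hS1
  have c1 : ConjSubset S1 S := (ConjSubset.refl hR.conj_mem).filter _ fun φ _ e => by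
    rw [cfConjCE, e, map_natCast]
  obtain ⟨S2, hS2, hmax⟩ := Finset.exists_max_image (S.powerset.filter fun X => S1 ⊆ X ∧ ConjSubset X S ∧
    Coherent M ⊤ X (sharp M) (FTDade0 M)) Finset.card ⟨S1, Finset.mem_filter.2 ⟨Finset.mem_powerset.2 c1.1,
      subset_rfl, c1, uniform_degree_coherence (subset_subcoherent hR c1) fun φ hφ ψ hψ =>
        (Finset.mem_filter.1 hφ).2.trans (Finset.mem_filter.1 hψ).2.symm⟩⟩
  obtain ⟨-, c2, c3, c4⟩ := Finset.mem_filter.1 hS2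
  have c5 : ∀ χ ∈ S, χ ∉ S2 → ¬ Coherent M ⊤ (insert χ (insert (star χ) S2)) (sharp M) (FTDade0 M) :=
    fun χ h1 h2 h3 => by
      have h4 := c3.insert_pair hR.conj_mem h1
      have h5 : S2 ⊆ insert χ (insert (star χ) S2) :=
        (Finset.subset_insert _ _).trans (Finset.subset_insert _ _)
      exact (Finset.card_lt_card ⟨h5, fun h6 => h2 (h6 (Finset.mem_insert_self _ _))⟩).not_ge
        (hmax _ (Finset.mem_filter.2 ⟨Finset.mem_powerset.2 h4.1, c2.trans h5, h4, h3⟩))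
  by_contra hcon
  obtain ⟨χ0, d1, d2⟩ := Finset.not_subset.1 fun e : S ⊆ S2 => hcon (subset_coherent e c4)
  have hT := card_degree_qa h hn
  set T := (calSH M (H0 ⊔ der U)).filter fun ζ => IsIrr M ζ ∧ ζ 1 = (♯W1 * a : ℕ) with hT'
  have t1 : T ⊆ S1 := fun ζ hζ => Finset.mem_filter.2 ⟨calSH_mono M (sup_le_sup_left (der_mono hC) _)
    (Finset.mem_filter.1 hζ).1, (Finset.mem_filter.1 hζ).2.2⟩
  have ha := hn.one_lt
  have hUD : der U ≤ U ⊓ secCent H1 H0 :=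
    (PtypeHyp.der_U_le h).trans (inf_le_inf_left U (secCent_anti H0 hn.le))
  have e1 : (der U).relIndex (U ⊓ secCent H1 H0) * a = (der U).relIndex (Pc M U H0) * Pu M U H0 := by
    rw [hn.a_eq, Pu, relIndex_mul_relIndex _ _ _ hUD inf_le_left,
      relIndex_mul_relIndex _ _ _ (PtypeHyp.der_U_le h) hC]
  have e2 : 2 * a ≤ Pp M H0 - 1 := by
    have o1 : Odd a := (mFT_odd U).of_dvd_nat (hn.a_eq ▸ relIndex_dvd_card _ _)
    have o2 : Odd (Pp M H0) := (mFT_odd H1).of_dvd_nat (hn.card ▸ relIndex_dvd_card _ _)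
    exact Nat.le_of_dvd (Nat.sub_pos_of_lt hp.one_lt) ((Nat.coprime_two_left.2 o1).mul_dvd_of_dvd_of_dvd
      (Nat.Odd.sub_odd o2 odd_one).two_dvd hn.dvd)
  have p1 := relIndex_pos (der U) (U ⊓ secCent H1 H0)
  have p2 := relIndex_pos (der U) (Pc M U H0)
  have p3 : 0 < Pu M U H0 := relIndex_pos _ _
  obtain ⟨ψ1, hψ⟩ : T.Nonempty := Finset.card_pos.1 (Nat.pos_of_mul_pos_left
    ((Nat.mul_pos (Nat.sub_pos_of_lt hp.one_lt) p1).trans_le hT))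
  have hψ1 := (Finset.mem_filter.1 hψ).2
  have key : ∀ χ ∈ S, χ ∉ S2 → ∃ n, χ 1 = (♯W1 * (a * n) : ℕ) ∧ a * n = Pu M U H0 ∧ T.card = 2 * n ∧
      (der U).relIndex (Pc M U H0) = 1 ∧ Pp M H0 - 1 = 2 * a ∧ S2 ⊆ T := fun χ h1 h2 => by
    obtain ⟨χ', h3, rfl⟩ := seqIndP.1 h1
    obtain ⟨n, h4⟩ := one_dvd h hn (Iirr_kerDS _ le_sup_left le_rfl h3)
    have h5 : cfInd M (der M) χ' 1 = (♯W1 * (a * n) : ℕ) := by rw [i1, h4, Nat.cast_mul ♯W1]
    have h6 := not_lt.1 (mt (extend_coherent hR c3 (c2 (t1 hψ)) h1 h2 c4 ⟨n, isCint_natCast n, by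
      rw [h5, hψ1.2]; push_cast; ring⟩) (c5 _ h1 h2))
    have h7 := irr1_bound_quo (IrrKerD_irr h3) (mem_IrrKerD.1 h3).2.1 le_rfl (HD_le h hC)
      (der_HD_le h le_rfl hC (commutator_le_of_le_secCent inf_le_right))
    rw [relIndex_self, relIndex_HD_K h hC, ← Pu, h4, Nat.cast_one, Real.sqrt_one, mul_one,
      Complex.natCast_re, Nat.cast_le] at h7
    rw [h5, hψ1.2, Complex.natCast_re, Complex.natCast_re, ← Finset.sum_sdiff (t1.trans c2),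
      Finset.sum_congr rfl (s₁ := T) (g := fun _ => ((♯W1 * a : ℕ) : ℝ) ^ 2) fun ζ hζ => by
        rw [(Finset.mem_filter.1 hζ).2.2, cfnorm_irr (Finset.mem_filter.1 hζ).2.1, div_one,
          Complex.natCast_re], Finset.sum_const, nsmul_eq_mul] at h6
    have h8 : ∀ φ ∈ S2 \ T, 0 < (φ 1).re ^ 2 / cfnorm M φ := fun φ hφ =>
      have := seqInd_subT _ _ _ _ (c3.1 (Finset.mem_sdiff.1 hφ).1)
      div_pos (pow_pos (seqInd1_gt0 (der_le M) this) 2) (cfnorm_seqInd_gt0 (der_le M) this)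
    have h9 := Finset.sum_nonneg fun φ hφ => (h8 φ hφ).le
    have h10 : T.card ≤ 2 * n := by
      have : (T.card : ℝ) * ((♯W1 * a : ℕ) : ℝ) ^ 2 ≤ 2 * ((♯W1 * (a * n) : ℕ) : ℝ) * (♯W1 * a : ℕ) := by
        linarith
      have : T.card * (♯W1 * a) ^ 2 ≤ 2 * (♯W1 * (a * n)) * (♯W1 * a) := by exact_mod_cast this
      exact Nat.le_of_mul_le_mul_right (c := (♯W1 * a) ^ 2) (by linarith)
        (pow_pos (Nat.mul_pos hq.pos (by omega)) 2)
    generalize (der U).relIndex (U ⊓ secCent H1 H0) = d at *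
    generalize (der U).relIndex (Pc M U H0) = c at *
    generalize Pu M U H0 = u at *
    generalize Pp M H0 - 1 = r at *
    have g1 : r * (c * u) ≤ a * (a * T.card) := by rw [← e1]; nlinarith
    have g2 : a * (a * T.card) ≤ 2 * a * (a * n) := by nlinarith [Nat.mul_le_mul_left (a * a) h10]
    have g3 : 2 * a * (a * n) ≤ 2 * a * u := Nat.mul_le_mul_left _ h7
    have g4 : 2 * a * u ≤ r * u := Nat.mul_le_mul_right _ e2
    have g5 : r * u ≤ r * (c * u) := Nat.mul_le_mul_left _ (Nat.le_mul_of_pos_left _ p2)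
    have g6 : T.card = 2 * n := Nat.eq_of_mul_eq_mul_left (show 0 < a * a by positivity) (by linarith)
    refine ⟨n, h5, Nat.eq_of_mul_eq_mul_left (show 0 < 2 * a by omega) (by omega), g6,
      Nat.eq_of_mul_eq_mul_right p3 (Nat.eq_of_mul_eq_mul_left (show 0 < r by omega) (by linarith)),
      Nat.eq_of_mul_eq_mul_right p3 (by omega), Finset.sdiff_eq_empty_iff_subset.1 ?_⟩
    by_contra hne
    have := Finset.sum_pos h8 (Finset.nonempty_iff_ne_empty.2 hne)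
    rw [g6] at h6
    push_cast at h6
    nlinarith
  obtain ⟨n, k1, k2, k3, k4, k5, k6⟩ := key χ0 d1 d2
  obtain rfl : S2 = T := k6.antisymm (t1.trans c2)
  have k7 : ∀ χ ∈ S, χ ∉ T → χ 1 = (♯W1 * Pu M U H0 : ℕ) := fun χ h1 h2 => by
    obtain ⟨m, h3, h4, -⟩ := key χ h1 h2
    rw [h3, h4]
  have k8 : a ≠ Pu M U H0 := fun e => d2 (c2 (Finset.mem_filter.2 ⟨d1, by rw [k1, k2, ← e]⟩))
  have k9 : 1 < n := by
    rcases n with _ | _ | n <;> omega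
  have sC : calSH M (H0 ⊔ Pc M U H0) ⊆ S := calSH_mono M (sup_le_sup_left (der_le _) _)
  have k10 := fun w => inf_conj_cases h hn (w := w) (fun ζ hζ => (em (ζ ∈ T)).imp
    (fun e => (Finset.mem_filter.1 e).2.2) (k7 ζ (sC hζ))) k8
  have k11 : n ≤ a := by
    obtain ⟨w, hw, hw1⟩ := exists_mem_ne_one h.typeP.W1_ne_bot
    have := relIndex_inf_le (H := U ⊓ secCent (w •ᶜ H1) H0) (K := U ⊓ secCent H1 H0) (L := U)
    rw [k10 w hw hw1, relIndex_Dw h hn hw, ← hn.a_eq, ← Pu, ← k2] at this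
    exact Nat.le_of_mul_le_mul_left this (by omega)
  have eC : der U = Pc M U H0 := (PtypeHyp.der_U_le h).antisymm (relIndex_eq_one.1 k4)
  set S4 := ((calSH M (H0 ⊔ Pc M U H0)).filter (IsIrr M)).filter (· ∉ T) with hS4
  have m4 : ∀ φ ∈ S4, φ ∈ S ∧ φ ∉ T ∧ IsIrr M φ := fun φ hφ =>
    have ⟨h1, h2⟩ := Finset.mem_filter.1 hφ
    ⟨sC (Finset.mem_filter.1 h1).1, h2, (Finset.mem_filter.1 h1).2⟩
  have k12 : Pp M H0 ^ ♯W1 - 1 = 2 * ♯W1 * a + S4.card * ♯W1 * (a * n) + 2 * a * (a * n) := by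
    have h1 := sum_calSH h le_rfl (PtypeHyp.normal_C h).2
    have h2 : ((calSH M (H0 ⊔ Pc M U H0)).filter (IsIrr M)).filter (· ∈ T) = T := by
      refine Finset.ext fun φ => ⟨fun hφ => (Finset.mem_filter.1 hφ).2, fun hφ => ?_⟩
      exact Finset.mem_filter.2 ⟨Finset.mem_filter.2 ⟨eC ▸ (Finset.mem_filter.1 hφ).1,
        (Finset.mem_filter.1 hφ).2.1⟩, hφ⟩
    have h3 : (calSH M (H0 ⊔ Pc M U H0)).filter (fun ζ => ¬ IsIrr M ζ) =
        (calSH M H0).filter fun ζ => ¬ IsIrr M ζ := Finset.ext fun φ => by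
      simp only [Finset.mem_filter]
      exact and_congr_left fun e => ⟨fun e' => calSH_mono M le_sup_left e', fun e' => (red_facts h e' e).2.2⟩
    rw [← Finset.sum_filter_add_sum_filter_not _ (IsIrr M), ← Finset.sum_filter_add_sum_filter_not _ (· ∈ T),
      h2, h3, ← hS4, Finset.sum_congr rfl (s₁ := T) (g := fun _ => ((♯W1 * a : ℕ) : ℂ) ^ 2) fun ζ hζ => by
        rw [(Finset.mem_filter.1 hζ).2.2, cfdot_irr_self (Finset.mem_filter.1 hζ).2.1, div_one],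
      Finset.sum_congr rfl (s₁ := S4) (g := fun _ => ((♯W1 * Pu M U H0 : ℕ) : ℂ) ^ 2) fun ζ hζ => by
        rw [k7 ζ (m4 ζ hζ).1 (m4 ζ hζ).2.1, cfdot_irr_self (m4 ζ hζ).2.2, div_one],
      Finset.sum_congr rfl (s₁ := (calSH M H0).filter _) (g := fun _ => ((♯W1 * Pu M U H0 ^ 2 : ℕ) : ℂ))
        fun ζ hζ => by
          obtain ⟨h2, h3, -⟩ := red_facts h (Finset.mem_filter.1 hζ).1 (Finset.mem_filter.1 hζ).2
          rw [h2, h3]; push_cast; field_simp [cardC_ne_zero W1], Finset.sum_const, Finset.sum_const,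
      Finset.sum_const, (typeP_reducible_core_Ind h).1, k3, k5, ← Pu, ← k2, nsmul_eq_mul, nsmul_eq_mul,
      nsmul_eq_mul] at h1
    have h4 : 2 * n * (♯W1 * a) ^ 2 + S4.card * (♯W1 * (a * n)) ^ 2 + 2 * a * (♯W1 * (a * n) ^ 2) =
        ♯W1 * (a * n) * (Pp M H0 ^ ♯W1 - 1) := by exact_mod_cast h1
    exact Nat.eq_of_mul_eq_mul_left (Nat.mul_pos hq.pos (k2 ▸ p3)) (by linear_combination -h4)
  have k13 : (a + 1) * n + (♯W1 - 1) * a < S4.card * n := by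
    by_contra! hle
    have h1 := pow_gt (by omega : 0 < a) ((Nat.Prime.odd_iff hq).1 (mFT_odd W1))
    rw [show 2 * a + 1 = Pp M H0 by have := hp.pos; omega] at h1
    obtain ⟨r, hr⟩ : ∃ r, ♯W1 = r + 1 := ⟨♯W1 - 1, by have := hq.pos; omega⟩
    rw [hr] at h1 hle k12
    rw [Nat.add_sub_cancel] at hle
    have h2 := Nat.mul_le_mul_left ((r + 1) * a) hle
    have h3 := Nat.mul_le_mul_left ((r + 1) * a * (a + 1) + 2 * a * a) k11
    have : Pp M H0 ^ (r + 1) = Pp M H0 ^ (r + 1) - 1 + 1 := by omega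
    nlinarith
  set γ := cfInd M (Fcore M ⊔ U ⊓ secCent H1 H0) (cf1 (Fcore M ⊔ U ⊓ secCent H1 H0)) with hγ
  have hHD := (HD_le h (inf_le_left : U ⊓ secCent H1 H0 ≤ U)).trans (der_le M)
  have g1 : ∀ φ ∈ S, ⟪φ, γ⟫[M] = 0 := fun φ hφ => by
    obtain ⟨χ, hχ, rfl⟩ := seqIndP.1 hφ
    have := IrrKerD_irr hχ
    rw [cfdot_cfInd_left (der_le M) (CF_le_suppOn _ this.mem_CF) (cfInd_mem_CF _ _ _), ← cfdot_cfRes_right]
    exact cfdot_symm0 (cfdot_eq_zero_of_cfker (cfRes_mem_CF (der_le M) (cfInd_mem_CF _ _ _)) this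
      ((le_inf (nHK h).1 (le_cfker_cfInd hHD (Fcore_normal M).2 (le_sup_left.trans (cfker_cf1 _).ge))).trans
        (cfker_Res _)) (mem_IrrKerD.1 hχ).2.2)
  have g2 : ∀ φ ∈ S, φ ∈ CFon M (insert 1 (FTsupp0 M)) := fun φ hφ => by
    obtain ⟨χ, hχ, rfl⟩ := seqIndP.1 hφ
    exact CFon_mono M (Set.insert_subset_insert hD.A_subset)
      (prDade_Ind_irr_on hD (IrrKerD_irr hχ) (mem_IrrKerD.1 hχ).2.2)
  have hψS := c3.1 hψ
  have g3 : γ - ψ1 ∈ CFon M (FTsupp0 M) := mem_CFon_of (sub_mem (cfInd_mem_CF _ _ _) hψ1.1.mem_CF)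
    fun x _ hx => by
      by_cases e : x = 1
      · rw [e, Pi.sub_apply, hψ1.2, hγ, cfInd1 hHD, cf1_one, mul_one, relIndex_HD_M h inf_le_left, ← hn.a_eq,
          sub_self]
      rw [Pi.sub_apply, cfun_on0 (g2 ψ1 hψS) (by simp [e, hx]), sub_zero]
      refine cfun_on0 (cfInd_on M _ (CF_le_suppOn _ (cf1_mem_CF _))) fun ⟨z, hz, g, hg, e'⟩ => hx ?_
      obtain ⟨y, hy, hy1, hzy⟩ := exists_cent h hn hz
      exact e' ▸ FTsupp0_norm M g hg z (hD.A_subset (hD.le_A y hy hy1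
        ⟨⟨HD_le h inf_le_left hz, hzy⟩, fun e1 => e (by rw [e', e1, mul_one, mul_inv_cancel])⟩))
  obtain ⟨χ, hχ, hc⟩ := coherence_core hR c3 (S4 := S4) (A := FTDade0 M (γ - ψ1)) hψ
    (fun ψ h0 => ⟨(Finset.mem_filter.1 h0).2.1, (Finset.mem_filter.1 h0).2.2.trans hψ1.2.symm⟩) k3 k9
    (fun φ h1 h2 => by rw [k7 φ h1 h2, hψ1.2, ← k2]; push_cast; ring) m4
    (Dade_vchar hD.dade (mem_ZIrrOn.2 ⟨sub_mem (cfInd_vchar hHD (cf1_vchar _)) (irr_vchar hψ1.1), g3.2⟩))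
    (fun φ hφ => by
      rw [Dade_isometry hD.dade g3 (zchar_mem_CFon (fun φ => hR.mem_CF)
        (zcharD1_seqInd_Dade hD.dade.one_not_mem g2 ▸ hφ)), cfdotBl,
        cfdot_symm0 (cfdot_zchar_eq_zero (zcharW hφ) g1), zero_sub]) (by
      rw [cfnorm_Dade hD.dade g3, cfnormBd (cfdot_symm0 (g1 ψ1 hψS)), cfnorm_irr hψ1.1,
        cfdot_gamma h hn k10, ← k2]
      have h1 : (0 : ℝ) < n := by positivity
      have h2 : (0 : ℝ) < a := by positivity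
      have h3 : ((a + 1) * n + (♯W1 - 1 : ℕ) * a : ℝ) < S4.card * n := by exact_mod_cast k13
      refine lt_of_mul_lt_mul_right (lt_of_eq_of_lt ?_ h3) h1.le
      push_cast; field_simp; ring)
  exact c5 χ (m4 χ hχ).1 (m4 χ hχ).2.1 hc

end Cfsg.Agent.OO.Pf
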