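import Cfsg.Agent.Lib.OO.BG3
import Cfsg.Agent.Lib.OO.BG13

/-! # B&G section 14, first part (`κ`, `σ`-decomposition, 14.1 - 14.3) -/

set_option autoImplicit false
set_option linter.unusedSectionVars false

namespace Cfsg.Agent.OO.Pf

open Subgroup Cfsg.Agent.Coprime B13
open scoped Pointwise

universe u

variable {G : Type u} [Group G] [Finite G]

theorem kappaS_conj (M : Subgroup G) (g : G) : kappaS (g •ᶜ M) = kappaS M := by
  have key : ∀ (M : Subgroup G) (g : G), kappaS M ⊆ kappaS (g •ᶜ M) := by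
    rintro M g p ⟨h1, P, hP, h2⟩
    refine ⟨by rwa [tau13S, tau1S_conj, tau3S_conj], g •ᶜ P, hP.conj g, ?_⟩
    rwa [Ms_conj, cent_conj, ← conj_inf, Ne, conj_eq_bot_iff]
  exact (by simpa using key (g •ᶜ M) g⁻¹ : kappaS (g •ᶜ M) ⊆ kappaS M).antisymm (key M g)

theorem kappa_tau13 (M : Subgroup G) : kappaS M ⊆ tau13S M := fun _ h => h.1

theorem kappa_sigma' (M : Subgroup G) : kappaS M ⊆ (sigmaS M)ᶜ :=
  fun _ h => h.1.elim (fun h => h.2.1) fun h => h.2.1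

theorem kappa_pi (M : Subgroup G) : kappaS M ⊆ piOf M := fun _ ⟨h, _, hP, _⟩ =>
  ⟨h.elim (fun h => h.1) fun h => h.1, hP.dvd_card one_ne_zero⟩

theorem typeFMax_conj (M : Subgroup G) (g : G) : TypeFMax (g •ᶜ M) ↔ TypeFMax M := by
  rw [TypeFMax, TypeFMax, isCoatom_conj_iff, kappaS_conj, piGrp_conj]

theorem typePMax_conj (M : Subgroup G) (g : G) : TypePMax (g •ᶜ M) ↔ TypePMax M := by
  rw [TypePMax, TypePMax, isCoatom_conj_iff, kappaS_conj, piGrp_conj]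

theorem typeP1Max_conj (M : Subgroup G) (g : G) : TypeP1Max (g •ᶜ M) ↔ TypeP1Max M := by
  rw [TypeP1Max, TypeP1Max, typePMax_conj, sigmaKappaS, sigmaKappaS, kappaS_conj, sigmaS_conj,
    piGrp_conj]

theorem typeP2Max_conj (M : Subgroup G) (g : G) : TypeP2Max (g •ᶜ M) ↔ TypeP2Max M := by
  rw [TypeP2Max, TypeP2Max, typePMax_conj, sigmaKappaS, sigmaKappaS, kappaS_conj, sigmaS_conj,
    piGrp_conj]

theorem ell_sigma_conj (x g : G) : ellSigma (g * x * g⁻¹) = ellSigma x := by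
  have : sigmaDecomp (g * x * g⁻¹) = (fun y => g * y * g⁻¹) '' sigmaDecomp x := by
    ext y
    constructor
    · rintro ⟨h1, M, hM, rfl⟩
      rw [constt_conj] at h1 ⊢
      exact ⟨_, ⟨conj_ne_one.1 h1, M, hM, rfl⟩, rfl⟩
    · rintro ⟨_, ⟨h1, M, hM, rfl⟩, rfl⟩
      exact ⟨conj_ne_one.2 h1, M, hM, (constt_conj _ _ _).symm⟩
  rw [ellSigma, this, Set.ncard_image_of_injective _ fun a b h => by simpa using h, ellSigma]

theorem mem_sigmaMax_conj {x g : G} {M : Subgroup G} :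
    g •ᶜ M ∈ sigmaMax (zpowers (g * x * g⁻¹)) ↔ M ∈ sigmaMax (zpowers x) := by
  simp only [sigmaMax, Set.mem_ofPred_eq]
  rw [isCoatom_conj_iff, Ms_conj, ← conj_zpowers, conj_le_conj_iff]

variable [MinOdd G]

namespace B14
variable {E H K L M P Q U X : Subgroup G} {p q : ℕ} {x y g : G}

theorem conj_of_tau13 (hp : p ∈ tau13S M) (hP : IsEp p 1 P M) (hQ : IsEp p 1 Q M) :
    ∃ g ∈ M, Q = g •ᶜ P := by
  have := Fact.mk (tau13_prime hp)
  obtain ⟨S, hS, h⟩ := exists_syl_ge hQ.le hQ.isPGroup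
  obtain ⟨g, hg, h'⟩ := hS.exists_conj_le hP.le hP.isPGroup
  exact ⟨g, hg, eq_of_isCyclic_of_card_eq (isCyclic_tau13 hp hS.isPGroup hS.le) h h'
    (by rw [card_conj, hP.card, hQ.card])⟩

theorem sigma_eq_or (hM : IsCoatom M) (hL : IsCoatom L) :
    (∃ g : G, L = g •ᶜ M) ∨ Disjoint (sigmaS M) (sigmaS L) := by
  by_cases h : NotConj L M
  · exact .inr (sigma_partition hM hL h)
  · exact .inl (by simpa [NotConj] using h)

theorem conj_of_mem_sigma (hM : IsCoatom M) (hL : IsCoatom L) (h1 : p ∈ sigmaS M)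
    (h2 : p ∈ sigmaS L) : ∃ g : G, L = g •ᶜ M :=
  (sigma_eq_or hM hL).resolve_right fun h => Set.disjoint_left.1 h h1 h2

theorem conj_of_piElt (hM : IsCoatom M) (hL : IsCoatom L) (hx : x ≠ 1) (h1 : PiElt (sigmaS M) x)
    (h2 : PiElt (sigmaS L) x) : ∃ g : G, L = g •ᶜ M :=
  (sigma_eq_or hM hL).resolve_right fun h =>
    hx (h1.eq_one (h2.mono fun _ h' h'' => Set.disjoint_left.1 h h'' h'))

theorem sigma_eq_of_piElt (hM : IsCoatom M) (hL : IsCoatom L) (hx : x ≠ 1) (h1 : PiElt (sigmaS M) x)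
    (h2 : PiElt (sigmaS L) x) : sigmaS L = sigmaS M := by
  obtain ⟨g, rfl⟩ := conj_of_piElt hM hL hx h1 h2
  exact sigmaS_conj M g

theorem inf_Ms_eq_bot (hM : IsCoatom M) (hL : IsCoatom L) (h : NotConj L M) : Ms M ⊓ Ms L = ⊥ :=
  (Ms_piGrp M).inf_eq_bot ((Ms_piGrp L).mono fun _ h1 h2 =>
    Set.disjoint_left.1 (sigma_partition hM hL h) h2 h1)

theorem le_Ms (hM : IsCoatom M) (h : X ≤ M) (h' : PiGrp (sigmaS M) X) : X ≤ Ms M :=
  (Msigma_Hall hM).le_of_normal_hall (Ms_normal M).2 h h'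

theorem mem_Ms (hM : IsCoatom M) (h : x ∈ M) (h' : PiElt (sigmaS M) x) : x ∈ Ms M :=
  (Msigma_Hall hM).mem_of_normal (Ms_normal M).2 h h'

theorem mem_sigmaMax : M ∈ sigmaMax (zpowers x) ↔ IsCoatom M ∧ x ∈ Ms M :=
  and_congr_right fun _ => zpowers_le

theorem exists_sigmaMax (hM : IsCoatom M) (hx : x ≠ 1) (h : PiElt (sigmaS M) x) :
    ∃ g : G, g •ᶜ M ∈ sigmaMax (zpowers x) := by
  obtain ⟨g, hg⟩ := (sigma_Jsub hM (piGrp_zpowers.2 h) (mt zpowers_eq_bot.1 hx)).1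
  exact ⟨g⁻¹, isCoatom_conj hM _, by rwa [Ms_conj, ← conj_le_iff_le_inv_conj]⟩

theorem exists_prime_le_zpowers (hx : x ≠ 1) : ∃ X ≤ zpowers x, (♯X).Prime := by
  obtain ⟨y, hy, h⟩ := exists_prime_order_mem (mt zpowers_eq_bot.1 hx)
  exact ⟨zpowers y, zpowers_le.2 hy, by rwa [Nat.card_zpowers]⟩

theorem exists_prime_le (h : H ≠ ⊥) : ∃ X ≤ H, (♯X).Prime := by
  obtain ⟨y, hy, h⟩ := exists_prime_order_mem h
  exact ⟨zpowers y, zpowers_le.2 hy, by rwa [Nat.card_zpowers]⟩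

theorem prime_ne_bot (h : (♯X).Prime) : X ≠ ⊥ := ne_bot_of_prime_dvd h dvd_rfl

end B14

open B14

theorem kappa_nonregular {M P : Subgroup G} {p : ℕ} (_hM : IsCoatom M) (hp : p ∈ kappaS M)
    (hP : IsEp p 1 P M) : Ms M ⊓ 𝐂(P) ≠ ⊥ := by
  obtain ⟨h, Q, hQ, h1⟩ := hp
  obtain ⟨g, hg, rfl⟩ := conj_of_tau13 h hQ hP
  rwa [← (Ms_normal M).conj_eq hg, cent_conj, ← conj_inf, Ne, conj_eq_bot_iff]

theorem ex_kappa_compl {M K : Subgroup G} (hM : IsCoatom M) (hK : Hall (kappaS M) K M) :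
    ∃ U, KappaCompl M U K := by
  obtain ⟨E, hE, h⟩ := ex_sigma_compl hM hK.le (hK.piGrp.mono (kappa_sigma' M))
  obtain ⟨U, hU⟩ := exists_hall (kappaS M)ᶜ (sol_of_le (mmax_sol hM) hE.le)
  have h1 := ((hK.mono h hE.le).isProd_compl hU).symm
  exact ⟨U, (hU.congr (ρ := (sigmaKappaS M)ᶜ) fun p hp hd => ⟨fun h h' => Or.elim h' (hE.piGrp p hp hd) h,
    fun h h' => h (.inr h')⟩).trans hE fun p h h' => h (.inl h'), hK, h1.sup_eq ▸ h1⟩

theorem kappa_witness {M : Subgroup G} (hM : IsCoatom M) : ∃ U K, KappaCompl M U K := by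
  obtain ⟨K, hK⟩ := exists_hall (kappaS M) (mmax_sol hM)
  exact (ex_kappa_compl hM hK).imp fun _ h => ⟨K, h⟩

theorem FtypeP {M : Subgroup G} (hM : IsCoatom M) : TypeFMax M ↔ kappaS M = ∅ :=
  ⟨fun h => Set.eq_empty_of_forall_notMem fun _ hp => h.2.mem (kappa_pi M hp) hp,
    fun h => ⟨hM, fun _ _ _ => by simp [h]⟩⟩

theorem PtypeP {M : Subgroup G} (hM : IsCoatom M) : TypePMax M ↔ (kappaS M).Nonempty := by
  rw [Set.nonempty_iff_ne_empty, Ne, ← FtypeP hM, TypePMax, TypeFMax]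
  tauto

theorem trivg_kappa {M K : Subgroup G} (hM : IsCoatom M) (hK : Hall (kappaS M) K M) :
    K = ⊥ ↔ TypeFMax M := by
  rw [hK.eq_bot_iff, TypeFMax, and_iff_right hM]

theorem trivg_kappa_compl {M U K : Subgroup G} (hM : IsCoatom M) (h : KappaCompl M U K) :
    U = ⊥ ↔ TypeP1Max M := by
  rw [h.hallU.eq_bot_iff, compl_compl, TypeP1Max]
  refine ⟨fun h1 => ⟨⟨hM, fun h2 => ?_⟩, h1⟩, fun h => h.2⟩
  exact (der_lt (mmax_sol hM) (mmax_neq1 hM)).not_ge ((le_Ms hM le_rfl fun p hp hd =>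
    (h1 p hp hd).resolve_right (h2 p hp hd)).trans (Msigma_der1 hM))

theorem sigma_mmax_exists {p : ℕ} (hp : p ∈ piOf (⊤ : Subgroup G)) :
    ∃ M : Subgroup G, IsCoatom M ∧ p ∈ sigmaS M := by
  have := Fact.mk hp.1
  obtain ⟨P, hP⟩ := exists_syl p (⊤ : Subgroup G)
  obtain ⟨M, hM, h⟩ := exists_mmax_norm hP.isPGroup (hP.ne_bot hp.2)
  exact ⟨M, hM, hp.1, P, hP.mono (le_normalizer.trans h) le_top, h⟩

theorem B14.exists_mem_decomp {x : G} {p : ℕ} (hp : p.Prime) (h : p ∣ orderOf x) :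
    ∃ M : Subgroup G, IsCoatom M ∧ p ∈ sigmaS M ∧ p ∣ orderOf (constt (sigmaS M) x) ∧
      constt (sigmaS M) x ∈ sigmaDecomp x := by
  obtain ⟨M, hM, h1⟩ := sigma_mmax_exists ⟨hp, h.trans (orderOf_dvd_card (mem_top x))⟩
  have h2 : p ∣ orderOf (constt (sigmaS M) x) := by
    rw [orderOf_constt, dvd_partn_iff hp (orderOf_pos x).ne']
    exact ⟨h, h1⟩
  exact ⟨M, hM, h1, h2, fun e => by simp [e, hp.ne_one] at h2, M, hM, rfl⟩

theorem ell_sigma0P {x : G} : ellSigma x = 0 ↔ x = 1 := by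
  rw [ellSigma, Set.ncard_eq_zero]
  refine ⟨fun h => by_contra fun hx => ?_, fun h => Set.eq_empty_of_forall_notMem ?_⟩
  · obtain ⟨p, hp, hd⟩ := Nat.exists_prime_and_dvd (mt orderOf_eq_one_iff.1 hx)
    obtain ⟨M, -, -, -, h1⟩ := exists_mem_decomp hp hd
    simp [h] at h1
  · rintro y ⟨h1, M, -, rfl⟩
    simp [h] at h1

theorem B14.decomp_subset {x : G} {M : Subgroup G} (hM : IsCoatom M) (h : PiElt (sigmaS M) x) :
    sigmaDecomp x ⊆ {x} := by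
  rintro y ⟨h1, L, hL, rfl⟩
  have := sigma_eq_of_piElt hM hL h1 (h.of_mem_zpowers (constt_mem_zpowers _ _)) (piElt_constt _ _)
  rw [this, constt_eq_self h]
  rfl

theorem ell_sigma_le1 {x : G} : ellSigma x ≤ 1 ↔ (sigmaMax (zpowers x)).Nonempty := by
  refine ⟨fun h => ?_, fun ⟨M, hM⟩ => ?_⟩
  · by_cases hx : x = 1
    · obtain ⟨M, hM, -⟩ := mmax_exists (mFT_bot_ne_top (G := G))
      exact ⟨M, mem_sigmaMax.2 ⟨hM, hx ▸ one_mem _⟩⟩
    obtain ⟨p, hp, hd⟩ := Nat.exists_prime_and_dvd (mt orderOf_eq_one_iff.1 hx)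
    obtain ⟨M, hM, -, -, h1⟩ := exists_mem_decomp hp hd
    obtain ⟨g, hg⟩ := exists_sigmaMax hM hx fun q hq hd => by
      obtain ⟨L, -, -, h2, h3⟩ := exists_mem_decomp hq hd
      rw [(Set.ncard_le_one_iff (Set.toFinite _)).1 h h3 h1] at h2
      exact piElt_constt _ _ q hq h2
    exact ⟨_, hg⟩
  · rw [mem_sigmaMax] at hM
    exact (Set.ncard_le_ncard (decomp_subset hM.1 ((Ms_piGrp M).piElt hM.2))).trans (by simp)

theorem ell_sigma1P {x : G} : ellSigma x = 1 ↔ x ≠ 1 ∧ (sigmaMax (zpowers x)).Nonempty := by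
  rw [← ell_sigma_le1, Ne, ← ell_sigma0P]
  omega

theorem Msigma_ell1 {M : Subgroup G} {x : G} (hM : IsCoatom M) (hx : x ∈ Ms M) (hx1 : x ≠ 1) :
    ellSigma x = 1 := ell_sigma1P.2 ⟨hx1, M, mem_sigmaMax.2 ⟨hM, hx⟩⟩

theorem B14.ell1_of_piElt {M : Subgroup G} {x : G} (hM : IsCoatom M) (hx : PiElt (sigmaS M) x)
    (hx1 : x ≠ 1) : ellSigma x = 1 :=
  let ⟨_, h⟩ := exists_sigmaMax hM hx1 hx
  ell_sigma1P.2 ⟨hx1, _, h⟩

theorem ell1_decomposition {x : G} (h : ellSigma x = 1) : sigmaDecomp x = {x} := by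
  obtain ⟨h1, M, hM⟩ := ell_sigma1P.1 h
  rw [mem_sigmaMax] at hM
  have h2 := (Ms_piGrp M).piElt hM.2
  exact (decomp_subset hM.1 h2).antisymm
    (Set.singleton_subset_iff.2 ⟨h1, M, hM.1, (constt_eq_self h2).symm⟩)

theorem sigma_decomposition_constt' {M : Subgroup G} (x : G) (hM : IsCoatom M) :
    sigmaDecomp (constt (sigmaS M)ᶜ x) = sigmaDecomp x \ {constt (sigmaS M) x} := by
  have key : ∀ L : Subgroup G, Disjoint (sigmaS M) (sigmaS L) →
      constt (sigmaS L) (constt (sigmaS M)ᶜ x) = constt (sigmaS L) x := fun L h =>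
    constt_constt_of_subset (fun _ h1 h2 => Set.disjoint_left.1 h h2 h1) x
  ext y
  constructor
  · rintro ⟨h1, L, hL, rfl⟩
    rcases sigma_eq_or hM hL with ⟨g, rfl⟩ | h
    · rw [sigmaS_conj, constt_eq_one (piElt_constt _ _)] at h1
      exact absurd rfl h1
    · rw [key L h] at h1 ⊢
      refine ⟨⟨h1, L, hL, rfl⟩, fun e => h1 ((piElt_constt _ x).eq_one ?_)⟩
      rw [e]
      exact (piElt_constt _ x).mono fun _ h1 => Set.disjoint_left.1 h h1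
  · rintro ⟨⟨h1, L, hL, rfl⟩, h2⟩
    rcases sigma_eq_or hM hL with ⟨g, rfl⟩ | h
    · rw [sigmaS_conj] at h2
      exact absurd rfl h2
    · exact ⟨h1, L, hL, (key L h).symm⟩

theorem sigma_decomposition_subG {x : G} {H : Subgroup G} (h : sigmaDecomp x ⊆ H) : x ∈ H := by
  refine mem_of_forall_constt_mem fun p hp hd => ?_
  obtain ⟨M, -, h1, -, h2⟩ := exists_mem_decomp hp hd
  rw [← constt_constt_of_subset (Set.singleton_subset_iff.2 h1)]
  exact constt_mem _ (h h2)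

/-- the decomposition of a commuting product of a `σ(M)`-element and a `σ(M)'`-element -/
theorem B14.decomp_mul {M : Subgroup G} {x y : G} (hM : IsCoatom M) (hx : PiElt (sigmaS M) x)
    (hx1 : x ≠ 1) (hy : PiElt (sigmaS M)ᶜ y) (hc : Commute x y) :
    sigmaDecomp (x * y) = insert x (sigmaDecomp y) := by
  have h1 := constt_eq_of_mul hx hy hc
  have h2 := sigma_decomposition_constt' (x * y) hM
  rw [constt_compl_eq, h1, inv_mul_cancel_left] at h2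
  rw [h2, Set.insert_sdiff_singleton,
    Set.insert_eq_of_mem (show x ∈ sigmaDecomp (x * y) from ⟨hx1, M, hM, h1.symm⟩)]

theorem sigma'_kappa'_facts {M S : Subgroup G} {p : ℕ} (hM : IsCoatom M) (hp : p ∈ piOf M)
    (hs : p ∉ sigmaS M) (hk : p ∉ kappaS M) (hS : Syl p S M) :
    (TypeFMax M ∨ TypeP2Max M) ∧ ♯(Ohm p S) ≤ p ^ 2 ∧ Ms M ⊓ 𝐂(Ohm p S) = ⊥ ∧ Nil (Ms M) := by
  have := Fact.mk hp.1
  refine ⟨or_iff_not_imp_left.2 fun h => ⟨⟨hM, fun h' => h ⟨hM, h'⟩⟩, fun h' =>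
    (h'.mem hp).elim hs hk⟩, ?_⟩
  by_cases h2 : p ∈ tau2S M
  · obtain ⟨A, hA⟩ := exists_isEp (p := p) (H := S) (n := 2) (by rw [rp_syl hS, h2.2.2])
    obtain ⟨h3, -, h4, -⟩ := tau2_context hM h2 (hA.mono hS.le)
    rw [((h3 S hS).2 hA.le).1]
    exact ⟨hA.card.le, h4, tau2_Msigma_nil hM h2⟩
  · have h3 : p ∈ tau13S M := by
      rw [partition_pi_mmax hM] at hp
      rcases hp with ((h | h) | h) | h
      exacts [.inl h, absurd h h2, .inr h, absurd h hs]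
    have h4 := (isEp_Ohm_of_isCyclic (isCyclic_tau13 h3 hS.isPGroup hS.le)
      (hS.dvd_card_iff.2 hp.2)).mono hS.le
    have h5 : Ms M ⊓ 𝐂(Ohm p S) = ⊥ := by_contra fun h => hk ⟨h3, _, h4, h⟩
    exact ⟨h4.card.le.trans (Nat.pow_le_pow_right hp.1.pos one_le_two), h5,
      prime_Frobenius_sol_kernel_nil (h4.le.trans (Ms_normal M).2) h4.prime_card h5⟩

theorem notP1type_Msigma_nil {M : Subgroup G} (h : TypeFMax M ∨ TypeP2Max M) : Nil (Ms M) := by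
  have hM : IsCoatom M := h.elim (fun h => h.1) fun h => h.1.1
  obtain ⟨U, K, hU⟩ := kappa_witness hM
  obtain ⟨p, hp, hd⟩ := exists_prime_dvd (H := U) fun e =>
    have := (trivg_kappa_compl hM hU).1 e
    h.elim (fun h => this.1.2 h.2) fun h => h.2 this.2
  have := Fact.mk hp
  obtain ⟨S, hS⟩ := exists_syl p M
  have h1 := hU.hallU.piGrp p hp hd
  exact (sigma'_kappa'_facts hM ⟨hp, hd.trans (card_dvd hU.hallU.le)⟩ (fun h => h1 (.inl h))
    (fun h => h1 (.inr h)) hS).2.2.2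

end Cfsg.Agent.OO.Pf
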