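import Cfsg.Agent.Lib.OO.Pf.BG14_A

/-! # B&G section 14, second part (14.2 - 14.4) -/

set_option autoImplicit false
set_option linter.unusedSectionVars false

namespace Cfsg.Agent.OO.Pf

open Subgroup Cfsg.Agent.Coprime B13
open scoped Pointwise

universe u

variable {G : Type u} [Group G] [Finite G] [MinOdd G]

namespace B14
variable {E H K L M P Q U X : Subgroup G} {p q : ℕ} {x y g : G}

theorem kappa_ne_bot (hM : TypePMax M) (hK : Hall (kappaS M) K M) : K ≠ ⊥ :=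
  fun e => hM.2 ((trivg_kappa hM.1 hK).1 e).2

theorem typeP_of_mem (hM : IsCoatom M) (hp : p ∈ kappaS M) : TypePMax M := (PtypeP hM).2 ⟨p, hp⟩

theorem cent_ne_bot (hM : IsCoatom M) (hK : PiGrp (kappaS M) K) (hKM : K ≤ M) (hX : X ≤ K)
    (hp : (♯X).Prime) : Ms M ⊓ 𝐂(X) ≠ ⊥ :=
  kappa_nonregular hM (hK _ hp (card_dvd hX)) (isEp_one_of_prime (hX.trans hKM) hp)

/-- the structure of `E` for a maximal subgroup of type `𝓟` -/
structure Core (M E U K E1 : Subgroup G) : Prop where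
  hall1 : Hall (tau1S M) E1 E
  ne1 : E1 ≠ ⊥
  le1 : E1 ≤ K
  sd : IsSdprod U K E
  prime : Semiprime (Ms M) K
  reg : Semiregular U K
  norm : ∀ X ≤ K, (♯X).Prime → K ≤ 𝐍(X)
  eq1 : Ab K → K = E1

theorem exists_core (hM : IsCoatom M) (hK : Hall (kappaS M) K M) (hK1 : K ≠ ⊥)
    (hE : Hall (sigmaS M)ᶜ E M) (hKE : K ≤ E) : ∃ U E1, Core M E U K E1 := by
  have hs := sol_of_le (mmax_sol hM) hE.le
  obtain ⟨X, hX, hp⟩ := exists_prime_le hK1
  have hC := cent_ne_bot hM hK.piGrp hK.le hX hp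
  obtain ⟨E1, E2, E3, h, h1⟩ : ∃ E1 E2 E3, SigmaCompl M E E1 E2 E3 ∧
      (Semiregular (Ms M) E3 → K ≤ E1) := by
    by_cases h : PiGrp (tau1S M) K
    · obtain ⟨E1, h1, h2⟩ := exists_hall_ge hs hKE h
      obtain ⟨E2, E3, h3⟩ := ex_tau23_compl hM hE h1
      exact ⟨E1, E2, E3, h3, fun _ => h2⟩
    · obtain ⟨E1, h1⟩ := exists_hall (tau1S M) hs
      obtain ⟨E2, E3, h3⟩ := ex_tau23_compl hM hE h1
      refine ⟨E1, E2, E3, h3, fun h4 => absurd (fun p hp hd => ?_) h⟩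
      have := Fact.mk hp
      obtain ⟨P, hP⟩ := exists_isEp_one hd
      refine (hK.piGrp p hp hd).1.resolve_right fun h5 => cent_ne_bot hM hK.piGrp hK.le hP.le
        hP.prime_card (h4.inf_cent (h3.hall3.le_of_normal_hall (sigma_compl_context hM h3).1.2.2
          (hP.le.trans hKE) (piGrp_of_isPGroup hP.isPGroup h5)) (hP.ne_bot one_ne_zero))
  have key : ∀ F ≤ E, K ≤ F → Semiprime (Ms M) F → PiGrp (tau13S M) F → F = K := fun F h2 h3 h4 h5 =>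
    hK.eq_of_le h3 (h2.trans hE.le) fun p hp' hd => by
      have := Fact.mk hp'
      obtain ⟨P, hP⟩ := exists_isEp_one hd
      refine ⟨h5 p hp' hd, P, hP.mono (h2.trans hE.le), ?_⟩
      rwa [h4.inf_cent hP.le (hP.ne_bot one_ne_zero), ← h4.inf_cent (hX.trans h3) (prime_ne_bot hp)]
  obtain ⟨⟨-, h3⟩, -, ⟨c1, -⟩, ⟨-, -, h4, h5⟩, h6⟩ := sigma_compl_context hM h
  by_cases hr : Semiregular (Ms M) E3
  · obtain rfl := key E1 h.hall1.le (h1 hr) (tau1_primact_Msigma hM hE h.hall1)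
      (h.hall1.piGrp.mono Set.subset_union_left)
    refine ⟨E3 ⊔ E2, E1, h.hall1, hK1, le_rfl, h5, tau1_primact_Msigma hM hE h.hall1,
      semiregular_of_prime_subgroup fun X hX hp => by_contra fun h7 => ?_,
      fun X hX _ => le_norm_of_ab (ab_of_isCyclic c1) hX, fun _ => rfl⟩
    obtain ⟨r, hr', hd⟩ := exists_prime_dvd h7
    have := Fact.mk hr'
    obtain ⟨Y, hY⟩ := exists_isEp_one hd
    have hX1 := h.hall1.piGrp _ hp (card_dvd hX)
    have hX' := isEp_one_of_prime (hX.trans hKE) hp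
    have hYE := (hY.le.trans inf_le_left).trans h5.left_le
    apply cent_ne_bot hM hK.piGrp hK.le hX hp
    rcases (Nat.Prime.dvd_mul hr').1 ((hd.trans (card_dvd inf_le_left)).trans h4.card.symm.dvd)
      with e | e
    · exact eq_bot_iff.2 ((cent_tau1Elem_Msigma hM hE hX1 hX' (hY.mono (inf_le_inf_right _
        h5.left_le))).trans (hr.inf_cent (h.hall3.le_of_normal_hall h3.2 hYE (piGrp_of_isPGroup
          hY.isPGroup (h.hall3.piGrp r hr' e))) (hY.ne_bot one_ne_zero)).le)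
    · have h8 := h.hall2.piGrp r hr' e
      obtain ⟨A, hA, -⟩ := ex_tau2Elem hM hE h8
      exact tau12_regular hM hE hX1 hX' h8 hA fun e => hY.ne_bot one_ne_zero (eq_bot_iff.2
        ((le_inf (((tau2_compl_context hM hE h8 hA).1.2 Y).1 (hY.of_le hYE)).le
          (hY.le.trans inf_le_right)).trans e.le))
  · obtain ⟨h7, h8, h9, h10⟩ := tau13_nonregular hM h hr
    obtain rfl := key E le_rfl hKE h9 (h8.piGrp (h.hall3.piGrp.mono Set.subset_union_right)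
      (h.hall1.piGrp.mono Set.subset_union_left))
    refine ⟨⊥, E1, h.hall1, h7, h.hall1.le, IsSdprod.bot_left _, h9, semiregular_bot_left _,
      fun X hX hp => (h10 X hX hp).2, fun ha => absurd ?_ hr⟩
    rw [inf_eq_left.2 (h.hall3.le.trans ha.le_cent)] at h6
    exact h6 ▸ semiregular_bot_right _

namespace Core
variable {E1 : Subgroup G}

theorem ne_bot (h : Core M E U K E1) : K ≠ ⊥ := fun e => h.ne1 (eq_bot_iff.2 (h.le1.trans e.le))

theorem coprime (h : Core M E U K E1) : (♯U).Coprime ♯K := regular_norm_coprime h.sd.le_norm h.reg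

theorem comm (h : Core M E U K E1) (hM : IsCoatom M) (hE : E ≤ M) : ⁅U, K⁆ = U :=
  commutator_eq_of_cent_bot h.sd.le_norm h.coprime
    (.inl (sol_of_le (mmax_sol hM) (h.sd.left_le.trans hE))) (h.reg.inf_cent le_rfl h.ne_bot)

theorem le_der (h : Core M E U K E1) (hM : IsCoatom M) (hE : E ≤ M) : U ≤ der E :=
  (h.comm hM hE).ge.trans (commutator_mono h.sd.left_le h.sd.right_le)

theorem ab (h : Core M E U K E1) (hM : IsCoatom M) (hE : Hall (sigmaS M)ᶜ E M) : Ab U :=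
  ab_of_le (der_mmax_compl_abelian hM hE) (h.le_der hM hE.le)

theorem hallU (h : Core M E U K E1) (hE : Hall (sigmaS M)ᶜ E M) (hK : Hall (kappaS M) K M) :
    Hall (sigmaKappaS M)ᶜ U M :=
  (h.sd.hall_left (fun p hp hd h' => Or.elim h' (hE.piGrp p hp (hd.trans (card_dvd h.sd.left_le)))
    fun h' => hp.ne_one (Nat.eq_one_of_dvd_coprimes h.coprime hd ((hK.dvd_card_iff hp h').2
      (kappa_pi M h').2))) (hK.piGrp.mono fun _ h1 h2 => h2 (.inr h1))).trans hE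
    fun _ h1 h2 => h1 (.inl h2)

theorem norm_eq (h : Core M E U K E1) (hM : IsCoatom M) (hE : Hall (sigmaS M)ᶜ E M) (hX : X ≤ K)
    (hX1 : X ≠ ⊥) (hn : K ≤ 𝐍(X)) : M ⊓ 𝐍(X) = K ⊔ Ms M ⊓ 𝐂(K) := by
  have h1 := pprod_norm_coprime_prod h.sd.sup_eq h.sd.normal hX
    (coprime_card_mono h.coprime le_rfl hX) (sol_of_le (mmax_sol hM) hE.le)
  have h2 := pprod_norm_coprime_prod (sdprod_sigma hM hE).sup_eq (Ms_normal M)
    (hX.trans h.sd.right_le) (coprime_Ms le_rfl (hE.piGrp.of_le (hX.trans h.sd.right_le)))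
    (mmax_sol hM)
  rw [← h2.sup_eq, ← h1.sup_eq, h.reg.inf_cent hX hX1, h.prime.inf_cent hX hX1, inf_eq_left.2 hn,
    bot_sup_eq, sup_comm]

theorem sdprod (h : Core M E U K E1) (hM : IsCoatom M) (hE : Hall (sigmaS M)ᶜ E M) :
    IsSdprod (Ms M ⊔ U) K M ∧ (♯(Ms M ⊔ U)).Coprime ♯K ∧ Ms M ⊔ U ≤ der M := by
  have h1 : (♯(Ms M ⊔ U)).Coprime ♯K := Nat.Coprime.coprime_dvd_left
    (card_sup_dvd (.inr ((h.sd.left_le.trans hE.le).trans (Ms_normal M).2)))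
    (Nat.Coprime.mul_left (coprime_Ms le_rfl (hE.piGrp.of_le h.sd.right_le)) h.coprime)
  have h2 := IsSdprod.of_coprime (le_norm_sup ((h.sd.right_le.trans hE.le).trans (Ms_normal M).2)
    h.sd.le_norm) h1
  rw [sup_assoc, h.sd.sup_eq, (sdprod_sigma hM hE).sup_eq] at h2
  exact ⟨h2, h1, sup_le (Msigma_der1 hM) ((h.le_der hM hE.le).trans (der_mono hE.le))⟩

theorem cent_bot (hM : IsCoatom M) (hU : Hall (sigmaKappaS M)ᶜ U M) (h1 : U ≠ ⊥) :
    Ms M ⊓ 𝐂(U) = ⊥ := by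
  obtain ⟨p, hp, hd⟩ := exists_prime_dvd h1
  have := Fact.mk hp
  obtain ⟨S, hS⟩ := exists_syl p U
  have h2 := hU.piGrp p hp hd
  exact eq_bot_iff.2 ((inf_le_inf_left _ (cent_anti ((Ohm_le p S).trans hS.le))).trans
    (sigma'_kappa'_facts hM ⟨hp, hd.trans (card_dvd hU.le)⟩ (fun h => h2 (.inl h))
      (fun h => h2 (.inr h)) (hS.trans_hall hU h2)).2.2.1.le)

end Core

theorem exists_core' (hM : TypePMax M) (hK : Hall (kappaS M) K M) :
    ∃ E U E1, Hall (sigmaS M)ᶜ E M ∧ Core M E U K E1 := by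
  obtain ⟨E, hE, hKE⟩ := ex_sigma_compl hM.1 hK.le (hK.piGrp.mono (kappa_sigma' M))
  obtain ⟨U, E1, h⟩ := exists_core hM.1 hK (kappa_ne_bot hM hK) hE hKE
  exact ⟨E, U, E1, hE, h⟩

theorem dprod_kappa (hK : PiGrp (kappaS M) K) : IsDprod K (Ms M ⊓ 𝐂(K)) (K ⊔ Ms M ⊓ 𝐂(K)) :=
  IsDprod.of_sup inf_le_right (PiGrp.inf_eq_bot' (hK.mono (kappa_sigma' M)) ((Ms_piGrp M).inf_left _))

end B14

open B14

theorem Ptype_structure {M K : Subgroup G} (hM : TypePMax M) (hK : Hall (kappaS M) K M) :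
    (∃ U, KappaCompl M U K ∧ K ≤ 𝐍(U) ∧ Semiprime (Ms M) K ∧ Semiregular U K ∧ Ab U) ∧
    (IsDprod K (Ms M ⊓ 𝐂(K)) (M ⊓ 𝐍(K)) ∧ ∀ X, X ≤ K → (♯X).Prime →
      M ⊓ 𝐍(X) = M ⊓ 𝐍(K) ∧ ∀ Mstar, IsCoatom Mstar → 𝐍(X) ≤ Mstar → X ≤ Ms Mstar) ∧
    (Ms M ⊓ 𝐂(K) ≠ ⊥ ∧ ∀ X, X ≤ Ms M ⊓ 𝐂(K) → (♯X).Prime → UniqMax 𝐂(X) M) ∧
    ((∀ g : G, g ∉ M → Ms M ⊓ 𝐂(K) ⊓ g •ᶜ M = ⊥) ∧ ∀ g ∈ M, g ∉ 𝐍(K) → K ⊓ g •ᶜ K = ⊥) ∧
    (∀ p ∈ piOf (Ms M ⊓ 𝐂(K)), ∀ S, Syl p S (Ms M) → UniqMax S M ∧ ¬ S ≤ Ms M ⊓ 𝐂(K)) ∧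
    (∀ Y, PiGrp (sigmaS M) Y → Y ⊓ (Ms M ⊓ 𝐂(K)) ≠ ⊥ → Y ≤ Ms M) ∧
    (TypeP2Max M → sigmaS M = betaS M ∧ (♯K).Prime ∧ Nil (Ms M) ∧
      NormedTI (sharp (Ms M)) ⊤ M) := by
  obtain ⟨E, U, E1, hE, h⟩ := exists_core' hM hK
  have hM' := hM.1
  have hU := h.hallU hE hK
  have hc : KappaCompl M U K := ⟨hU, hK, h.sd.sup_eq ▸ h.sd.isProd⟩
  have hNK := h.norm_eq hM' hE le_rfl h.ne_bot le_normalizer
  have hd := dprod_kappa hK.piGrp
  have h1 : ∀ {p : ℕ} [Fact p.Prime] {X : Subgroup G}, IsEp p 1 X (Ms M ⊓ 𝐂(K)) →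
      UniqMax 𝐂(X) M ∧ ∀ S, Syl p S (Ms M) → UniqMax S M := fun hX =>
    cent_cent_Msigma_tau1_uniq hM' hE h.hall1 le_rfl h.ne1
      (hX.mono (inf_le_inf_left _ (cent_anti h.le1)))
  have h2 : ∀ g : G, g ∉ M → Ms M ⊓ 𝐂(K) ⊓ g •ᶜ M = ⊥ := fun g hg => by_contra fun h' => by
    obtain ⟨X, hX, hp⟩ := exists_prime_le h'
    have := Fact.mk hp
    have hX' := isEp_one_of_prime (hX.trans inf_le_left) hp
    have hXs := hX'.le.trans inf_le_left
    exact hg (inv_mem_iff.1 (sigma_cent_trans hM' (Ms_piGrp M _ hp (card_dvd hXs)) hX'.isPGroup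
      (hXs.trans (Ms_normal M).1) (h1 hX').1.le (le_conj_iff_inv_conj_le.1 (hX.trans inf_le_right))))
  refine ⟨⟨U, hc, h.sd.le_norm, h.prime, h.reg, h.ab hM' hE⟩, ⟨hNK ▸ hd, fun X hX hp =>
    ⟨hNK ▸ h.norm_eq hM' hE hX (prime_ne_bot hp) (h.norm X hX hp), fun L hL hN => ?_⟩⟩,
    ⟨?_, fun X hX hp => ?_⟩, ⟨h2, fun g hg hg' => by_contra fun h' => hg' ?_⟩,
    fun p hp S hS => ?_, fun Y hY h' => ?_, fun h' => ?_⟩
  · have := Fact.mk hp
    have hX' := isEp_one_of_prime (hX.trans hK.le) hp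
    exact le_Ms hL (le_normalizer.trans hN) (piGrp_of_isPGroup hX'.isPGroup (tau13_nonregular_sigma
      hM' hX' (hK.piGrp _ hp (card_dvd hX)).1 (cent_ne_bot hM' hK.piGrp hK.le hX hp) hL hN))
  · obtain ⟨X, hX, hp⟩ := exists_prime_le h.ne_bot
    rw [← h.prime.inf_cent hX (prime_ne_bot hp)]
    exact cent_ne_bot hM' hK.piGrp hK.le hX hp
  · have := Fact.mk hp
    exact (h1 (isEp_one_of_prime hX hp)).1
  · obtain ⟨X, hX, hp⟩ := exists_prime_le h'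
    have h3 := h.norm_eq hM' hE (hX.trans inf_le_left) (prime_ne_bot hp)
      (h.norm X (hX.trans inf_le_left) hp)
    have h4 := h.norm _ (le_conj_iff_inv_conj_le.1 (hX.trans inf_le_right)) (by rwa [card_conj])
    rw [← conj_le_norm_conj (g := g), conj_inv_conj] at h4
    exact mem_norm_of_conj_le ((hK.mono le_sup_left (hNK.ge.trans inf_le_left)).le_of_normal_hall
      hd.normal_left.2 ((le_inf (conj_le_of_mem hg hK.le) h4).trans h3.le) (hK.piGrp.conj g))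
  · have := Fact.mk hp.1
    obtain ⟨X, hX⟩ := exists_isEp_one hp.2
    refine ⟨(h1 hX).2 S hS, fun h' => ?_⟩
    obtain ⟨h3, h4, h5⟩ := h.sdprod hM' hE
    have hs := sol_of_le (mmax_sol hM') h3.left_le
    have h6 := coprime_comm_pcore h3.le_norm h4 hs (((hS.trans_hall (Msigma_Hall hM')
      ((Ms_piGrp M).inf_left _ p hp.1 hp.2)).mono (hS.le.trans le_sup_left)
      h3.left_le).hall.compl_compl) (h'.trans inf_le_right)
    rw [(coprime_der1_sdprod h3 h4 hs h5).1] at h6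
    exact Op'_piGrp p _ p hp.1 (hp.2.trans (card_dvd ((inf_le_left.trans le_sup_left).trans h6))) rfl
  · obtain ⟨g, hg⟩ := (sigma_Jsub hM' hY fun e => h' (by simp [e])).1
    have h3 : g⁻¹ ∈ M := by_contra fun h3 => h' (eq_bot_iff.2 ((le_inf inf_le_right (inf_le_left.trans
      (conj_le_iff_le_inv_conj.1 (hg.trans (Ms_normal M).1)))).trans (h2 _ h3).le))
    rwa [conj_le_iff_le_inv_conj, (Ms_normal M).conj_eq h3] at hg
  · have hU1 : U ≠ ⊥ := fun e => h'.2 ((trivg_kappa_compl hM' hc).1 e).2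
    have h3 := Core.cent_bot hM' hU hU1
    obtain ⟨H, hH, h4⟩ := der_compl_cent_beta' hM' hE
    have h5 : PiGrp (betaS M) (Ms M) := by
      rw [← compl_compl (betaS M), ← hH.eq_bot_iff]
      exact eq_bot_iff.2 ((le_inf hH.le (le_cent_symm ((h.le_der hM' hE.le).trans h4))).trans h3.le)
    refine ⟨((pi_Msigma hM').ge.trans (piGrp_iff_piOf_subset.1 h5)).antisymm (beta_sub_sigma hM'),
      (Frobenius_primact ((Frobenius_semiregularP h.sd hU1 h.ne_bot).2 h.reg)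
        (sol_of_le (mmax_sol hM') hE.le) (hE.le.trans (Ms_normal M).2) (sol_Ms hM' le_rfl)
        (Msigma_neq1 hM') (coprime_sigma_compl hE) h.prime h3).1, notP1type_Msigma_nil (.inr h'),
      normedTI_sharp_of_inf_conj (Msigma_neq1 hM') le_top (Ms_normal M).2
        fun g _ hg => by_contra fun h6 => hg (eq_bot_iff.2 ((inf_le_inf_left _ (conj_mono g
          (Ms_normal M).1)).trans ((h5.inf_left _).eq_bot
            ((sigma_compl_embedding hM' hE).2.2 g h6).2.1).le))⟩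

theorem kappa_compl_context {M U K : Subgroup G} (hM : IsCoatom M) (h : KappaCompl M U K) :
    Hall (sigmaS M)ᶜ (U ⊔ K) M ∧ (IsSdprod U K (U ⊔ K) ∧ IsSdprod (Ms M) (U ⊔ K) M) ∧
    Semiprime (Ms M) K ∧ Semiregular U K ∧ (K ≠ ⊥ → Ab U) := by
  have hE : Hall (sigmaS M)ᶜ (U ⊔ K) M := IsPiHallOf.of_pi (sup_le h.hallU.le h.hallK.le)
    (h.prod.piGrp (h.hallU.piGrp.mono fun _ h1 h2 => h1 (.inl h2))
      (h.hallK.piGrp.mono (kappa_sigma' M))) fun p hp hd h' =>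
      h.hallU.compl p hp (hd.trans (relIndex_dvd_of_le_left M le_sup_left)) fun h1 => Or.elim h1 h'
        (h.hallK.compl p hp (hd.trans (relIndex_dvd_of_le_left M le_sup_right)))
  refine ⟨hE, ?_⟩
  by_cases hK : K = ⊥
  · subst hK
    exact ⟨⟨by simpa using IsSdprod.bot_right U, sdprod_sigma hM hE⟩,
      (semiregular_bot_right _).semiprime, semiregular_bot_right _, fun h => absurd rfl h⟩
  obtain ⟨V, E1, h1⟩ := exists_core hM h.hallK hK hE le_sup_right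
  obtain rfl := ((h1.hallU hE h.hallK).mono h1.sd.left_le hE.le).eq_of_normal h1.sd.normal.2
    (h.hallU.mono le_sup_left hE.le)
  exact ⟨⟨h1.sd, sdprod_sigma hM hE⟩, h1.prime, h1.reg, fun _ => h1.ab hM hE⟩

theorem pi_of_cent_sigma {M : Subgroup G} {x x' : G} (hM : IsCoatom M) (hx : x ∈ Ms M) (hx1 : x ≠ 1)
    (hx' : x' ∈ M ⊓ 𝐂[x]) (hx'1 : x' ≠ 1) (hs : PiElt (sigmaS M)ᶜ x') :
    (PiElt (kappaS M) x' ∧ 𝐂[x] ≤ M) ∨
    (PiElt (tau2S M) x' ∧ ellSigma x' = 1 ∧ UniqMax 𝐂[x'] M) := by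
  have hxx : x ∈ 𝐂[x'] := mem_cent1_comm.1 hx'.2
  by_cases h2 : PiElt (tau2S M) x'
  · refine .inr ⟨h2, ?_, cent1_nreg_sigma_uniq hM hx'.1 hx'1 h2
      fun e => hx1 (mem_bot.1 (e.le ⟨hx, hxx⟩))⟩
    obtain ⟨p, hp, hd⟩ := Nat.exists_prime_and_dvd (mt orderOf_eq_one_iff.1 hx'1)
    have := Fact.mk hp
    obtain ⟨E, hE, h3⟩ := ex_sigma_compl hM (zpowers_le.2 hx'.1) (piGrp_zpowers.2 hs)
    obtain ⟨A, hA, -⟩ := ex_tau2Elem hM hE (h2 p hp hd)
    obtain ⟨L, hL, hN⟩ := exists_mmax_norm hA.isPGroup (hA.ne_bot two_ne_zero)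
    exact ell1_of_piElt hL (h2.mono fun _ h =>
      ((primes_norm_tau2Elem hM hE (h2 p hp hd) hA hL hN).1 h).1) hx'1
  obtain ⟨p, hp, hd, h3⟩ := exists_prime_not_mem h2
  have := Fact.mk hp
  obtain ⟨X, hX⟩ := exists_isEp_one (p := p) (H := zpowers x') (by rwa [Nat.card_zpowers])
  have hXM := hX.mono (zpowers_le.2 hx'.1)
  have h4 : x ∈ Ms M ⊓ 𝐂(X) := ⟨hx, cent_anti hX.le (by rwa [cent_zpowers])⟩
  have h5 : p ∈ kappaS M := by
    refine ⟨?_, X, hXM, fun e => hx1 (mem_bot.1 (e.le h4))⟩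
    have h : p ∈ piOf M := ⟨hp, hXM.dvd_card one_ne_zero⟩
    rw [partition_pi_mmax hM] at h
    rcases h with ((h | h) | h) | h
    exacts [.inl h, absurd h h3, .inr h, absurd h (hs p hp hd)]
  obtain ⟨K, hK, hXK⟩ := exists_hall_ge (mmax_sol hM) hXM.le (piGrp_of_isPGroup hX.isPGroup h5)
  obtain ⟨⟨U, -, -, h6, -⟩, ⟨h7, h8⟩, ⟨-, h9⟩, -⟩ := Ptype_structure (typeP_of_mem hM h5) hK
  rw [h6.inf_cent hXK (hX.ne_bot one_ne_zero)] at h4
  obtain ⟨Y, hY, hY'⟩ := exists_prime_le_zpowers hx1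
  refine .inl ⟨fun q hq hd => ?_, (cent_zpowers x).ge.trans ((cent_anti hY).trans
    (h9 Y (hY.trans (zpowers_le.2 h4)) hY').le)⟩
  have h10 : x' ∈ M ⊓ 𝐍(K) := (h8 X hXK hX.prime_card).1 ▸ mem_inf.2
    ⟨hx'.1, le_norm_of_ab inferInstance hX.le (mem_zpowers _)⟩
  exact ((Nat.Prime.dvd_mul hq).1 ((hd.trans (orderOf_dvd_card h10)).trans h7.card.symm.dvd)).elim
    (hK.piGrp q hq) fun h => absurd ((Ms_piGrp M).inf_left _ q hq h) (hs q hq hd)

end Cfsg.Agent.OO.Pf
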