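import Cfsg.Agent.Lib.OO.Pf.BG14_B

/-! # B&G section 14, third part (14.4 - 14.6) -/

set_option autoImplicit false
set_option linter.unusedSectionVars false

namespace Cfsg.Agent.OO.Pf

open Subgroup Cfsg.Agent.Coprime B13
open scoped Pointwise

universe u

variable {G : Type u} [Group G] [Finite G]

namespace B14
variable {E H K L M N P Q U X : Subgroup G} {p q : ℕ} {x y g : G}

theorem sdprod_cent1 (h : IsSdprod K H L) (hx : x ∈ H) :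
    IsSdprod (K ⊓ 𝐂[x]) (H ⊓ 𝐂[x]) (L ⊓ 𝐂[x]) := by
  refine IsSdprod.of_normal (h.normal.inf_inf _) (inf_le_inf_right _ h.right_le) (fun y hy => ?_)
    (eq_bot_iff.2 ((inf_le_inf inf_le_left inf_le_left).trans h.inf_eq.le))
  obtain ⟨a, ha, b, hb, rfl⟩ := h.mem_iff.1 hy.1
  have h1 := mem_cent1_iff_conj.1 (mem_cent1_comm.1 hy.2)
  have h2 : a⁻¹ * (x * a * x⁻¹) = b * (x * b * x⁻¹)⁻¹ := by
    rw [inv_mul_eq_iff_eq_mul, ← mul_assoc a, ← h1]; group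
  have h3 : a⁻¹ * (x * a * x⁻¹) = 1 := mem_bot.1 (h.inf_eq.le ⟨K.mul_mem (K.inv_mem ha)
    (conj_mem_of_norm (h.le_norm hx) ha),
    h2 ▸ H.mul_mem hb (H.inv_mem (H.mul_mem (H.mul_mem hx hb) (H.inv_mem hx)))⟩)
  refine mul_mem (mem_sup_left ⟨ha, mem_cent1_comm.1 (mem_cent1_iff_conj.2 ?_)⟩)
    (mem_sup_right ⟨hb, mem_cent1_comm.1 (mem_cent1_iff_conj.2 ?_)⟩)
  · exact (inv_mul_eq_one.1 h3).symm
  · exact (mul_inv_eq_one.1 (h2.symm.trans h3)).symm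

theorem ncard_conj (M : Subgroup G) : (Set.range fun g : G => g •ᶜ M).ncard = 𝐍(M).index := by
  letI := MulAction.compHom (Subgroup G) (MulAut.conj (G := G))
  have h : MulAction.stabilizer G M = 𝐍(M) := by
    ext g
    exact conj_eq_self_iff
  rw [← h, MulAction.index_stabilizer]
  rfl

theorem sigmaMax_conj (x z : G) :
    sigmaMax (zpowers (z * x * z⁻¹)) = (fun M => z •ᶜ M) '' sigmaMax (zpowers x) := by
  ext M
  exact ⟨fun h => ⟨z⁻¹ •ᶜ M, (mem_sigmaMax_conj (g := z)).1 (by rwa [conj_inv_conj]), conj_inv_conj _ _⟩,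
    fun ⟨_, h, e⟩ => e ▸ mem_sigmaMax_conj.2 h⟩

theorem ncard_sigmaMax_conj (x z : G) :
    (sigmaMax (zpowers (z * x * z⁻¹))).ncard = (sigmaMax (zpowers x)).ncard := by
  rw [sigmaMax_conj, Set.ncard_image_of_injective _ fun _ _ h => conj_inj.1 h]

theorem conj_mem_sigmaMax (hM : M ∈ sigmaMax (zpowers x)) (hg : g ∈ 𝐂[x]) :
    g •ᶜ M ∈ sigmaMax (zpowers x) := by
  have := (mem_sigmaMax_conj (g := g)).2 hM
  rwa [mem_cent1_iff_conj.1 hg] at this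

theorem Nx_of_le (h : ¬ 1 < (sigmaMax (zpowers x)).ncard) : Nx x = ⊥ := by rw [Nx, if_neg h]

theorem Rx_of_le (h : ¬ 1 < (sigmaMax (zpowers x)).ncard) : Rx x = ⊥ := by
  rw [Rx, Nx_of_le h, Ms, Opi_bot, bot_inf_eq]

theorem one_lt_of_mem_Rx (h : y ∈ Rx x) (hy : y ≠ 1) : 1 < (sigmaMax (zpowers x)).ncard :=
  by_contra fun h' => hy (mem_bot.1 (Rx_of_le h' ▸ h))

theorem Nx_eq (h : 1 < (sigmaMax (zpowers x)).ncard) (hN : UniqMax 𝐂[x] N) : Nx x = N := by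
  have h1 : ∃ N : Subgroup G, IsCoatom N ∧ 𝐂[x] ≤ N := ⟨N, hN.1, hN.le⟩
  rw [Nx, if_pos h, dif_pos h1]
  exact hN.eq h1.choose_spec.1 h1.choose_spec.2

variable [MinOdd G]

theorem tau2_not_kappa (h : p ∈ tau2S M) : p ∉ kappaS M := fun h' => by
  have := rp_tau13 h'.1
  have := h.2.2
  omega

theorem signalizer_aux (hx : x ≠ 1) (h : 1 < (sigmaMax (zpowers x)).ncard) : ∃ N,
    UniqMax 𝐂[x] N ∧ Ms N ⊓ 𝐂[x] ≠ ⊥ ∧ PiElt (tau2S N) x ∧ (TypeFMax N ∨ TypeP2Max N) ∧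
    (∀ M1 ∈ sigmaMax (zpowers x), ∀ M2 ∈ sigmaMax (zpowers x), ∃ r ∈ Ms N ⊓ 𝐂[x], M2 = r •ᶜ M1) ∧
    ∀ M ∈ sigmaMax (zpowers x), piOf M ∩ sigmaS N ⊆ betaS N ∧ Hall (sigmaS N)ᶜ (M ⊓ N) N := by
  obtain ⟨X, hX, hq⟩ := exists_prime_le_zpowers hx
  have := Fact.mk hq
  have hX' := (isEp_one_of_prime hX hq).isPGroup
  obtain ⟨N, hN, hXN⟩ := exists_mmax_norm hX' (prime_ne_bot hq)
  have hCN := (cent_le_norm X).trans hXN
  have hxN : 𝐂[x] ≤ N := ((cent_zpowers x).ge.trans (cent_anti hX)).trans hCN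
  have hs : ∀ M ∈ sigmaMax (zpowers x), ♯X ∈ sigmaS M := fun M hM =>
    Ms_piGrp M _ hq (card_dvd (hX.trans hM.2))
  have hle : ∀ M ∈ sigmaMax (zpowers x), X ≤ M := fun M hM => (hX.trans hM.2).trans (Ms_normal M).1
  have h1 : ∀ M1 ∈ sigmaMax (zpowers x), ∀ M2 ∈ sigmaMax (zpowers x), ∃ c ∈ N, M2 = c •ᶜ M1 := by
    intro M1 h1 M2 h2
    obtain ⟨g, rfl⟩ := conj_of_mem_sigma h1.1 h2.1 (hs _ h1) (hs _ h2)
    obtain ⟨c, hc, e⟩ := (sigma_group_trans h1.1 (hs _ h1) hX').2.1.2 1 g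
      (by rw [one_conj]; exact hle _ h1) (hle _ h2)
    exact ⟨c, hCN hc, by rwa [one_conj] at e⟩
  have h2 : ∀ M ∈ sigmaMax (zpowers x), ♯X ∈ tau2S N ∧ piOf M ∩ sigmaS N ⊆ betaS N ∧
      Hall (sigmaS N)ᶜ (M ⊓ N) N := by
    intro M hM
    obtain ⟨h2, -, -, h3⟩ := sigma_subgroup_embedding hM.1 (hs _ hM) (hle _ hM) hX' (prime_ne_bot hq)
      hN hXN (by
        rintro rfl
        obtain ⟨L, hL, hne⟩ := Set.exists_ne_of_one_lt_ncard h N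
        obtain ⟨c, hc, e⟩ := h1 _ hM _ hL
        exact hne (e.trans (conj_eq_of_mem hc)))
    exact h3 (Set.disjoint_left.1 (sigma_partition hM.1 hN h2) (hs _ hM))
  have h3 : ∀ M1 ∈ sigmaMax (zpowers x), ∀ M2 ∈ sigmaMax (zpowers x),
      ∃ r ∈ Ms N ⊓ 𝐂[x], M2 = r •ᶜ M1 := by
    intro M1 hM1 M2 hM2
    obtain ⟨c, hc, rfl⟩ := h1 _ hM1 _ hM2
    have h3 := sdprod_sigma hN (h2 _ hM1).2.2
    obtain ⟨u, hu, b, hb, rfl⟩ := h3.mem_iff.1 hc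
    rw [← conj_conj, conj_eq_of_mem hb.1] at hM2 ⊢
    have h4 := mul_mem (mem_conj.1 ((Ms_normal _).1 (hM2.2 (mem_zpowers x))))
      (inv_mem ((Ms_normal _).1 (hM1.2 (mem_zpowers x))))
    have h5 : u⁻¹ * x * u * x⁻¹ ∈ Ms N := by
      have := mul_mem (inv_mem hu) ((Ms_normal N).conj_mem (hxN (mem_cent1_self x)) hu)
      simpa [mul_assoc] using this
    have h6 := mem_bot.1 (h3.inf_eq.le ⟨h5, h4, (Ms_normal N).1 h5⟩)
    refine ⟨u, ⟨hu, mem_cent1.2 ?_⟩, rfl⟩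
    rw [mul_inv_eq_one, mul_assoc, inv_mul_eq_iff_eq_mul] at h6
    exact h6.symm
  obtain ⟨M, L, hM, hL, hne⟩ := Set.one_lt_ncard_iff (Set.toFinite _) |>.1 h
  obtain ⟨r, hr, e⟩ := h3 _ hM _ hL
  have hr1 : r ≠ 1 := fun e' => hne (by rw [e, e', one_conj])
  obtain ⟨h4, -, h5⟩ := h2 _ hM
  have hxd : ♯X ∣ orderOf x := Nat.card_zpowers x ▸ card_dvd hX
  obtain ⟨h6, -, h7⟩ := (pi_of_cent_sigma hN hr.1 hr1 ⟨hxN (mem_cent1_self x), mem_cent1_comm.1 hr.2⟩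
    hx (h5.piGrp.piElt ⟨(Ms_normal _).1 (hM.2 (mem_zpowers x)), hxN (mem_cent1_self x)⟩)).resolve_left
    fun h => tau2_not_kappa h4 (h.1 _ hq hxd)
  obtain ⟨S, hS⟩ := exists_syl ♯X N
  exact ⟨N, h7, fun e => hr1 (mem_bot.1 (e.le hr)), h6, (sigma'_kappa'_facts hN
    ⟨hq, card_dvd (le_normalizer.trans hXN)⟩ h4.2.1 (tau2_not_kappa h4) hS).1, h3,
    fun M hM => (h2 M hM).2⟩

end B14

open B14

variable [MinOdd G]

theorem FT_signalizer_context {x : G} (hx : ellSigma x = 1) :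
    ((∀ M1 ∈ sigmaMax (zpowers x), ∀ M2 ∈ sigmaMax (zpowers x), ∃ r ∈ Rx x, M2 = r •ᶜ M1) ∧
      ♯(Rx x) = (sigmaMax (zpowers x)).ncard ∧ Rx x ⊴ 𝐂[x] ∧ IsHallIn (Rx x) 𝐂[x]) ∧
    (1 < (sigmaMax (zpowers x)).ncard →
      UniqMax 𝐂[x] (Nx x) ∧ Rx x ≠ ⊥ ∧ PiElt (tau2S (Nx x)) x ∧
      (TypeFMax (Nx x) ∨ TypeP2Max (Nx x)) ∧
      ∀ M ∈ sigmaMax (zpowers x), IsSdprod (Rx x) (M ⊓ Nx x ⊓ 𝐂[x]) 𝐂[x] ∧
        tau2S (Nx x) ⊆ sigmaS M ∧ piOf M ∩ sigmaS (Nx x) ⊆ betaS (Nx x) ∧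
        Hall (sigmaS (Nx x))ᶜ (M ⊓ Nx x) (Nx x)) := by
  obtain ⟨hx1, M0, hM0⟩ := ell_sigma1P.1 hx
  by_cases h : 1 < (sigmaMax (zpowers x)).ncard
  swap
  · refine ⟨?_, fun h' => absurd h' h⟩
    rw [Rx_of_le h]
    have := (Set.ncard_pos (Set.toFinite _)).2 ⟨M0, hM0⟩
    exact ⟨fun M1 h1 M2 h2 => ⟨1, one_mem _, by
      rw [one_conj]; exact (Set.ncard_le_one_iff (Set.toFinite _)).1 (not_lt.1 h) h2 h1⟩,
      by rw [card_bot]; omega, NormalIn.bot _, bot_le, by simp⟩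
  obtain ⟨N, h1, h2, h3, h4, h5, h6⟩ := signalizer_aux hx1 h
  rw [Rx, Nx_eq h h1]
  have hN := h1.1
  refine ⟨⟨h5, ?_, (Ms_normal N).inf_right h1.le,
    ((Msigma_Hall hN).inf_of_normal_hall (Ms_normal N).2 h1.le).isHallIn⟩,
    fun _ => ⟨h1, h2, h3, h4, fun M hM => ⟨?_, fun p hp => by_contra fun h7 => ?_, h6 M hM⟩⟩⟩
  · have h7 : sigmaMax (zpowers x) = (fun r : G => r •ᶜ M0) '' ↑(Ms N ⊓ 𝐂[x]) := by
      ext M
      exact ⟨fun hM => (h5 _ hM0 _ hM).imp fun r hr => ⟨hr.1, hr.2.symm⟩,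
        fun ⟨r, hr, e⟩ => e ▸ conj_mem_sigmaMax hM0 hr.2⟩
    rw [h7, Set.InjOn.ncard_image, ← Nat.card_coe_set_eq, SetLike.coe_sort_coe]
    intro r hr s hs (e : r •ᶜ M0 = s •ᶜ M0)
    rw [conj_eq_iff_eq_inv_conj, conj_conj, eq_comm, conj_mmax_eq_iff hM0.1] at e
    have h8 := (Ms N).mul_mem ((Ms N).inv_mem hr.1) hs.1
    exact inv_mul_eq_one.1 (mem_bot.1 ((sdprod_sigma hN (h6 _ hM0).2).inf_eq.le
      ⟨h8, e, (Ms_normal N).1 h8⟩))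
  · have := sdprod_cent1 (sdprod_sigma hN (h6 _ hM).2) (x := x)
      ⟨(Ms_normal _).1 (hM.2 (mem_zpowers x)), h1.le (mem_cent1_self x)⟩
    rwa [inf_eq_right.2 h1.le] at this
  · have := Fact.mk hp.1
    obtain ⟨A, hA, -⟩ := ex_tau2Elem hN (h6 _ hM).2 hp
    have hA' := hA.mono inf_le_left
    have h8 : p ∈ tau2S M := ⟨hp.1, h7, le_antisymm
      (not_lt.1 fun h => h7 (alpha_sub_sigma hM.1 ⟨hp.1, h⟩)) hA'.le_rp⟩
    have h9 : Ms M ⊓ N ≤ 𝐂(A) := le_cent_of_inf_eq_bot ((inf_le_inf_right _ (Ms_normal M).1).trans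
      (tau2_compl_context hN (h6 _ hM).2 hp hA).1.1.2) (le_norm_inf (hA'.le.trans (Ms_normal M).2)
        (le_norm_of_le (hA.le.trans inf_le_right)))
      (((Ms_piGrp M).inf_left _).inf_eq_bot (piGrp_of_isPGroup hA.isPGroup h7))
    exact hx1 (mem_bot.1 ((tau2_context hM.1 h8 hA').2.2.1.le ⟨hM.2 (mem_zpowers x),
      h9 ⟨hM.2 (mem_zpowers x), h1.le (mem_cent1_self x)⟩⟩))

theorem cent1_sub_uniq_sigma_mmax {x : G} {M : Subgroup G} (h : (sigmaMax (zpowers x)).ncard = 1)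
    (hM : M ∈ sigmaMax (zpowers x)) : 𝐂[x] ≤ M := fun _ hc =>
  (conj_mmax_eq_iff hM.1).1
    ((Set.ncard_le_one_iff (Set.toFinite _)).1 h.le (conj_mem_sigmaMax hM hc) hM)

theorem one_lt_ncard_sigmaMax {x : G} {M : Subgroup G} (hM : M ∈ sigmaMax (zpowers x))
    (h : ¬ 𝐂[x] ≤ M) : 1 < (sigmaMax (zpowers x)).ncard := by
  have := (Set.ncard_pos (Set.toFinite _)).2 ⟨M, hM⟩
  have := mt (cent1_sub_uniq_sigma_mmax · hM) h
  omega

theorem FT_signalizer_baseJ {x : G} (z : G) (hx : ellSigma x = 1) :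
    Nx (z * x * z⁻¹) = z •ᶜ Nx x := by
  by_cases h : 1 < (sigmaMax (zpowers x)).ncard
  · refine Nx_eq (by rwa [ncard_sigmaMax_conj]) ?_
    rw [cent1_conj]
    exact ((FT_signalizer_context hx).2 h).1.conj z
  · rw [Nx_of_le h, Nx_of_le (by rwa [ncard_sigmaMax_conj]), conj_bot]

theorem FT_signalizerJ {x : G} (z : G) (hx : ellSigma x = 1) : Rx (z * x * z⁻¹) = z •ᶜ Rx x := by
  rw [Rx, FT_signalizer_baseJ z hx, Ms_conj, cent1_conj, Rx, conj_inf]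

theorem B14.mem_sigmaSupp {M : Subgroup G} {y : G} :
    y ∈ sigmaSupp M ↔ ∃ x ∈ Ms M, x ≠ 1 ∧ x⁻¹ * y ∈ Rx x := by
  simp only [sigmaSupp, Set.mem_iUnion, mem_sharp_iff, sigmaCover, Set.mem_ofPred_eq, exists_prop,
    and_assoc]

theorem B14.conj_mem_cover {x y : G} (z : G) (hx : ellSigma x = 1) (h : x⁻¹ * y ∈ Rx x) :
    (z * x * z⁻¹)⁻¹ * (z * y * z⁻¹) ∈ Rx (z * x * z⁻¹) := by
  rw [FT_signalizerJ z hx, mem_conj]
  simpa [mul_assoc] using h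

theorem mem_sigmaSupp_conj {M : Subgroup G} (hM : IsCoatom M) {z y : G} :
    z * y * z⁻¹ ∈ sigmaSupp (z •ᶜ M) ↔ y ∈ sigmaSupp M := by
  have key : ∀ {M : Subgroup G}, IsCoatom M → ∀ (z : G) {y : G}, y ∈ sigmaSupp M →
      z * y * z⁻¹ ∈ sigmaSupp (z •ᶜ M) := fun hM z y h => by
    obtain ⟨x, h1, h2, h3⟩ := mem_sigmaSupp.1 h
    exact mem_sigmaSupp.2 ⟨_, Ms_conj _ z ▸ conj_mem_conj h1, conj_ne_one.2 h2,
      conj_mem_cover z (Msigma_ell1 hM h1 h2) h3⟩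
  refine ⟨fun h => ?_, key hM z⟩
  simpa [mul_assoc] using key (isCoatom_conj hM z) z⁻¹ h

theorem sigma_cover_decomposition {x x' : G} (hx : ellSigma x = 1) (hx' : x' ∈ Rx x) :
    sigmaDecomp (x * x') = insert x ({x'} \ {1}) := by
  by_cases h : x' = 1
  · simp [h, ell1_decomposition hx]
  obtain ⟨h1, -, h2, -⟩ := (FT_signalizer_context hx).2 (one_lt_of_mem_Rx hx' h)
  have h3 : Commute x' x := mem_cent1.1 hx'.2
  rw [← h3.eq, decomp_mul h1.1 ((Ms_piGrp _).piElt hx'.1) h (h2.mono fun _ h => h.2.1) h3,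
    ell1_decomposition hx, Set.sdiff_singleton_eq_self (by simpa using Ne.symm h), Set.pair_comm]

theorem mem_sigma_cover_decomposition {x g : G} (hx : ellSigma x = 1) (hg : g ∈ sigmaCover x) :
    x ∈ sigmaDecomp g := by
  rw [← mul_inv_cancel_left x g, sigma_cover_decomposition hx hg]
  exact Set.mem_insert _ _

theorem ell_sigma_cover {x g : G} (hx : ellSigma x = 1) (hg : g ∈ sigmaCover x) : ellSigma g ≤ 2 := by
  rw [← mul_inv_cancel_left x g, ellSigma, sigma_cover_decomposition hx hg]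
  exact (Set.ncard_insert_le _ _).trans
    (Nat.succ_le_succ ((Set.ncard_le_ncard Set.sdiff_subset).trans (by simp)))

theorem ell_sigma_support {M : Subgroup G} {g : G} (hM : IsCoatom M) (hg : g ∈ sigmaSupp M) :
    ellSigma g ≤ 2 :=
  let ⟨_, h1, h2, h3⟩ := mem_sigmaSupp.1 hg
  ell_sigma_cover (Msigma_ell1 hM h1 h2) h3

theorem sigma_cover_disjoint {x y : G} (hx : ellSigma x = 1) (hy : ellSigma y = 1) (hxy : x ≠ y) :
    Disjoint (sigmaCover x) (sigmaCover y) := by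
  refine Set.disjoint_left.2 fun g h1 h2 => ?_
  have key : ∀ {x y : G}, ellSigma x = 1 → ellSigma y = 1 → x ≠ y → g ∈ sigmaCover x →
      g ∈ sigmaCover y → x ∈ Rx y := fun {x y} hx hy hxy h1 h2 => by
    have h3 := mem_sigma_cover_decomposition hx h1
    rw [← mul_inv_cancel_left y g, sigma_cover_decomposition hy h2] at h3
    exact (show x = y⁻¹ * g from (h3.resolve_left hxy).1) ▸ h2
  have h3 := key hx hy hxy h1 h2
  have h4 := key hy hx hxy.symm h2 h1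
  have hx1 := (ell_sigma1P.1 hx).1
  obtain ⟨h5, -⟩ := (FT_signalizer_context hx).2 (one_lt_of_mem_Rx h4 (ell_sigma1P.1 hy).1)
  obtain ⟨h6, -, -, -, h7⟩ := (FT_signalizer_context hy).2 (one_lt_of_mem_Rx h3 hx1)
  exact hx1 (mem_bot.1 ((sdprod_sigma h6.1 (h7 _ (mem_sigmaMax.2 ⟨h5.1, h4.1⟩)).2.2.2).inf_eq.le
    ⟨h3.1, h5.le (mem_cent1_self x), (Ms_normal _).1 h3.1⟩))

theorem sigma_support_disjoint {M1 M2 : Subgroup G} (h1 : IsCoatom M1) (h2 : IsCoatom M2)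
    (hn : NotConj M2 M1) : Disjoint (sigmaSupp M1) (sigmaSupp M2) := by
  refine Set.disjoint_left.2 fun g h3 h4 => ?_
  obtain ⟨x, hx, hx1, hx2⟩ := mem_sigmaSupp.1 h3
  obtain ⟨y, hy, hy1, hy2⟩ := mem_sigmaSupp.1 h4
  refine Set.disjoint_left.1 (sigma_cover_disjoint (Msigma_ell1 h1 hx hx1) (Msigma_ell1 h2 hy hy1)
    ?_) hx2 hy2
  rintro rfl
  exact hx1 (mem_bot.1 ((inf_Ms_eq_bot h1 h2 hn).le ⟨hx, hy⟩))

theorem B14.mem_classSupp_sigma {M : Subgroup G} (hM : IsCoatom M) {y : G} :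
    y ∈ classSupp (sigmaSupp M) ⊤ ↔ ∃ g : G, y ∈ sigmaSupp (g •ᶜ M) :=
  ⟨fun ⟨_, h, g, _, e⟩ => ⟨g, e ▸ (mem_sigmaSupp_conj hM).2 h⟩, fun ⟨g, h⟩ => ⟨g⁻¹ * y * g,
    (mem_sigmaSupp_conj hM (z := g)).1 (by simpa [mul_assoc] using h), g, mem_top g, by group⟩⟩

theorem card_class_support_sigma {M : Subgroup G} (hM : IsCoatom M) :
    (classSupp (sigmaSupp M) ⊤).ncard = (♯(Ms M) - 1) * M.index := by
  classical
  have := Fintype.ofFinite G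
  have := Fintype.ofFinite (Subgroup G)
  set T := (Set.range fun g : G => g •ᶜ M).toFinset with hT
  set S := {x : G | x ≠ 1 ∧ ∃ g : G, x ∈ Ms (g •ᶜ M)}.toFinset with hS
  have hS1 : ∀ x ∈ S, ellSigma x = 1 := fun x hx => by
    obtain ⟨h1, g, h2⟩ := Set.mem_toFinset.1 hx
    exact Msigma_ell1 (isCoatom_conj hM g) h2 h1
  have h1 : classSupp (sigmaSupp M) ⊤ = ↑(S.biUnion fun x => (sigmaCover x).toFinset) := by
    ext y
    simp only [mem_classSupp_sigma hM, mem_sigmaSupp, hS, Finset.mem_coe, Finset.mem_biUnion,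
      Set.mem_toFinset, Set.mem_ofPred_eq]
    exact ⟨fun ⟨g, x, h1, h2, h3⟩ => ⟨x, ⟨h2, g, h1⟩, h3⟩,
      fun ⟨x, ⟨h2, g, h1⟩, h3⟩ => ⟨g, x, h1, h2, h3⟩⟩
  rw [h1, Set.ncard_coe_finset, Finset.card_biUnion fun x hx y hy hxy => Set.disjoint_toFinset.2
    (sigma_cover_disjoint (hS1 x hx) (hS1 y hy) hxy)]
  have h2 : ∀ x ∈ S, (sigmaCover x).toFinset.card =
      (T.bipartiteAbove (fun x L => x ∈ Ms L) x).card := fun x hx => by
    have h2 : sigmaCover x = (fun y => x * y) '' Rx x := by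
      ext y
      exact ⟨fun h => ⟨_, h, mul_inv_cancel_left _ _⟩, fun ⟨r, hr, e⟩ => by
        simpa [sigmaCover, ← e] using hr⟩
    rw [← Set.ncard_eq_toFinset_card', h2, Set.ncard_image_of_injective _ (mul_right_injective x),
      ← Nat.card_coe_set_eq, SetLike.coe_sort_coe, (FT_signalizer_context (hS1 x hx)).1.2.1,
      ← Set.ncard_coe_finset]
    congr 1
    ext L
    obtain ⟨h3, g, h4⟩ := Set.mem_toFinset.1 hx
    simp only [mem_sigmaMax, Finset.mem_coe, Finset.mem_bipartiteAbove, hT, Set.mem_toFinset,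
      Set.mem_range]
    refine and_congr_left fun h5 => ⟨fun h6 => ?_, fun ⟨g, e⟩ => e ▸ isCoatom_conj hM g⟩
    obtain ⟨k, e⟩ := conj_of_piElt hM h6 h3 (sigmaS_conj M g ▸ (Ms_piGrp _).piElt h4)
      ((Ms_piGrp _).piElt h5)
    exact ⟨k, e.symm⟩
  rw [Finset.sum_congr rfl h2, Finset.sum_card_bipartiteAbove_eq_sum_card_bipartiteBelow,
    Finset.sum_const_nat (m := ♯(Ms M) - 1), hT, ← Set.ncard_eq_toFinset_card', ncard_conj,
    norm_mmax hM, mul_comm]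
  intro L hL
  obtain ⟨g, rfl⟩ := Set.mem_toFinset.1 hL
  rw [← card_conj g, ← Ms_conj, ← ncard_sharp, ← Set.ncard_coe_finset]
  congr 1
  ext x
  simp only [Finset.mem_coe, Finset.mem_bipartiteBelow, hS, Set.mem_toFinset, Set.mem_ofPred_eq,
    mem_sharp_iff]
  exact ⟨fun h => ⟨h.2, h.1.1⟩, fun h => ⟨⟨h.2, g, h.1⟩, h.1⟩⟩

theorem sigma_decomposition_dichotomy {g : G} (hg : g ≠ 1) :
    Xor' (∃ x, ellSigma x = 1 ∧ x⁻¹ * g ∈ Rx x)
      (∃ y, ellSigma y = 1 ∧ ∃ M ∈ sigmaMax (zpowers y),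
        y⁻¹ * g ∈ M ⊓ 𝐂[y] ∧ y⁻¹ * g ≠ 1 ∧ PiElt (kappaS M) (y⁻¹ * g)) := by
  refine (xor_iff_or_and_not_and _ _).2 ⟨by_contra fun h => ?_, ?_⟩
  · obtain ⟨h1, h2⟩ := not_or.1 h
    have key : ∀ M : Subgroup G, IsCoatom M → constt (sigmaS M) g ≠ 1 → g ∉ M := by
      intro M hM h3 h4
      have h5 := mem_Ms hM (constt_mem _ h4) (piElt_constt _ _)
      have h6 := Msigma_ell1 hM h5 h3
      have h7 : (constt (sigmaS M) g)⁻¹ * g ≠ 1 := fun e => h1 ⟨_, h6, e ▸ one_mem _⟩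
      have h8 : (constt (sigmaS M) g)⁻¹ * g ∈ M ⊓ 𝐂[constt (sigmaS M) g] :=
        mul_mem (inv_mem ⟨constt_mem _ h4, mem_cent1_self _⟩)
          ⟨h4, mem_cent1.2 (commute_constt _ g).symm⟩
      rcases pi_of_cent_sigma hM h5 h3 h8 h7 (constt_spec _ g).2.2 with h | ⟨h9, h10, h11⟩
      · exact h2 ⟨_, h6, M, mem_sigmaMax.2 ⟨hM, h5⟩, h8, h7, h.1⟩
      refine h1 ⟨_, h10, ?_⟩
      obtain ⟨L, hL⟩ := (ell_sigma1P.1 h10).2
      have h12 : ¬ 𝐂[(constt (sigmaS M) g)⁻¹ * g] ≤ L := fun e => by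
        obtain rfl := h11.eq hL.1 e
        exact h7 (((Ms_piGrp L).piElt (hL.2 (mem_zpowers _))).eq_one (constt_spec _ g).2.2)
      rw [Rx, Nx_eq (one_lt_ncard_sigmaMax hL h12) h11,
        ← constt_compl_eq, ← constt_compl_eq, compl_compl]
      exact ⟨h5, mem_cent1.2 (commute_constt_constt _ _ g)⟩
    obtain ⟨p, hp, hd⟩ := Nat.exists_prime_and_dvd (mt orderOf_eq_one_iff.1 hg)
    obtain ⟨M0, hM0, -, -, h3, -⟩ := exists_mem_decomp hp hd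
    obtain ⟨k, hM⟩ := exists_sigmaMax hM0 h3 (piElt_constt _ _)
    rw [← sigmaS_conj M0 k] at hM h3
    generalize k •ᶜ M0 = M at hM h3
    have h4 : g ∈ 𝐂[constt (sigmaS M) g] := mem_cent1.2 (commute_constt _ g).symm
    obtain ⟨h5, -, -, -, h6⟩ := (FT_signalizer_context (ell_sigma1P.2 ⟨h3, M, hM⟩)).2
      (one_lt_ncard_sigmaMax hM fun e => key M hM.1 h3 (e h4))
    obtain ⟨u, -, hu⟩ := (h6 M hM).2.2.2.exists_le_conj (mmax_sol h5.1) (zpowers_le.2 (h5.le h4))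
      (piGrp_zpowers.2 (constt_eq_one_iff.1 (by_contra fun e => key _ h5.1 e (h5.le h4))))
    exact key _ (isCoatom_conj hM.1 u) (by rwa [sigmaS_conj])
      ((hu.trans (conj_mono u inf_le_left)) (mem_zpowers g))
  · rintro ⟨⟨x, hx, h1⟩, y, hy, M, hM, h2, h3, h4⟩
    obtain ⟨hM1, hM2⟩ := mem_sigmaMax.1 hM
    have hy1 := (ell_sigma1P.1 hy).1
    have key : ∀ {M : Subgroup G} {z : G}, z ≠ 1 → PiElt (tau2S M) z → ¬ PiElt (kappaS M) z :=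
      fun h1 h2 h3 => h1 (h3.eq_one (h2.mono fun _ h => tau2_not_kappa h))
    have h5 := ((pi_of_cent_sigma hM1 hM2 hy1 h2 h3 (h4.mono (kappa_sigma' M))).resolve_right
      fun h => key h3 h.1 h4).2
    have h6 : ¬ 1 < (sigmaMax (zpowers y)).ncard := fun h => by
      obtain ⟨h6, -, h7, -⟩ := (FT_signalizer_context hy).2 h
      rw [← h6.eq hM1 h5] at h7
      exact hy1 (((Ms_piGrp M).piElt hM2).eq_one (h7.mono fun _ h => h.2.1))
    have hc : Commute y (y⁻¹ * g) := (mem_cent1.1 h2.2).symm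
    have h7 := decomp_mul hM1 ((Ms_piGrp M).piElt hM2) hy1 (h4.mono (kappa_sigma' M)) hc
    rw [mul_inv_cancel_left, ← mul_inv_cancel_left x g, sigma_cover_decomposition hx h1] at h7
    rcases h7.ge (Set.mem_insert _ _) with rfl | ⟨h8 : y = x⁻¹ * g, -⟩
    · exact h3 (mem_bot.1 (Rx_of_le h6 ▸ h1))
    rw [← h8] at h1
    obtain ⟨h9, -, h10, -⟩ := (FT_signalizer_context hx).2 (one_lt_of_mem_Rx h1 hy1)
    rw [(Set.ncard_le_one_iff (Set.toFinite _)).1 (not_lt.1 h6) (mem_sigmaMax.2 ⟨h9.1, h1.1⟩) hM] at h10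
    have h11 : y⁻¹ * g = x := by
      rw [inv_mul_eq_iff_eq_mul, mem_cent1.1 h1.2, h8, mul_inv_cancel_left]
    rw [h11] at h3 h4
    exact key h3 h10 h4

end Cfsg.Agent.OO.Pf
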