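import Cfsg.Agent.Lib.OO.Pf.BG14_C

/-! # B&G section 14, fourth part (towards 14.7) -/

set_option autoImplicit false
set_option linter.unusedSectionVars false

namespace Cfsg.Agent.OO.Pf.B14

open Subgroup Cfsg.Agent.Coprime B13
open scoped Pointwise

universe u

variable {G : Type u} [Group G] [Finite G] [MinOdd G]
variable {H J K L M X Y Z : Subgroup G} {p q : ℕ} {x y g t : G}

theorem one_not_mem_classSupp (hM : IsCoatom M) : (1 : G) ∉ classSupp (sigmaSupp M) ⊤ := fun h => by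
  obtain ⟨x, h1, h2, h3⟩ := mem_sigmaSupp.1 (one_mem_classSupp.1 h)
  obtain ⟨h4, L, -, h5⟩ := mem_sigma_cover_decomposition (Msigma_ell1 hM h1 h2) h3
  exact h4 (h5.trans (constt_one _))

theorem classSupp_disjoint (hM : IsCoatom M) (hL : IsCoatom L) (hn : NotConj L M) :
    Disjoint (classSupp (sigmaSupp M) ⊤) (classSupp (sigmaSupp L) ⊤) := by
  refine Set.disjoint_left.2 fun x h1 h2 => ?_
  obtain ⟨g, h1⟩ := (mem_classSupp_sigma hM).1 h1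
  obtain ⟨k, h2⟩ := (mem_classSupp_sigma hL).1 h2
  exact Set.disjoint_left.1 (sigma_support_disjoint (isCoatom_conj hM g) (isCoatom_conj hL k)
    (notConj_conj (notConj_conj hn g).symm k).symm) h1 h2

/-- `M` is of type `𝓟`, `K` is a Hall `κ(M)`-subgroup and `Z = K K*` -/
structure Pair (M K Z : Subgroup G) : Prop where
  typeP : TypePMax M
  hall : Hall (kappaS M) K M
  eqZ : K ⊔ Ms M ⊓ 𝐂(K) = Z

namespace Pair

theorem max (h : Pair M K Z) : IsCoatom M := h.typeP.1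
theorem dprod (h : Pair M K Z) : IsDprod K (Ms M ⊓ 𝐂(K)) Z := h.eqZ ▸ dprod_kappa h.hall.piGrp
theorem normK (h : Pair M K Z) : M ⊓ 𝐍(K) = Z :=
  (Ptype_structure h.typeP h.hall).2.1.1.sup_eq.symm.trans h.eqZ
theorem le (h : Pair M K Z) : Z ≤ M := h.normK.ge.trans inf_le_left
theorem normX (h : Pair M K Z) (hX : X ≤ K) (hp : (♯X).Prime) : M ⊓ 𝐍(X) = Z :=
  ((Ptype_structure h.typeP h.hall).2.1.2 X hX hp).1.trans h.normK
theorem ne_bot (h : Pair M K Z) : K ≠ ⊥ := kappa_ne_bot h.typeP h.hall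
theorem ne_bot' (h : Pair M K Z) : Ms M ⊓ 𝐂(K) ≠ ⊥ := (Ptype_structure h.typeP h.hall).2.2.1.1
theorem uniq (h : Pair M K Z) (hX : X ≤ Ms M ⊓ 𝐂(K)) (hp : (♯X).Prime) : UniqMax 𝐂(X) M :=
  (Ptype_structure h.typeP h.hall).2.2.1.2 X hX hp
theorem semiprime (h : Pair M K Z) : Semiprime (Ms M) K :=
  let ⟨_, h⟩ := (Ptype_structure h.typeP h.hall).1; h.2.2.1
theorem piK (h : Pair M K Z) : PiGrp (sigmaS M)ᶜ K := h.hall.piGrp.mono (kappa_sigma' M)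
theorem hallS (h : Pair M K Z) : Hall (sigmaS M) (Ms M ⊓ 𝐂(K)) Z :=
  h.dprod.symm.toSdprod.hall_left ((Ms_piGrp M).inf_left _) h.piK
theorem hallK (h : Pair M K Z) : Hall (sigmaS M)ᶜ K Z :=
  h.dprod.symm.toSdprod.hall_right ((Ms_piGrp M).inf_left _).compl_compl h.piK
theorem le_Ks (h : Pair M K Z) (hX : X ≤ Z) (h' : PiGrp (sigmaS M) X) : X ≤ Ms M ⊓ 𝐂(K) :=
  h.hallS.le_of_normal_hall h.dprod.normal_right.2 hX h'
theorem le_K (h : Pair M K Z) (hX : X ≤ Z) (h' : PiGrp (sigmaS M)ᶜ X) : X ≤ K :=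
  h.hallK.le_of_normal_hall h.dprod.normal_left.2 hX h'
theorem mem_Ks (h : Pair M K Z) (hx : x ∈ Z) : constt (sigmaS M) x ∈ Ms M ⊓ 𝐂(K) :=
  h.hallS.mem_of_normal h.dprod.normal_right.2 (constt_mem _ hx) (piElt_constt _ _)
theorem mem_K (h : Pair M K Z) (hx : x ∈ Z) : constt (sigmaS M)ᶜ x ∈ K :=
  h.hallK.mem_of_normal h.dprod.normal_left.2 (constt_mem _ hx) (piElt_constt _ _)
theorem inf_eq (h : Pair M K Z) : Ms M ⊓ Z = Ms M ⊓ 𝐂(K) :=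
  (h.le_Ks inf_le_right ((Ms_piGrp M).inf_left _)).antisymm (le_inf inf_le_left h.dprod.right_le)
theorem coprime (h : Pair M K Z) : (♯K).Coprime ♯(Ms M ⊓ 𝐂(K)) := (coprime_Ms inf_le_left h.piK).symm

theorem le_or_le (h : Pair M K Z) (hX : X ≤ Z) (hp : (♯X).Prime) : X ≤ K ∨ X ≤ Ms M ⊓ 𝐂(K) := by
  by_cases e : ♯X ∈ sigmaS M
  · exact .inr (h.le_Ks hX ((isPiNum_prime hp).2 e))
  · exact .inl (h.le_K hX ((isPiNum_prime hp).2 e))

theorem conj (h : Pair M K Z) (g : G) : Pair (g •ᶜ M) (g •ᶜ K) (g •ᶜ Z) :=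
  ⟨(typePMax_conj M g).2 h.typeP, kappaS_conj M g ▸ h.hall.conj g, by
    rw [Ms_conj, cent_conj, ← conj_inf, ← conj_sup, h.eqZ]⟩

theorem mem_hat (h : Pair M K Z) : t ∈ cycTIset K (Ms M ⊓ 𝐂(K)) ↔
    t ∈ Z ∧ constt (sigmaS M) t ≠ 1 ∧ constt (sigmaS M)ᶜ t ≠ 1 := by
  rw [mem_cycTIset_iff, h.eqZ]
  refine and_congr_right fun ht => ?_
  rw [h.hallK.mem_iff_of_normal h.dprod.normal_left.2 ht,
    h.hallS.mem_iff_of_normal h.dprod.normal_right.2 ht, Ne, Ne, constt_eq_one_iff,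
    constt_eq_one_iff, compl_compl]

theorem mem_of_mem_conj (h : Pair M K Z) (ht : t ∈ cycTIset K (Ms M ⊓ 𝐂(K))) (hg : t ∈ g •ᶜ M) :
    g ∈ M := by_contra fun h' => (h.mem_hat.1 ht).2.1 (mem_bot.1
  (((Ptype_structure h.typeP h.hall).2.2.2.1.1 g h').le ⟨h.mem_Ks (h.mem_hat.1 ht).1, constt_mem _ hg⟩))

theorem conj_mem_hat (h : Pair M K Z) (ht : t ∈ cycTIset K (Ms M ⊓ 𝐂(K))) (hg : g * t * g⁻¹ ∈ Z) :
    g * t * g⁻¹ ∈ cycTIset K (Ms M ⊓ 𝐂(K)) := by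
  rw [h.mem_hat] at ht ⊢
  rw [constt_conj, constt_conj, conj_ne_one, conj_ne_one]
  exact ⟨hg, ht.2⟩

theorem ti (h : Pair M K Z) (ht : t ∈ cycTIset K (Ms M ⊓ 𝐂(K))) (hg : g * t * g⁻¹ ∈ Z) : g ∈ Z := by
  have h1 := h.mem_of_mem_conj (h.conj_mem_hat ht hg) (conj_mem_conj (h.le (h.mem_hat.1 ht).1))
  refine h.normK.le ⟨h1, by_contra fun h' => (h.mem_hat.1 (h.conj_mem_hat ht hg)).2.2 (mem_bot.1
    (((Ptype_structure h.typeP h.hall).2.2.2.1.2 g h1 h').le ⟨h.mem_K hg, ?_⟩))⟩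
  rw [constt_conj]
  exact conj_mem_conj (h.mem_K (h.mem_hat.1 ht).1)

theorem mul_mem_hat (h : Pair M K Z) (hx : x ∈ K) (hx1 : x ≠ 1) (hy : y ∈ Ms M ⊓ 𝐂(K)) (hy1 : y ≠ 1) :
    x * y ∈ cycTIset K (Ms M ⊓ 𝐂(K)) :=
  mem_cycTIset_iff.2 ⟨mul_mem (mem_sup_left hx) (mem_sup_right hy),
    fun e => hy1 (mem_bot.1 (h.dprod.inf_eq.le ⟨(K.mul_mem_cancel_left hx).1 e, hy⟩)),
    fun e => hx1 (mem_bot.1 (h.dprod.inf_eq.le ⟨hx, (Subgroup.mul_mem_cancel_right _ hy).1 e⟩))⟩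

theorem normedTI (h : Pair M K Z) : NormedTI (cycTIset K (Ms M ⊓ 𝐂(K))) ⊤ Z := by
  obtain ⟨x, hx, hx1⟩ := exists_mem_ne_one h.ne_bot
  obtain ⟨y, hy, hy1⟩ := exists_mem_ne_one h.ne_bot'
  exact ⟨⟨_, h.mul_mem_hat hx hx1 hy hy1⟩, le_top, fun g hg t ht => h.conj_mem_hat ht
    (mul_mem (mul_mem hg (h.mem_hat.1 ht).1) (inv_mem hg)),
    fun g _ t ht hg => h.ti ht (h.mem_hat.1 hg).1⟩

theorem card_gt (h : Pair M K Z) :
    Nat.card G < 2 * (classSupp (cycTIset K (Ms M ⊓ 𝐂(K))) ⊤).ncard := by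
  rw [h.normedTI.ncard_classSupp, ncard_cycTIset h.dprod, relIndex_top_right, ← Z.card_mul_index,
    ← h.dprod.card, ← mul_assoc]
  refine Nat.mul_lt_mul_of_pos_right ?_ (Nat.pos_of_ne_zero index_ne_zero_of_finite)
  have h1 := one_lt_card h.ne_bot
  have h2 := one_lt_card h.ne_bot'
  have h3 : ♯K ≠ ♯(Ms M ⊓ 𝐂(K)) := fun e => by
    have := h.coprime
    rw [← e, Nat.coprime_self] at this
    omega
  obtain ⟨a, ha⟩ := mFT_odd K
  obtain ⟨b, hb⟩ := mFT_odd (Ms M ⊓ 𝐂(K))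
  rw [ha] at h1 h3 ⊢
  rw [hb] at h2 h3 ⊢
  simp only [Nat.add_sub_cancel]
  rcases Nat.lt_or_gt_of_ne h3 with h | h
  · obtain ⟨a, rfl⟩ : ∃ c, a = c + 1 := ⟨a - 1, by omega⟩
    obtain ⟨b, rfl⟩ : ∃ c, b = c + 2 := ⟨b - 2, by omega⟩
    nlinarith [Nat.zero_le (a * b)]
  · obtain ⟨a, rfl⟩ : ∃ c, a = c + 2 := ⟨a - 2, by omega⟩
    obtain ⟨b, rfl⟩ : ∃ c, b = c + 1 := ⟨b - 1, by omega⟩
    nlinarith [Nat.zero_le (a * b)]

theorem hat_disjoint (h : Pair M K Z) (hL : IsCoatom L) :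
    Disjoint (classSupp (cycTIset K (Ms M ⊓ 𝐂(K))) ⊤) (classSupp (sigmaSupp L) ⊤) := by
  refine Set.disjoint_left.2 ?_
  rintro _ ⟨t, ht, g, hg, rfl⟩ h1
  obtain ⟨k, h2⟩ := (mem_classSupp_sigma hL).1 ((classSupp_conj_mem_iff hg).1 h1)
  obtain ⟨x, h3, h4, h5⟩ := mem_sigmaSupp.1 h2
  obtain ⟨h6, h7, h8⟩ := h.mem_hat.1 ht
  have h9 := (h.mem_Ks h6).1
  refine ((xor_iff_or_and_not_and _ _).1 (sigma_decomposition_dichotomy (g := t)
    fun e => h7 (by simp [e]))).2 ⟨⟨x, Msigma_ell1 (isCoatom_conj hL k) h3 h4, h5⟩, _,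
      Msigma_ell1 h.max h9 h7, M, mem_sigmaMax.2 ⟨h.max, h9⟩, ?_⟩
  rw [← constt_compl_eq]
  exact ⟨⟨constt_mem _ (h.le h6), mem_cent1.2 (commute_constt_constt _ _ t)⟩, h8,
    h.hall.piGrp.piElt (h.mem_K h6)⟩

theorem step (h : Pair M K Z) (hX : X ≤ K) (hp : (♯X).Prime) (hL : IsCoatom L) (hN : 𝐍(X) ≤ L) :
    L ≠ M ∧ ∃ J Z', Pair L J Z' ∧ Ms M ⊓ 𝐂(K) ≤ J ∧ Z ≤ Z' ∧ X ≤ Ms L ⊓ 𝐂(J) := by
  have := Fact.mk hp
  have hn := mmax_norm_notJ h.max hL (isEp_one_of_prime hX hp).isPGroup (hX.trans h.hall.le) hN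
    (.inr (h.hall.piGrp _ hp (card_dvd hX)).1)
  have h1 := ((Ptype_structure h.typeP h.hall).2.1.2 X hX hp).2 L hL hN
  have h2 : Z ≤ L := ((h.normX hX hp).ge.trans inf_le_right).trans hN
  obtain ⟨x, hx, hx1⟩ := exists_mem_ne_one (prime_ne_bot hp)
  have h3 : PiGrp (kappaS L) (Ms M ⊓ 𝐂(K)) := piGrp_iff_forall.2 fun y hy => by
    by_cases hy1 : y = 1
    · exact hy1 ▸ piElt_one _
    obtain ⟨Y, hY, hq⟩ := exists_prime_le_zpowers hy1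
    exact ((pi_of_cent_sigma hL (h1 hx) hx1 ⟨h2 (h.dprod.right_le hy), cent_le_cent1 (hX hx) hy.2⟩ hy1
      (((Ms_piGrp M).piElt hy.1).mono fun _ h' => Set.disjoint_left.1
        (sigma_partition h.max hL hn) h')).resolve_right fun e => hn.ne (e.2.2.eq h.max
          (((cent_zpowers y).ge.trans (cent_anti hY)).trans
            (h.uniq (hY.trans (zpowers_le.2 hy)) hq).le)).symm).1
  obtain ⟨J, hJ, h4⟩ := exists_hall_ge (mmax_sol hL) (h.dprod.right_le.trans h2) h3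
  obtain ⟨Y, hY, hq⟩ := exists_prime_le h.ne_bot'
  have h5 : Pair L J _ := ⟨typeP_of_mem hL (h3 _ hq (card_dvd hY)), hJ, rfl⟩
  have h6 : K ≤ 𝐂(Y) := le_cent_symm (hY.trans inf_le_right)
  refine ⟨hn.ne, J, _, h5, h4, h.eqZ.ge.trans (sup_le ((le_inf (h.dprod.left_le.trans h2)
    (le_norm_of_le_cent h6)).trans (h5.normX (hY.trans h4) hq).le) (h4.trans le_sup_left)), ?_⟩
  rw [← h5.semiprime.inf_cent (hY.trans h4) (prime_ne_bot hq)]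
  exact le_inf h1 (hX.trans h6)

theorem exists_partner (h : Pair M K Z) (hX : X ≤ K) (hp : (♯X).Prime) :
    ∃ L J, L ≠ M ∧ Pair L J Z ∧ X ≤ Ms L := by
  have := Fact.mk hp
  obtain ⟨L, hL, hN⟩ := exists_mmax_norm (isEp_one_of_prime hX hp).isPGroup (prime_ne_bot hp)
  obtain ⟨h1, J, Z', h2, h3, h4, h5⟩ := h.step hX hp hL hN
  obtain ⟨Y, hY, hq⟩ := exists_prime_le h.ne_bot'
  obtain ⟨-, K', Z'', h6, h7, h8, -⟩ := h2.step (hY.trans h3) hq h.max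
    ((norm_le_norm_cent Y).trans (h.uniq hY hq).norm_le)
  rw [← h6.normX (h5.trans h7) hp, h.normX hX hp] at h8
  exact ⟨L, J, h1, h8.antisymm h4 ▸ h2, h5.trans inf_le_left⟩

theorem notConj (h : Pair M K Z) (h' : Pair L J Z) (hne : L ≠ M) : NotConj L M := by
  rintro g rfl
  obtain ⟨Y, hY, hq⟩ := exists_prime_le h.ne_bot'
  have h1 := h'.uniq (h'.le_Ks (hY.trans h.dprod.right_le)
    (sigmaS_conj M g ▸ h.hallS.piGrp.of_le hY)) hq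
  exact hne ((h.uniq hY hq).eq h1.1 h1.le)

theorem Ks_le (h : Pair M K Z) (h' : Pair L J Z) (hne : L ≠ M) : Ms L ⊓ 𝐂(J) ≤ K :=
  h.le_K h'.dprod.right_le (h'.hallS.piGrp.mono fun _ h1 h2 =>
    Set.disjoint_left.1 (sigma_partition h.max h'.max (h.notConj h' hne)) h2 h1)

theorem dual (h : Pair M K Z) (h' : Pair L J Z) (hne : L ≠ M) (e : Ms L ⊓ 𝐂(J) = K) :
    Ms M ⊓ 𝐂(K) = J := by
  refine eq_of_le_of_card_le (h'.Ks_le h hne.symm) (Nat.le_of_mul_le_mul_left ?_ (card_pos' K))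
  rw [h.dprod.card, ← h'.dprod.card, e, mul_comm]

theorem count (h : Pair M K Z) (h1 : TypeP1Max M) :
    (2 * (♯(Ms M ⊓ Z) - 1) + 1) * Z.index ≤ 2 * (classSupp (sigmaSupp M) ⊤).ncard := by
  obtain ⟨U, hU⟩ := ex_kappa_compl h.max h.hall
  have h2 := (kappa_compl_context h.max hU).2.1.2.card
  rw [(trivg_kappa_compl h.max hU).2 h1, bot_sup_eq] at h2
  obtain ⟨p, hp, hd⟩ := exists_prime_dvd h.ne_bot'
  have := Fact.mk hp
  obtain ⟨S, hS⟩ := exists_syl p (Ms M)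
  have h3 : (Ms M ⊓ 𝐂(K)).relIndex (Ms M) ≠ 1 := fun e =>
    ((Ptype_structure h.typeP h.hall).2.2.2.2.1 p ⟨hp, hd⟩ S hS).2 (hS.le.trans (relIndex_eq_one.1 e))
  have h4 := card_mul_relIndex (inf_le_left : Ms M ⊓ 𝐂(K) ≤ Ms M)
  have h5 := relIndex_pos (Ms M ⊓ 𝐂(K)) (Ms M)
  have h6 := card_pos' (Ms M ⊓ 𝐂(K))
  have h7 : Z.index = (Ms M ⊓ 𝐂(K)).relIndex (Ms M) * M.index := by
    refine Nat.eq_of_mul_eq_mul_left (card_pos' Z) ?_
    rw [Z.card_mul_index, ← M.card_mul_index, ← h2, ← h4, ← h.dprod.card]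
    ring
  rw [card_class_support_sigma h.max, h7, h.inf_eq, ← h4, ← mul_assoc, ← mul_assoc]
  refine Nat.mul_le_mul_right _ ?_
  obtain ⟨a, ha⟩ : ∃ a, ♯(Ms M ⊓ 𝐂(K)) = a + 1 := ⟨_, (Nat.succ_pred_eq_of_pos h6).symm⟩
  obtain ⟨b, hb⟩ : ∃ b, (Ms M ⊓ 𝐂(K)).relIndex (Ms M) = b + 2 := Nat.exists_eq_add_of_le' (by omega)
  rw [ha, hb, show (a + 1) * (b + 2) - 1 = a * b + 2 * a + b + 1 by
    rw [Nat.sub_eq_of_eq_add]; ring, Nat.add_sub_cancel]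
  nlinarith

theorem exists_P2 (h : Pair M K Z) : ∃ L J, Pair L J Z ∧ TypeP2Max L := by
  classical
  by_contra! hP
  have := Fintype.ofFinite G
  have := Fintype.ofFinite (Subgroup G)
  set S := {L : Subgroup G | ∃ J, Pair L J Z}.toFinset with hS
  have hS' : ∀ {L}, L ∈ S ↔ ∃ J, Pair L J Z := Set.mem_toFinset
  set T : Set G := {t | ∃ L J, Pair L J Z ∧ t ∈ cycTIset J (Ms L ⊓ 𝐂(J))} with hT
  have hTI : NormedTI T ⊤ Z := ⟨h.normedTI.nonempty.mono fun t ht => ⟨M, K, h, ht⟩, le_top,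
    fun g hg t ⟨L, J, h, ht⟩ => ⟨L, J, h, h.normedTI.conj_mem g hg t ht⟩,
    fun g _ t ⟨L, J, h, ht⟩ ⟨_, _, h', ht'⟩ => h.ti ht (h'.mem_hat.1 ht').1⟩
  have h1 : ♯Z ≤ T.ncard + ∑ L ∈ S, (♯(Ms L ⊓ Z) - 1) + 1 := by
    have h1 : (Z : Set G) ⊆ insert 1 (T ∪ ↑(S.biUnion fun L => (sharp (Ms L ⊓ Z)).toFinset)) := by
      intro t ht
      refine or_iff_not_imp_left.2 fun ht1 => or_iff_not_imp_right.2 fun h2 => ?_
      obtain ⟨X, hX, hp⟩ := exists_prime_le_zpowers ht1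
      obtain ⟨L, J, hL, hXL⟩ : ∃ L J, Pair L J Z ∧ X ≤ Ms L := by
        rcases h.le_or_le (hX.trans (zpowers_le.2 ht)) hp with e | e
        · obtain ⟨L, J, -, h3⟩ := h.exists_partner e hp
          exact ⟨L, J, h3⟩
        · exact ⟨M, K, h, e.trans inf_le_left⟩
      refine ⟨L, J, hL, hL.mem_hat.2 ⟨ht, fun e => constt_eq_one_iff.1 e _ hp
        (Nat.card_zpowers t ▸ card_dvd hX) (Ms_piGrp L _ hp (card_dvd hXL)), fun e => h2 ?_⟩⟩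
      rw [constt_eq_one_iff, compl_compl] at e
      exact Finset.mem_coe.2 (Finset.mem_biUnion.2 ⟨L, hS'.2 ⟨J, hL⟩, Set.mem_toFinset.2
        ⟨⟨mem_Ms hL.max (hL.le ht) e, ht⟩, ht1⟩⟩)
    have h2 := (Set.ncard_le_ncard h1).trans ((Set.ncard_insert_le _ _).trans
      (Nat.succ_le_succ (Set.ncard_union_le _ _)))
    rw [← Nat.card_coe_set_eq, SetLike.coe_sort_coe, Set.ncard_coe_finset] at h2
    refine h2.trans (Nat.succ_le_succ (Nat.add_le_add_left (Finset.card_biUnion_le.trans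
      (Finset.sum_le_sum fun L _ => ?_)) _))
    rw [← Set.ncard_eq_toFinset_card', ncard_sharp]
  have h2 : T.ncard * Z.index + ∑ L ∈ S, (classSupp (sigmaSupp L) ⊤).ncard < Nat.card G := by
    have h2 : ∑ L ∈ S, (classSupp (sigmaSupp L) ⊤).ncard =
        (S.biUnion fun L => (classSupp (sigmaSupp L) ⊤).toFinset).card := by
      rw [Finset.card_biUnion fun L hL L' hL' hne => ?_]
      · simp only [Set.ncard_eq_toFinset_card']
      · obtain ⟨J, hJ⟩ := hS'.1 hL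
        obtain ⟨J', hJ'⟩ := hS'.1 hL'
        exact Set.disjoint_toFinset.2 (classSupp_disjoint hJ.max hJ'.max (hJ.notConj hJ' hne.symm))
    rw [← relIndex_top_right, ← hTI.ncard_classSupp, h2, ← Set.ncard_coe_finset,
      ← Set.ncard_union_eq, ← Set.ncard_univ]
    · refine Set.ncard_lt_ncard (Set.ssubset_univ_iff.2 fun e => ?_)
      rcases e.ge (Set.mem_univ 1) with e | e
      · obtain ⟨L, J, hL, h3⟩ := one_mem_classSupp.1 e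
        exact (hL.mem_hat.1 h3).2.1 (constt_one _)
      · obtain ⟨L, hL, h3⟩ := Finset.mem_biUnion.1 (Finset.mem_coe.1 e)
        obtain ⟨J, hJ⟩ := hS'.1 hL
        exact one_not_mem_classSupp hJ.max (Set.mem_toFinset.1 h3)
    · refine Set.disjoint_left.2 ?_
      rintro y ⟨t, ⟨L, J, hL, ht⟩, h3⟩ e
      obtain ⟨L', hL', h4⟩ := Finset.mem_biUnion.1 (Finset.mem_coe.1 e)
      obtain ⟨J', hJ'⟩ := hS'.1 hL'
      exact Set.disjoint_left.1 (hL.hat_disjoint hJ'.max) ⟨t, ht, h3⟩ (Set.mem_toFinset.1 h4)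
  have h3 : 1 < S.card := by
    obtain ⟨X, hX, hp⟩ := exists_prime_le h.ne_bot
    obtain ⟨L, J, h3, h4, -⟩ := h.exists_partner hX hp
    exact Finset.one_lt_card.2 ⟨L, hS'.2 ⟨J, h4⟩, M, hS'.2 ⟨K, h⟩, h3⟩
  have h4 : ∑ L ∈ S, (2 * (♯(Ms L ⊓ Z) - 1) + 1) * Z.index ≤
      ∑ L ∈ S, 2 * (classSupp (sigmaSupp L) ⊤).ncard := Finset.sum_le_sum fun L hL => by
    obtain ⟨J, hJ⟩ := hS'.1 hL
    exact hJ.count ⟨hJ.typeP, by_contra fun e => hP L J hJ ⟨hJ.typeP, e⟩⟩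
  rw [← Finset.sum_mul, ← Finset.mul_sum, Finset.sum_add_distrib, ← Finset.mul_sum,
    ← Finset.card_eq_sum_ones] at h4
  rw [← Z.card_mul_index] at h2
  nlinarith [Nat.mul_le_mul_right Z.index h1, Nat.mul_le_mul_right Z.index h3]

/-- the partner `M*` -/
theorem exists_dual (h : Pair M K Z) : ∃ L, L ≠ M ∧ Pair L (Ms M ⊓ 𝐂(K)) Z ∧
    Ms L ⊓ 𝐂(Ms M ⊓ 𝐂(K)) = K ∧ (TypeP2Max M ∨ TypeP2Max L) := by
  have key : ∀ {M K L J : Subgroup G}, Pair M K Z → Pair L J Z → L ≠ M → TypeP2Max M →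
      Ms L ⊓ 𝐂(J) = K := fun h h' hne h2 => (eq_bot_or_eq_of_prime
        ((Ptype_structure h.typeP h.hall).2.2.2.2.2.2 h2).2.1 (h.Ks_le h' hne)).resolve_left h'.ne_bot'
  by_cases h2 : TypeP2Max M
  · obtain ⟨X, hX, hp⟩ := exists_prime_le h.ne_bot
    obtain ⟨L, J, h3, h4, -⟩ := h.exists_partner hX hp
    have h5 := key h h4 h3 h2
    obtain rfl := h.dual h4 h3 h5
    exact ⟨L, h3, h4, h5, .inl h2⟩
  · obtain ⟨L, J, h3, h4⟩ := h.exists_P2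
    have hne : L ≠ M := fun e => h2 (e ▸ h4)
    obtain rfl := key h3 h hne.symm h4
    exact ⟨L, hne, h3, h3.dual h hne.symm rfl, .inr h4⟩

end Pair

end Cfsg.Agent.OO.Pf.B14
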