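import Cfsg.Agent.Lib.OO.BG1
import Cfsg.Agent.Lib.OO.BG3
import Cfsg.Agent.Lib.OO.BG5
import Cfsg.Agent.Lib.OO.BG10
import Cfsg.Agent.Lib.OO.BG12
import Cfsg.Agent.Lib.OO.BG14

/-! # B&G section 15, first part: Lemma 15.1 -/

set_option autoImplicit false
set_option linter.unusedSectionVars false

namespace Cfsg.Agent.OO

open Subgroup Cfsg.Agent.Coprime
open scoped Pointwise commutatorElement

universe u

variable {G : Type u} [Group G] [Finite G]

/-! ### generalities -/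

section General
variable {H K L M N P R U X Y : Subgroup G} {p : ℕ}

theorem expo_dvd_of_le (h : H ≤ K) : expo H ∣ expo K :=
  Monoid.exponent_dvd_of_monoidHom (inclusion h) (inclusion_injective h)

theorem orderOf_dvd_expo {x : G} (hx : x ∈ H) : orderOf x ∣ expo H := by
  rw [← Subgroup.orderOf_mk x hx]; exact Monoid.order_dvd_exponent _

theorem expo_dvd_iff {n : ℕ} : expo H ∣ n ↔ ∀ x ∈ H, x ^ n = 1 := by
  rw [Monoid.exponent_dvd_iff_forall_pow_eq_one]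
  exact ⟨fun h x hx => congrArg Subtype.val (h ⟨x, hx⟩), fun h x => Subtype.ext (h x x.2)⟩

theorem expo_eq_card_of_isCyclic (h : IsCyclic H) : expo H = ♯H := IsCyclic.exponent_eq_card

theorem expo_congr {G' : Type*} [Group G'] {H' : Subgroup G'} (e : H ≃* H') : expo H = expo H' :=
  Monoid.exponent_eq_of_mulEquiv e

theorem dvd_expo_of_dvd_card (hp : p.Prime) (h : p ∣ ♯H) : p ∣ expo H := by
  obtain ⟨x, hx, rfl⟩ := cauchy hp h
  exact orderOf_dvd_expo hx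

theorem expo_dvd_card (H : Subgroup G) : expo H ∣ ♯H := Group.exponent_dvd_nat_card

/-- an abelian group whose Sylow subgroups have semiregular subgroups of the same exponent -/
theorem exists_semiregular_expo (hU : Ab U) (h : ∀ p : ℕ, p.Prime → ∃ Z, Z ≤ U ∧ PiGrp {p} Z ∧
    (∀ x ∈ U, PiElt {p} x → orderOf x ∣ expo Z) ∧ Semiregular K Z) :
    ∃ U0, U0 ≤ U ∧ expo U0 = expo U ∧ Semiregular K U0 := by
  choose Z hZU hZp hZe hZr using h
  let U0 : Subgroup G :=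
    { carrier := {u | u ∈ U ∧ ∀ p hp, constt {p} u ∈ Z p hp}
      mul_mem' := fun {a b} ha hb => ⟨U.mul_mem ha.1 hb.1, fun p hp => by
        rw [constt_mul_of_commute _ (ab_iff.1 hU a ha.1 b hb.1)]
        exact mul_mem (ha.2 p hp) (hb.2 p hp)⟩
      one_mem' := ⟨U.one_mem, fun p hp => by rw [constt_one]; exact one_mem _⟩
      inv_mem' := fun {a} ha => ⟨U.inv_mem ha.1, fun p hp => by
        rw [constt_inv]; exact inv_mem (ha.2 p hp)⟩ }
  have hle : U0 ≤ U := fun x hx => hx.1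
  have hZ : ∀ p hp, Z p hp ≤ U0 := fun p hp z hz => ⟨hZU p hp hz, fun q hq => by
    by_cases e : q = p
    · subst e; rw [constt_eq_self ((hZp q hp).piElt hz)]; exact hz
    · rw [constt_eq_one (((hZp p hp).piElt hz).mono (by simpa using e))]; exact one_mem _⟩
  refine ⟨U0, hle, Nat.dvd_antisymm (expo_dvd_of_le hle) (expo_dvd_iff.2 fun x hx => ?_),
    semiregular_of_prime_order fun x hx hp => ?_⟩
  · rw [← orderOf_dvd_iff_pow_eq_one, Nat.dvd_iff_prime_pow_dvd_dvd]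
    intro q k hq hd
    have h1 : orderOf (x ^ (orderOf x / q ^ k)) = q ^ k := orderOf_pow_orderOf_div (orderOf_pos x).ne' hd
    have := hZe q hq _ (U.pow_mem hx (orderOf x / q ^ k)) (by
      unfold PiElt; rw [h1]; exact isPiNum_singleton_pow hq k)
    rw [h1] at this
    exact this.trans (expo_dvd_of_le (hZ q hq))
  · have := hx.2 _ hp
    rw [constt_eq_self (π := {orderOf x}) ((isPiNum_prime hp).2 rfl)] at this
    exact hZr _ hp x this (by rintro rfl; exact Nat.not_prime_one (by simpa using hp))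

/-- a coprime fixed point free action of prime order on a section -/
theorem nil_quo_of_cent_le (hN : N ⊴ Y) (hPY : P ≤ 𝐍(Y)) (hPN : P ≤ 𝐍(N)) (hp : (♯P).Prime)
    (hc : (♯N).Coprime ♯P) (h : Y ⊓ 𝐂(P) ≤ N) : Nil (Y ⁒ N) :=
  prime_Frobenius_sol_kernel_nil (quo_le_norm N hPY) ((card_quo_of_coprime hPN hc).symm ▸ hp) (by
    rw [← quo_inf_cent hN.le hPN hc (Or.inr (sol_of_ab (ab_of_isCyclic (isCyclic_of_prime hp)))),
      quo_eq_bot h])

theorem Semiregular.quo_of_norm (h : Semiregular K R) (hR : R ≤ 𝐍(N)) (hK : R ≤ 𝐍(K))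
    (hc : (♯N).Coprime ♯R) : Semiregular (K ⁒ N) (R ⁒ N) := by
  intro z hz hz1
  obtain ⟨x, hx, rfl⟩ := (mem_quo_of_le hR).1 hz
  have hle := zpowers_le.2 hx
  rw [← cent_zpowers, ← quo_zpowers (hR hx), ← quo_inf_cent_of_norm (hle.trans hR) (hle.trans hK)
    (coprime_card_mono hc inf_le_left hle) (Or.inr (sol_of_ab (ab_of_isCyclic inferInstance))),
    cent_zpowers, h x hx (by rintro rfl; exact hz1 (coset_one N)), bot_quo]

theorem IsSdprod.nil_of_quo (h : IsSdprod N R M) (hn : Nil (M ⁒ N)) : Nil R :=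
  Group.nilpotent_of_surjective h.quoEquiv.symm.toMonoidHom h.quoEquiv.symm.surjective

theorem IsSdprod.expo_quo (h : IsSdprod N R M) : expo (M ⁒ N) = expo R := (expo_congr h.quoEquiv).symm

theorem IsSdprod.assoc (h : IsSdprod K R M) (h' : IsSdprod U X R) :
    IsSdprod K U (K ⊔ U) ∧ IsSdprod (K ⊔ U) X M := by
  refine ⟨IsSdprod.of_sup (h'.left_le.trans h.le_norm) (eq_bot_iff.2 (h.inf_eq ▸
    inf_le_inf_left _ h'.left_le)), by rw [sup_assoc, h'.sup_eq, h.sup_eq],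
    le_norm_sup (h'.right_le.trans h.le_norm) h'.le_norm, eq_bot_iff.2 ?_⟩
  have : (K ⊔ U) ⊓ R = U := by
    rw [sup_inf_of_le_right (Or.inr (h'.left_le.trans h.le_norm)) h'.left_le, h.inf_eq, bot_sup_eq]
  rw [← h'.inf_eq]
  exact le_inf ((inf_le_inf_left _ h'.right_le).trans this.le) inf_le_right

theorem not_mem_kappa_of_tau2 (hp : p ∈ tau2S M) : p ∉ kappaS M := by
  rintro ⟨h | h, -⟩
  · have := h.2.2.1; have := hp.2.2; omega
  · have := h.2.2.1; have := hp.2.2; omega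

theorem not_mem_tau13_of_tau2 (hp : p ∈ tau2S M) : p ∉ tau13S M := by
  rintro (h | h)
  · have := h.2.2.1; have := hp.2.2; omega
  · have := h.2.2.1; have := hp.2.2; omega

theorem tau2_dvd_card (hp : p ∈ tau2S M) : p ∣ ♯M := by
  have := Fact.mk hp.1
  exact rp_pos_iff.1 (by rw [hp.2.2]; norm_num)

theorem tau2_subset_compl_sigma (M : Subgroup G) : tau2S M ⊆ (sigmaS M)ᶜ := fun _ h => h.2.1
theorem tau2_subset_compl_kappa (M : Subgroup G) : tau2S M ⊆ (kappaS M)ᶜ :=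
  fun _ h => not_mem_kappa_of_tau2 h
theorem sigma_subset_compl_kappa (M : Subgroup G) : sigmaS M ⊆ (kappaS M)ᶜ :=
  fun _ h h' => kappa_sigma' M h' h

namespace KappaCompl

theorem U_le (h : KappaCompl M U K) : U ≤ M := h.hallU.le
theorem K_le (h : KappaCompl M U K) : K ≤ M := h.hallK.le
theorem U_sigma' (h : KappaCompl M U K) : PiGrp (sigmaS M)ᶜ U :=
  h.hallU.piGrp.mono fun _ h h' => h (Or.inl h')
theorem U_kappa' (h : KappaCompl M U K) : PiGrp (kappaS M)ᶜ U :=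
  h.hallU.piGrp.mono fun _ h h' => h (Or.inr h')
theorem K_sigma' (h : KappaCompl M U K) : PiGrp (sigmaS M)ᶜ K := h.hallK.piGrp.mono (kappa_sigma' M)
theorem conj_of_mem (h : KappaCompl M U K) {g : G} (hg : g ∈ M) : KappaCompl M (g •ᶜ U) (g •ᶜ K) :=
  ⟨h.hallU.conj_of_mem hg, h.hallK.conj_of_mem hg, conj_sup g U K ▸ h.prod.conj g⟩
theorem syl (h : KappaCompl M U K) [Fact p.Prime] (hP : Syl p P U) (hp : p ∈ tau2S M) : Syl p P M :=
  hP.trans_hall h.hallU fun h => h.elim hp.2.1 (not_mem_kappa_of_tau2 hp)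

end KappaCompl

theorem TypeP1Max.not_P2 (h : TypeP1Max M) : ¬ TypeP2Max M := fun h' => h'.2 h.2
theorem TypePMax.not_F (h : TypePMax M) : ¬ TypeFMax M := fun h' => h.2 h'.2
theorem TypePMax.P1_or_P2 (h : TypePMax M) : TypeP1Max M ∨ TypeP2Max M :=
  (em _).imp (fun h' => ⟨h, h'⟩) fun h' => ⟨h, h'⟩
theorem typeF_or_P (h : IsCoatom M) : TypeFMax M ∨ TypePMax M :=
  (em _).imp (fun h' => ⟨h, h'⟩) fun h' => ⟨h, h'⟩

end General

variable [MinOdd G]

theorem typeP_of_ne_bot {M K : Subgroup G} (hM : IsCoatom M) (hK : Hall (kappaS M) K M) (h : K ≠ ⊥) :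
    TypePMax M := (typeF_or_P hM).resolve_left fun h' => h ((trivg_kappa hM hK).2 h')

theorem TypePMax.hall_ne_bot {M K : Subgroup G} (hM : TypePMax M) (hK : Hall (kappaS M) K M) : K ≠ ⊥ :=
  fun h => hM.not_F ((trivg_kappa hM.1 hK).1 h)

theorem typeP1_of_not_nil {M : Subgroup G} (hM : IsCoatom M) (h : ¬ Nil (Ms M)) : TypeP1Max M := by
  rcases typeF_or_P hM with h1 | h1
  · exact absurd (notP1type_Msigma_nil (Or.inl h1)) h
  · exact h1.P1_or_P2.resolve_right fun h2 => h (notP1type_Msigma_nil (Or.inr h2))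

theorem exists_kappaCompl_ge {M X : Subgroup G} (hM : IsCoatom M) (hX : X ≤ M)
    (h : PiGrp (sigmaKappaS M)ᶜ X) : ∃ U K, KappaCompl M U K ∧ X ≤ U := by
  obtain ⟨U, K, hU⟩ := kappa_witness hM
  obtain ⟨g, hg, hle⟩ := hU.hallU.exists_le_conj (mmax_sol hM) hX h
  exact ⟨_, _, hU.conj_of_mem hg, hle⟩

theorem exists_kappaCompl_sup_eq {M E : Subgroup G} (hM : IsCoatom M) (hE : Hall (sigmaS M)ᶜ E M) :
    ∃ U K, KappaCompl M U K ∧ U ⊔ K = E := by
  obtain ⟨U, K, hU⟩ := kappa_witness hM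
  obtain ⟨g, hg, e⟩ := (kappa_compl_context hM hU).1.exists_conj (mmax_sol hM) hE
  exact ⟨_, _, hU.conj_of_mem hg, by rw [e, conj_sup]⟩

theorem Fcore_sub_Msigma {M : Subgroup G} (hM : IsCoatom M) : Fcore M ≤ Ms M := by
  refine le_Opi (Fcore_normal M) fun p hp hd => ?_
  have := Fact.mk hp
  have hS := syl_Op_of_mem_piOf_Fcore (H := M) ⟨hp, hd⟩
  exact ⟨hp, Op p M, hS,
    (mmax_normal hM (Op_normal p M) (hS.ne_bot (hd.trans (card_dvd (Fcore_le M))))).le⟩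

theorem Fcore_eq_Msigma {M : Subgroup G} (hM : IsCoatom M) : Fcore M = Ms M ↔ Nil (Ms M) :=
  ⟨fun h => h ▸ Fcore_nil M, fun h => le_antisymm (Fcore_sub_Msigma hM)
    (le_Fcore (Msigma_Hall hM).isHallIn (Ms_normal M).norm h)⟩

theorem mem_Ms_iff {M : Subgroup G} (hM : IsCoatom M) {x : G} (hx : x ∈ M) :
    x ∈ Ms M ↔ PiElt (sigmaS M) x := (Msigma_Hall hM).mem_iff_of_normal (Ms_normal M).norm hx

theorem le_Ms_iff {M X : Subgroup G} (hM : IsCoatom M) (hX : X ≤ M) :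
    X ≤ Ms M ↔ PiGrp (sigmaS M) X := (Msigma_Hall hM).le_iff_of_normal (Ms_normal M).norm hX

theorem der2_le_Ms {M : Subgroup G} (hM : IsCoatom M) : der2 M ≤ Ms M := by
  obtain ⟨E, hE⟩ := exists_hall (sigmaS M)ᶜ (mmax_sol hM)
  have d := sdprod_sigma hM hE
  have h1 : der M ≤ Ms M ⊔ der E := by
    rw [d.der_eq]; exact sup_le_sup_right (sup_le (der_le _) d.commutator_le) _
  exact (der_mono h1).trans ((d.mono le_rfl (der_le E) ((der_le E).trans d.le_norm)).der_le_of_ab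
    (der_mmax_compl_abelian hM hE))

theorem der_lt_mmax {M : Subgroup G} (hM : IsCoatom M) : der M < M := der_lt (mmax_sol hM) (mmax_neq1 hM)

theorem Ms_lt {M : Subgroup G} (hM : IsCoatom M) : Ms M < M := (Msigma_der1 hM).trans_lt (der_lt_mmax hM)

/-- Lemma 15.1(c) -/
theorem kappa_structure_c {M U K X : Subgroup G} (hM : IsCoatom M) (h : KappaCompl M U K) (hX : X ≤ U)
    (hX1 : X ≠ ⊥) (hC : Ms M ⊓ 𝐂(X) ≠ ⊥) : UniqMax 𝐂(X) M ∧ IsCyclic X ∧ PiGrp (tau2S M) X := by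
  obtain ⟨x, hx, hx1⟩ := exists_mem_ne_one hC
  have key : ∀ y ∈ X, y ≠ 1 → PiElt (tau2S M) y ∧ UniqMax 𝐂[y] M := fun y hy hy1 => by
    rcases pi_of_cent_sigma hM hx.1 hx1 (mem_inf.2 ⟨h.U_le (hX hy), mem_cent1_comm.1 (cent_le_cent1 hy hx.2)⟩)
      hy1 (h.U_sigma'.piElt (hX hy)) with h1 | h1
    · exact absurd (h1.1.eq_one (h.U_kappa'.piElt (hX hy))) hy1
    · exact ⟨h1.1, h1.2.2⟩
  have ht : PiGrp (tau2S M) X := piGrp_iff_forall.2 fun y hy => by
    by_cases hy1 : y = 1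
    · rw [hy1]; exact piElt_one _
    · exact (key y hy hy1).1
  have hE := (kappa_compl_context hM h).1
  obtain ⟨E2, h2, hX2⟩ := exists_hall_ge (sol_of_le (mmax_sol hM) hE.le) (hX.trans le_sup_left) ht
  have hc : IsCyclic X := by
    rw [isCyclic_iff_rank_of_ab (ab_of_le (tau2_compl_abelian hM hE h2) hX2)]
    by_contra h3
    obtain ⟨p, hp, A, hA⟩ := le_rank_iff.1 (show 2 ≤ rank X by omega)
    have := (tau2_context hM (ht p hp (hA.dvd_card two_ne_zero)) (hA.mono (hX.trans h.U_le))).2.2.1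
    exact hC (eq_bot_iff.2 (this ▸ inf_le_inf_left _ (cent_anti hA.le)))
  obtain ⟨y, rfl⟩ := exists_zpowers_eq hc
  rw [cent_zpowers]
  exact ⟨(key y (mem_zpowers y) (by simpa using hX1)).2, hc, ht⟩

theorem kappa_compl_semiregular {M U K X : Subgroup G} (hM : IsCoatom M) (h : KappaCompl M U K)
    (hX : X ≤ U) (ht : PiGrp (tau2S M)ᶜ X) : Semiregular (Ms M) X :=
  semiregular_of_prime_subgroup fun Y hY hp => by
    by_contra h1
    have hY1 : Y ≠ ⊥ := ne_bot_of_prime_dvd hp dvd_rfl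
    exact hY1 ((kappa_structure_c hM h (hY.trans hX) hY1 h1).2.2.eq_bot (ht.of_le hY))

/-- Lemma 15.1(e) for abelian `U` -/
theorem kappa_structure_e_ab {M U K : Subgroup G} (hM : IsCoatom M) (h : KappaCompl M U K) (hU : Ab U) :
    ∃ U0, U0 ≤ U ∧ expo U0 = expo U ∧ Semiregular (Ms M) U0 := by
  refine exists_semiregular_expo hU fun p hp => ?_
  have := Fact.mk hp
  have hS := syl_Op_of_nil p (nil_of_ab hU)
  set S := Op p U with hSd
  have hmem : ∀ x ∈ U, PiElt {p} x → x ∈ S := fun x hx hxp =>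
    hS.mem_of_mem_norm hx ((Op_normal p U).norm hx) hxp
  by_cases ht : p ∈ tau2S M
  swap
  · exact ⟨S, hS.le, hS.piGrp, fun x hx hxp => orderOf_dvd_expo (hmem x hx hxp),
      kappa_compl_semiregular hM h hS.le (hS.piGrp.mono (by simpa using ht))⟩
  have hSM := h.syl hS ht
  have hab : Ab S := ab_of_le hU hS.le
  obtain ⟨A, hA⟩ := exists_isEp (p := p) (n := 2) (H := S) (by rw [rp_syl hSM, ht.2.2])
  obtain ⟨h1, -, -, -, A1, hA1, hA1c⟩ := tau2_context hM ht (hA.mono hSM.le)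
  obtain ⟨hO, hN⟩ := (h1 S hSM).2 hA.le
  obtain ⟨k, hk⟩ := IsPGroup.iff_card.1 hS.isPGroup
  obtain ⟨n, -, hn⟩ := (Nat.dvd_prime_pow hp).1 (hk ▸ expo_dvd_card S)
  have hS1 : S ≠ ⊥ := fun h0 => hA.ne_bot two_ne_zero (eq_bot_iff.2 (h0 ▸ hA.le))
  obtain ⟨m, rfl⟩ : ∃ m, n = m + 1 := by
    refine Nat.exists_eq_succ_of_ne_zero ?_
    rintro rfl
    obtain ⟨x, hx, hx1⟩ := exists_mem_ne_one hS1
    exact hx1 (by simpa using expo_dvd_iff.1 hn.dvd x hx)
  have hXA : Mho p m S ≤ A := hO ▸ Mho_le_iff.2 fun x hx => mem_Ohm (S.pow_mem hx _) (by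
    rw [← pow_mul, ← pow_succ]; exact expo_dvd_iff.1 hn.dvd x hx)
  have hX1 : Mho p m S ≠ ⊥ := fun h0 => by
    have : expo S ∣ p ^ m := expo_dvd_iff.2 fun x hx => mem_bot.1 (h0 ▸ pow_mem_Mho p m hx)
    rw [hn, Nat.pow_dvd_pow_iff_le_right hp.one_lt] at this
    omega
  obtain ⟨X, hX, hXm, hXc⟩ : ∃ X, IsEp p 1 X A ∧ X ≤ Mho p m S ∧ Ms M ⊓ 𝐂(X) = ⊥ := by
    rcases hXA.lt_or_eq with h2 | h2
    · refine ⟨_, hA.self.one_of_lt_two h2 hX1, le_rfl, ?_⟩
      by_contra h3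
      have := (kappa_structure_c hM h ((Mho_le p m S).trans hS.le) hX1 h3).1.norm_le
      exact hN ((norm_le_norm_Mho p m S).trans ((norm_le_norm_cent _).trans this))
    · exact ⟨A1, hA1, h2 ▸ hA1.le, hA1c⟩
  obtain ⟨y, hy, hy1⟩ := exists_mem_ne_one (hX.ne_bot one_ne_zero)
  obtain ⟨x, hx, rfl⟩ := (mem_Mho_iff_of_ab hab).1 (hXm hy)
  have hle := zpowers_le.2 hx
  refine ⟨zpowers x, hle.trans hS.le, hS.piGrp.of_le hle, fun w hw hwp => ?_,
    semiregular_of_prime_subgroup fun Y hY hYp => ?_⟩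
  · rw [expo_eq_card_of_isCyclic inferInstance, Nat.card_zpowers,
      orderOf_eq_prime_pow hy1 (expo_dvd_iff.1 hn.dvd x hx), ← hn]
    exact orderOf_dvd_expo (hmem w hw hwp)
  · have e : ♯Y = p := hS.piGrp _ hYp (card_dvd (hY.trans hle))
    have hXx : X ≤ zpowers x := by
      rw [← eq_zpowers_of_prime hX.prime_card hy hy1]
      exact zpowers_le.2 (pow_mem (mem_zpowers x) _)
    rw [eq_of_isCyclic_of_card_eq inferInstance hY hXx (e.trans hX.card_one.symm), hXc]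

theorem kappa_hall_cyclic {M K : Subgroup G} (hM : IsCoatom M) (hK : Hall (kappaS M) K M) :
    IsCyclic K := by
  by_cases h : K = ⊥
  · rw [h]; infer_instance
  · obtain ⟨L, hL⟩ := Ptype_embedding (typeP_of_ne_bot hM hK h) hK
    exact isCyclic_of_le' hL.cycZ le_sup_left

/-- Lemma 15.1 -/
theorem kappa_structure {M U K : Subgroup G} (hM : IsCoatom M) (h : KappaCompl M U K) :
    (IsSdprod (Ms M) U (Ms M ⊔ U) ∧ IsSdprod (Ms M ⊔ U) K M ∧ IsCyclic K ∧ der2 M ≤ Ms M) ∧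
    (K ≠ ⊥ → IsSdprod (Ms M) U (der M) ∧ Ab U) ∧
    (∀ X, X ≤ U → X ≠ ⊥ → Ms M ⊓ 𝐂(X) ≠ ⊥ → UniqMax 𝐂(X) M ∧ IsCyclic X ∧ PiGrp (tau2S M) X) ∧
    Ab (⨆ x ∈ sharp (Ms M), U ⊓ 𝐂[x]) ∧
    (U ≠ ⊥ → ∃ U0, U0 ≤ U ∧ expo U0 = expo U ∧ IsFrob (Ms M ⊔ U0) (Ms M) U0) := by
  obtain ⟨hE, ⟨dUK, dM⟩, -, -, hab⟩ := kappa_compl_context hM h
  obtain ⟨d1, d2⟩ := dM.assoc dUK
  have hc := kappa_hall_cyclic hM h.hallK
  have hF : K = ⊥ → U ≠ ⊥ → (∃ A0, A0 ⊴ U ∧ Ab A0 ∧ ∀ x ∈ Ms M, x ≠ 1 → U ⊓ 𝐂[x] ≤ A0) ∧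
      ∃ E0, E0 ≤ U ∧ expo E0 = expo U ∧ IsFrob (Ms M ⊔ E0) (Ms M) E0 := by
    rintro rfl hU
    rw [sup_bot_eq] at hE
    refine FTtypeF_complement hM hE hU fun e he he1 ht => ?_
    exact kappa_compl_semiregular hM h (zpowers_le.2 he) (piGrp_zpowers.2
      (ht.mono fun _ h h' => not_mem_tau13_of_tau2 h' h)) e (mem_zpowers e) he1
  refine ⟨⟨d1, d2, hc, der2_le_Ms hM⟩, fun hK => ⟨?_, hab hK⟩,
    fun X hX hX1 hC => kappa_structure_c hM h hX hX1 hC, ?_, fun hU => ?_⟩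
  · obtain ⟨L, hL⟩ := Ptype_embedding (typeP_of_ne_bot hM h.hallK hK) h.hallK
    rwa [eq_of_le_of_card_le (d2.der_le_of_ab (ab_of_isCyclic hc))
      (Nat.eq_of_mul_eq_mul_right (card_pos' K) (d2.card.trans hL.defM.card.symm)).le]
  · by_cases hK : K = ⊥
    · by_cases hU : U = ⊥
      · exact ab_of_le ab_bot (iSup₂_le fun x _ => hU ▸ inf_le_left)
      · obtain ⟨A0, -, h1, h2⟩ := (hF hK hU).1
        exact ab_of_le h1 (iSup₂_le fun x hx => h2 x hx.1 hx.2)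
    · exact ab_of_le (hab hK) (iSup₂_le fun x _ => inf_le_left)
  · by_cases hK : K = ⊥
    · exact (hF hK hU).2
    · obtain ⟨U0, h1, h2, h3⟩ := kappa_structure_e_ab hM h (hab hK)
      refine ⟨U0, h1, h2, h3.isFrob (h1.trans d1.le_norm) (Msigma_neq1 hM) ?_⟩
      rintro rfl
      obtain ⟨p, hp, hd⟩ := exists_prime_dvd hU
      have := (dvd_expo_of_dvd_card hp hd).trans (h2 ▸ expo_dvd_card ⊥)
      exact hp.one_lt.ne' (by simpa using this)

theorem P1type_defM {M K : Subgroup G} (hM : TypeP1Max M) (hK : Hall (kappaS M) K M) :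
    KappaCompl M ⊥ K ∧ IsSdprod (Ms M) K M ∧ Hall (sigmaS M)ᶜ K M ∧ Ms M = der M := by
  obtain ⟨U, hU⟩ := ex_kappa_compl hM.1.1 hK
  obtain rfl := (trivg_kappa_compl hM.1.1 hU).2 hM
  obtain ⟨hE, ⟨-, dM⟩, -⟩ := kappa_compl_context hM.1.1 hU
  rw [bot_sup_eq] at hE dM
  exact ⟨hU, dM, hE, le_antisymm (Msigma_der1 hM.1.1)
    (dM.der_le_of_ab (ab_of_isCyclic (kappa_hall_cyclic hM.1.1 hK)))⟩

theorem P1type_Ms_eq {M : Subgroup G} (hM : TypeP1Max M) : Ms M = der M :=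
  let ⟨_, hK⟩ := exists_hall (kappaS M) (mmax_sol hM.1.1); (P1type_defM hM hK).2.2.2

end Cfsg.Agent.OO
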