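import Cfsg.Agent.Lib.OO.Pf.BG15_A

/-! # B&G section 15: Theorem 15.2 -/

set_option autoImplicit false
set_option linter.unusedSectionVars false

namespace Cfsg.Agent.OO

open Subgroup Cfsg.Agent.Coprime
open scoped Pointwise commutatorElement

universe u

variable {G : Type u} [Group G] [Finite G]

/-- `C_H(Q / Q0)` -/
def centQuo (H Q Q0 : Subgroup G) : Subgroup G := quoPre Q0 (H ⁒ Q0 ⊓ 𝐂(Q ⁒ Q0))

theorem centQuo_le {H Q Q0 : Subgroup G} (h : Q0 ⊴ H) : centQuo H Q Q0 ≤ H := quoPre_le_of_le h inf_le_left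

theorem le_centQuo_iff {H Q Q0 X : Subgroup G} (h : Q0 ⊴ H) (hQ : Q ≤ 𝐍(Q0)) (hX : X ≤ H) :
    X ≤ centQuo H Q Q0 ↔ ⁅Q, X⁆ ≤ Q0 := by
  rw [centQuo, ← quo_le_iff_le_quoPre (hX.trans h.norm), le_inf_iff, quo_le_cent_iff (hX.trans h.norm) hQ,
    commutator_comm]
  exact and_iff_right (quo_mono _ hX)

theorem le_norm_centQuo {H Q Q0 A : Subgroup G} (h0 : A ≤ 𝐍(Q0)) (h1 : A ≤ 𝐍(H)) (h2 : A ≤ 𝐍(Q)) :
    A ≤ 𝐍(centQuo H Q Q0) :=
  le_norm_quoPre h0 (le_norm_inf (quo_le_norm _ h1) (le_norm_cent (quo_le_norm _ h2)))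

variable [MinOdd G]

/-- the conclusion of the second part of Theorem 15.2, with `Ks = C_{M_σ}(K)`, `p = |K|`, `q = |Ks|`,
`Q = O_q(M)`, `Q0 = C_Q(D)` -/
structure FcoreStructure (M K D Ks Q Q0 : Subgroup G) (p q : ℕ) : Prop where
  typeP1 : TypeP1Max M
  defM : IsSdprod (Ms M) K M
  not_nil : ¬ Nil (Ms M)
  prime_p : p.Prime
  prime_q : q.Prime
  q_pi : q ∈ piOf (Fcore M)
  q_beta : q ∈ betaS M
  sylQ : Syl q Q M
  nilD : Nil D
  normalQ0 : Q0 ⊴ M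
  chief : IsChiefIn M Q0 Q
  abelem : IsElementaryAbelian q (Q ⁒ Q0)
  card_eq : Q0.relIndex Q = q ^ p
  defMs : Ms M = der M
  der2_le : der2 M ≤ Fit M
  defF1 : Q ⊔ (M ⊓ 𝐂(Q)) = Fit M
  defF2 : ∀ x ∈ M, (⁅Q, zpowers x⁆ ≤ Q0 ↔ x ∈ Fit M)
  defF3 : ∀ x ∈ Ms M, (⁅Ks, zpowers x⁆ ≤ Q0 ↔ x ∈ Fit M)
  fit_lt : Fit M < Ms M

theorem P1type_prime_Ks {M K : Subgroup G} (hM : TypeP1Max M) (hK : Hall (kappaS M) K M) :
    (♯(Ms M ⊓ 𝐂(K))).Prime := by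
  obtain ⟨L, hL⟩ := Ptype_embedding hM.1 hK
  exact (hL.typeP2.resolve_left fun h => hM.not_P2 h.1).2

/-- first half of the proof of Theorem 15.2 -/
theorem Fcore_structure_Sylow {M K : Subgroup G} {q : ℕ} [Fact q.Prime] (hM : IsCoatom M)
    (hK : Hall (kappaS M) K M) (hn : ¬ Nil (Ms M)) (hq : ♯(Ms M ⊓ 𝐂(K)) = q) :
    Ms M ⊓ 𝐂(K) ≤ Op q M ∧ q ∈ sigmaS M ∧ Nil (Ms M ⁒ Op q M) ∧ Syl q (Op q M) (Ms M) := by
  have P1 := typeP1_of_not_nil hM hn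
  obtain ⟨hU, dM, hE, -⟩ := P1type_defM P1 hK
  have prK := (kappa_compl_context hM hU).2.2.1
  have co := coprime_sigma_compl hE
  have hqp : (♯(Ms M ⊓ 𝐂(K))).Prime := hq ▸ Fact.out
  have h1 : Ms M ⊓ 𝐂(K) ≤ Fit (Ms M) := by
    by_contra h
    have h2 := odd_sdprod_primact_commg_sub_Fitting dM (mFT_odd M) (mmax_sol hM) co prK (eq_bot_iff.2
      (inf_eq_bot_of_prime hqp h ▸ le_inf (inf_le_inf_right _ (Fit_le _)) inf_le_left))
    rw [(sigma_compl_embedding hM hE).2.1] at h2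
    exact hn (nil_of_le (Fit_nil _) h2)
  have h2 : Ms M ⊓ 𝐂(K) ≤ Op q M := le_Op_of_le_Fit (isPGroup_of_card_prime_pow (n := 1) (by simpa using hq))
    (h1.trans (Fit_le_of_normal (Ms_normal M)))
  have hs : q ∈ sigmaS M := Ms_piGrp M q Fact.out (hq ▸ card_dvd inf_le_left)
  have hQ : Op q M ⊴ Ms M := (Op_normal q M).mono (Op_le_Opi hs M) (Ms_normal M).le
  obtain ⟨k, hk, hkp⟩ := exists_prime_order_mem (P1.1.hall_ne_bot hK)
  have hle := zpowers_le.2 hk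
  have h3 : Nil (Ms M ⁒ Op q M) := nil_quo_of_cent_le hQ (hle.trans dM.le_norm)
    (hle.trans (hK.le.trans (Op_normal q M).norm)) (by rwa [Nat.card_zpowers])
    (coprime_card_mono co hQ.le hle) (by
      rw [prK.inf_cent hle (ne_bot_of_prime_dvd hkp (by rw [Nat.card_zpowers]))]; exact h2)
  refine ⟨h2, hs, h3, syl_of_quo hQ (Op_isPGroup q M) le_rfl hQ.le ?_⟩
  have h4 := syl_Op_of_nil q h3
  rwa [← quo_Op hQ (Op_isPGroup q M), Ms, Op_Opi hs] at h4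

theorem Fcore_structure_aux {M K D : Subgroup G} {q : ℕ} [Fact q.Prime] (hM : IsCoatom M)
    (hK : Hall (kappaS M) K M) (hn : ¬ Nil (Ms M)) (hq : ♯(Ms M ⊓ 𝐂(K)) = q)
    (hD : Hall ({q} : Set ℕ)ᶜ D (Ms M)) (hKD : K ≤ 𝐍(D)) :
    FcoreStructure M K D (Ms M ⊓ 𝐂(K)) (Op q M) (Op q M ⊓ 𝐂(D)) ♯K q := by
  have P1 := typeP1_of_not_nil hM hn
  obtain ⟨hU, dM, hE, defMs⟩ := P1type_defM P1 hK
  have prK := (kappa_compl_context hM hU).2.2.1
  have co := coprime_sigma_compl hE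
  have hK1 := P1.1.hall_ne_bot hK
  have hqp : (♯(Ms M ⊓ 𝐂(K))).Prime := hq ▸ Fact.out
  obtain ⟨hKsQ, hs, nilq, sylQ⟩ := Fcore_structure_Sylow hM hK hn hq
  have sylM := sylQ.trans_hall (Msigma_Hall hM) hs
  have hQM := Op_normal q M
  have hpQ := Op_isPGroup q M
  set Ks := Ms M ⊓ 𝐂(K) with hKs
  set Q := Op q M with hQd
  set Q0 := Q ⊓ 𝐂(D) with hQ0
  have dMs : IsSdprod Q D (Ms M) := sylQ.hall.sdprod ((Ms_normal M).le.trans hQM.norm) hD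
  have nilD : Nil D := dMs.nil_of_quo nilq
  have coQD : (♯Q).Coprime ♯D := coprime_of_isPGroup hpQ hD.piGrp
  have hDM : D ≤ M := hD.le.trans (Ms_normal M).le
  have hDKM : D ⊔ K ≤ M := sup_le hDM hK.le
  have hnD : D ⊔ K ≤ 𝐍(D) := sup_le (le_norm_self D) hKD
  have hnQ : D ⊔ K ≤ 𝐍(Q) := hDKM.trans hQM.norm
  have hnQ0 : D ⊔ K ≤ 𝐍(Q0) := le_norm_inf hnQ (le_norm_cent hnD)
  have hQD : ¬ D ≤ 𝐂(Q) := fun h => hn ((dMs.toDprod h).nil (nil_of_isPGroup hpQ) nilD)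
  have hlt : Q0 < Q := lt_of_le_of_ne inf_le_left fun h => hQD (le_cent_symm (h.ge.trans inf_le_right))
  have hD1 : D ≠ ⊥ := fun h => hQD (h ▸ bot_le)
  obtain ⟨k, hk, hkp⟩ := exists_prime_order_mem hK1
  have hle := zpowers_le.2 hk
  have hCk : Ms M ⊓ 𝐂(zpowers k) = Ks := prK.inf_cent hle (ne_bot_of_prime_dvd hkp (by rw [Nat.card_zpowers]))
  have reg : ∀ X Y : Subgroup G, X ⊴ Y → Y ≤ Q → D ⊔ K ≤ 𝐍(X) → D ⊔ K ≤ 𝐍(Y) → Y ⊓ Ks ≤ X →
      Y ≤ X ⊔ Q0 := by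
    intro X Y hXY hY hX hY' h
    have hDX := le_sup_left.trans hX
    have hDY := le_sup_left.trans hY'
    have h1 : Nil ((Y ⊔ D) ⁒ X) := by
      refine nil_quo_of_cent_le ⟨hXY.le.trans le_sup_left, sup_le hXY.norm hDX⟩
        (hle.trans (le_norm_sup (le_sup_right.trans hY') hKD)) (hle.trans (le_sup_right.trans hX))
        (by rwa [Nat.card_zpowers]) (coprime_card_mono co (hXY.le.trans (hY.trans sylQ.le)) hle) ?_
      have h2 : (Y ⊔ D) ⊓ 𝐂(zpowers k) ≤ Ks :=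
        hCk ▸ inf_le_inf_right _ (sup_le (hY.trans sylQ.le) hD.le)
      have h3 : (Y ⊔ D) ⊓ Q = Y := by
        rw [sup_inf_of_le_left (Or.inr hDY) hY, inf_comm, dMs.inf_eq, sup_bot_eq]
      exact (le_inf ((le_inf inf_le_left (h2.trans hKsQ)).trans h3.le) h2).trans h
    have h2 := (quo_le_cent_iff hXY.norm hDX).1 (le_cent_of_nil_of_coprime h1 (quo_mono X le_sup_left)
      (quo_mono X le_sup_right) (coprime_quo (coprime_card_mono coQD hY le_rfl) X X))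
    rw [← centralizer_sup_eq_of_commutator_le hXY.le h2
      (coprime_card_mono coQD (hXY.le.trans hY) le_rfl).symm (Or.inl (sol_of_nil nilD)), sup_comm]
    exact sup_le_sup_left (inf_le_inf_right _ hY) _
  have h0 := lt_inf_norm_of_nil (nil_of_isPGroup hpQ) hlt
  have h0n : Q0 ⊴ (Q ⊓ 𝐍(Q0)) := ⟨h0.le, inf_le_right⟩
  obtain ⟨Z, hZ, hZle⟩ := exists_minNormalBy (M := (D ⊔ K) ⁒ Q0) (quo_ne_bot inf_le_right h0.not_ge)
    (quo_le_norm Q0 (le_norm_inf hnQ (le_norm_norm hnQ0)))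
  have h1Q : quoPre Q0 Z ≤ Q := (quoPre_le_of_le h0n hZle).trans inf_le_left
  have h1n : D ⊔ K ≤ 𝐍(quoPre Q0 Z) := le_norm_quoPre hnQ0 hZ.norm
  have h1 : ¬ quoPre Q0 Z ⊓ Ks ≤ Q0 := fun h => by
    have := reg Q0 _ (normalIn_quoPre Z) h1Q hnQ0 h1n h
    rw [sup_idem] at this
    exact hZ.ne_bot (quoPre_eq_iff.1 (le_antisymm this (le_quoPre Z)))
  have hKs0 : ¬ Ks ≤ Q0 := fun h => h1 (inf_le_right.trans h)
  have hKs1 : Ks ≤ quoPre Q0 Z := le_of_prime_of_inf_ne_bot hqp fun h => h1 (by rw [inf_comm, h]; exact bot_le)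
  have h2 : quoPre Q0 Z = Q := eq_of_nil_of_inf_norm_le (nil_of_isPGroup hpQ) h1Q
    ((reg _ _ ⟨le_inf h1Q (le_norm_self _), inf_le_right⟩ inf_le_left h1n
      (le_norm_inf hnQ (le_norm_norm h1n)) (inf_le_right.trans hKs1)).trans (sup_le le_rfl (le_quoPre Z)))
  have hQQ0 : Q0 ⊴ Q := h2 ▸ normalIn_quoPre Z
  obtain rfl : Z = Q ⁒ Q0 := by rw [← h2, quo_quoPre]
  have hQ0M : Q0 ⊴ M := ⟨inf_le_left.trans hQM.le, by
    rw [← dM.sup_eq, ← dMs.sup_eq, sup_assoc]; exact sup_le hQQ0.norm hnQ0⟩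
  have hmin : IsMinNormalBy (Q ⁒ Q0) (M ⁒ Q0) := hZ.mono (quo_mono _ hDKM) (quo_le_norm _ hQM.norm)
  have chief := isChiefIn_of_minNormal_quo hQ0M hlt.le hQM.le hmin
  have habel := hmin.abelem_of_isPGroup (isPGroup_quo hpQ Q0)
  have hDn := le_sup_left.trans hnQ0
  have hKn := le_sup_right.trans hnQ0
  have co0K : (♯Q0).Coprime ♯K := coprime_card_mono co (hlt.le.trans sylQ.le) le_rfl
  have co0D : (♯Q0).Coprime ♯D := coprime_card_mono coQD hlt.le le_rfl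
  have regD : Semiregular D K := (prK.mono hD.le le_rfl).semiregular (eq_bot_iff.2 (dMs.inf_eq ▸
    le_inf ((inf_le_inf_right _ hD.le).trans hKsQ) inf_le_left))
  have cK : ♯(K ⁒ Q0) = ♯K := card_quo_of_coprime hKn co0K
  have cD : ♯(D ⁒ Q0) = ♯D := card_quo_of_coprime hDn co0D
  have frob : IsFrob ((D ⊔ K) ⁒ Q0) (D ⁒ Q0) (K ⁒ Q0) := by
    rw [quo_sup hDn hKn]
    exact (regD.quo_of_norm hKn hKD co0K).isFrob (quo_le_norm _ hKD)
      (fun h => hD1 (card_eq_one_iff.1 (cD ▸ card_eq_one_iff.2 h)))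
      (fun h => hK1 (card_eq_one_iff.1 (cK ▸ card_eq_one_iff.2 h)))
  have solK : Sol K := sol_of_le (mmax_sol hM) hK.le
  have hCK : Q ⁒ Q0 ⊓ 𝐂(K ⁒ Q0) = Ks ⁒ Q0 := by
    rw [← quo_inf_cent hlt.le hKn co0K (Or.inr solK),
      le_antisymm (inf_le_inf_right _ sylQ.le) (le_inf hKsQ inf_le_right)]
  have cKs : ♯(Ks ⁒ Q0) = q := by
    rw [card_quo_of_inf_eq_bot (hKsQ.trans hQQ0.norm) (inf_comm Q0 Ks ▸ inf_eq_bot_of_prime hqp hKs0), hq]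
  have coQDK : (♯Q).Coprime ♯(D ⊔ K) := Nat.Coprime.coprime_dvd_right (card_sup_dvd (Or.inr hKD))
    (coQD.mul_right (coprime_card_mono co sylQ.le le_rfl))
  obtain ⟨hp, hcard, hder⟩ := Frobenius_primact frob (sol_quo (sol_of_le (mmax_sol hM) hDKM) _)
    (quo_le_norm _ hnQ) (sol_quo (sol_of_isPGroup hpQ) _) hZ.ne_bot (coprime_quo coQDK _ _)
    ((prK.mono sylQ.le le_rfl).quo hlt.le hKn co0K (Or.inr solK))
    (by rw [← quo_inf_cent hlt.le hDn co0D (Or.inr (sol_of_nil nilD)), quo_self])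
  rw [hCK] at hcard hder
  rw [cK] at hp hcard
  rw [cKs] at hcard
  have hder' := hder (isCyclic_of_prime (cKs ▸ Fact.out))
  -- the centralizer of the chief factor
  set C := centQuo M Q Q0 with hC
  have hCM : C ⊴ M := ⟨centQuo_le hQ0M, le_norm_centQuo hQ0M.norm (le_norm_self M) hQM.norm⟩
  have leC : ∀ X ≤ M, X ≤ C ↔ ⁅Q, X⁆ ≤ Q0 := fun X hX => le_centQuo_iff hQ0M hQQ0.norm hX
  have hQC : Q ≤ C := (leC Q hQM.le).2 ((ab_quo_iff hQQ0.norm).1 (abelem_ab habel))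
  have hKC : K ⊓ C = ⊥ := inf_eq_bot_of_prime hp fun h => by
    have h3 := (quo_le_cent_iff hQQ0.norm hKn).2 ((leC K hK.le).1 h)
    rw [← inf_eq_left.2 h3, hCK, cKs] at hcard
    have := Nat.pow_lt_pow_right (Fact.out : q.Prime).one_lt hp.one_lt
    rw [pow_one] at this
    omega
  have hCMs : C ≤ Ms M := by
    rw [← (dM.isProd.inf_of_coprime co hCM.le hCM.norm).sup_eq, hKC, sup_bot_eq]; exact inf_le_left
  have dC := dMs.of_left_le hQC hCMs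
  have hDC : D ⊓ C ≤ 𝐂(Q) := stable_factor_cent (inf_le_left.trans (le_cent_symm inf_le_right)) hQQ0
    ((leC _ (inf_le_left.trans hDM)).1 inf_le_right) (coprime_card_mono coQD le_rfl inf_le_left)
  have hCF : C = Fit M := le_antisymm
    (le_Fit hCM ((dC.toDprod hDC).nil (nil_of_isPGroup hpQ) (nil_of_le nilD inf_le_left)))
    ((leC _ (Fit_le M)).2 (Fitting_stab_chief chief))
  have hdD : der D ≤ C := (leC _ ((der_le D).trans hDM)).2 (by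
    rw [commutator_comm, ← quo_le_cent_iff ((der_le D).trans hDn) hQQ0.norm, quo_der hDn]
    exact hder'.trans inf_le_right)
  refine ⟨P1, dM, hn, hp, Fact.out, ⟨Fact.out, (hq ▸ card_dvd (hKsQ.trans (Op_le_Fcore sylM)))⟩,
    ⟨Fact.out, Q, sylM, fun hnar => hQD fun x hx => ?_⟩, sylM, nilD, hQ0M, chief, habel,
    by rw [← card_quo hQQ0.norm, hcard], defMs, ?_, le_antisymm ?_ ?_, fun x hx => ?_, fun x hx => ?_,
    lt_of_le_of_ne (hCF ▸ hCMs) fun h => hn (h ▸ Fit_nil M)⟩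
  · refine (Aut_narrow hpQ (mFT_odd Q) hnar hnQ (sol_of_le (mmax_sol hM) hDKM) (mFT_odd _)).1 x ?_
      ((isPiNum_compl_singleton_iff Fact.out).1 (hD.piGrp.piElt hx))
    rw [← (regD.isFrob hKD hD1 hK1).commg] at hx
    exact commutator_mono le_sup_left le_sup_right hx
  · change der (der M) ≤ _
    rw [← defMs, dMs.der_eq, ← hCF]
    exact sup_le (sup_le ((der_le Q).trans hQC) (dMs.commutator_le.trans hQC)) hdD
  · rw [← hCF]
    exact sup_le hQC ((leC _ inf_le_left).2 ((commutator_eq_bot_iff'.2 inf_le_right).le.trans bot_le))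
  · rw [← hCF, ← dC.sup_eq]
    exact sup_le_sup_left (le_inf (inf_le_left.trans hDM) hDC) _
  · rw [← leC _ (zpowers_le.2 hx), zpowers_le, hCF]
  · have hQ0s : Q0 ⊴ Ms M := hQ0M.mono (hlt.le.trans sylQ.le) (Ms_normal M).le
    have hKsn := hKsQ.trans hQQ0.norm
    rw [← hCF, ← le_centQuo_iff hQ0s hKsn (zpowers_le.2 hx), zpowers_le]
    set C' := centQuo (Ms M) Ks Q0 with hC'
    have leC' : ∀ X ≤ Ms M, X ≤ C' ↔ ⁅Ks, X⁆ ≤ Q0 := fun X hX => le_centQuo_iff hQ0s hKsn hX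
    have hCC' : C ≤ C' := (leC' _ hCMs).2 ((commutator_mono hKsQ le_rfl).trans ((leC _ hCM.le).1 le_rfl))
    refine ⟨fun h => ?_, fun h => hCC' h⟩
    have dC' := dMs.of_left_le (hQC.trans hCC') (centQuo_le hQ0s)
    have hn0 : D ⊔ K ≤ 𝐍(D ⊓ C') := sup_le
      (le_norm_of_der_le (le_inf (der_le D) (hdD.trans hCC')) inf_le_left)
      (le_norm_inf hKD (le_norm_centQuo hKn dM.le_norm
        (le_norm_inf dM.le_norm (le_norm_cent (le_norm_self K)))))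
    have h3 : Ks ⁒ Q0 ≤ 𝐂((D ⊓ C') ⁒ Q0) := (quo_le_cent_iff hKsn (inf_le_left.trans hDn)).2
      ((leC' _ (inf_le_left.trans hD.le)).1 inf_le_right)
    have h4 := hZ.le_of_inf_ne_bot (le_norm_cent (quo_le_norm Q0 hn0)) fun h =>
      quo_ne_bot hKsn hKs0 (eq_bot_iff.2 (h ▸ le_inf (quo_mono _ hKsQ) h3))
    exact (dC'.sup_eq.ge.trans (sup_le hQC ((leC _ (inf_le_left.trans hDM)).2
      ((quo_le_cent_iff hQQ0.norm (inf_le_left.trans hDn)).1 h4)))) h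

theorem exists_FcoreStructure {M K : Subgroup G} (hM : IsCoatom M) (hK : Hall (kappaS M) K M)
    (hne : Fcore M ≠ Ms M) : ∃ (q : ℕ) (_ : Fact q.Prime) (D : Subgroup G), ♯(Ms M ⊓ 𝐂(K)) = q ∧
      IsSdprod (Op q M) D (Ms M) ∧ Ms M ⊓ 𝐂(K) ≤ Op q M ∧ Op q M ≤ Fcore M ∧
      FcoreStructure M K D (Ms M ⊓ 𝐂(K)) (Op q M) (Op q M ⊓ 𝐂(D)) ♯K q := by
  have hn : ¬ Nil (Ms M) := fun h => hne ((Fcore_eq_Msigma hM).2 h)
  have P1 := typeP1_of_not_nil hM hn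
  have := Fact.mk (P1type_prime_Ks P1 hK)
  obtain ⟨-, dM, hE, -⟩ := P1type_defM P1 hK
  obtain ⟨D, hD, hKD⟩ := coprime_Hall_exists ({♯(Ms M ⊓ 𝐂(K))} : Set ℕ)ᶜ dM.le_norm (coprime_sigma_compl hE)
    (sol_of_le (mmax_sol hM) dM.left_le)
  obtain ⟨h1, -, -, h2⟩ := Fcore_structure_Sylow hM hK hn rfl
  have h := Fcore_structure_aux hM hK hn rfl hD hKD
  exact ⟨_, this, D, rfl, h2.hall.sdprod ((Ms_normal M).le.trans (Op_normal _ M).norm) hD, h1,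
    Op_le_Fcore h.sylQ, h⟩

/-- Theorem 15.2 -/
theorem Fcore_structure {M : Subgroup G} (hM : IsCoatom M) :
    (Fcore M ≠ ⊥ ∧ Fcore M ≤ Ms M ∧ Ms M ≤ der M ∧ der M < M) ∧
    ∀ K D : Subgroup G, Hall (kappaS M) K M → Fcore M ≠ Ms M →
      Hall ({♯(Ms M ⊓ 𝐂(K))} : Set ℕ)ᶜ D (Ms M) → K ≤ 𝐍(D) →
      FcoreStructure M K D (Ms M ⊓ 𝐂(K)) (Opi {♯(Ms M ⊓ 𝐂(K))} M) (Opi {♯(Ms M ⊓ 𝐂(K))} M ⊓ 𝐂(D))
        ♯K ♯(Ms M ⊓ 𝐂(K)) := by
  refine ⟨⟨?_, Fcore_sub_Msigma hM, Msigma_der1 hM, der_lt_mmax hM⟩, fun K D hK hne hD hKD => ?_⟩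
  · by_cases h : Fcore M = Ms M
    · rw [h]; exact Msigma_neq1 hM
    · obtain ⟨K, hK⟩ := exists_hall (kappaS M) (mmax_sol hM)
      obtain ⟨q, _, D, -, -, -, -, h⟩ := exists_FcoreStructure hM hK h
      exact ne_bot_of_prime_dvd h.q_pi.1 h.q_pi.2
  · have hn : ¬ Nil (Ms M) := fun h => hne ((Fcore_eq_Msigma hM).2 h)
    have := Fact.mk (P1type_prime_Ks (typeP1_of_not_nil hM hn) hK)
    rw [← Op_eq_Opi]
    exact Fcore_structure_aux hM hK hn rfl hD hKD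

end Cfsg.Agent.OO
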