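import Cfsg.Agent.Lib.OO.Pf.BG15_B
import Cfsg.Agent.Lib.OO.BG6
import Cfsg.Agent.Lib.Coprime.TIHall

/-! # B&G section 15: Corollaries 15.3 - 15.6 -/

set_option autoImplicit false
set_option linter.unusedSectionVars false

namespace Cfsg.Agent.OO

open Subgroup Cfsg.Agent.Coprime
open scoped Pointwise commutatorElement

universe u

variable {G : Type u} [Group G] [Finite G]

theorem der_le_cent_of_isCyclic {M Z : Subgroup G} (hZ : IsCyclic Z) (h : M ≤ 𝐍(Z)) : der M ≤ 𝐂(Z) :=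
  commutator_le_centralizer_of_isCyclic hZ h h

theorem Fit_le_Fcore_sup_cent (M : Subgroup G) : Fit M ≤ Fcore M ⊔ (M ⊓ 𝐂(Fcore M)) := by
  have d := dprod_Opi_of_nil (piOf (Fcore M)) (Fit_nil M)
  rw [← d.sup_eq]
  exact sup_le_sup ((Fcore_hall M).le_of_normal ((Fit_normal M).Opi _) (Opi_piGrp _ _))
    (le_inf ((Opi_le _ _).trans (Fit_le M)) (d.le_cent.trans (cent_anti
      (le_Opi_of_nil (Fit_nil M) (Fcore_le_Fit M) (piGrp_piOf _)))))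

theorem dprod_Fit_Ms (M : Subgroup G) : IsDprod (Fit (Ms M)) (Opi (sigmaS M)ᶜ (Fit M)) (Fit M) := by
  rw [Ms, Fit_Opi]; exact dprod_Opi_of_nil _ (Fit_nil M)

variable [MinOdd G]

/-- Corollary 15.3(a) -/
theorem cent_Hall_sigma_sdprod {M H : Subgroup G} {π : Set ℕ} (hM : IsCoatom M) (hH : Hall π H (Ms M))
    (hH1 : H ≠ ⊥) : ∃ X, IsSdprod (Ms M ⊓ 𝐂(H)) X (M ⊓ 𝐂(H)) ∧ IsCyclic X ∧ PiGrp (tau2S M) X := by
  have h1 := (Msigma_Hall hM).inf_of_normal_hall (Ms_normal M).norm (K := M ⊓ 𝐂(H)) inf_le_left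
  rw [← inf_assoc, inf_eq_left.2 (Ms_normal M).le] at h1
  obtain ⟨X, d, hX⟩ := h1.exists_sdprod ((Ms_normal M).inf_inf _).norm
  have hXM := hX.le.trans inf_le_left
  have hXC := hX.le.trans inf_le_right
  have hk : PiGrp (kappaS M)ᶜ X := fun p hp hd hk => by
    have := Fact.mk hp
    obtain ⟨P, hP⟩ := exists_isEp_one hd
    obtain ⟨K, hK, hPK⟩ := exists_hall_ge (mmax_sol hM) (hP.le.trans hXM)
      (piGrp_of_isPGroup hP.isPGroup hk)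
    have hP1 := hP.ne_bot one_ne_zero
    obtain ⟨⟨U, -, -, pr, -⟩, -, -, -, he, -⟩ := Ptype_structure
      (typeP_of_ne_bot hM hK fun h => hP1 (eq_bot_iff.2 (h ▸ hPK))) hK
    have h2 : H ≤ Ms M ⊓ 𝐂(K) := pr.inf_cent hPK hP1 ▸ le_inf hH.le (le_cent_symm (hP.le.trans hXC))
    obtain ⟨q, hq, hqd⟩ := exists_prime_dvd hH1
    have := Fact.mk hq
    obtain ⟨S, hS⟩ := exists_syl q H
    exact (he q ⟨hq, hqd.trans (card_dvd h2)⟩ S (hS.trans_hall hH (hH.piGrp q hq hqd))).2 (hS.le.trans h2)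
  by_cases hX1 : X = ⊥
  · exact ⟨X, d, by rw [hX1]; infer_instance, by rw [hX1]; exact piGrp_bot _⟩
  obtain ⟨U, K, hU, hXU⟩ := exists_kappaCompl_ge hM hXM fun p hp hd h =>
    h.elim (hX.piGrp p hp hd) (hk p hp hd)
  exact ⟨X, d, (kappa_structure_c hM hU hXU hX1 fun h =>
    hH1 (eq_bot_iff.2 (h ▸ le_inf hH.le (le_cent_symm hXC)))).2⟩

theorem exists_normal_pgroup_nil_quo {M : Subgroup G} (hM : IsCoatom M) :
    ∃ (q : ℕ) (_ : Fact q.Prime) (Q : Subgroup G), Q ⊴ M ∧ IsPGroup q Q ∧ Q ≤ Fcore M ∧ Nil (Ms M ⁒ Q) := by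
  by_cases h : Fcore M = Ms M
  · exact ⟨2, inferInstance, ⊥, NormalIn.bot M, IsPGroup.of_bot, bot_le,
      nil_quo ((Fcore_eq_Msigma hM).1 h) _⟩
  · obtain ⟨K, hK⟩ := exists_hall (kappaS M) (mmax_sol hM)
    obtain ⟨q, hq, D, -, d, -, h1, h2⟩ := exists_FcoreStructure hM hK h
    exact ⟨q, hq, _, Op_normal q M, Op_isPGroup q M, h1, d.quo_left ▸ nil_quo h2.nilD _⟩

/-- conjugacy under `M` of elements of `M_σ` -/
theorem sigma_elt_trans {M : Subgroup G} {x a : G} (hM : IsCoatom M) (hx : x ∈ Ms M)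
    (ha : a * x * a⁻¹ ∈ Ms M) : ∃ m ∈ M, a * x * a⁻¹ = m * x * m⁻¹ := by
  by_cases hx1 : x = 1
  · exact ⟨1, one_mem _, by simp [hx1]⟩
  obtain ⟨c, hc, e⟩ := (FT_signalizer_context (Msigma_ell1 hM hx hx1)).1.1 M ⟨hM, zpowers_le.2 hx⟩
    (a⁻¹ •ᶜ M) ⟨isCoatom_conj hM _, by rw [Ms_conj, zpowers_le, mem_conj, inv_inv]; exact ha⟩
  refine ⟨a * c, (conj_mmax_eq_iff hM).1 (by rw [← conj_conj, ← e, conj_inv_conj]), ?_⟩
  have := mem_cent1_iff_conj.1 hc.2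
  calc a * x * a⁻¹ = a * (c * x * c⁻¹) * a⁻¹ := by rw [this]
    _ = _ := by group

/-- Corollary 15.3(b) -/
theorem sigma_Hall_tame {M H : Subgroup G} {π : Set ℕ} {x a : G} (hM : IsCoatom M) (hH : Hall π H (Ms M))
    (hx : x ∈ H) (ha : a * x * a⁻¹ ∈ H) : ∃ b ∈ M ⊓ 𝐍(H), a * x * a⁻¹ = b * x * b⁻¹ := by
  obtain ⟨m, hm, e⟩ := sigma_elt_trans hM (hH.le hx) (hH.le ha)
  rw [e] at ha ⊢
  obtain ⟨q, _, Q, hQ, hq, hQF, hn⟩ := exists_normal_pgroup_nil_quo hM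
  have hHM := hH.le.trans (Ms_normal M).le
  have hR : (H ⊔ Q) ⊴ M := by
    rw [← quoPre_quo_eq_sup (hHM.trans hQ.norm),
      hall_eq_Opi_of_nil hn (hH.quo ((Ms_normal M).le.trans hQ.norm))]
    exact quoPre_normal hQ (((Ms_normal M).quo Q).Opi π)
  have hQs := hQF.trans (Fcore_sub_Msigma hM)
  by_cases hπ : q ∈ π
  · have h1 : Q ≤ H := hH.le_of_norm hQs (piGrp_of_isPGroup hq hπ) (Or.inl (hHM.trans hQ.norm))
    rw [sup_eq_left.2 h1] at hR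
    exact ⟨m, mem_inf.2 ⟨hm, hR.norm hm⟩, rfl⟩
  · have h1 : H ⊓ Q = ⊥ := hH.piGrp.inf_eq_bot (piGrp_of_isPGroup hq hπ)
    obtain ⟨r, hr, n, hn, rfl⟩ := ((hH.mono le_sup_left (sup_le hH.le hQs)).frattini
      (sol_of_le (mmax_sol hM) hR.le) hR).mem_iff.1 hm
    obtain ⟨u, hu, h, hh, rfl⟩ := (mem_sup_norm_left (hHM.trans hQ.norm)).1 (sup_comm H Q ▸ hr)
    have hb : h * n ∈ M ⊓ 𝐍(H) := mul_mem (mem_inf.2 ⟨hHM hh, le_norm_self H hh⟩) hn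
    refine ⟨h * n, hb, ?_⟩
    have hz := conj_mem_of_norm hb.2 hx
    set z := h * n * x * (h * n)⁻¹ with hzd
    have e1 : u * h * n * x * (u * h * n)⁻¹ = u * z * u⁻¹ := by rw [hzd]; group
    rw [e1] at ha ⊢
    have h2 : u * z * u⁻¹ * z⁻¹ ∈ H ⊓ Q := mem_inf.2 ⟨H.mul_mem ha (H.inv_mem hz), by
      have := Q.mul_mem hu (hQ.conj_mem (hHM hz) (Q.inv_mem hu))
      simpa [mul_assoc] using this⟩
    rw [h1, mem_bot] at h2
    exact mul_inv_eq_one.1 h2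

/-- Corollary 15.4 -/
theorem nilpotent_Hall_sigma {H : Subgroup G} (hn : Nil H) (hH : IsHallIn H ⊤) (hH1 : H ≠ ⊥) :
    ∃ M, IsCoatom M ∧ H ≤ Ms M := by
  obtain ⟨p, hp, hd⟩ := exists_prime_dvd hH1
  have := Fact.mk hp
  have hS := syl_Op_of_nil p hn
  have hS1 := hS.ne_bot hd
  obtain ⟨M, hM, hN⟩ := mmax_exists (mFT_norm_proper hS1 (mFT_pgroup_proper hS.isPGroup))
  have hHM : H ≤ M := (Op_normal p H).norm.trans hN
  have sylM : ∀ (r : ℕ) [Fact r.Prime], r ∣ ♯H → Syl r (Op r H) M := fun r _ hr =>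
    ((syl_Op_of_nil r hn).trans_hall hH.hall ⟨Fact.out, hr⟩).mono ((Op_le r H).trans hHM) le_top
  have hs : p ∈ sigmaS M := ⟨hp, _, sylM p hd, hN⟩
  have hSs : Op p H ≤ Ms M := (le_Ms_iff hM (sylM p hd).le).2 (piGrp_of_isPGroup hS.isPGroup hs)
  obtain ⟨X, d, hc, ht⟩ := cent_Hall_sigma_sdprod hM ((sylM p hd).mono hSs (Ms_normal M).le).hall hS1
  refine ⟨M, hM, (le_Ms_iff hM hHM).2 fun r hr hrd => ?_⟩
  have := Fact.mk hr
  by_contra hrs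
  have hrp : r ≠ p := by rintro rfl; exact hrs hs
  have hX := d.hall_right (π := (sigmaS M)ᶜ) ((Ms_piGrp M).compl_compl.of_dvd (card_dvd inf_le_left))
    (ht.mono (tau2_subset_compl_sigma M))
  obtain ⟨g, -, hg⟩ := hX.exists_conj_le (sol_of_le (mmax_sol hM) inf_le_left)
    (le_inf (sylM r hrd).le (Op_le_cent_Op hrp H)) (piGrp_of_isPGroup (Op_isPGroup r H) hrs)
  have h1 := rp_le_one_of_isCyclic (p := r) (isCyclic_conj.1 (isCyclic_of_le' hc hg))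
  have h2 : r ∈ tau2S M := ht r hr (((sylM r hrd).dvd_card_iff.2 (hrd.trans (card_dvd hHM))).trans
    (card_conj g _ ▸ card_dvd hg))
  rw [rp_syl (sylM r hrd), h2.2.2] at h1
  omega

theorem der_kappa_hall {M K : Subgroup G} (hM : TypePMax M) (hK : Hall (kappaS M) K M) :
    IsSdprod (der M) K M ∧ Hall (kappaS M)ᶜ (der M) M := by
  obtain ⟨L, hL⟩ := Ptype_embedding hM hK
  exact ⟨hL.defM, hL.defM.hall_left_iff.2 hK.compl_compl⟩

/-- Corollary 15.5 -/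
theorem Fitting_structure {M : Subgroup G} (hM : IsCoatom M) :
    (IsCyclic (Opi (sigmaS M)ᶜ (Fit M)) ∧ PiGrp (tau2S M) (Opi (sigmaS M)ᶜ (Fit M))) ∧
    (der2 M ≤ Fit M ∧ Fcore M ⊔ (M ⊓ 𝐂(Fcore M)) = Fit M ∧
      IsDprod (Fit (Ms M)) (Opi (sigmaS M)ᶜ (Fit M)) (Fit M)) ∧
    (Fcore M ≤ der M ∧ Nil (der M ⁒ Fcore M)) ∧ (TypePMax M → Fit M ≤ der M) := by
  have dF := dprod_Fit_Ms M
  have hFd := (Fcore_sub_Msigma hM).trans (Msigma_der1 hM)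
  obtain ⟨K, hK⟩ := exists_hall (kappaS M) (mmax_sol hM)
  by_cases h : Fcore M = Ms M
  · have hn := (Fcore_eq_Msigma hM).1 h
    obtain ⟨X, d, hc, ht⟩ := cent_Hall_sigma_sdprod hM (hall_self (Ms_piGrp M)) (Msigma_neq1 hM)
    have hX := d.hall_right (π := (sigmaS M)ᶜ) ((Ms_piGrp M).compl_compl.of_dvd (card_dvd inf_le_left))
      (ht.mono (tau2_subset_compl_sigma M))
    rw [Fit_eq_self hn] at dF
    have hY := (Fit_normal M).Opi (sigmaS M)ᶜ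
    have hYX : Opi (sigmaS M)ᶜ (Fit M) ≤ X :=
      hX.le_of_normal (hY.mono (le_inf hY.le dF.le_cent) inf_le_left) (Opi_piGrp _ _)
    refine ⟨⟨isCyclic_of_le' hc hYX, ht.of_le hYX⟩, ⟨(der2_le_Ms hM).trans dF.left_le,
      le_antisymm (sup_le (Fcore_le_Fit M) ?_) (Fit_le_Fcore_sup_cent M), dprod_Fit_Ms M⟩,
      ⟨hFd, nil_of_ab (ab_quo_of_der_le (h ▸ der2_le_Ms hM))⟩, fun hP => ?_⟩
    · rw [h]
      exact le_Fit (Ms_normal M).cent ((d.toDprod (d.right_le.trans (inf_le_right.trans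
        (cent_anti inf_le_left)))).nil (nil_of_le hn inf_le_left) (nil_of_ab (ab_of_isCyclic hc)))
    · rw [← dF.sup_eq]
      exact sup_le (Msigma_der1 hM) ((der_kappa_hall hP hK).2.le_of_normal hY
        ((ht.of_le hYX).mono (tau2_subset_compl_kappa M)))
  · obtain ⟨q, hq, D, -, d, -, h1, h2⟩ := exists_FcoreStructure hM hK h
    have hY : Opi (sigmaS M)ᶜ (Fit M) = ⊥ := Opi_eq_bot ((Ms_piGrp M).of_le h2.fit_lt.le).compl_compl
    refine ⟨by rw [hY]; exact ⟨inferInstance, piGrp_bot _⟩, ⟨h2.der2_le,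
      le_antisymm (sup_le (Fcore_le_Fit M) ?_) (Fit_le_Fcore_sup_cent M), dF⟩, ⟨hFd, ?_⟩,
      fun _ => h2.defMs ▸ h2.fit_lt.le⟩
    · rw [← h2.defF1]; exact (inf_le_inf_left _ (cent_anti h1)).trans le_sup_right
    · rw [← h2.defMs, ← d.sup_eq, sup_comm, quo_sup_of_le (d.right_le.trans
        ((Ms_normal M).le.trans (Fcore_normal M).norm)) h1]
      exact nil_quo h2.nilD _

/-- Corollary 15.6 -/
theorem Ptype_cyclics {M K : Subgroup G} (hM : TypePMax M) (hK : Hall (kappaS M) K M) :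
    Ms M ⊓ 𝐂(K) ≠ ⊥ ∧ IsCyclic ↥(Ms M ⊓ 𝐂(K)) ∧ Ms M ⊓ 𝐂(K) ≤ der2 M ∧ Ms M ⊓ 𝐂(K) ≤ Fcore M ∧
    ¬ IsCyclic (Fcore M) := by
  obtain ⟨L, hL⟩ := Ptype_embedding hM hK
  have h1 := (Ptype_structure hM hK).2.2.1.1
  have h2 : Ms M ⊓ 𝐂(K) ≤ der2 M := (inf_le_inf_right _ (Msigma_der1 hM.1)).trans
    (coprime_der1_sdprod hL.defM (hL.defM.coprime_of_right hK.isHallIn)
      (sol_of_le (mmax_sol hM.1) (der_le M)) le_rfl).2
  refine ⟨h1, isCyclic_of_le' hL.cycZ le_sup_right, h2, ?_⟩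
  by_cases h : Fcore M = Ms M
  · refine ⟨h ▸ inf_le_left, fun hc => h1 (eq_bot_iff.2 (h2.trans ?_))⟩
    obtain ⟨⟨hY, -⟩, ⟨-, h3, d⟩, -⟩ := Fitting_structure hM.1
    have h4 : der M ≤ Fit M :=
      (le_inf (der_le M) (der_le_cent_of_isCyclic hc (Fcore_normal M).norm)).trans (le_sup_right.trans h3.le)
    exact (der_mono h4).trans (ab_iff_der.1 (d.ab (ab_of_isCyclic (isCyclic_of_le' hc
      (h ▸ Fit_le _))) (ab_of_isCyclic hY))).le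
  · obtain ⟨q, hq, D, -, d, h3, h4, h5⟩ := exists_FcoreStructure hM.1 hK h
    refine ⟨h3.trans h4, fun hc => ?_⟩
    have h6 := (beta_sub_alpha M h5.q_beta).2
    have := rp_le_one_of_isCyclic (p := q) (isCyclic_of_le' hc h4)
    rw [rp_syl h5.sylQ] at this
    omega

end Cfsg.Agent.OO
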