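import Cfsg.Agent.Lib.OO.Pf.BG15_C
import Cfsg.Agent.Lib.OO.BG2
import Cfsg.Agent.Lib.OO.BG9
import Cfsg.Agent.Lib.PGrp.Extraspecial

/-! # B&G section 15: Theorem 15.7 -/

set_option autoImplicit false
set_option linter.unusedSectionVars false

namespace Cfsg.Agent.OO

open Subgroup Cfsg.Agent.Coprime
open scoped Pointwise commutatorElement

universe u

variable {G : Type u} [Group G] [Finite G]

theorem ab_of_nil_of_Op {N : Subgroup G} (hn : Nil N) (h : ∀ (s : ℕ) (_ : Fact s.Prime), Ab (Op s N)) :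
    Ab N :=
  ab_iff_le_cent.2 (le_of_forall_isPGroup fun q _ Q hQ hq => (le_Op_of_nil hn hQ hq).trans (by
    have d := dprod_Op_of_nil q hn
    rw [d.toCprod.cent_eq]
    exact le_inf (h q ‹_›).le_cent (le_cent_symm d.le_cent)))

theorem not_mem_tau3_of_tau2 {M : Subgroup G} {p : ℕ} (hp : p ∈ tau2S M) : p ∉ tau3S M :=
  fun h => not_mem_tau13_of_tau2 hp (Or.inr h)

variable [MinOdd G]

theorem norm_eq_of_le_Fit_sigma' {M X : Subgroup G} (hM : IsCoatom M) (hX : X ≤ Fit M) (h1 : X ≠ ⊥)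
    (hs : PiGrp (sigmaS M)ᶜ X) : 𝐍(X) = M :=
  mmax_normal hM ⟨hX.trans (Fit_le M), ((Fit_normal M).Opi _).norm.trans (norm_le_norm_of_isCyclic
    (Fitting_structure hM).1.1 (le_Opi_of_nil (Fit_nil M) hX hs))⟩ h1

theorem syl_Op_of_nil_Ms {M : Subgroup G} {q : ℕ} [Fact q.Prime] (hM : IsCoatom M) (hn : Nil (Ms M))
    (hq : q ∈ sigmaS M) : Syl q (Op q M) M := by
  have := (syl_Op_of_nil q hn).trans_hall (Msigma_Hall hM) hq
  rwa [Ms, Op_Opi hq] at this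

theorem not_uniq_of_le_cent {M X B : Subgroup G} (hM : IsCoatom M) (hX1 : X ≠ ⊥) (hC : ¬ 𝐂(X) ≤ M)
    (hB : B ≤ M) (hBX : B ≤ 𝐂(X)) : ¬ Uniq B :=
  fun h => hC ((h.uniqMax hM hB).le_of_ne_top hBX (mFT_cent_proper hX1))

/-- the structure of `M_σ` when a subgroup of order `p` of `F(M)` has centralizer not in `M` -/
theorem nonTI_sigma_nil {M X : Subgroup G} {p : ℕ} [Fact p.Prime] (hM : IsCoatom M) (hX : IsEp p 1 X (Fit M))
    (hb : p ∉ betaS M) (hC : ¬ 𝐂(X) ≤ M) : Nil (Ms M) ∧ betaS M = ∅ := by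
  have key : ∀ (q : ℕ) [Fact q.Prime], q ∈ betaS M → ¬ Syl q (Op q M) M := fun q _ hq hS => by
    have hpq : q ≠ p := by rintro rfl; exact hb hq
    refine not_uniq_of_le_cent hM (hX.ne_bot one_ne_zero) hC hS.le
      ((Op_le_cent_Op hpq M).trans (cent_anti (le_Op_of_le_Fit hX.isPGroup hX.le)))
      (rank3_Uniqueness (mFT_pgroup_proper hS.isPGroup) ?_)
    rw [rank_syl hS]; exact (beta_sub_alpha M hq).2
  have hn : Nil (Ms M) := by
    by_contra h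
    obtain ⟨K, hK⟩ := exists_hall (kappaS M) (mmax_sol hM)
    obtain ⟨q, _, D, -, -, -, -, h2⟩ := exists_FcoreStructure hM hK fun h' => h ((Fcore_eq_Msigma hM).1 h')
    exact key q h2.q_beta h2.sylQ
  refine ⟨hn, Set.eq_empty_of_forall_notMem fun q hq => ?_⟩
  have := Fact.mk hq.1
  exact key q hq (syl_Op_of_nil_Ms hM hn (beta_sub_sigma hM hq))

theorem nonTI_nonabelian {M H X : Subgroup G} {p : ℕ} [Fact p.Prime] (hM : IsCoatom M) (hH : H ≤ M)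
    (hn : Nil H) (hab : ¬ Ab H) (hX : IsEp p 1 X H) (hC : ¬ 𝐂(X) ≤ M) :
    ¬ Ab (Op p H) ∧ IsCyclic (Op' p H) := by
  have hX1 := hX.ne_bot one_ne_zero
  have d := dprod_Op_of_nil p hn
  have h1 : Op' p H ≤ 𝐂(X) := d.le_cent.trans (cent_anti (le_Op_of_nil hn hX.le hX.isPGroup))
  have hle := d.right_le.trans hH
  have h2 : Ab (Op' p H) := ab_of_nil_of_Op (nil_of_le hn d.right_le) fun s _ => by
    by_contra h
    exact not_uniq_of_le_cent hM hX1 hC ((Op_le _ _).trans hle) ((Op_le _ _).trans h1)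
      (nonabelian_Uniqueness (Op_isPGroup s _) h)
  have h3 : ¬ Ab (Op p H) := fun h => hab (d.ab h h2)
  refine ⟨h3, (isCyclic_iff_rank_of_ab h2).2 (not_lt.1 fun h => ?_)⟩
  exact not_uniq_of_le_cent hM hX1 hC hle h1
    (cent_uniq_Uniqueness (nonabelian_Uniqueness (Op_isPGroup p H) h3) d.le_cent h)

theorem nonTI_card {M P X X1 : Subgroup G} {p : ℕ} [Fact p.Prime] (hM : IsCoatom M) (hP : IsPGroup p P)
    (hPM : P ≤ M) (hab : ¬ Ab P) (hXP : X ≤ P) (hc : IsCyclic X) (hX : IsEp p 1 X1 X) (hC : ¬ 𝐂(X1) ≤ M) :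
    ♯X = p ∧ ♯(Ohm p (Zc P)) = p := by
  have hX1 := hX.ne_bot one_ne_zero
  have hXZ : ¬ X1 ≤ Zc P := fun h => not_uniq_of_le_cent hM hX1 hC hPM
    (le_cent_symm (h.trans inf_le_right)) (nonabelian_Uniqueness hP hab)
  obtain ⟨Z1, hZ1⟩ := exists_isEp_one_of_isPGroup (hP.to_le (Zc_le P))
    (Zc_ne_bot (nil_of_isPGroup hP) fun h => hab (h ▸ ab_bot))
  have hZX : Z1 ≤ 𝐂(X) := hZ1.le.trans (inf_le_right.trans (cent_anti hXP))
  have hB := (hX.mono hXP).sup_two (hZ1.mono (Zc_le P)) (hZX.trans (cent_anti hX.le))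
    (by rintro rfl; exact hXZ hZ1.le)
  have hBm : IsMaxEp p (X1 ⊔ Z1) ⊤ := by
    by_contra h
    exact not_uniq_of_le_cent hM hX1 hC (hB.le.trans hPM) (sup_le hX.le_cent (hZX.trans (cent_anti hX.le)))
      (nonmaxElem2_Uniqueness hB.top h)
  obtain ⟨h0, ⟨Z, -, -, hZ⟩, -⟩ := basic_p2maxElem_structure hB.top hBm hP hB.le hab
  have d := hZ X1 (hX.of_le le_sup_left) fun h => hXZ (h ▸ Ohm_le p _)
  refine ⟨?_, h0.card_one⟩
  have h1 : X ≤ P ⊓ 𝐂(X1 ⊔ Z1) :=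
    le_inf hXP (le_cent_sup ((ab_of_isCyclic hc).le_cent.trans (cent_anti hX.le)) (le_cent_symm hZX))
  have h2 : Z ⊓ X = ⊥ := by
    by_contra h
    obtain ⟨W, hW⟩ := exists_isEp_one_of_isPGroup (hP.to_le (inf_le_right.trans hXP)) h
    rw [eq_of_isCyclic_of_card_eq hc (hW.le.trans inf_le_right) hX.le
      (hW.card_one.trans hX.card_one.symm)] at hW
    exact hX1 (eq_bot_iff.2 (d.inf_eq ▸ le_inf le_rfl (hW.le.trans inf_le_left)))
  have h3 := (d.inf_of_left_le hX.le).sup_eq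
  rw [h2, sup_bot_eq, inf_eq_right.2 h1] at h3
  rw [← h3, hX.card_one]

theorem nonTI_P1 {M K : Subgroup G} {p : ℕ} [Fact p.Prime] (hM : TypeP1Max M) (hK : Hall (kappaS M) K M)
    (hn : Nil (Ms M)) (hs : p ∈ sigmaS M) (hb : p ∉ betaS M) (hab : ¬ Ab (Op p (Ms M)))
    (hc : IsCyclic (Op' p (Ms M))) (hZ : ♯(Ohm p (Zc (Op p (Ms M)))) = p) :
    Ms M ⊓ 𝐂(K) ≤ Op p (Ms M) ∧ (♯K ∣ p - 1 ∨ (♯(Op p (Ms M)) = p ^ 3 ∧ ♯K ∣ p + 1)) := by
  have hp : p.Prime := Fact.out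
  obtain ⟨hU, dM, hE, defMs⟩ := P1type_defM hM hK
  have prK := (kappa_compl_context hM.1.1 hU).2.2.1
  have co := coprime_sigma_compl hE
  have hKs := P1type_prime_Ks hM hK
  have d := dprod_Op_of_nil p hn
  have sylP := (syl_Op_of_nil p hn).trans_hall (Msigma_Hall hM.1.1) hs
  have hP := Op_isPGroup p (Ms M)
  have hPM := (Ms_normal M).Op p
  set P := Op p (Ms M) with hPd
  have h1 : Ms M ⊓ 𝐂(K) ≤ P := by
    refine (Ptype_cyclics hM.1 hK).2.2.1.trans ?_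
    change der (der M) ≤ _
    rw [← defMs, d.toCprod.der_eq, ab_iff_der.1 (ab_of_isCyclic hc), sup_bot_eq]
    exact der_le P
  refine ⟨h1, ?_⟩
  have hKP : K ≤ 𝐍(P) := hK.le.trans hPM.norm
  have coP : (♯P).Coprime ♯K := coprime_card_mono co d.left_le le_rfl
  have hZP : Ohm p (Zc P) ≤ P := (Ohm_le _ _).trans (Zc_le P)
  have hcK := kappa_hall_cyclic hM.1.1 hK
  by_cases h2 : Ohm p (Zc P) ≤ Ms M ⊓ 𝐂(K)
  swap
  · left
    have := regular_norm_dvd_pred (le_norm_Ohm p (le_norm_Zc hKP))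
      ((prK.mono (hZP.trans d.left_le) le_rfl).semiregular (eq_bot_iff.2
        (inf_eq_bot_of_prime (by rw [hZ]; exact hp) h2 ▸
          le_inf inf_le_left (inf_le_inf_right _ (hZP.trans d.left_le)))))
    rwa [hZ] at this
  have h3 : Ohm p (Zc P) = Ms M ⊓ 𝐂(K) :=
    (eq_bot_or_eq_of_prime hKs h2).resolve_left (ne_bot_of_prime_dvd hp hZ.symm.dvd)
  by_cases hr : 2 < rp p P
  · left
    have hnar : Narrow p P := by
      by_contra h
      exact hb ⟨hp, P, sylP, h⟩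
    rw [← expo_eq_card_of_isCyclic hcK, expo_dvd_iff]
    intro x hx
    by_contra hx1
    have h4 := (Aut_narrow hP (mFT_odd P) hnar hKP (sol_of_le (mmax_sol hM.1.1) hK.le) (mFT_odd K)).2 hr x hx
      ((coP.symm.coprime_dvd_left (orderOf_dvd_card hx)).coprime_dvd_right
        (dvd_card_of_isPGroup hP fun h => hab (h ▸ ab_bot)))
    have h5 : P ≤ Ms M ⊓ 𝐂(K) := prK _ (K.pow_mem hx _) hx1 ▸ le_inf d.left_le (le_cent1_iff.2 h4)
    exact hab (ab_of_le (ab_of_isCyclic (isCyclic_of_prime hKs)) h5)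
  obtain ⟨S, C, hS, hS3, -, hCc, dP, hO⟩ := mFT_rank2_Sylow_cprod (sigma_Sylow_G hs sylP)
    (by rw [rank_eq_rp hP]; omega) hab
  have h4 : Zc P ≤ Ohm p (Zc P) := h3 ▸ le_inf ((Zc_le P).trans d.left_le) (le_cent_symm
    (coprime_odd_faithful_Ohm1 (hP.to_le (Zc_le P)) (le_norm_Zc hKP)
      (coprime_card_mono coP (Zc_le P) le_rfl) (mFT_odd _) (le_cent_symm (h2.trans inf_le_right))))
  have h5 : C ≤ Zc P := by rw [dP.Zc_eq, Zc_eq_self (ab_of_isCyclic hCc)]; exact le_sup_right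
  have h6 : C ≤ S := (le_Ohm le_rfl (abelem_of_le (Ohm_abelem p (Zc_ab P)) (h5.trans h4))).trans
    (hO.le.trans (Zc_le S))
  have h7 : S = P := by rw [← dP.sup_eq, sup_eq_left.2 h6]
  subst h7
  have h8 := (repr_extraspecial_prime_sdprod_cycle.{u, 0, 0} (n := 1)
    (PGrp.isExtraspecial_of_card_eq_cube hS3 hab) (IsSdprod.of_coprime hKP coP) hcK hS3
    (coP.symm.coprime_dvd_right (hS3 ▸ dvd_pow_self p (by norm_num))) fun x hx hx1 => le_antisymm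
      ((inf_le_inf_right _ d.left_le).trans ((prK x hx hx1).le.trans (h3.ge.trans (Ohm_le _ _))))
      (le_inf (Zc_le _) (h4.trans (h2.trans (inf_le_right.trans (cent_le_cent1 hx)))))).1
  rw [pow_one] at h8
  exact h8.symm.imp_right fun h => ⟨hS3, h⟩

/-- Theorem 15.7 -/
theorem nonTI_Fitting_structure {M : Subgroup G} {g : G} (hM : IsCoatom M) (hg : g ∉ M)
    (hX : Fit M ⊓ g •ᶜ Fit M ≠ ⊥) :
    ((TypeFMax M ∨ TypeP1Max M) ∧ Fcore M = Ms M) ∧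
    (Fit M ⊓ g •ᶜ Fit M ≤ Fcore M ∧ IsCyclic ↥(Fit M ⊓ g •ᶜ Fit M)) ∧
    (der M ≤ Fit M ∧ IsDprod (Ms M) (Opi (sigmaS M)ᶜ (Fit M)) (Fit M)) ∧
    ((∀ E E1 E2 E3, SigmaCompl M E E1 E2 E3 → E3 = ⊥ ∧ E2 ⊴ E ∧ IsSdprod E2 E1 E) ∧
      ∀ E1, Hall (tau1S M) E1 M → IsCyclic E1) ∧
    ((TypeFMax M ∧ Ab (Fcore M) ∧ rank (Fcore M) = 2) ∨
      ∃ p : ℕ, p = ♯(Fit M ⊓ g •ᶜ Fit M) ∧ p.Prime ∧ p ∈ sigmaS M ∧ p ∉ betaS M ∧
        ¬ Ab (Op p (Fcore M)) ∧ IsCyclic (Op' p (Fcore M)) ∧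
        ((∀ q ∈ piOf (Fcore M), expo (M ⁒ Fcore M) ∣ q - 1) ∨
          (♯(Op p (Fcore M)) = p ^ 3 ∧ TypeP1Max M ∧ (Fcore M).relIndex M ∣ p + 1))) := by
  set X := Fit M ⊓ g •ᶜ Fit M with hXd
  have hXM : X ≤ M := inf_le_left.trans (Fit_le M)
  have hXg : X ≤ g •ᶜ M := inf_le_right.trans (conj_mono g (Fit_le M))
  have hs : PiGrp (sigmaS M) X := fun p hp hd => by
    by_contra h
    have := Fact.mk hp
    obtain ⟨Y, hY⟩ := exists_isEp_one hd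
    have h1 := norm_eq_of_le_Fit_sigma' hM (hY.le.trans inf_le_left) (hY.ne_bot one_ne_zero)
      (piGrp_of_isPGroup hY.isPGroup h)
    have h2 := norm_eq_of_le_Fit_sigma' (isCoatom_conj hM g) (Fit_conj g M ▸ hY.le.trans inf_le_right)
      (hY.ne_bot one_ne_zero) (sigmaS_conj M g ▸ piGrp_of_isPGroup hY.isPGroup h)
    exact hg ((conj_mmax_eq_iff hM).1 (h2.symm.trans h1))
  have hXs : X ≤ Ms M := (le_Ms_iff hM hXM).2 hs
  obtain ⟨E, hE⟩ := exists_hall (sigmaS M)ᶜ (mmax_sol hM)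
  obtain ⟨h1, h2, -⟩ := (sigma_compl_embedding hM hE).2.2 g hg
  have hc : IsCyclic X := isCyclic_of_le' h1 (le_inf hXs hXg)
  have hb : PiGrp (betaS M)ᶜ X := h2.of_le (le_inf hXs hXg)
  have hC : ∀ (r : ℕ) [Fact r.Prime] (Y : Subgroup G), IsEp r 1 Y X → ¬ 𝐂(Y) ≤ M := fun r _ Y hY h =>
    hg (inv_mem_iff.1 (sigma_cent_trans hM (hs r Fact.out (hY.dvd_card one_ne_zero)) hY.isPGroup
      (hY.le.trans hXM) h (le_conj_iff_inv_conj_le.1 (hY.le.trans hXg))))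
  obtain ⟨p, hp, hd⟩ := exists_prime_dvd hX
  have := Fact.mk hp
  obtain ⟨X1, hX1⟩ := exists_isEp_one hd
  obtain ⟨hn, hβ⟩ := nonTI_sigma_nil hM (hX1.mono inf_le_left) (hb p hp hd) (hC p X1 hX1)
  have hF := (Fcore_eq_Msigma hM).2 hn
  obtain ⟨K, hK⟩ := exists_hall (kappaS M) (mmax_sol hM)
  have hT : TypeFMax M ∨ TypeP1Max M := (typeF_or_P hM).imp_right fun h => h.P1_or_P2.resolve_right fun h2 =>
    hb p hp hd (((Ptype_structure h hK).2.2.2.2.2.2 h2).1 ▸ hs p hp hd)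
  have hdF : der M ≤ Fit M := le_Fit (der_normal M)
    (beta'_der1_nil hM (by rw [hβ, Set.compl_empty]; exact isPiNum_univ _) le_rfl)
  have dF := dprod_Fit_Ms M
  rw [Fit_eq_self hn] at dF
  rw [hF]
  refine ⟨⟨hT, rfl⟩, ⟨hXs, hc⟩, ⟨hdF, dF⟩, ⟨fun E E1 E2 E3 h => ?_, fun E1 h1 => ?_⟩, ?_⟩
  · obtain ⟨⟨h3, -⟩, -, -, ⟨-, -, -, d⟩, -⟩ := sigma_compl_context hM h
    obtain rfl : E3 = ⊥ := ((Fitting_structure hM).1.2.of_le (le_Opi_of_nil (Fit_nil M)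
      (h3.trans ((der_mono h.hallE.le).trans hdF)) (h.hallE.piGrp.of_le h.hall3.le))).eq_bot
      (h.hall3.piGrp.mono fun _ h h' => not_mem_tau3_of_tau2 h' h)
    rw [bot_sup_eq] at d
    exact ⟨rfl, d.normal, d⟩
  · obtain ⟨E, hE, hle⟩ := ex_sigma_compl hM h1.le (h1.piGrp.mono fun _ h => h.2.1)
    exact tau1_cyclic hM hE (h1.mono hle hE.le)
  have hX11 := hX1.ne_bot one_ne_zero
  by_cases hab : Ab (Ms M)
  · refine Or.inl ⟨hT.resolve_right fun h => ?_, hab, le_antisymm (not_lt.1 fun h => ?_) (not_lt.1 fun h => ?_)⟩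
    · obtain ⟨h1, -, h2, -⟩ := Ptype_cyclics h.1 hK
      change _ ≤ der (der M) at h2
      rw [← P1type_Ms_eq h, ab_iff_der.1 hab] at h2
      exact h1 (eq_bot_iff.2 h2)
    · exact not_uniq_of_le_cent hM hX11 (hC p X1 hX1) (Ms_normal M).le
        (hab.le_cent.trans (cent_anti (hX1.le.trans hXs)))
        (rank3_Uniqueness (ne_top_of_le_mmax hM (Ms_normal M).le) h)
    · refine hC p X1 hX1 ((cent_le_norm X1).trans (mmax_normal hM ⟨hX1.le.trans hXM, ?_⟩ hX11).le)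
      exact (Ms_normal M).norm.trans (norm_le_norm_of_isCyclic
        ((isCyclic_iff_rank_of_ab hab).2 (by omega)) (hX1.le.trans hXs))
  obtain ⟨hP, hP'⟩ := nonTI_nonabelian hM (Ms_normal M).le hn hab (hX1.mono hXs) (hC p X1 hX1)
  have hXp : IsPGroup p X := PiGrp.isPGroup fun r hr hrd => by
    by_contra h
    have := Fact.mk hr
    obtain ⟨Y, hY⟩ := exists_isEp_one hrd
    exact (nonTI_nonabelian hM (Ms_normal M).le hn hab (hY.mono hXs) (hC r Y hY)).1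
      (ab_of_le (ab_of_isCyclic hP') (Op_le_Op' h _))
  obtain ⟨hXc, hZ⟩ := nonTI_card hM (Op_isPGroup p _) ((Op_le p _).trans (Ms_normal M).le) hP
    (le_Op_of_nil hn hXs hXp) hc hX1 (hC p X1 hX1)
  refine Or.inr ⟨p, hXc.symm, hp, hs p hp hd, hb p hp hd, hP, hP', ?_⟩
  have hW : ∀ q ∈ piOf (Ms M), ∃ W, W ⊴ M ∧ W ≤ Ms M ∧ ♯W = q := fun q hq => by
    have := Fact.mk hq.1
    refine ⟨Ohm q (Zc (Op q (Ms M))), ((Ms_normal M).Op q).Zc.Ohm q,
      (Ohm_le _ _).trans ((Zc_le _).trans (Op_le _ _)), ?_⟩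
    by_cases h : q = p
    · subst h; exact hZ
    · exact (isEp_Ohm_of_isCyclic (isCyclic_of_le' hP' ((Zc_le _).trans (Op_le_Op' h _)))
        (dvd_card_of_isPGroup ((Op_isPGroup q _).to_le (Zc_le _))
          (Zc_ne_bot (Op_nil q _) ((syl_Op_of_nil q hn).ne_bot hq.2)))).card_one
  rcases hT with hT | hT
  · obtain ⟨U, hU⟩ := ex_kappa_compl hM hK
    obtain rfl := (trivg_kappa hM hK).2 hT
    have d := (kappa_compl_context hM hU).2.1.2
    rw [sup_bot_eq] at d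
    obtain ⟨U0, h1, h2, h3⟩ := (kappa_structure hM hU).2.2.2.2 fun h => (Ms_lt hM).ne (d.left_eq_iff.2 h)
    refine Or.inl fun q hq => ?_
    obtain ⟨W, hW, hWs, rfl⟩ := hW q hq
    rw [d.expo_quo, ← h2]
    exact (expo_dvd_card U0).trans (regular_norm_dvd_pred (h1.trans (d.right_le.trans hW.norm))
      (h3.semiregular.mono hWs le_rfl))
  · obtain ⟨hU, d, -⟩ := P1type_defM hT hK
    obtain ⟨h1, h2⟩ := nonTI_P1 hT hK hn (hs p hp hd) (hb p hp hd) hP hP' hZ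
    refine h2.imp (fun h q hq => ?_) fun h => ⟨h.1, hT, d.relIndex_left ▸ h.2⟩
    rw [d.expo_quo]
    refine (expo_dvd_card K).trans ?_
    by_cases e : q = p
    · exact e ▸ h
    obtain ⟨W, hW, hWs, hq'⟩ := hW q hq
    have := Fact.mk hq.1
    rw [← hq']
    refine regular_norm_dvd_pred (hK.le.trans hW.norm)
      (((kappa_compl_context hM hU).2.2.1.mono hWs le_rfl).semiregular (eq_bot_iff.2 ?_))
    rw [← inf_eq_bot_of_coprime_card (coprime_of_isPGroup_ne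
      (isPGroup_of_card_prime_pow (n := 1) (hq'.trans (pow_one q).symm)) (Op_isPGroup p (Ms M)) e)]
    exact le_inf inf_le_left ((inf_le_inf_right _ hWs).trans h1)

theorem exists_of_not_normedTI {M H : Subgroup G} (hH : H ⊴ M) (h1 : H ≠ ⊥)
    (h : ¬ NormedTI (sharp H) ⊤ M) : ∃ g, g ∉ M ∧ H ⊓ g •ᶜ H ≠ ⊥ := by
  by_contra h2
  push Not at h2
  exact h (normedTI_sharp_iff.2 ⟨h1, le_top, hH.norm, fun g _ hg => by_contra fun h3 => hg (h2 g h3)⟩)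

theorem nonTI_Fitting_facts {M : Subgroup G} (hM : IsCoatom M) (h : ¬ NormedTI (sharp (Fit M)) ⊤ M) :
    (TypeFMax M ∨ TypeP1Max M) ∧ Fcore M = Ms M ∧ der M ≤ Fit M := by
  obtain ⟨g, hg, h1⟩ := exists_of_not_normedTI (Fit_normal M) (mmax_Fitting_neq1 hM) h
  obtain ⟨⟨h2, h3⟩, -, ⟨h4, -⟩, -⟩ := nonTI_Fitting_structure hM hg h1
  exact ⟨h2, h3, h4⟩

end Cfsg.Agent.OO
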