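import Cfsg.Agent.Lib.OO.BG13
import Cfsg.Agent.Lib.OO.BG15

/-! # B&G section 16, first part: `FTtype`, `M_s`, `A₁(M) ⊆ A(M) ⊆ A₀(M)`, Theorems A and B -/

set_option autoImplicit false
set_option linter.unusedSectionVars false

namespace Cfsg.Agent.OO

open Subgroup Cfsg.Agent.Coprime
open scoped Pointwise commutatorElement

universe u

variable {G : Type u} [Group G] [Finite G]

/-! ### Elementary facts (no minimality needed) -/

theorem FTtype_range (M : Subgroup G) : 0 < FTtype M ∧ FTtype M ≤ 5 := by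
  unfold FTtype; split_ifs <;> omega
theorem FTder_type1 {M : Subgroup G} (h : FTtype M = 1) : FTder M = M := if_pos h
theorem FTder_typeP {M : Subgroup G} (h : FTtype M ≠ 1) : FTder M = der M := if_neg h
theorem FTder_normal (M : Subgroup G) : FTder M ⊴ M := by
  unfold FTder; split_ifs; exacts [.refl _, der_normal _]
theorem FTcore_normal (M : Subgroup G) : FTcore M ⊴ M := by
  unfold FTcore; split_ifs; exacts [Fcore_normal _, der_normal _]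
theorem FTcore_le (M : Subgroup G) : FTcore M ≤ M := (FTcore_normal M).le
theorem FTcore_type1 {M : Subgroup G} (h : FTtype M = 1) : FTcore M = Fcore M := if_pos (by omega)
theorem FTcore_type2 {M : Subgroup G} (h : FTtype M = 2) : FTcore M = Fcore M := if_pos (by omega)
theorem FTcore_type_gt2 {M : Subgroup G} (h : 2 < FTtype M) : FTcore M = der M := if_neg (by omega)
theorem FTsupp1_type1 {M : Subgroup G} (h : FTtype M = 1) : FTsupp1 M = sharp (Fcore M) :=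
  congrArg sharp (FTcore_type1 h)
theorem FTsupp1_type2 {M : Subgroup G} (h : FTtype M = 2) : FTsupp1 M = sharp (Fcore M) :=
  congrArg sharp (FTcore_type2 h)
theorem FTsupp1_type_gt2 {M : Subgroup G} (h : 2 < FTtype M) : FTsupp1 M = sharp (der M) :=
  congrArg sharp (FTcore_type_gt2 h)

theorem mem_FTsupp_def {M : Subgroup G} {y : G} :
    y ∈ FTsupp M ↔ y ∈ FTder M ∧ y ≠ 1 ∧ ∃ x ∈ FTcore M, x ≠ 1 ∧ y ∈ 𝐂[x] := by
  simp only [FTsupp, FTsupp1, Set.mem_iUnion, mem_sharp_iff, mem_inf, exists_prop]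
  exact ⟨fun ⟨x, h1, h2, h3⟩ => ⟨h2.1, h3, x, h1.1, h1.2, h2.2⟩,
    fun ⟨h1, h2, x, h3, h4, h5⟩ => ⟨x, ⟨h3, h4⟩, ⟨h1, h5⟩, h2⟩⟩

theorem FTsupp_type_gt2 {M : Subgroup G} (h : 2 < FTtype M) : FTsupp M = sharp (der M) := by
  ext y
  rw [mem_FTsupp_def, FTcore_type_gt2 h, FTder_typeP (by omega), mem_sharp_iff]
  exact ⟨fun h => ⟨h.1, h.2.1⟩, fun h => ⟨h.1, h.2, y, h.1, h.2, mem_cent1_self y⟩⟩
theorem FTsupp_eq1 {M : Subgroup G} (h : 2 < FTtype M) : FTsupp M = FTsupp1 M :=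
  (FTsupp_type_gt2 h).trans (FTsupp1_type_gt2 h).symm
theorem FTsupp_sub_der (M : Subgroup G) : FTsupp M ⊆ sharp (FTder M) := fun _ h =>
  mem_sharp_iff.2 ⟨(mem_FTsupp_def.1 h).1, (mem_FTsupp_def.1 h).2.1⟩
theorem FTsupp_sub (M : Subgroup G) : FTsupp M ⊆ sharp M :=
  (FTsupp_sub_der M).trans (sharp_subset_sharp (FTder_normal M).le)
theorem FTsupp_sub0 (M : Subgroup G) : FTsupp M ⊆ FTsupp0 M := Set.subset_union_left
theorem FTsupp0_sub (M : Subgroup G) : FTsupp0 M ⊆ sharp M := by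
  rintro x (h | ⟨h1, h2, -⟩)
  · exact FTsupp_sub M h
  · exact mem_sharp_iff.2 ⟨h1, fun e => h2 (e ▸ piElt_one _)⟩
theorem FTsupp0_type1 {M : Subgroup G} (h : FTtype M = 1) : FTsupp0 M = FTsupp M := by
  refine Set.union_eq_left.2 fun x hx => absurd ?_ hx.2.2
  rw [FTder_type1 h, relIndex_self, primes_one, Set.compl_empty]
  exact isPiNum_univ _

theorem sigmaKappaS_conj (M : Subgroup G) (g : G) : sigmaKappaS (g •ᶜ M) = sigmaKappaS M := by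
  rw [sigmaKappaS, sigmaS_conj, kappaS_conj, sigmaKappaS]

theorem FTtype_conj (M : Subgroup G) (g : G) : FTtype (g •ᶜ M) = FTtype M := by
  classical
  unfold FTtype
  refine if_congr ?_ rfl (if_congr (not_congr ?_) rfl (if_congr ?_ rfl (if_congr ?_ rfl rfl)))
  · rw [kappaS_conj, piGrp_conj]
  · rw [sigmaKappaS_conj, piGrp_conj]
  · rw [Fcore_conj, Ms_conj, conj_inj]
  · rw [Fcore_conj, Ms_conj, der_conj, conj_le_conj_iff]
theorem FTder_conj (M : Subgroup G) (g : G) : FTder (g •ᶜ M) = g •ᶜ FTder M := by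
  unfold FTder; rw [FTtype_conj]; split_ifs; exacts [rfl, der_conj _ _]
theorem FTcore_conj (M : Subgroup G) (g : G) : FTcore (g •ᶜ M) = g •ᶜ FTcore M := by
  unfold FTcore; rw [FTtype_conj]; split_ifs; exacts [Fcore_conj _ _, der_conj _ _]
theorem mem_FTsupp1_conj {M : Subgroup G} {g x : G} :
    g * x * g⁻¹ ∈ FTsupp1 (g •ᶜ M) ↔ x ∈ FTsupp1 M := by
  rw [FTsupp1, FTcore_conj, conj_mem_sharp_conj, FTsupp1]
theorem mem_FTsupp_conj {M : Subgroup G} {g x : G} :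
    g * x * g⁻¹ ∈ FTsupp (g •ᶜ M) ↔ x ∈ FTsupp M := by
  rw [mem_FTsupp_def, mem_FTsupp_def, FTder_conj, FTcore_conj, conj_mem_conj_iff, conj_ne_one]
  refine and_congr_right fun _ => and_congr_right fun _ => ⟨fun ⟨y, h1, h2, h3⟩ => ?_,
    fun ⟨y, h1, h2, h3⟩ => ⟨_, conj_mem_conj h1, conj_ne_one.2 h2, ?_⟩⟩
  · obtain ⟨z, hz, rfl⟩ := mem_conj_iff_exists.1 h1
    rw [cent1_conj, conj_mem_conj_iff] at h3
    exact ⟨z, hz, conj_ne_one.1 h2, h3⟩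
  · rw [cent1_conj]; exact conj_mem_conj h3
theorem mem_FTsupp0_conj {M : Subgroup G} {g x : G} :
    g * x * g⁻¹ ∈ FTsupp0 (g •ᶜ M) ↔ x ∈ FTsupp0 M := by
  simp only [FTsupp0, Set.mem_union, mem_FTsupp_conj, Set.mem_ofPred_eq, FTder_conj, relIndex_conj,
    conj_mem_conj_iff, piElt_conj]
theorem FTsupp1_norm (M : Subgroup G) : ∀ g ∈ M, ∀ x ∈ FTsupp1 M, g * x * g⁻¹ ∈ FTsupp1 M :=
  fun g hg _ hx => conj_eq_of_mem hg ▸ (mem_FTsupp1_conj (g := g)).2 hx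
theorem FTsupp_norm (M : Subgroup G) : ∀ g ∈ M, ∀ x ∈ FTsupp M, g * x * g⁻¹ ∈ FTsupp M :=
  fun g hg _ hx => conj_eq_of_mem hg ▸ (mem_FTsupp_conj (g := g)).2 hx
theorem FTsupp0_norm (M : Subgroup G) : ∀ g ∈ M, ∀ x ∈ FTsupp0 M, g * x * g⁻¹ ∈ FTsupp0 M :=
  fun g hg _ hx => conj_eq_of_mem hg ▸ (mem_FTsupp0_conj (g := g)).2 hx

theorem FTtype_eq_one_iff {M : Subgroup G} : FTtype M = 1 ↔ PiGrp (kappaS M)ᶜ M := by
  unfold FTtype; generalize PiGrp (kappaS M)ᶜ M = a; split_ifs <;> simp [*]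
theorem FTtype_eq_two_iff {M : Subgroup G} :
    FTtype M = 2 ↔ ¬ PiGrp (kappaS M)ᶜ M ∧ ¬ PiGrp (sigmaKappaS M) M := by
  unfold FTtype; split_ifs <;> simp_all
theorem two_lt_FTtype_iff {M : Subgroup G} :
    2 < FTtype M ↔ ¬ PiGrp (kappaS M)ᶜ M ∧ PiGrp (sigmaKappaS M) M := by
  unfold FTtype
  generalize PiGrp (kappaS M)ᶜ M = a
  generalize PiGrp (sigmaKappaS M) M = b
  split_ifs <;> simp_all

theorem TypeP1Max.FTtype_eq {M : Subgroup G} (h : TypeP1Max M) :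
    (FTtype M = 5 ↔ Fcore M = Ms M) ∧ (FTtype M = 3 ↔ Fcore M ≠ Ms M ∧ der (Ms M) ≤ Fcore M) ∧
      (FTtype M = 4 ↔ Fcore M ≠ Ms M ∧ ¬ der (Ms M) ≤ Fcore M) := by
  unfold FTtype
  rw [if_neg h.1.2, if_neg (not_not.2 h.2)]
  split_ifs <;> simp [*]

theorem NormedTI.classSupp {A : Set G} {L M : Subgroup G} (h : NormedTI A ⊤ L) (hL : L ≤ M) :
    NormedTI (classSupp A M) ⊤ M := by
  refine ⟨h.nonempty.mono (subset_classSupp _ _), le_top, fun x hx a ha => classSupp_conj_mem ha hx, ?_⟩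
  rintro g - _ ⟨a, ha, m, hm, rfl⟩ ⟨b, hb, n, hn, e⟩
  have h1 : n⁻¹ * g * m ∈ M := hL (h.mem_of_conj _ (mem_top _) a ha (by
    convert hb using 1
    calc n⁻¹ * g * m * a * (n⁻¹ * g * m)⁻¹ = n⁻¹ * (g * (m * a * m⁻¹) * g⁻¹) * n := by group
      _ = b := by rw [e]; group))
  rwa [M.mul_mem_cancel_right hm, M.mul_mem_cancel_left (M.inv_mem hn)] at h1

variable [MinOdd G]

/-! ### the type of a maximal subgroup -/

theorem FTtype_Fmax {M : Subgroup G} (hM : IsCoatom M) : TypeFMax M ↔ FTtype M = 1 :=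
  ⟨fun h => FTtype_eq_one_iff.2 h.2, fun h => ⟨hM, FTtype_eq_one_iff.1 h⟩⟩
theorem typeP_iff_ne_one {M : Subgroup G} (hM : IsCoatom M) : TypePMax M ↔ FTtype M ≠ 1 :=
  ⟨fun h e => h.2 (FTtype_eq_one_iff.1 e), fun h => ⟨hM, fun e => h (FTtype_eq_one_iff.2 e)⟩⟩
theorem FTtype_Pmax {M : Subgroup G} (hM : IsCoatom M) : TypePMax M ↔ 1 < FTtype M := by
  have := (FTtype_range M).1
  rw [typeP_iff_ne_one hM]; omega
theorem FTtype_P1max {M : Subgroup G} (hM : IsCoatom M) : TypeP1Max M ↔ 2 < FTtype M :=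
  ⟨fun h => two_lt_FTtype_iff.2 ⟨h.1.2, h.2⟩,
    fun h => ⟨⟨hM, (two_lt_FTtype_iff.1 h).1⟩, (two_lt_FTtype_iff.1 h).2⟩⟩
theorem FTtype_P2max {M : Subgroup G} (hM : IsCoatom M) : TypeP2Max M ↔ FTtype M = 2 :=
  ⟨fun h => FTtype_eq_two_iff.2 ⟨h.1.2, h.2⟩,
    fun h => ⟨⟨hM, (FTtype_eq_two_iff.1 h).1⟩, (FTtype_eq_two_iff.1 h).2⟩⟩
theorem typeF_or_P2_iff {M : Subgroup G} (hM : IsCoatom M) :
    TypeFMax M ∨ TypeP2Max M ↔ FTtype M ≤ 2 := by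
  have := (FTtype_range M).1
  rw [FTtype_Fmax hM, FTtype_P2max hM]; omega

theorem Fcore_eq_Ms_of_notP1 {M : Subgroup G} (h : TypeFMax M ∨ TypeP2Max M) : Fcore M = Ms M :=
  (Fcore_eq_Msigma (h.elim (·.1) (·.1.1))).2 (notP1type_Msigma_nil h)

/-- Lemma 16.1, last part: `M_s = M_σ` -/
theorem def_FTcore {M : Subgroup G} (hM : IsCoatom M) : FTcore M = Ms M := by
  by_cases h : FTtype M ≤ 2
  · exact (if_pos h).trans (Fcore_eq_Ms_of_notP1 ((typeF_or_P2_iff hM).2 h))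
  · exact (if_neg h).trans (P1type_Ms_eq ((FTtype_P1max hM).2 (not_le.1 h))).symm
theorem Fcore_le_FTcore {M : Subgroup G} (hM : IsCoatom M) : Fcore M ≤ FTcore M :=
  def_FTcore hM ▸ Fcore_sub_Msigma hM
theorem mmax_Fcore_neq1 {M : Subgroup G} (hM : IsCoatom M) : Fcore M ≠ ⊥ := (Fcore_structure hM).1.1
theorem FTcore_neq1 {M : Subgroup G} (hM : IsCoatom M) : FTcore M ≠ ⊥ :=
  def_FTcore hM ▸ Msigma_neq1 hM
theorem norm_mmax_Fcore {M : Subgroup G} (hM : IsCoatom M) : 𝐍(Fcore M) = M :=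
  mmax_normal hM (Fcore_normal M) (mmax_Fcore_neq1 hM)
theorem norm_FTcore {M : Subgroup G} (hM : IsCoatom M) : 𝐍(FTcore M) = M :=
  mmax_normal hM (FTcore_normal M) (FTcore_neq1 hM)
theorem der_le_FTder (M : Subgroup G) : der M ≤ FTder M := by
  unfold FTder; split_ifs; exacts [der_le _, le_rfl]
theorem Ms_le_FTder {M : Subgroup G} (hM : IsCoatom M) : Ms M ≤ FTder M :=
  (Msigma_der1 hM).trans (der_le_FTder M)
theorem FTcore_le_FTder {M : Subgroup G} (hM : IsCoatom M) : FTcore M ≤ FTder M :=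
  def_FTcore hM ▸ Ms_le_FTder hM

theorem mem_FTsupp1_iff {M : Subgroup G} (hM : IsCoatom M) {x : G} :
    x ∈ FTsupp1 M ↔ x ∈ Ms M ∧ x ≠ 1 := by
  rw [FTsupp1, def_FTcore hM, mem_sharp_iff]
theorem mem_FTsupp_iff {M : Subgroup G} (hM : IsCoatom M) {y : G} :
    y ∈ FTsupp M ↔ y ∈ FTder M ∧ y ≠ 1 ∧ ∃ x ∈ Ms M, x ≠ 1 ∧ y ∈ 𝐂[x] := by
  rw [mem_FTsupp_def, def_FTcore hM]

theorem FTsupp1_sub {M : Subgroup G} (hM : IsCoatom M) : FTsupp1 M ⊆ FTsupp M := fun x hx =>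
  have h := (mem_FTsupp1_iff hM).1 hx
  (mem_FTsupp_iff hM).2 ⟨Ms_le_FTder hM h.1, h.2, x, h.1, h.2, mem_cent1_self x⟩
theorem FTsupp1_sub0 {M : Subgroup G} (hM : IsCoatom M) : FTsupp1 M ⊆ FTsupp0 M :=
  (FTsupp1_sub hM).trans (FTsupp_sub0 M)
theorem Fcore_sub_FTsupp1 {M : Subgroup G} (hM : IsCoatom M) : sharp (Fcore M) ⊆ FTsupp1 M :=
  sharp_subset_sharp (Fcore_le_FTcore hM)
theorem Fcore_sub_FTsupp {M : Subgroup G} (hM : IsCoatom M) : sharp (Fcore M) ⊆ FTsupp M :=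
  (Fcore_sub_FTsupp1 hM).trans (FTsupp1_sub hM)
theorem Fcore_sub_FTsupp0 {M : Subgroup G} (hM : IsCoatom M) : sharp (Fcore M) ⊆ FTsupp0 M :=
  (Fcore_sub_FTsupp hM).trans (FTsupp_sub0 M)
theorem Fit_le_FTder {M : Subgroup G} (hM : IsCoatom M) : Fit M ≤ FTder M := by
  by_cases h : FTtype M = 1
  · rw [FTder_type1 h]; exact Fit_le M
  · rw [FTder_typeP h]; exact (Fitting_structure hM).2.2.2 ((typeP_iff_ne_one hM).2 h)
theorem Fitting_sub_FTsupp {M : Subgroup G} (hM : IsCoatom M) : sharp (Fit M) ⊆ FTsupp M := by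
  intro y hy
  obtain ⟨hy, hy1⟩ := mem_sharp_iff.1 hy
  obtain ⟨x, hx, hx1⟩ := exists_mem_ne_one (inf_cent_ne_bot_of_nil (Fit_nil M)
    ((Fcore_normal M).mono (Fcore_le_Fit M) (Fit_le M)) (mmax_Fcore_neq1 hM))
  exact (mem_FTsupp_iff hM).2 ⟨Fit_le_FTder hM hy, hy1, x, Fcore_sub_Msigma hM hx.1, hx1,
    le_cent1_iff.2 hx.2 hy⟩
theorem FTsupp1_neq0 {M : Subgroup G} (hM : IsCoatom M) : (FTsupp1 M).Nonempty :=
  sharp_nonempty.2 (FTcore_neq1 hM)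
theorem FTsupp_neq0 {M : Subgroup G} (hM : IsCoatom M) : (FTsupp M).Nonempty :=
  (FTsupp1_neq0 hM).mono (FTsupp1_sub hM)
theorem FTsupp0_neq0 {M : Subgroup G} (hM : IsCoatom M) : (FTsupp0 M).Nonempty :=
  (FTsupp1_neq0 hM).mono (FTsupp1_sub0 hM)

theorem FTder_hall {M : Subgroup G} (hM : IsCoatom M) : Hall (kappaS M)ᶜ (FTder M) M := by
  by_cases h : FTtype M = 1
  · rw [FTder_type1 h]; exact hall_self (FTtype_eq_one_iff.1 h)
  · obtain ⟨K, hK⟩ := exists_hall (kappaS M) (mmax_sol hM)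
    rw [FTder_typeP h]; exact (der_kappa_hall ((typeP_iff_ne_one hM).2 h) hK).2
theorem mem_FTder_iff {M : Subgroup G} (hM : IsCoatom M) {x : G} (hx : x ∈ M) :
    x ∈ FTder M ↔ PiElt (kappaS M)ᶜ x :=
  (FTder_hall hM).mem_iff_of_normal (FTder_normal M).norm hx
theorem FTsupp_kappa' {M : Subgroup G} (hM : IsCoatom M) {x : G} (hx : x ∈ FTsupp M) :
    PiElt (kappaS M)ᶜ x :=
  (FTder_hall hM).piGrp.piElt (mem_FTsupp_def.1 hx).1

theorem mem_FTsupp0_iff {M : Subgroup G} (hM : IsCoatom M) {x : G} :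
    x ∈ FTsupp0 M ↔ x ∈ FTsupp M ∨ (x ∈ M ∧ ¬ PiElt (kappaS M) x ∧ ¬ PiElt (kappaS M)ᶜ x) := by
  refine or_congr_right (and_congr_right fun hx => ?_)
  have key : ∀ p : ℕ, p.Prime → p ∣ orderOf x →
      (p ∈ primes ((FTder M).relIndex M) ↔ p ∈ kappaS M) := fun p hp hd => by
    rw [(FTder_hall hM).relIndex_eq_partn, compl_compl, mem_primes, dvd_partn_iff hp (card_pos' M).ne']
    exact ⟨fun h => h.2.2, fun h => ⟨hp, hd.trans (orderOf_dvd_card hx), h⟩⟩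
  exact and_congr (not_congr (isPiNum_congr key))
    (not_congr (isPiNum_congr fun p hp hd => not_congr (key p hp hd)))
theorem mem_FTsupp0_diff {M : Subgroup G} (hM : IsCoatom M) {x : G} :
    x ∈ FTsupp0 M \ FTsupp M ↔ x ∈ M ∧ ¬ PiElt (kappaS M) x ∧ ¬ PiElt (kappaS M)ᶜ x := by
  rw [Set.mem_sdiff, mem_FTsupp0_iff hM]
  exact ⟨fun h => h.1.resolve_left h.2, fun h => ⟨.inr h, fun h' => h.2.2 (FTsupp_kappa' hM h')⟩⟩

/-! ### The summary theorems A and B -/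

/-- `Â(M)` of B&G -/
def hatA (M : Subgroup G) : Set G := ⋃ x ∈ sharp (Ms M), sharp (M ⊓ 𝐂[x])

/-- the conclusion of Theorem A, with `Ks = C_{M_σ}(K)` -/
structure SummaryA (M U K Ks : Subgroup G) : Prop where
  normal_Ms : Ms M ⊴ M
  hallM : Hall (sigmaS M) (Ms M) M
  hallG : Hall (sigmaS M) (Ms M) ⊤
  hallK : Hall (kappaS M) K M
  cycK : IsCyclic K
  normal_UMs : (Ms M ⊔ U) ⊴ M
  K_le_norm : K ≤ 𝐍(U)
  defMsU : IsSdprod (Ms M) U (Ms M ⊔ U)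
  defM : IsSdprod (Ms M ⊔ U) K M
  defUK : IsSdprod U K (U ⊔ K)
  regular : Semiregular U K
  Ks_ne_bot : Ks ≠ ⊥
  centK : ∀ k ∈ K, k ≠ 1 → IsDprod K Ks (M ⊓ 𝐂[k])
  F_ne_bot : Fcore M ≠ ⊥
  F_le : Fcore M ≤ Ms M
  Ms_le : Ms M ≤ der M
  der_lt : der M < M
  nil_quo : Nil (der M ⁒ Fcore M)
  der2_le : der2 M ≤ Fit M
  defF : Fcore M ⊔ (M ⊓ 𝐂(Fcore M)) = Fit M
  fit_le : K ≠ ⊥ → Fit M ≤ der M
  of_ne : Fcore M ≠ Ms M → U = ⊥ ∧ NormedTI (sharp (Fit M)) ⊤ M ∧ (♯K).Prime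

omit [MinOdd G] in
theorem dprod_K_Ks {M K : Subgroup G} (hK : Hall (kappaS M) K M) :
    IsDprod K (Ms M ⊓ 𝐂(K)) (K ⊔ Ms M ⊓ 𝐂(K)) :=
  .of_sup inf_le_right
    (PiGrp.inf_eq_bot' (hK.piGrp.mono (kappa_sigma' M)) ((Ms_piGrp M).inf_left _))

/-- Theorem A -/
theorem BGsummaryA {M U K : Subgroup G} (hM : IsCoatom M) (h : KappaCompl M U K) :
    SummaryA M U K (Ms M ⊓ 𝐂(K)) := by
  obtain ⟨⟨h1, h2, h3, -⟩, -⟩ := kappa_structure hM h
  obtain ⟨-, ⟨h4, -⟩, -, h5, -⟩ := kappa_compl_context hM h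
  obtain ⟨f1, f2, f3, f4⟩ := (Fcore_structure hM).1
  obtain ⟨-, ⟨g1, g2, -⟩, ⟨-, g3⟩, g4⟩ := Fitting_structure hM
  refine ⟨Ms_normal M, Msigma_Hall hM, Msigma_Hall_G hM, h.hallK, h3, h2.normal, h4.le_norm, h1, h2, h4,
    h5, ?_, fun k hk hk1 => ?_, f1, f2, f3, f4, g3, g1, g2,
    fun hK => g4 (typeP_of_ne_bot hM h.hallK hK), fun hne => ?_⟩
  · by_cases hK : K = ⊥
    · rw [hK, cent_bot, inf_top_eq]; exact Msigma_neq1 hM
    · exact (Ptype_cyclics (typeP_of_ne_bot hM h.hallK hK) h.hallK).1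
  · obtain ⟨L, hL⟩ := Ptype_embedding (typeP_of_ne_bot hM h.hallK fun e => hk1 (by simpa [e] using hk))
      h.hallK
    rw [hL.centK k hk hk1]; exact dprod_K_Ks h.hallK
  · obtain ⟨q, _, D, -, -, -, -, hF⟩ := exists_FcoreStructure hM h.hallK hne
    exact ⟨(trivg_kappa_compl hM h).2 hF.typeP1,
      by_contra fun hn => hne (nonTI_Fitting_facts hM hn).2.1, hF.prime_p⟩

theorem uniqMax_constt_of_mem_diff {M : Subgroup G} (hM : IsCoatom M) {a : G}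
    (ha : a ∈ FTsupp M \ FTsupp1 M) : UniqMax 𝐂[constt (sigmaS M)ᶜ a] M := by
  obtain ⟨h1, h2, x, hx, hx1, hc⟩ := (mem_FTsupp_iff hM).1 ha.1
  have haM := (FTder_normal M).le h1
  have h3 : constt (sigmaS M)ᶜ a ≠ 1 := fun e => ha.2 ((mem_FTsupp1_iff hM).2
    ⟨(mem_Ms_iff hM haM).2 (by simpa using constt_eq_one_iff.1 e), h2⟩)
  rcases pi_of_cent_sigma hM hx hx1 (constt_mem _ (mem_inf.2 ⟨haM, hc⟩)) h3 (piElt_constt _ _) with h | h
  · exact absurd (h.1.eq_one ((FTsupp_kappa' hM ha.1).of_mem_zpowers (constt_mem_zpowers _ _))) h3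
  · exact h.2.2

theorem normedTI_FTsupp_diff {M : Subgroup G} (hM : IsCoatom M) (h : (FTsupp M \ FTsupp1 M).Nonempty) :
    NormedTI (FTsupp M \ FTsupp1 M) ⊤ M := by
  refine ⟨h, le_top, fun x hx a ha => ⟨FTsupp_norm M x hx a ha.1, fun h' => ha.2 ?_⟩,
    fun g _ a ha ha' => ?_⟩
  · simpa [mul_assoc] using FTsupp1_norm M x⁻¹ (M.inv_mem hx) _ h'
  · have h1 := uniqMax_constt_of_mem_diff hM ha'
    have h2 := (uniqMax_constt_of_mem_diff hM ha).conj g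
    rw [constt_conj, cent1_conj] at h1
    exact (conj_mmax_eq_iff hM).1 (h1.eq h2.1 h2.le)

/-- Theorem B -/
theorem BGsummaryB {M U K : Subgroup G} (hM : IsCoatom M) (h : KappaCompl M U K) :
    (∀ p : ℕ, p.Prime → ∀ S, Syl p S U → Ab S ∧ rank S ≤ 2) ∧
    Ab (closure ((U : Set G) ∩ hatA M)) ∧
    (U ≠ ⊥ → ∃ U0, U0 ≤ U ∧ expo U0 = expo U ∧ Disjoint (U0 : Set G) (hatA M)) ∧
    (∀ X, X ≤ U → X ≠ ⊥ → Ms M ⊓ 𝐂(X) ≠ ⊥ → UniqMax 𝐂(X) M) ∧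
    ((FTsupp M \ FTsupp1 M).Nonempty → NormedTI (FTsupp M \ FTsupp1 M) ⊤ M) := by
  obtain ⟨-, -, h3, h4, h5⟩ := kappa_structure hM h
  refine ⟨fun p hp S hS => ?_, ab_of_le h4 ((closure_le _).2 fun y hy => ?_), fun hU => ?_,
    fun X h1 h2 hC => (h3 X h1 h2 hC).1, normedTI_FTsupp_diff hM⟩
  · have := Fact.mk hp
    have hs := h.U_sigma'.of_le hS.le
    refine ⟨sigma'_nil_abelian hM (hS.le.trans h.U_le) hs hS.nil, ?_⟩
    by_cases e : S = ⊥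
    · rw [e, rank_bot]; omega
    · rw [rank_eq_rp hS.isPGroup]
      exact (rp_mono p (hS.le.trans h.U_le)).trans (not_lt.1 fun hr =>
        mem_of_isPGroup_of_piGrp hS.isPGroup e hs (alpha_sub_sigma hM ⟨hp, hr⟩))
  · obtain ⟨hy, hy'⟩ := hy
    simp only [hatA, Set.mem_iUnion] at hy'
    obtain ⟨x, hx, hy'⟩ := hy'
    exact (le_iSup₂ (f := fun x (_ : x ∈ sharp (Ms M)) => U ⊓ 𝐂[x]) x hx)
      (mem_inf.2 ⟨hy, (mem_sharp_iff.1 hy').1.2⟩)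
  · obtain ⟨U0, h1, h2, hF⟩ := h5 hU
    refine ⟨U0, h1, h2, Set.disjoint_left.2 fun y hy hy' => ?_⟩
    simp only [hatA, Set.mem_iUnion, mem_sharp_iff] at hy'
    obtain ⟨x, hx, hy', hy1⟩ := hy'
    exact hx.2 (mem_bot.1 (hF.semiregular y hy hy1 ▸ mem_inf.2 ⟨hx.1, mem_cent1_comm.1 hy'.2⟩))

end Cfsg.Agent.OO
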