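import Cfsg.Agent.Lib.OO.Pf.BG16_A

/-! # B&G section 16, second part: Theorems C and D, facts on type `𝓟` -/

set_option autoImplicit false
set_option linter.unusedSectionVars false
set_option linter.unusedVariables false

namespace Cfsg.Agent.OO

open Subgroup Cfsg.Agent.Coprime
open scoped Pointwise commutatorElement

universe u

variable {G : Type u} [Group G] [Finite G] [MinOdd G]

/-- the conclusion of Theorem C, with `Ks = C_{M_σ}(K)` -/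
structure SummaryC (M U K Ks Mstar : Subgroup G) : Prop where
  abU : Ab U
  not_norm_le : ¬ 𝐍(U) ≤ M
  cycKs : IsCyclic Ks
  Ks_ne_bot : Ks ≠ ⊥
  Ks_le : Ks ≤ Fcore M
  not_cyc : ¬ IsCyclic (Fcore M)
  defM' : IsSdprod (Ms M) U (der M)
  Ks_le_der2 : Ks ≤ der2 M
  typeP : TypePMax Mstar
  defK : Ms Mstar ⊓ 𝐂(Ks) = K
  hallKs : Hall (kappaS Mstar) Ks Mstar
  uniqKs : ∀ X, X ≤ Ks → (♯X).Prime → UniqMax 𝐂(X) M
  uniqK : ∀ Y, Y ≤ K → (♯Y).Prime → UniqMax 𝐂(Y) Mstar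
  defZ : IsDprod K Ks (M ⊓ Mstar)
  cycZ : IsCyclic ↥(M ⊓ Mstar)
  typeP2 : TypeP2Max M ∨ TypeP2Max Mstar
  trans : ∀ H : Subgroup G, TypePMax H → ∃ g : G, H = g •ᶜ M ∨ H = g •ᶜ Mstar
  tiZ : NormedTI (cycTIset K Ks) ⊤ (K ⊔ Ks)
  defA0 : FTsupp0 M \ FTsupp M = classSupp (cycTIset K Ks) M
  tiA0 : NormedTI (FTsupp0 M \ FTsupp M) ⊤ M
  of_ne_bot : U ≠ ⊥ → (♯K).Prime ∧ NormedTI (sharp (Fit M)) ⊤ M ∧ Ms M ≤ Fit M
  of_eq_bot : U = ⊥ → (♯Ks).Prime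

theorem kappa_compl_not_norm_le {M U K : Subgroup G} (hM : IsCoatom M) (h : KappaCompl M U K)
    (hK : K ≠ ⊥) : ¬ 𝐍(U) ≤ M := by
  by_cases hU : U = ⊥
  · rw [hU, norm_bot]; exact fun h => hM.1 (top_le_iff.1 h)
  have hP := (typeP_of_ne_bot hM h.hallK hK).P1_or_P2.resolve_left
    fun h1 => hU ((trivg_kappa_compl hM h).2 h1)
  obtain ⟨r, hr, hd⟩ := exists_prime_dvd hU
  have := Fact.mk hr
  obtain ⟨R, hR⟩ := exists_syl r U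
  obtain ⟨L, hL, hC⟩ := mmax_exists (mFT_cent_proper hK)
  obtain ⟨H, hH, hN⟩ := mmax_exists (mFT_norm_proper (hR.ne_bot hd) (mFT_pgroup_proper hR.isPGroup))
  exact fun h' => (P2type_signalizer hP h hL hC hR hH hN).2.2.2.1 (inf_le_right.trans h')

theorem FTsupp0_diff_eq {M K : Subgroup G} (hM : TypePMax M) (hK : Hall (kappaS M) K M) :
    FTsupp0 M \ FTsupp M = classSupp (cycTIset K (Ms M ⊓ 𝐂(K))) M := by
  obtain ⟨L, hL⟩ := Ptype_embedding hM hK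
  have hs : PiGrp (kappaS M)ᶜ (Ms M ⊓ 𝐂(K)) :=
    ((Ms_piGrp M).inf_left _).mono (sigma_subset_compl_kappa M)
  have hZ : K ⊔ Ms M ⊓ 𝐂(K) ≤ M := hL.inf_eq ▸ inf_le_left
  have hD := dprod_K_Ks hK
  ext x
  rw [mem_FTsupp0_diff hM.1]
  constructor
  · rintro ⟨hx, h1, h2⟩
    obtain ⟨g, hg, hle⟩ := hK.exists_conj_le (mmax_sol hM.1) (zpowers_le.2 (constt_mem (kappaS M) hx))
      (piGrp_zpowers.2 (piElt_constt _ _))
    rw [conj_zpowers, ← constt_conj, zpowers_le] at hle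
    have h3 : constt (kappaS M) (g * x * g⁻¹) ≠ 1 := fun e => h2 (piElt_conj.1 (constt_eq_one_iff.1 e))
    refine ⟨g * x * g⁻¹, mem_cycTIset_iff.2 ⟨?_, fun h => h1 (piElt_conj.1 (hK.piGrp.piElt h)),
      fun h => h2 (piElt_conj.1 (hs.piElt h))⟩, g⁻¹, M.inv_mem hg, by group⟩
    rw [← hL.centK _ hle h3]
    exact mem_inf.2 ⟨M.mul_mem (M.mul_mem hg hx) (M.inv_mem hg),
      cent1_le_cent1_constt _ _ (mem_cent1_self _)⟩
  · rintro ⟨y, hy, g, hg, rfl⟩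
    obtain ⟨h1, h2, h3⟩ := mem_cycTIset_iff.1 hy
    refine ⟨M.mul_mem (M.mul_mem hg (hZ h1)) (M.inv_mem hg), fun h => h2 ?_, fun h => h3 ?_⟩
    · exact (hD.toSdprod.hall_left hK.piGrp hs).mem_of_normal hD.normal_left.norm h1 (piElt_conj.1 h)
    · exact (hD.symm.toSdprod.hall_left hs hK.piGrp.compl_compl).mem_of_normal hD.normal_right.norm h1
        (piElt_conj.1 h)

theorem normedTI_FTsupp0_diff {M : Subgroup G} (hM : IsCoatom M) (h : (FTsupp0 M \ FTsupp M).Nonempty) :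
    NormedTI (FTsupp0 M \ FTsupp M) ⊤ M := by
  have hP : TypePMax M := (typeP_iff_ne_one hM).2 fun e => by simp [FTsupp0_type1 e] at h
  obtain ⟨K, hK⟩ := exists_hall (kappaS M) (mmax_sol hM)
  obtain ⟨L, hL⟩ := Ptype_embedding hP hK
  rw [FTsupp0_diff_eq hP hK]
  exact hL.tiZ.classSupp (hL.inf_eq ▸ inf_le_left)

theorem P2type_normedTI_Fit {M : Subgroup G} (hM : TypeP2Max M) : NormedTI (sharp (Fit M)) ⊤ M :=
  by_contra fun hn => (nonTI_Fitting_facts hM.1.1 hn).1.elim hM.1.not_F fun h => h.not_P2 hM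

/-- Theorem C -/
theorem BGsummaryC {M U K : Subgroup G} (hM : IsCoatom M) (h : KappaCompl M U K) (hK : K ≠ ⊥) :
    ∃ Mstar, SummaryC M U K (Ms M ⊓ 𝐂(K)) Mstar := by
  have hP := typeP_of_ne_bot hM h.hallK hK
  obtain ⟨L, hL⟩ := Ptype_embedding hP h.hallK
  obtain ⟨h1, h2⟩ := (kappa_structure hM h).2.1 hK
  obtain ⟨c1, c2, c3, c4, c5⟩ := Ptype_cyclics hP h.hallK
  have hS := Ptype_structure hP h.hallK
  have hA := FTsupp0_diff_eq hP h.hallK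
  refine ⟨L, h2, kappa_compl_not_norm_le hM h hK, c2, c1, c4, c5, h1, c3, hL.typeP, hL.defK, hL.hallKappa,
    hS.2.2.1.2, hL.uniq, hL.inf_eq ▸ dprod_K_Ks h.hallK, hL.inf_eq ▸ hL.cycZ,
    hL.typeP2.imp (·.1) (·.1), hL.trans, hL.tiZ, hA, hA ▸ hL.tiZ.classSupp (hL.inf_eq ▸ inf_le_left),
    fun hU => ?_, fun hU => P1type_prime_Ks ((trivg_kappa_compl hM h).1 hU) h.hallK⟩
  have hP2 := hP.P1_or_P2.resolve_left fun h1 => hU ((trivg_kappa_compl hM h).2 h1)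
  obtain ⟨-, h3, h4, -⟩ := hS.2.2.2.2.2.2 hP2
  exact ⟨h3, P2type_normedTI_Fit hP2, le_Fit (Ms_normal M) h4⟩

theorem FTsupp0_typeP {M W W1 W2 : Subgroup G} (hM : TypePMax M) (defW : IsDprod W1 W2 W)
    (defM : IsSdprod (der M) W1 M) (defW2 : Ms M ⊓ 𝐂(W1) = W2) :
    FTsupp0 M \ FTsupp M = classSupp (cycTIset W1 W2) M := by
  obtain ⟨K, hK⟩ := exists_hall (kappaS M) (mmax_sol hM.1)
  have h := defM.hall_left_iff.1 (der_kappa_hall hM hK).2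
  rw [compl_compl] at h
  exact defW2 ▸ FTsupp0_diff_eq hM h

theorem mem_conj_Ms_of_mem_conj {M : Subgroup G} (hM : IsCoatom M) {x g : G} (hx : x ∈ Ms M)
    (hg : x ∈ g •ᶜ M) : x ∈ Ms (g •ᶜ M) :=
  (mem_Ms_iff (isCoatom_conj hM g) hg).2 (by rw [sigmaS_conj]; exact (Ms_piGrp M).piElt hx)

theorem signalizer_sdprod {M : Subgroup G} (hM : IsCoatom M) {x : G} (hx : x ∈ Ms M) (hx1 : x ≠ 1) :
    IsSdprod (Rx x) (M ⊓ 𝐂[x]) 𝐂[x] := by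
  obtain ⟨⟨-, h1, -⟩, h2⟩ := FT_signalizer_context (Msigma_ell1 hM hx hx1)
  have hMx : M ∈ sigmaMax (zpowers x) := ⟨hM, zpowers_le.2 hx⟩
  by_cases h : 1 < (sigmaMax (zpowers x)).ncard
  · obtain ⟨h3, -, -, -, h4⟩ := h2 h
    have h5 := (h4 M hMx).1
    rwa [inf_assoc, inf_eq_right.2 h3.le] at h5
  · have h3 : 𝐂[x] ≤ M := by_contra fun hC => h (one_lt_ncard_sigmaMax hMx hC)
    have h4 : Rx x = ⊥ := card_eq_one_iff.1 (by have := card_pos' (Rx x); omega)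
    rw [h4, inf_eq_right.2 h3]; exact .bot_left _

theorem signalizer_base_facts {M : Subgroup G} (hM : IsCoatom M) {x : G} (hx : x ∈ Ms M) (hx1 : x ≠ 1)
    (hC : ¬ 𝐂[x] ≤ M) :
    (UniqMax 𝐂[x] (Nx x) ∧ Fcore (Nx x) = Ms (Nx x)) ∧
      (x ∈ FTsupp (Nx x) \ FTsupp1 (Nx x) ∧ (TypeFMax (Nx x) ∨ TypeP2Max (Nx x))) ∧
      Hall (sigmaS (Nx x))ᶜ (M ⊓ Nx x) (Nx x) ∧
      (TypeP2Max (Nx x) → TypeFMax M ∧ (∃ E, IsFrob M (Ms M) E ∧ IsCyclic E) ∧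
        ¬ NormedTI (sharp (Fcore M)) ⊤ M) := by
  have hMx : M ∈ sigmaMax (zpowers x) := ⟨hM, zpowers_le.2 hx⟩
  obtain ⟨h1, h2, h3, h4, h5⟩ := (FT_signalizer_context (Msigma_ell1 hM hx hx1)).2
    (one_lt_ncard_sigmaMax hMx hC)
  refine ⟨⟨h1, Fcore_eq_Ms_of_notP1 h4⟩, ⟨⟨?_, fun h => hx1 ?_⟩, h4⟩, (h5 M hMx).2.2.2, fun hP => ?_⟩
  · obtain ⟨y, hy, hy1⟩ := exists_mem_ne_one h2
    exact (mem_FTsupp_iff h1.1).2 ⟨(mem_FTder_iff h1.1 (h1.le (mem_cent1_self x))).2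
      (h3.mono (tau2_subset_compl_kappa _)), hx1, y, hy.1, hy1, mem_cent1_comm.1 hy.2⟩
  · exact ((Ms_piGrp _).piElt ((mem_FTsupp1_iff h1.1).1 h).1).eq_one
      (h3.mono (tau2_subset_compl_sigma _))
  · obtain ⟨hF, -, -, E, -, hE, hFr⟩ := nonFtype_signalizer_base hM hx hx1 hC hP.1.not_F
    refine ⟨hF, ⟨E, hFr, hE⟩, fun hT => hC (le_trans (le_inf le_top le_rfl) (hT.cent1_le ?_))⟩
    rw [Fcore_eq_Ms_of_notP1 (.inl hF)]; exact mem_sharp_iff.2 ⟨hx, hx1⟩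

/-- Theorem D -/
theorem BGsummaryD {M : Subgroup G} (hM : IsCoatom M) :
    (∀ x ∈ Ms M, ∀ g : G, g * x * g⁻¹ ∈ Ms M → ∃ t ∈ M, g * x * g⁻¹ = t * x * t⁻¹) ∧
    (∀ g : G, g ∉ M → Ms M ⊓ g •ᶜ M = Ms M ⊓ g •ᶜ Ms M ∧ IsCyclic ↥(Ms M ⊓ g •ᶜ M)) ∧
    (∀ x ∈ Ms M, x ≠ 1 → IsHallIn (M ⊓ 𝐂[x]) 𝐂[x] ∧ IsSdprod (Rx x) (M ⊓ 𝐂[x]) 𝐂[x] ∧
      (∀ g : G, x ∈ g •ᶜ M → ∃ r ∈ Rx x, g •ᶜ M = r •ᶜ M) ∧
      ♯(Rx x) = {L : Subgroup G | (∃ g : G, L = g •ᶜ M) ∧ x ∈ L}.ncard) ∧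
    ∀ x ∈ Ms M, x ≠ 1 → ¬ 𝐂[x] ≤ M →
      (UniqMax 𝐂[x] (Nx x) ∧ Fcore (Nx x) = Ms (Nx x)) ∧
      (x ∈ FTsupp (Nx x) \ FTsupp1 (Nx x) ∧ (TypeFMax (Nx x) ∨ TypeP2Max (Nx x))) ∧
      Hall (sigmaS (Nx x))ᶜ (M ⊓ Nx x) (Nx x) ∧
      (TypeP2Max (Nx x) → TypeFMax M ∧ (∃ E, IsFrob M (Ms M) E ∧ IsCyclic E) ∧
        ¬ NormedTI (sharp (Fcore M)) ⊤ M) := by
  refine ⟨fun x hx g hg => sigma_elt_trans hM hx hg, fun g hg => ⟨le_antisymm (fun y hy => ?_)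
    (inf_le_inf_left _ (conj_mono g (Ms_normal M).le)), ?_⟩, fun x hx hx1 => ?_,
    fun x hx hx1 hC => signalizer_base_facts hM hx hx1 hC⟩
  · exact mem_inf.2 ⟨hy.1, Ms_conj M g ▸ mem_conj_Ms_of_mem_conj hM hy.1 hy.2⟩
  · obtain ⟨E, hE⟩ := exists_hall (sigmaS M)ᶜ (mmax_sol hM)
    exact ((sigma_compl_embedding hM hE).2.2 g hg).1
  · obtain ⟨⟨h1, h2, -, h3⟩, -⟩ := FT_signalizer_context (Msigma_ell1 hM hx hx1)
    have hMx : M ∈ sigmaMax (zpowers x) := ⟨hM, zpowers_le.2 hx⟩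
    have h4 := signalizer_sdprod hM hx hx1
    have h5 : ∀ g : G, x ∈ g •ᶜ M → g •ᶜ M ∈ sigmaMax (zpowers x) := fun g hg =>
      ⟨isCoatom_conj hM g, zpowers_le.2 (mem_conj_Ms_of_mem_conj hM hx hg)⟩
    refine ⟨h4.isHallIn_right (h4.coprime_of_left h3), h4, fun g hg => h1 M hMx _ (h5 g hg), ?_⟩
    rw [h2]
    congr 1
    ext L
    refine ⟨fun hL => ⟨?_, (Ms_normal L).le (zpowers_le.1 hL.2)⟩, ?_⟩
    · obtain ⟨r, -, e⟩ := h1 M hMx L hL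
      exact ⟨r, e⟩
    · rintro ⟨⟨g, rfl⟩, hg⟩
      exact h5 g hg

/-- for a group of type `𝓟` the complement `W₁` is a Hall `κ(M)`-subgroup (part of Lemma 16.1) -/
theorem typePfacts {M U W W1 W2 : Subgroup G} (hM : IsCoatom M) (h : OfTypeP M U W W1 W2) :
    TypePMax M ∧ Hall (kappaS M) W1 M ∧ Ms M ⊓ 𝐂(W1) = W2 ∧ Fcore M ⊓ 𝐂(W1) = W2 ∧
    (TypeP1Max M ↔ U = ⊥ ∨ 𝐍(U) ≤ M) ∧
    (Ms M = der M → (Fcore M = Ms M ↔ U = ⊥) ∧ (der (Ms M) ≤ Fcore M ↔ Ab U)) := by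
  have hF := Fcore_sub_Msigma hM
  have hcent : ∀ H, W2 ≤ H → H ≤ der M → H ⊓ 𝐂(W1) = W2 := fun H h1 h2 => by
    obtain ⟨x, hx, hx1⟩ := exists_mem_ne_one h.W1_ne_bot
    exact le_antisymm (h.prime_act x hx hx1 ▸ inf_le_inf h2 (cent_le_cent1 hx)) (le_inf h1 h.defW.le_cent)
  have hW2 := hcent _ (h.W2_le.trans hF) (Msigma_der1 hM)
  have hP : TypePMax M := by
    obtain ⟨p, hp, hd⟩ := exists_prime_dvd h.W1_ne_bot
    have := Fact.mk hp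
    obtain ⟨P, hP⟩ := exists_isEp_one hd
    have h1 : ¬ p ∣ ♯(der M) := fun h1 =>
      hp.one_lt.ne' (Nat.eq_one_of_dvd_coprimes (h.defM.coprime_of_right h.hallW1) h1 hd)
    have h2 : rp p M = 1 := by
      rw [← rp_hall h.hallW1.hall ⟨hp, hd⟩]
      exact le_antisymm (rp_le_one_of_isCyclic h.cycW1) (rp_pos_iff.2 hd)
    refine (PtypeP hM).2 ⟨p, .inl ⟨hp, fun hs => h1 ?_, h2, h1⟩, P, hP.mono h.hallW1.le,
      fun e => h.W2_ne_bot (eq_bot_iff.2 (e ▸ hW2 ▸ inf_le_inf_left _ (cent_anti hP.le)))⟩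
    exact ((pi_Msigma hM).ge hs).2.trans (card_dvd (Msigma_der1 hM))
  have hK : Hall (kappaS M) W1 M := by
    obtain ⟨K, hK⟩ := exists_hall (kappaS M) (mmax_sol hM)
    simpa only [compl_compl] using h.defM.hall_left_iff.1 (der_kappa_hall hP hK).2
  have hco : (♯(Fcore M)).Coprime ♯U :=
    h.defM'.coprime_of_left ((Fcore_isHallIn M).mono h.defM'.left_le (der_le M))
  refine ⟨hP, hK, hW2, hcent _ h.W2_le h.defM'.left_le, ⟨fun h1 => ?_, fun h1 => ?_⟩,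
    fun e => ⟨e ▸ h.defM'.left_eq_iff, fun h1 => ?_, fun h1 => e ▸ h.defM'.der_le_of_ab h1⟩⟩
  · refine or_iff_not_imp_left.2 fun hU => ?_
    obtain ⟨p, hp, hd⟩ := exists_prime_dvd hU
    have := Fact.mk hp
    have e := P1type_Ms_eq h1
    have hs : p ∈ sigmaS M := (Ms_piGrp M).of_le (h.U_le.trans e.ge) p hp hd
    have hS : Syl p (Op p U) M := (((syl_Op_of_nil p h.nilU).trans_hall
      (h.defM'.isHallIn_right hco).hall ⟨hp, hd⟩).trans_hall (e ▸ Msigma_Hall hM) hs)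
    exact (norm_le_norm_Op p U).trans (norm_sigma_Sylow hs hS)
  · refine hP.P1_or_P2.resolve_right fun h2 => ?_
    obtain ⟨V, hV⟩ := ex_kappa_compl hM hK
    have h3 := ((kappa_structure hM hV).2.1 h.W1_ne_bot).1
    have h4 := h.defM'
    rw [Fcore_eq_Ms_of_notP1 (.inr h2)] at h4
    obtain ⟨g, hg, rfl⟩ := h3.exists_conj h4 ((Ms_piGrp M).coprime hV.U_sigma')
      (.inl (sol_of_le (mmax_sol hM) (Ms_normal M).le))
    rcases h1 with h1 | h1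
    · exact ((trivg_kappa_compl hM hV).1 (conj_eq_bot_iff.1 h1)).not_P2 h2
    · rw [norm_conj, ← conj_eq_of_mem ((Ms_normal M).le hg), conj_le_conj_iff] at h1
      exact kappa_compl_not_norm_le hM hV h.W1_ne_bot h1
  · rw [ab_iff_der, eq_bot_iff, ← h.defM'.inf_eq]
    exact le_inf ((der_mono (h.U_le.trans e.ge)).trans h1) (der_le U)

end Cfsg.Agent.OO
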