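import Cfsg.Agent.Lib.OO.BG2
import Cfsg.Agent.Lib.OO.QuoA
import Cfsg.Agent.Lib.Mod.FitReduce
import Cfsg.Agent.Lib.Frob.TwoFrob
import Cfsg.Agent.S3769
import Cfsg.Agent.S3770

/-! # B&G section 3, first part -/

set_option autoImplicit false
set_option linter.unusedSectionVars false
set_option linter.unusedVariables false

namespace Cfsg.Agent.OO.Pf

open Subgroup Module Polynomial Cfsg.Agent.Coprime Cfsg.Agent.Mod
open scoped Pointwise commutatorElement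

universe u v w

variable {G : Type u} [Group G] [Finite G]

variable {H K L M N R R0 V : Subgroup G} {p q k : ℕ}

theorem semiregular_iff_fpf :
    Semiregular K R ↔ ∀ h ∈ R, h ≠ 1 → ∀ x ∈ K, h * x = x * h → x = 1 :=
  ⟨fun h a ha h1 x hx e => mem_bot.1 (h a ha h1 ▸ mem_inf.2 ⟨hx, mem_cent1.2 e.symm⟩),
    fun h a ha h1 => eq_bot_iff.2 fun x hx => h a ha h1 x hx.1 (mem_cent1.1 hx.2).symm⟩

theorem Frobenius_semiregularP (h : IsSdprod K R L) (hK : K ≠ ⊥) (hR : R ≠ ⊥) :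
    IsFrob L K R ↔ Semiregular K R :=
  ⟨fun h => semiregular_iff_fpf.2 h.1.fpf,
    fun h' => ⟨⟨h.le_norm, hK, hR, semiregular_iff_fpf.1 h'⟩, h.sup_eq⟩⟩

theorem IsFrob.sdprod (h : IsFrob L K R) : IsSdprod K R L :=
  ⟨h.2, h.1.le_normalizer, h.1.inf_eq_bot⟩

theorem IsFrob.semiregular (h : IsFrob L K R) : Semiregular K R := semiregular_iff_fpf.2 h.1.fpf

theorem semiregular_sym (h : Semiregular K R) : Semiregular R K :=
  semiregular_iff_fpf.2 fun x hx h1 a ha e => by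
    by_contra h2
    exact h1 (semiregular_iff_fpf.1 h a ha h2 x hx e.symm)

theorem IsFrob.semiregular_sym (h : IsFrob L K R) : Semiregular R K :=
  Pf.semiregular_sym (IsFrob.semiregular h)

theorem IsFrob.coprime (h : IsFrob L K R) : (♯K).Coprime ♯R := h.1.coprime

theorem IsFrob.dvd_pred (h : IsFrob L K R) : ♯R ∣ ♯K - 1 := h.1.card_dvd

theorem IsFrob.cent1_ker (h : IsFrob L K R) {x : G} (hx : x ∈ K) (h1 : x ≠ 1) : L ⊓ 𝐂[x] ≤ K :=
  fun _ hy => h.1.mem_left_of_commute (h.2.ge hy.1) hx h1 (mem_cent1.1 hy.2)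

theorem IsFrob.cent1_compl (h : IsFrob L K R) {x : G} (hx : x ∈ R) (h1 : x ≠ 1) : L ⊓ 𝐂[x] ≤ R :=
  fun _ hy => h.1.mem_right_of_commute (h.2.ge hy.1) hx h1 (mem_cent1.1 hy.2)

theorem IsFrob.mem_conj (h : IsFrob L K R) {x : G} (hx : x ∈ L) (h1 : x ∉ K) :
    ∃ k ∈ K, x ∈ k •ᶜ R :=
  let ⟨y, hy, e⟩ := h.1.exists_conj_mem (h.2.ge hx) h1
  ⟨y, hy, OO.mem_conj.2 e⟩

theorem IsFrob.normedTI (h : IsFrob L K R) : NormedTI (sharp R) L R := by
  obtain ⟨x, hx, h1⟩ := (Subgroup.bot_or_exists_ne_one R).resolve_left h.1.right_ne_bot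
  refine ⟨⟨x, hx, h1⟩, (IsFrob.sdprod h).right_le, fun x hx a ha =>
    ⟨R.mul_mem (R.mul_mem hx ha.1) (R.inv_mem hx), fun e => ha.2 (by simpa using e)⟩,
    fun g hg a ha hc => ?_⟩
  exact inv_mem_iff.1 (h.1.mem_right_of_conj_mem (h.2.ge (L.inv_mem hg)) ha.1 ha.2
    (by rw [inv_inv]; exact hc.1))

theorem IsFrob.commg (h : IsFrob L K R) : ⁅K, R⁆ = K := by
  obtain ⟨x, hx, h1⟩ := (Subgroup.bot_or_exists_ne_one R).resolve_left h.1.right_ne_bot
  refine le_antisymm (IsFrob.sdprod h).commutator_le fun g hg => ?_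
  obtain ⟨y, hy, e⟩ := h.1.exists_conj_eq hx h1 hg
  rw [← mul_inv_eq_iff_eq_mul.2 e]
  exact commutator_mem_commutator hy hx

theorem IsFrob.conj (h : IsFrob L K R) (g : G) : IsFrob (g •ᶜ L) (g •ᶜ K) (g •ᶜ R) :=
  ⟨h.1.map_of_injective _ (conj_injective g), by rw [← conj_sup, h.2]⟩

theorem IsFrob.subl (h : IsFrob L K R) {K1 : Subgroup G} (h1 : K1 ≠ ⊥) (hle : K1 ≤ K)
    (hn : R ≤ 𝐍(K1)) : IsFrob (K1 ⊔ R) K1 R :=
  ⟨h.1.mono hle le_rfl hn h1 h.1.right_ne_bot, rfl⟩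

theorem IsFrob.subr (h : IsFrob L K R) {R1 : Subgroup G} (h1 : R1 ≠ ⊥) (hle : R1 ≤ R) :
    IsFrob (K ⊔ R1) K R1 :=
  ⟨h.1.mono le_rfl hle (hle.trans h.1.le_normalizer) h.1.left_ne_bot h1, rfl⟩

theorem IsFrob.compl_conj (h : IsFrob L K R) {R1 : Subgroup G} (h1 : IsSdprod K R1 L) :
    IsFrob L K R1 := by
  refine ⟨⟨h1.le_norm, h.1.left_ne_bot, fun e => h.1.right_ne_bot ?_, fun a ha a1 x hx e => ?_⟩,
    h1.sup_eq⟩
  · exact (IsFrob.sdprod h).left_eq_iff.1 (h1.left_eq_iff.2 e)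
  · by_contra x1
    exact a1 (mem_bot.1 (h1.inf_eq ▸ mem_inf.2
      ⟨IsFrob.cent1_ker h hx x1 ⟨h1.right_le ha, mem_cent1.2 e⟩, ha⟩))

theorem Frobenius_kerP : IsFrobKer L K ↔
    K ≠ ⊥ ∧ K < L ∧ K ⊴ L ∧ ∀ x ∈ K, x ≠ 1 → L ⊓ 𝐂[x] ≤ K := by
  constructor
  · rintro ⟨R, h⟩
    exact ⟨h.1.left_ne_bot, (IsFrob.sdprod h).left_le.lt_of_ne
      fun e => h.1.right_ne_bot ((IsFrob.sdprod h).left_eq_iff.1 e), (IsFrob.sdprod h).normal,
      fun x => IsFrob.cent1_ker h⟩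
  · rintro ⟨h0, h1, h2, h3⟩
    haveI := Core.normal_subgroupOf_of_le_normalizer h2.2
    obtain ⟨R, h4, h5⟩ := Frob.exists_isFrobPair_of_centralizer_le (N := K.subgroupOf L)
      (fun e => h0 ((subgroupOf_eq_bot_iff h1.le).1 e)) (fun e => h1.not_ge (subgroupOf_eq_top.1 e))
      fun x hx x1 y hy => h3 x hx (fun e => x1 (Subtype.ext e))
        ⟨y.2, mem_cent1.2 (congrArg Subtype.val (mem_cent1.1 hy))⟩
    have h6 := h4.map_of_injective _ L.subtype_injective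
    have h7 := congrArg (Subgroup.map L.subtype) h5
    rw [map_subgroupOf_eq_of_le h1.le] at h6
    rw [Subgroup.map_sup, map_subgroupOf_eq_of_le h1.le, ← MonoidHom.range_eq_map,
      range_subtype] at h7
    exact ⟨_, h6, h7⟩

theorem regular_norm_dvd_pred (hn : R ≤ 𝐍(K)) (h : Semiregular K R) : ♯R ∣ ♯K - 1 :=
  Frob.card_dvd_card_sub_one_of_fpf hn (semiregular_iff_fpf.1 h)

theorem regular_norm_coprime (hn : R ≤ 𝐍(K)) (h : Semiregular K R) : (♯K).Coprime ♯R := by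
  refine Nat.Coprime.coprime_dvd_right (regular_norm_dvd_pred hn h) ?_
  have : 1 ≤ ♯K := Nat.card_pos
  exact (Nat.coprime_self_sub_right this).2 (Nat.coprime_one_right _)

theorem semiregular_prime (hp : (♯R).Prime) (h : K ⊓ 𝐂(R) = ⊥) : Semiregular K R :=
  fun x hx h1 => by
    rwa [← cent_zpowers, ((zpowers x).eq_of_le_of_card_ge (zpowers_le.2 hx) (Nat.le_of_eq
      ((Nat.dvd_prime hp).1 (card_dvd_of_le (zpowers_le.2 hx)) |>.resolve_left
        fun e => h1 (zpowers_eq_bot.1 (card_eq_one.1 e))).symm))]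

theorem prime_FrobeniusP (h : IsSdprod K R L) (hK : K ≠ ⊥) (hp : (♯R).Prime) :
    IsFrob L K R ↔ K ⊓ 𝐂(R) = ⊥ := by
  have hR : R ≠ ⊥ := ne_bot_of_prime_dvd hp dvd_rfl
  refine (Frobenius_semiregularP h hK hR).trans ⟨fun h => ?_, semiregular_prime hp⟩
  obtain ⟨x, hx, h1⟩ := (Subgroup.bot_or_exists_ne_one R).resolve_left hR
  exact le_bot_iff.1 (h x hx h1 ▸ inf_le_inf_left K (cent_le_cent1 hx))

theorem Frobenius_quotient (h : IsFrob L K R) (hN : N ⊴ L) (hK : ¬ K ≤ N) :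
    IsFrob (L ⁒ N) (K ⁒ N) (R ⁒ N) := by
  have h1 := (IsFrob.sdprod h).left_le.trans hN.2
  have h2 := (IsFrob.sdprod h).right_le.trans hN.2
  refine ⟨(h.1.subgroupOf h1 h2).map (cosetHom N) fun e => hK ?_, by rw [← quo_sup h1 h2, h.2]⟩
  exact (quo_eq_bot_iff h1).1 ((Subgroup.map_eq_bot_iff _).2 e)

theorem Frobenius_proper_quotient (h : IsFrob L K R) (hN : N ⊴ L) (hlt : N < K) :
    IsFrob (L ⁒ N) (K ⁒ N) (R ⁒ N) :=
  Frobenius_quotient h hN hlt.not_ge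

theorem Frobenius_normal_proper_ker (h : IsFrob L K R) (hN : N ⊴ L) (hK : ¬ K ≤ N) : N < K := by
  refine lt_of_le_not_ge ?_ hK
  by_contra h1
  exact hK (h.1.left_le_of_not_le (hN.1.trans h.2.ge) ((IsFrob.sdprod h).left_le.trans hN.2) h1)

theorem Frobenius_sol_kernel_nil (h : IsFrob L K R) : Nil K :=
  Transfer.isNilpotent_of_isFrobPair h.1

theorem prime_Frobenius_sol_kernel_nil (hn : R ≤ 𝐍(K)) (hp : (♯R).Prime) (hC : K ⊓ 𝐂(R) = ⊥) :
    Nil K :=
  isNilpotent_of_fpf_of_card_dvd_prime hn hC hp dvd_rfl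

section Core

variable {F W : Type*} [Field F] [AddCommGroup W] [Module F W] [FiniteDimensional F W]
  [IsAlgClosed F] {ρ : Representation F G W}

theorem commutator_le_ker_of_fix_eq_bot (hK : ((♯K : ℕ) : F) ≠ 0) (ho : Odd ♯K) (hn : R ≤ 𝐍(K))
    (hc : (♯K).Coprime ♯R) (hp : (♯R).Prime) (h0 : fix ρ R = ⊥) : ⁅R, K⁆ ≤ ρ.ker := by
  by_contra hne
  obtain ⟨x, rfl, hx⟩ := exists_zpowers_eq_of_prime_card hp rfl
  obtain ⟨q, hq, Q, hQK, hQ, h1, i, hi, d, hd, h2, -⟩ := hallHigman_of_coprime (ρ := ρ) (n := 0) hK hp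
    (hp.coprime_iff_not_dvd.1 hc.symm) (hn (mem_zpowers x)) (by simpa using hx) (fun h => hne (by
      rw [commutator_comm, commutator_le]
      intro g hg a ha
      refine Reg.commutator_mem_of_closure_right (T := {x}) (fun t ht => ?_) (fun t ht => ?_)
        (zpowers_eq_closure x ▸ ha)
      · exact le_normalizer_of_normal (K := ⊤) trivial
      · simpa [Set.mem_singleton_iff.1 ht] using h g hg)) (geom_ne_zero hp.ne_zero)
    (aeval_geom_eq_zero (by rw [← hx, pow_orderOf_eq_one, map_one]) h0)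
    ((natDegree_geom_le _).trans_lt (by simpa using Nat.sub_one_lt hp.ne_zero))
  obtain rfl : i = 0 := by omega
  rw [zero_add, Nat.sub_zero, pow_one] at h2
  obtain rfl := eq_two_of_pow_add_one_eq_prime hq hp h2 hd
  have := (dvd_card_of_isPGroup hQ fun h => h1 (by simp [h])).trans (card_dvd_of_le hQK)
  exact (Nat.not_even_iff_odd.2 ho) (even_iff_two_dvd.2 this)

end Core

section Repr
variable {F : Type v} {W : Type w} [Field F] [AddCommGroup W] [Module F W] [FiniteDimensional F W]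

theorem card_subgroupOf_ne_zero (h : K ≤ L) (hK : ((♯K : ℕ) : F) ≠ 0) :
    ((♯(K.subgroupOf L) : ℕ) : AlgebraicClosure F) ≠ 0 :=
  natCast_algebraicClosure_ne_zero (by rwa [Core.card_subgroupOf_of_le h])

theorem Frobenius_rfix_compl (ρ : Representation F L W) (h : IsFrob L K R) (hK : ((♯K : ℕ) : F) ≠ 0)
    (hk : ¬ K ≤ rker ρ) : rfix ρ R ≠ ⊥ := by
  intro h0
  have h1 := (IsFrob.sdprod h).left_le
  have h2 := h.1.subgroupOf h1 (IsFrob.sdprod h).right_le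
  have h3 := card_subgroupOf_ne_zero h1 hK
  have h4 := isInv_cmt (ρ := bc (AlgebraicClosure F) ρ) h2.le_normalizer
  refine (isFreeOn_of_fpf' (sol_of_nil (Transfer.isNilpotent_of_isFrobPair h2)) h3 h2.le_normalizer
    h2.fpf (isInv_cmt le_normalizer) h4 (isCompl_fix_cmt h3).symm.inf_eq_bot).inf_fix_ne_bot h4
    (fun e => hk ?_) (by rw [fix_bc_eq_bot _ ((rfix_eq R).symm.trans h0), inf_bot_eq])
  rw [le_rker_iff h1, ← ker_bc (AlgebraicClosure F)]
  exact fix_eq_top_iff.1 (eq_top_of_isCompl_bot (e ▸ isCompl_fix_cmt h3))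

theorem odd_prime_sdprod_rfix0 (ρ : Representation F L W) (h : IsSdprod K R L) (hs : Sol L)
    (ho : Odd ♯L) (hc : (♯K).Coprime ♯R) (hp : (♯R).Prime) (hF : ((♯L : ℕ) : F) ≠ 0)
    (h0 : rfix ρ R = ⊥) : ⁅R, K⁆ ≤ rker ρ := by
  rw [le_rker_iff (commutator_le_of_le h.right_le h.left_le), ← ker_bc (AlgebraicClosure F),
    ← commutator_subgroupOf h.right_le h.left_le]
  refine commutator_le_ker_of_fix_eq_bot
    (card_subgroupOf_ne_zero h.left_le (card_ne_zero_of_le hF h.left_le)) ?_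
    (subgroupOf_le_normalizer h.le_norm) ?_ ?_ (fix_bc_eq_bot _ ((rfix_eq R).symm.trans h0)) <;>
  simp only [Core.card_subgroupOf_of_le h.left_le, Core.card_subgroupOf_of_le h.right_le, hp]
  exacts [ho.of_dvd_nat (card_dvd_of_le h.left_le), hc]

theorem Frobenius_prime_rfix1 (ρ : Representation F L W) (h : IsSdprod K R L) (hs : Sol L)
    (hp : (♯R).Prime) (hC : K ⊓ 𝐂(R) = ⊥) (hF : ((♯L : ℕ) : F) ≠ 0)
    (h1 : Module.finrank F (rfix ρ R) = 1) : der K ≤ rker ρ := by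
  by_cases hK : K = ⊥
  · simp [hK]
  rw [le_rker_iff ((der_le K).trans h.left_le), ← ker_bc (AlgebraicClosure F), der,
    ← commutator_subgroupOf h.left_le h.left_le]
  exact S3770.aux (((prime_FrobeniusP h hK hp).2 hC).1.subgroupOf h.left_le h.right_le)
    (card_subgroupOf_ne_zero h.left_le (card_ne_zero_of_le hF h.left_le))
    (by rwa [Core.card_subgroupOf_of_le h.right_le]) (by rw [finrank_fix_bc, ← rfix_eq, h1])

end Repr

theorem card_abelem_eq [hk' : Fact k.Prime] (h : IsFrob L K R) (hV : IsElementaryAbelian k V)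
    (hn : L ≤ 𝐍(V)) (hk : ¬ k ∣ ♯K) : ♯⁅V, K⁆ = ♯(⁅V, K⁆ ⊓ 𝐂(R)) ^ ♯R := by
  have h1 := (IsFrob.sdprod h).left_le.trans hn
  have h2 := commutator_le_left' h1
  refine card_eq_pow_of_fpf hk'.out (Core.isElementaryAbelian_of_le hV h2)
    (sol_of_nil (Frobenius_sol_kernel_nil h)) hk (le_norm_commutator_right _ _)
    (le_norm_commutator ((IsFrob.sdprod h).right_le.trans hn) h.1.le_normalizer) h.1.le_normalizer
    h.1.fpf (coprime_abel_cent_TI h1 (Core.coprime_card_of_isPGroup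
      (Core.isPGroup_of_isElementaryAbelian hV) (hk'.out.coprime_iff_not_dvd.2 hk).symm) hV.1)

theorem Frobenius_cent_compl_ne_bot [hk' : Fact k.Prime] (h : IsFrob L K R)
    (hV : IsElementaryAbelian k V) (hn : L ≤ 𝐍(V)) (hk : ¬ k ∣ ♯K) (hK : ¬ K ≤ 𝐂(V)) :
    V ⊓ 𝐂(R) ≠ ⊥ := fun h0 => by
  have h1 := card_abelem_eq h hV hn hk
  rw [le_bot_iff.1 ((inf_le_inf_right _
    (commutator_le_left' ((IsFrob.sdprod h).left_le.trans hn))).trans h0.le), card_bot, one_pow] at h1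
  exact hK (commutator_eq_bot_iff'.1 (card_eq_one.1 h1))

theorem isFC_of_semiregular (hH : H ≠ ⊥) (hn : R ≤ 𝐍(H)) (h : Semiregular H R) : Frob.IsFC R :=
  Frob.isFC_of_fpf hn hH (semiregular_iff_fpf.1 h)

theorem regular_pq_group_cyclic (hp : p.Prime) (hq : q.Prime) (hpq : p ≠ q) (hR : ♯R = p * q)
    (hH : H ≠ ⊥) (hn : R ≤ 𝐍(H)) (h : Semiregular H R) : IsCyclic R := by
  by_contra hc
  refine hc ((isFC_of_semiregular hH hn h).isCyclic_of_forall_prime fun x x1 => ?_)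
  obtain ⟨a, b, ha, hb, e⟩ := exists_dvd_and_dvd_of_dvd_mul (hR ▸ orderOf_dvd_natCard x)
  rcases (Nat.dvd_prime hp).1 ha with rfl | rfl <;> rcases (Nat.dvd_prime hq).1 hb with rfl | rfl
  · exact (x1 (orderOf_eq_one_iff.1 e)).elim
  · rwa [e, one_mul]
  · rwa [e, mul_one]
  · exact (hc (isCyclic_of_orderOf_eq_card x (e.trans hR.symm))).elim

theorem odd_prime_sdprod_abelem_cent1 [hk' : Fact k.Prime] (hs : Sol L) (ho : Odd ♯L)
    (h : IsSdprod K R L) (hc : (♯K).Coprime ♯R) (hp : (♯R).Prime) (hV : IsElementaryAbelian k V)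
    (hn : L ≤ 𝐍(V)) (hk : ¬ k ∣ ♯L) (h0 : V ⊓ 𝐂(R) = ⊥) : ⁅R, K⁆ ≤ K ⊓ 𝐂(V) :=
  le_inf (commutator_le_right' h.le_norm) (S3769.result L hs ho V hk'.out hV hk hn K R h.left_le
    h.normal.2 (h.relIndex_left ▸ hc) h.right_le hp h.inf_eq h.sup_eq h0)

theorem Frobenius_prime_cent_prime [hk' : Fact k.Prime] (hs : Sol L) (h : IsSdprod K R L)
    (hp : (♯R).Prime) (hC : K ⊓ 𝐂(R) = ⊥) (hV : IsElementaryAbelian k V) (hn : L ≤ 𝐍(V))
    (hk : ¬ k ∣ ♯L) (h1 : ♯(V ⊓ 𝐂(R)) = k) : der K ≤ K ⊓ 𝐂(V) := by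
  by_cases hK : K = ⊥
  · simp [hK]
  have hKV := h.left_le.trans hn
  have hRV := h.right_le.trans hn
  obtain ⟨W, _, _, _, ρ, ι, hl⟩ := exists_isLin_normalizer (AlgebraicClosure (ZMod k)) hV
  haveI := Core.normal_subgroupOf_of_le_normalizer (le_refl 𝐍(V))
  have h2 := S3770.aux (ρ := ρ) (((prime_FrobeniusP h hK hp).2 hC).1.subgroupOf hKV hRV)
    (natCast_ne_zero_of_not_dvd _ fun e => hk (e.trans (by
      rw [Core.card_subgroupOf_of_le hKV]; exact card_dvd_of_le h.left_le)))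
    (by rwa [Core.card_subgroupOf_of_le hRV]) (by
      have := hl.card_fix (R.subgroupOf _)
      rw [card_inf_centralizer_subgroupOf hRV le_normalizer, h1] at this
      exact (Nat.pow_right_injective hk'.out.two_le (this.symm.trans (pow_one k).symm)).le)
  rw [hl.ker_eq, commutator_subgroupOf hKV hKV, centralizer_subgroupOf le_normalizer] at h2
  exact fun x hx => ⟨der_le K hx, h2 (x := ⟨x, hKV (der_le K hx)⟩) hx⟩

theorem odd_regular_Zgroup (ho : Odd ♯R) (hH : H ≠ ⊥) (hn : R ≤ 𝐍(H)) (h : Semiregular H R) :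
    IsZGroup R :=
  (isFC_of_semiregular hH hn h).isZGroup_of_odd ho.not_two_dvd_nat

theorem odd_regular_pgroup_cyclic [Fact p.Prime] (hR : IsPGroup p R) (ho : Odd ♯R) (hH : H ≠ ⊥)
    (hn : R ≤ 𝐍(H)) (h : Semiregular H R) : IsCyclic R :=
  isCyclic_of_isZGroup_of_isPGroup (odd_regular_Zgroup ho hH hn h) le_rfl hR

theorem abelian_regular_cyclic (hab : Ab R) (hH : H ≠ ⊥) (hn : R ≤ 𝐍(H)) (h : Semiregular H R) :
    IsCyclic R :=
  (isFC_of_semiregular hH hn h).isCyclic_of_comm hab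

theorem odd_regular_metacyclic (ho : Odd ♯R) (hH : H ≠ ⊥) (hn : R ≤ 𝐍(H)) (h : Semiregular H R) :
    IsMetacyclic R :=
  Zgroup_metacyclic (odd_regular_Zgroup ho hH hn h)

theorem odd_regular_prime_normal (ho : Odd ♯R) (hH : H ≠ ⊥) (hn : R ≤ 𝐍(H)) (h : Semiregular H R)
    (h0 : R0 ≤ R) (hp : (♯R0).Prime) : R0 ⊴ R := by
  have hZ := odd_regular_Zgroup ho hH hn h
  have hc := (Zgroup_der_cyclic hZ).1
  have hD : R ≤ 𝐍(der R) := le_normalizer.trans (norm_le_norm_der R)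
  haveI := Fact.mk hp
  have hP : IsPGroup (♯R0) R0 := isPGroup_of_card_prime_pow (pow_one _).symm
  have h1 : R0 ≤ 𝐂(der R) := by
    by_cases hd : ♯R0 ∣ ♯(der R)
    · exact (((Zgroup_der1_Hall hZ).hall.le_of_normal_hall hD h0
        (piGrp_of_isPGroup hP ⟨hp, hd⟩)).trans (ab_of_isCyclic hc).le_cent)
    refine coprime_abelian_faithful_Ohm1 (h0.trans hD) (hp.coprime_iff_not_dvd.2 hd).symm
      (ab_of_isCyclic hc) fun x hx hx' => ?_
    obtain ⟨a, rfl, ha⟩ := exists_zpowers_eq_of_prime_card hp rfl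
    have haR := h0 (mem_zpowers a)
    rw [cent_zpowers, mem_cent1]
    refine congrArg Subtype.val ((isFC_of_semiregular hH hn h).commute_of_prime (a := ⟨a, haR⟩)
      (b := ⟨x, der_le R hx⟩) (by rwa [← orderOf_coe, ha]) (by rwa [← orderOf_coe]) ?_).symm
    rw [← zpowers_subgroupOf]
    exact mem_normalizer_subgroupOf (norm_le_norm_of_isCyclic hc (zpowers_le.2 hx) (hD haR))
  have h2 : Ab (R0 ⊔ der R) := ab_sup (ab_of_isCyclic (isCyclic_of_prime_card rfl))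
    (ab_of_isCyclic hc) h1
  have h3 := sup_le h0 (der_le R)
  exact ⟨h0, (le_norm_of_der_le le_sup_right h3).trans (norm_le_norm_of_isCyclic
    (isCyclic_of_isZGroup_of_nil (isZGroup_of_le hZ h3) (nil_of_ab h2)) le_sup_left)⟩

end Cfsg.Agent.OO.Pf
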