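import Cfsg.Agent.Lib.OO.Pf.BG3_A

/-! # B&G section 3: Wielandt's formula, theorems 3.8 and 3.10 -/

set_option autoImplicit false
set_option linter.unusedSectionVars false
set_option linter.unusedVariables false

namespace Cfsg.Agent.OO.Pf

open Subgroup Module Polynomial Cfsg.Agent.Coprime Cfsg.Agent.Mod
open scoped Pointwise commutatorElement

universe u v w

variable {G : Type u} [Group G] [Finite G]

variable {A H K L M N R R0 V : Subgroup G} {p q k : ℕ}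

theorem exists_minnormal_le_bg3 (hM : M ≠ ⊥) (hn : L ≤ 𝐍(M)) : ∃ V ≤ M, IsMinNormalBy V L := by
  obtain ⟨V, hV, ⟨h1, h2⟩, h3⟩ := Core.exists_minimal_le (H := M)
    (P := fun X => X ≠ ⊥ ∧ L ≤ 𝐍(X)) ⟨hM, hn⟩
  exact ⟨V, hV, h1, h2, fun X hX hXn => or_iff_not_imp_left.2 fun h => h3 X ⟨h, hXn⟩ hX⟩

theorem card_quo_bg3 (h : H ≤ 𝐍(N)) : ♯(H ⁒ N) = N.relIndex H :=
  (Core.card_map_mk_eq_relIndex _ _).trans (relIndex_subgroupOf h)

theorem card_inf_mul_card_quo_bg3 (h : H ≤ 𝐍(N)) : ♯(N ⊓ H) * ♯(H ⁒ N) = ♯H := by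
  rw [card_quo_bg3 h, ← inf_relIndex_right N H, Core.card_mul_relIndex_of_le inf_le_right]

theorem card_quo_of_coprime_bg3 (h : H ≤ 𝐍(N)) (hc : (♯N).Coprime ♯H) : ♯(H ⁒ N) = ♯H := by
  rw [← card_inf_mul_card_quo_bg3 h, Core.inf_eq_bot_of_coprime_card hc, card_bot, one_mul]

theorem card_quo_dvd_bg3 (h : H ≤ 𝐍(N)) : ♯(H ⁒ N) ∣ ♯H :=
  Dvd.intro_left _ (card_inf_mul_card_quo_bg3 h)

theorem card_quo_lt_bg3 (h : N ⊴ H) (h0 : N ≠ ⊥) : ♯(H ⁒ N) < ♯H := by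
  rw [← card_inf_mul_card_quo_bg3 h.2, inf_of_le_left h.1]
  exact lt_mul_left Nat.card_pos ((one_lt_card_iff_ne_bot N).2 h0)

theorem sol_quo_bg3 (h : H ≤ 𝐍(N)) (hs : Sol H) : Sol (H ⁒ N) :=
  Group.isSolvable_of_surjective (quoOnto_surjective h)

theorem card_inf_cent_quo_bg3 (hV : V ⊴ M) (hA : A ≤ 𝐍(V)) (hc : (♯V).Coprime ♯A) (hs : Sol V) :
    ♯(M ⊓ 𝐂(A)) = ♯(V ⊓ 𝐂(A)) * ♯(M ⁒ V ⊓ 𝐂(A ⁒ V)) := by
  rw [← coprime_quotient_cent hV hA hc (Or.inl hs),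
    ← card_inf_mul_card_quo_bg3 (inf_le_left.trans hV.2), ← inf_assoc, inf_of_le_left hV.1]

theorem wielandt_card (h : IsFrob L K R) (hn : L ≤ 𝐍(M)) (hc : (♯M).Coprime ♯L) (hs : Sol M) :
    ♯(M ⊓ 𝐂(L)) ^ ♯R * ♯M = ♯(M ⊓ 𝐂(R)) ^ ♯R * ♯(M ⊓ 𝐂(K)) := by
  induction hm : ♯M using Nat.strong_induction_on generalizing G with | _ m ih
  subst hm
  by_cases hM : M = ⊥
  · simp [hM]
  obtain ⟨V, hVM, hV⟩ := exists_minnormal_le_bg3 hM (sup_le hn le_normalizer)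
  have hsV := sol_of_le hs hVM
  obtain ⟨l, hl, hE⟩ := minnormal_solvable_abelem hV hsV
  haveI := Fact.mk hl
  have hVn : V ⊴ M := ⟨hVM, le_sup_right.trans hV.2.1⟩
  have hL : L ≤ 𝐍(V) := le_sup_left.trans hV.2.1
  have hKL := (IsFrob.sdprod h).left_le
  have hRL := (IsFrob.sdprod h).right_le
  have hcV : ∀ X ≤ L, (♯V).Coprime ♯X := fun X hX =>
    (hc.coprime_dvd_left (card_dvd_of_le hVM)).coprime_dvd_right (card_dvd_of_le hX)
  have hF : IsFrob (L ⁒ V) (K ⁒ V) (R ⁒ V) := by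
    refine ⟨(h.1.subgroupOf (hKL.trans hL) (hRL.trans hL)).map (cosetHom V) fun e => ?_,
      by rw [← quo_sup (hKL.trans hL) (hRL.trans hL), h.2]⟩
    exact h.1.left_ne_bot (card_eq_one.1 (by
      rw [← card_quo_of_coprime_bg3 (hKL.trans hL) (hcV K hKL), card_eq_one]
      exact (Subgroup.map_eq_bot_iff _).2 e))
  have h1 := ih _ (card_quo_lt_bg3 hVn hV.1) hF (quo_le_norm V hn)
    ((hc.coprime_dvd_left (card_quo_dvd_bg3 hVn.2)).coprime_dvd_right (card_quo_dvd_bg3 hL))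
    (sol_quo_bg3 hVn.2 hs) rfl
  have h2 := coprime_abelian_cent_dprod (hKL.trans hL) (hcV K hKL) hE.1
  have h3 := (h2.inf_cent (le_norm_commutator (hRL.trans hL) h.1.le_normalizer)
    (le_norm_inf (hRL.trans hL) (le_norm_cent h.1.le_normalizer))).card
  have h4 := card_abelem_eq h hE hL (hl.coprime_iff_not_dvd.1 ((hcV K hKL).coprime_dvd_left
    (dvd_card_of_isPGroup (Core.isPGroup_of_isElementaryAbelian hE) hV.1)))
  rw [inf_assoc V, ← cent_sup, h.2] at h3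
  rw [card_quo_of_coprime_bg3 (hRL.trans hL) (hcV R hRL)] at h1
  rw [card_inf_cent_quo_bg3 hVn hL (hcV L le_rfl) hsV,
    card_inf_cent_quo_bg3 hVn (hRL.trans hL) (hcV R hRL) hsV,
    card_inf_cent_quo_bg3 hVn (hKL.trans hL) (hcV K hKL) hsV, ← card_inf_mul_card_quo_bg3 hVn.2,
    inf_of_le_left hVM, ← h3, ← h2.card, h4, mul_pow, mul_mul_mul_comm, h1]
  simp only [mul_pow]
  ring

theorem Frobenius_Wielandt_fixpoint (h : IsFrob L K R) (hn : L ≤ 𝐍(M)) (hc : (♯M).Coprime ♯L)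
    (hs : Sol M) :
    ♯(M ⊓ 𝐂(L)) ^ ♯R * ♯M = ♯(M ⊓ 𝐂(R)) ^ ♯R * ♯(M ⊓ 𝐂(K)) ∧ (M ⊓ 𝐂(R) = ⊥ → K ≤ 𝐂(M)) ∧
    (M ⊓ 𝐂(K) = ⊥ → ♯M = ♯(M ⊓ 𝐂(R)) ^ ♯R) := by
  have h1 := wielandt_card h hn hc hs
  have h2 : ∀ X ≤ L, M ⊓ 𝐂(X) = ⊥ → M ⊓ 𝐂(L) = ⊥ := fun X hX e =>
    le_bot_iff.1 ((inf_le_inf_left M (cent_anti hX)).trans e.le)
  refine ⟨h1, fun e => ?_, fun e => ?_⟩
  · rw [h2 R (IsFrob.sdprod h).right_le e, e, card_bot, one_pow, one_mul, one_mul] at h1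
    exact le_cent_symm (inf_eq_left.1 (eq_of_le_of_card_le inf_le_left h1.le))
  · rwa [h2 K (IsFrob.sdprod h).left_le e, e, card_bot, one_pow, one_mul, mul_one] at h1

theorem isFrob_quo_of_coprime (h : IsFrob L K R) (hL : L ≤ 𝐍(V)) (hc : (♯V).Coprime ♯K) :
    IsFrob (L ⁒ V) (K ⁒ V) (R ⁒ V) := by
  have hK := (IsFrob.sdprod h).left_le.trans hL
  have hR := (IsFrob.sdprod h).right_le.trans hL
  refine ⟨(h.1.subgroupOf hK hR).map (cosetHom V) fun e => ?_, by rw [← quo_sup hK hR, h.2]⟩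
  exact h.1.left_ne_bot (card_eq_one.1 (by
    rw [← card_quo_of_coprime_bg3 hK hc, card_eq_one]
    exact (Subgroup.map_eq_bot_iff _).2 e))

/-- The complement of a Frobenius group has fixed points on a section moved by the kernel. -/
theorem commutator_le_of_cent_compl_le (h : IsFrob L K R) (hn : L ≤ 𝐍(M)) (hc : (♯M).Coprime ♯L)
    (hs : Sol M) (hV : V ⊴ M) (hL : L ≤ 𝐍(V)) (h0 : M ⊓ 𝐂(R) ≤ V) : ⁅K, M⁆ ≤ V := by
  have hKL := (IsFrob.sdprod h).left_le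
  have hRL := (IsFrob.sdprod h).right_le
  have hcV : ∀ X ≤ L, (♯V).Coprime ♯X := fun X hX =>
    (hc.coprime_dvd_left (card_dvd_of_le hV.1)).coprime_dvd_right (card_dvd_of_le hX)
  rw [← quo_le_cent_iff (hKL.trans hL) hV.2]
  refine (Frobenius_Wielandt_fixpoint (isFrob_quo_of_coprime h hL (hcV K hKL)) (quo_le_norm V hn)
    ((hc.coprime_dvd_left (card_quo_dvd_bg3 hV.2)).coprime_dvd_right (card_quo_dvd_bg3 hL))
    (sol_quo_bg3 hV.2 hs)).2.1 ?_
  rw [← coprime_quotient_cent hV (hRL.trans hL) (hcV R hRL) (Or.inl (sol_of_le hs hV.1)),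
    quo_eq_bot h0]

theorem der_le_cent_of_isCyclic (h : IsFrob L K R) (hsL : Sol L) (hp : (♯R).Prime) (hn : L ≤ 𝐍(M))
    (hs : Sol M) (hc : (♯M).Coprime ♯L) (hC : M ⊓ 𝐂(K) = ⊥) (hcyc : IsCyclic ↥(M ⊓ 𝐂(R))) :
    der K ≤ 𝐂(M) := by
  induction hm : ♯M using Nat.strong_induction_on generalizing G with | _ m ih
  subst hm
  by_cases hM : M = ⊥
  · simp [hM]
  obtain ⟨V, hVM, hV⟩ := exists_minnormal_le_bg3 hM (sup_le hn le_normalizer)
  have hsV := sol_of_le hs hVM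
  obtain ⟨l, hl, hE⟩ := minnormal_solvable_abelem hV hsV
  haveI := Fact.mk hl
  have hVn : V ⊴ M := ⟨hVM, le_sup_right.trans hV.2.1⟩
  have hL : L ≤ 𝐍(V) := le_sup_left.trans hV.2.1
  have hKL := (IsFrob.sdprod h).left_le
  have hRL := (IsFrob.sdprod h).right_le
  have hcV : ∀ X ≤ L, (♯V).Coprime ♯X := fun X hX =>
    (hc.coprime_dvd_left (card_dvd_of_le hVM)).coprime_dvd_right (card_dvd_of_le hX)
  have hl' : ∀ X ≤ L, ¬ l ∣ ♯X := fun X hX => hl.coprime_iff_not_dvd.1 ((hcV X hX).coprime_dvd_left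
    (dvd_card_of_isPGroup (Core.isPGroup_of_isElementaryAbelian hE) hV.1))
  have h1 := ih _ (card_quo_lt_bg3 hVn hV.1) (isFrob_quo_of_coprime h hL (hcV K hKL))
    (sol_quo_bg3 hL hsL) (by rwa [card_quo_of_coprime_bg3 (hRL.trans hL) (hcV R hRL)])
    (quo_le_norm V hn) (sol_quo_bg3 hVn.2 hs)
    ((hc.coprime_dvd_left (card_quo_dvd_bg3 hVn.2)).coprime_dvd_right (card_quo_dvd_bg3 hL))
    (by rw [← coprime_quotient_cent hVn (hKL.trans hL) (hcV K hKL) (Or.inl hsV), hC, quo_eq_bot bot_le])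
    (by
      rw [← coprime_quotient_cent hVn (hRL.trans hL) (hcV R hRL) (Or.inl hsV)]
      exact isCyclic_of_surjective _ (quoOnto_surjective (inf_le_left.trans hVn.2))) rfl
  rw [← quo_der (hKL.trans hL), quo_le_cent_iff (((der_le K).trans hKL).trans hL) hVn.2,
    commutator_comm] at h1
  refine stable_factor_cent (le_trans ?_ (inf_le_right (a := K))) hVn h1
    (hc.coprime_dvd_right (card_dvd_of_le ((der_le K).trans hKL)))
  refine Frobenius_prime_cent_prime hsL (IsFrob.sdprod h) hp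
    ((prime_FrobeniusP (IsFrob.sdprod h) h.1.left_ne_bot hp).1 h) hE hL (hl' L le_rfl) ?_
  obtain ⟨x, hx⟩ := (Subgroup.isCyclic_iff_exists_zpowers_eq_top _).1
    (isCyclic_of_le' hcyc (inf_le_inf_right _ hVM))
  rw [← hx, Nat.card_zpowers]
  refine orderOf_eq_prime (hE.2 x (hx.le (mem_zpowers x)).1) fun e => ?_
  refine Frobenius_cent_compl_ne_bot h hE hL (hl' K hKL) (fun e => hV.1 ?_)
    (by rw [← hx, e, zpowers_one_eq_bot])
  exact le_bot_iff.1 ((le_inf hVM (le_cent_symm e)).trans hC.le)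

theorem Frobenius_primact (h : IsFrob L K R) (hs : Sol L) (hn : L ≤ 𝐍(M)) (hM : Sol M) (hM1 : M ≠ ⊥)
    (hc : (♯M).Coprime ♯L) (hp : Semiprime M R) (hC : M ⊓ 𝐂(K) = ⊥) :
    (♯R).Prime ∧ ♯M = ♯(M ⊓ 𝐂(R)) ^ ♯R ∧ (IsCyclic ↥(M ⊓ 𝐂(R)) → der K ≤ K ⊓ 𝐂(M)) := by
  have h1 := (Frobenius_Wielandt_fixpoint h hn hc hM).2.2 hC
  have h2 : (♯R).Prime := by
    obtain ⟨r, hr, hd⟩ := Nat.exists_prime_and_dvd (mt card_eq_one.1 h.1.right_ne_bot)
    haveI := Fact.mk hr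
    obtain ⟨x, hx⟩ := exists_prime_orderOf_dvd_card' r hd
    rw [← orderOf_coe] at hx
    have x1 : (x : G) ≠ 1 := fun e => hr.one_lt.ne' (by rw [← hx, e, orderOf_one])
    have h3 : K ⊔ zpowers (x : G) ≤ L :=
      sup_le (IsFrob.sdprod h).left_le ((zpowers_le.2 x.2).trans (IsFrob.sdprod h).right_le)
    have h4 := (Frobenius_Wielandt_fixpoint (IsFrob.subr h (mt zpowers_eq_bot.1 x1)
      (zpowers_le.2 x.2)) (h3.trans hn) (hc.coprime_dvd_right (card_dvd_of_le h3)) hM).2.2 hC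
    rw [cent_zpowers, hp x x.2 x1, Nat.card_zpowers, hx, h1] at h4
    rwa [Nat.pow_right_injective ((one_lt_card_iff_ne_bot _).2 fun e => hM1
      (card_eq_one.1 (by rw [h1, e, card_bot, one_pow]))) h4]
  exact ⟨h2, h1, fun h3 => le_inf (der_le K) (der_le_cent_of_isCyclic h hs h2 hn hM hc hC h3)⟩

theorem commutator_le_cent_of_isMinNormal [K.Normal] (hs : Sol K) (ho : Odd ♯K)
    (hc : (♯K).Coprime ♯R) (hp : (♯R).Prime) (hV : Core.IsMinNormal V) {l : ℕ} (hl : l.Prime)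
    (hE : IsElementaryAbelian l V) (h0 : V ⊓ 𝐂(R) = ⊥) : ⁅K, R⁆ ≤ 𝐂(V) := by
  haveI := Fact.mk hl
  haveI := hV.normal
  obtain ⟨W, _, _, _, ρ, ι, hl'⟩ := exists_isLin (AlgebraicClosure (ZMod l)) hE
  let π := QuotientGroup.mk' ρ.ker
  have hπ := QuotientGroup.mk'_surjective ρ.ker
  haveI : (K.map π).Normal := Normal.map inferInstance π hπ
  have h1 := pCore_eq_bot_of_ker_eq hV (Core.isPGroup_of_isElementaryAbelian hE) hπ
    ((QuotientGroup.ker_mk' _).trans hl'.ker_eq)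
  rw [← hl'.ker_eq, ← Core.map_mk_eq_bot_iff, map_commutator, commutator_eq_bot_iff']
  rcases (Nat.dvd_prime hp).1 (card_map_dvd R π) with h2 | h2
  · exact (card_eq_one.1 h2).le.trans bot_le
  refine le_centralizer_of_forall_pCore (Core.isSolvable_map hs π) (coprime_card_map hc.symm π)
    fun q _ => ?_
  by_cases hq : q = l
  · rw [hq, h1, bot_inf_eq]
    exact bot_le
  have h3 : ♯(pCore q _ ⊓ K.map π) ∣ ♯K := (card_dvd_of_le inf_le_right).trans (card_map_dvd K π)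
  rw [← commutator_eq_bot_iff', ← le_bot_iff, ← (MonoidHom.ker_eq_bot_iff _).2 (kerRep_injective (ρ := ρ))]
  refine commutator_le_ker_of_fix_eq_bot (card_ne_zero_of_isPGroup
    ((Core.isPGroup_pCore q).to_le inf_le_left) (natCast_ne_zero_of_ne _ Fact.out hq))
    (ho.of_dvd_nat h3) le_normalizer_of_normal (h2 ▸ hc.coprime_dvd_left h3) (h2 ▸ hp) ?_
  rw [← le_bot_iff, ← hl'.fix_eq_bot_iff.2 h0]
  exact fun v hv a ha => hv _ (mem_map_of_mem π ha)

theorem commg_sub_Fitting_of_prime (h : IsSdprod K R L) (ho : Odd ♯L) (hs : Sol L)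
    (hc : (♯K).Coprime ♯R) (hp : (♯R).Prime) (hC : Fit K ⊓ 𝐂(R) = ⊥) : ⁅K, R⁆ ≤ Fit K := by
  by_cases hR : R ≤ 𝐂(K)
  · exact (commutator_eq_bot_iff'.2 hR).le.trans bot_le
  have hKL := h.normal
  have h1 : Fit L ≤ K := by
    refine Fit_le_of_forall fun q _ => ?_
    by_cases hq : q = ♯R
    · subst hq
      have h2 : Syl (♯R) R L := ⟨h.right_le, isPGroup_of_card_prime_pow (pow_one _).symm,
        h.relIndex_right ▸ hp.coprime_iff_not_dvd.1 hc.symm⟩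
      have h3 := h2.le_of_normal (Op_normal _ L) (Op_isPGroup _ L)
      rcases (Nat.dvd_prime hp).1 (card_dvd_of_le h3) with e | e
      · exact (card_eq_one.1 e).le.trans bot_le
      · rw [← Core.eq_of_le_of_card_eq h3 e] at hR
        exact (hR (le_cent_of_inf_eq_bot ((Op_le _ L).trans hKL.2) (h.left_le.trans (Op_normal _ L).2)
          (le_bot_iff.1 ((inf_le_inf_right K h3).trans ((inf_comm _ _).trans h.inf_eq).le)))).elim
    · exact (piGrp_singleton (Op_isPGroup q L)).le_of_relIndex (Op_le q L) hKL.2 (by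
        rw [h.relIndex_left, isPiNum_prime hp]
        exact Ne.symm hq)
  have h2 : ⁅K, R⁆ ⊴ L := ⟨h.commutator_le.trans h.left_le,
    h.sup_eq ▸ sup_le (le_norm_commutator_left _ _) (le_norm_commutator_right _ _)⟩
  rw [← Fit_inf_normal hKL]
  refine le_inf (chief_stab_sub_Fitting hs h2 fun U V hUV hU => ?_) h.commutator_le
  obtain ⟨hlt, hUL, hVL, hmin⟩ := hUV
  haveI := Core.normal_subgroupOf_of_le_normalizer hVL.2
  let π := QuotientGroup.mk' (V.subgroupOf L)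
  have hπ := QuotientGroup.mk'_surjective (V.subgroupOf L)
  have hbot : ∀ X ≤ L, im π X = ⊥ ↔ X ≤ V := fun X hX => by
    rw [Core.map_mk_eq_bot_iff]
    exact ⟨fun e x hx => e (x := ⟨x, hX hx⟩) hx, fun e x hx => e hx⟩
  have hU' : Core.IsMinNormal (im π U) := by
    refine ⟨normal_im π hπ hUL.2, fun e => hlt.not_ge ((hbot U hUL.1).1 e), fun X hX hXU => ?_⟩
    have h3 : V ≤ pre π X := (le_pre π hVL.1).2 (((hbot V hVL.1).2 le_rfl).le.trans bot_le)
    refine (hmin (pre π X ⊓ U) ⟨inf_le_right.trans hUL.1, le_norm_inf (le_normalizer_pre π X) hUL.2⟩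
      (le_inf h3 hlt.le) inf_le_right).imp (fun e => eq_bot_iff.2 fun x hx => ?_)
      fun e => le_antisymm hXU ((le_pre π hUL.1).1 (e.ge.trans inf_le_left))
    obtain ⟨y, hy, rfl⟩ := hXU hx
    exact (QuotientGroup.eq_one_iff y).2 (e.le ⟨(mem_pre π y.2).2 hx, hy⟩)
  have hUK := hU.trans h1
  have hsL : ∀ X ≤ L, Sol (im π X) := fun X hX =>
    Core.isSolvable_map (Core.isSolvable_subgroupOf (sol_of_le hs hX) L) π
  obtain ⟨l, hl, hE⟩ := hU'.exists_isElementaryAbelian (hsL U hUL.1)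
  haveI := normal_im π hπ hKL.2
  have hcR : ♯(im π R) = ♯R := by
    rw [Core.card_map_mk_eq_relIndex, relIndex_subgroupOf h.right_le, ← inf_relIndex_right,
      Core.inf_eq_bot_of_coprime_card (hc.coprime_dvd_left (card_dvd_of_le (hlt.le.trans hUK))),
      relIndex_bot_left]
  rw [← hbot _ (commutator_le_of_le hUL.1 h2.1), im_commutator π hUL.1 h2.1,
    im_commutator π h.left_le h.right_le, commutator_eq_bot_iff']
  refine commutator_le_cent_of_isMinNormal (hsL K h.left_le)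
    (ho.of_dvd_nat ((card_im_dvd π h.left_le).trans (card_dvd_of_le h.left_le)))
    (hcR ▸ hc.coprime_dvd_left (card_im_dvd π h.left_le)) (hcR ▸ hp) hU' hl hE
    (map_inf_centralizer_eq_bot (subgroupOf_le_normalizer (h.right_le.trans hUL.2)) ?_
      (Or.inr (Core.isSolvable_subgroupOf (sol_of_le hs hUL.1) L)) ?_ π)
  · rw [Core.card_subgroupOf_of_le h.right_le, Core.card_subgroupOf_of_le hUL.1]
    exact (hc.coprime_dvd_left (card_dvd_of_le hUK)).symm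
  · rw [inf_centralizer_subgroupOf h.right_le, le_bot_iff.1 ((inf_le_inf_right _
      ((le_inf hU hUK).trans (Fit_inf_normal hKL).le)).trans hC.le), bot_subgroupOf]

theorem odd_sdprod_primact_commg_sub_Fitting (h : IsSdprod K R L) (ho : Odd ♯L) (hs : Sol L)
    (hc : (♯K).Coprime ♯R) (hp : Semiprime K R) (hC : Fit K ⊓ 𝐂(R) = ⊥) : ⁅K, R⁆ ≤ Fit K := by
  by_cases hR : R = ⊥
  · simp [hR]
  obtain ⟨r, hr, hd⟩ := Nat.exists_prime_and_dvd (mt card_eq_one.1 hR)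
  haveI := Fact.mk hr
  obtain ⟨x, hx⟩ := exists_prime_orderOf_dvd_card' r hd
  rw [← orderOf_coe] at hx
  have x1 : (x : G) ≠ 1 := fun e => hr.one_lt.ne' (by rw [← hx, e, orderOf_one])
  have hxR := zpowers_le.2 x.2
  have h1 := sup_le h.left_le (hxR.trans h.right_le)
  have h2 := hc.coprime_dvd_right (card_dvd_of_le hxR)
  have h3 : K ⊓ 𝐂(zpowers (x : G)) = K ⊓ 𝐂(R) := by rw [cent_zpowers, hp x x.2 x1]
  have h4 := commg_sub_Fitting_of_prime (h.mono le_rfl hxR (hxR.trans h.le_norm))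
    (ho.of_dvd_nat (card_dvd_of_le h1)) (sol_of_le hs h1) h2 (by rwa [Nat.card_zpowers, hx])
    (by rw [← hC, ← inf_of_le_left (Fit_le K), inf_assoc, h3, ← inf_assoc])
  have h5 := coprime_cent_prod (hxR.trans h.le_norm) h2 (Or.inl (sol_of_le hs h.left_le))
  rw [h3] at h5
  conv_lhs => rw [← h5]
  exact commutator_sup_le (h5.le.trans (Fit_normal K).2)
    ((commutator_mono h4 le_rfl).trans (commutator_le_left' (le_norm_Fit h.le_norm)))
    ((commutator_eq_bot_iff.2 inf_le_right).le.trans bot_le)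

end Cfsg.Agent.OO.Pf
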