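import Cfsg.Agent.Lib.OO.Pf.BG7_Pre

/-! # B&G section 7: Lemma 7.1 to Theorem 7.4 -/

set_option autoImplicit false
set_option linter.unusedSectionVars false

namespace Cfsg.Agent.OO.Pf

open Subgroup Cfsg.Agent.Coprime B7
open scoped Pointwise

universe u

variable {G : Type u} [Group G] [Finite G]

namespace B7
variable {A B H K P Q R : Subgroup G} {ρ : Set ℕ} {q : ℕ}

theorem IsNormed.conj (h : IsNormed H A ρ Q) (g : G) : IsNormed (g •ᶜ H) (g •ᶜ A) ρ (g •ᶜ Q) :=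
  ⟨conj_mono g h.1, h.2.1.conj g, conj_le_norm_conj.mpr h.2.2⟩

theorem IsMaxNormed.conj (h : IsMaxNormed ⊤ A ρ Q) (g : G) : IsMaxNormed ⊤ (g •ᶜ A) ρ (g •ᶜ Q) := by
  refine ⟨by simpa only [conj_top] using IsNormed.conj h.1 g, fun R hR hle => ?_⟩
  have := h.2 (g⁻¹ •ᶜ R) (by simpa only [conj_top, inv_conj_conj] using IsNormed.conj hR g⁻¹)
    (conj_le_iff_le_inv_conj.mp hle)
  rw [← this, conj_inv_conj]

theorem exists_maxNormed (hR : PiGrp ρ R) (hn : A ≤ 𝐍(R)) : ∃ Q, IsMaxNormed ⊤ A ρ Q ∧ R ≤ Q := by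
  obtain ⟨Q, h1, h2, h3⟩ := Core.exists_maximal_ge (P := IsNormed ⊤ A ρ) (H := R) ⟨le_top, hR, hn⟩
  exact ⟨Q, ⟨h2, h3⟩, h1⟩

theorem IsMaxNormed.eq_of_bot (h : IsMaxNormed ⊤ A ρ ⊥) (hR : PiGrp ρ R) (hn : A ≤ 𝐍(R)) : R = ⊥ :=
  h.2 R ⟨le_top, hR, hn⟩ bot_le

theorem NormTrans.of_bot (h : IsMaxNormed ⊤ A {q} ⊥) : NormTrans K A q := fun Q1 Q2 h1 h2 =>
  ⟨1, one_mem _, by
    rw [one_conj, IsMaxNormed.eq_of_bot h h1.1.2.1 h1.1.2.2, IsMaxNormed.eq_of_bot h h2.1.2.1 h2.1.2.2]⟩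

theorem compl_piOf_of_singleton (hq : q ∉ piOf A) (h : PiGrp {q} Q) : PiGrp (piOf A)ᶜ Q :=
  h.mono (Set.singleton_subset_iff.mpr hq)

theorem coprime_of_compl_piOf (h : PiGrp (piOf A)ᶜ Q) : (♯A).Coprime ♯Q := (piGrp_piOf A).coprime h

variable [MinOdd G]

/-- `O_{π'}(C(A))` contains every `π'`-subgroup of `C(A)` -/
theorem le_K (c : NormedConstrained A) (hB : B ≤ 𝐂(A)) (hπ : PiGrp (piOf A)ᶜ B) :
    B ≤ Opi (piOf A)ᶜ 𝐂(A) := by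
  have hX : A ⊔ 𝐂(A) ≠ ⊤ :=
    ne_top_of_le_ne_top (mFT_norm_proper c.1 c.2.1) (sup_le (le_norm_self A) (cent_le_norm A))
  exact le_opi_of_le (c.2.2 _ B le_sup_left hX
    ⟨hB.trans le_sup_right, hπ, le_norm_of_le_cent (le_cent_symm hB)⟩) hB le_sup_right

end B7

theorem cent_core_acts_max_norm {A Q : Subgroup G} {ρ : Set ℕ} {k : G} (hk : k ∈ 𝐍(A))
    (hQ : IsMaxNormed ⊤ A ρ Q) : IsMaxNormed ⊤ A ρ (k •ᶜ Q) := by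
  simpa only [conj_eq_of_mem_norm hk] using IsMaxNormed.conj hQ k

variable [MinOdd G]

/-- Lemma 7.1 -/
theorem normed_constrained_meet_trans {A : Subgroup G} {q : ℕ} (hq : q.Prime) (cstrA : NormedConstrained A)
    (hqA : q ∉ piOf A) {Q1 Q2 H : Subgroup G} (hAH : A ≤ H) (hH : H ≠ ⊤)
    (h1 : IsMaxNormed ⊤ A {q} Q1) (h2 : IsMaxNormed ⊤ A {q} Q2) (hn1 : Q1 ⊓ H ≠ ⊥) (hn2 : Q2 ⊓ H ≠ ⊥) :
    ∃ k ∈ Opi (piOf A)ᶜ 𝐂(A), Q2 = k •ᶜ Q1 := by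
  have := Fact.mk hq
  induction hm : Nat.card G - ♯(Q1 ⊓ Q2) using Nat.strong_induction_on generalizing Q1 Q2 H with
  | _ m ih =>
  by_cases he : Q1 = Q2
  · exact ⟨1, one_mem _, by rw [one_conj, he]⟩
  have hlt1 : Q1 ⊓ Q2 < Q1 := lt_of_le_of_ne inf_le_left fun e => he (h1.2 _ h2.1 (inf_eq_left.mp e)).symm
  have hlt2 : Q1 ⊓ Q2 < Q2 := lt_of_le_of_ne inf_le_right fun e => he (h2.2 _ h1.1 (inf_eq_right.mp e))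
  obtain ⟨H, hAH, hH, hl1, hl2⟩ : ∃ H : Subgroup G, A ≤ H ∧ H ≠ ⊤ ∧ Q1 ⊓ Q2 < Q1 ⊓ H ∧ Q1 ⊓ Q2 < Q2 ⊓ H := by
    by_cases hb : Q1 ⊓ Q2 = ⊥
    · exact ⟨H, hAH, hH, hb ▸ bot_lt_iff_ne_bot.mpr hn1, hb ▸ bot_lt_iff_ne_bot.mpr hn2⟩
    · exact ⟨𝐍(Q1 ⊓ Q2), le_norm_inf h1.1.2.2 h2.1.2.2,
        mFT_norm_proper hb (mFT_pgroup_proper (h1.1.2.1.inf_left _).isPGroup),
        lt_inf_norm_of_nil (nil_of_isPGroup h1.1.2.1.isPGroup) hlt1,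
        lt_inf_norm_of_nil (nil_of_isPGroup h2.1.2.1.isPGroup) hlt2⟩
  set L := Opi (piOf A)ᶜ H with hL
  have hAL : A ≤ 𝐍(L) := le_norm_Opi _ (le_norm_of_le hAH)
  have hc : (♯A).Coprime ♯L := coprime_of_compl_piOf (Opi_piGrp _ _)
  have hs : Sol A ∨ Sol L := Or.inl (mFT_sol cstrA.2.1)
  have key : ∀ Q, IsMaxNormed ⊤ A {q} Q → ∃ R, Syl q R L ∧ A ≤ 𝐍(R) ∧ Q ⊓ H ≤ R := fun Q hQ => by
    have hn : A ≤ 𝐍(Q ⊓ H) := le_norm_inf hQ.1.2.2 (le_norm_of_le hAH)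
    exact exists_invariant_sylow_ge hAL hc hs
      (cstrA.2.2 H _ hAH hH ⟨inf_le_right, compl_piOf_of_singleton hqA (hQ.1.2.1.inf_left _), hn⟩)
      (hQ.1.2.1.inf_left _).isPGroup hn
  obtain ⟨R1, s1, n1, l1⟩ := key Q1 h1
  obtain ⟨R2, s2, n2, l2⟩ := key Q2 h2
  obtain ⟨h, hh, e⟩ := invariant_sylow_conj hAL hc hs s1 s2 n1 n2
  have e : R2 = h •ᶜ R1 := e
  have hK : h ∈ Opi (piOf A)ᶜ 𝐂(A) :=
    le_K cstrA (B := L ⊓ 𝐂(A)) inf_le_right ((Opi_piGrp _ _).inf_left _) hh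
  have hH' : h ∈ H := Opi_le _ _ hh.1
  obtain ⟨Q3, h3, l3⟩ := exists_maxNormed s2.piGrp n2
  have h1' := cent_core_acts_max_norm (cent_le_norm A hh.2) h1
  have hle : ∀ X : Subgroup G, ♯X ≤ Nat.card G := fun X => card_le_card_group X
  have a1 : h •ᶜ (Q1 ⊓ H) ≤ h •ᶜ Q1 ⊓ Q3 :=
    le_inf (conj_mono h inf_le_left) ((conj_mono h l1).trans (e ▸ l3))
  have a2 : Q2 ⊓ H ≤ Q3 ⊓ Q2 := le_inf (l2.trans l3) inf_le_left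
  have b1 : ♯(Q1 ⊓ Q2) < ♯(h •ᶜ Q1 ⊓ Q3) := ((card_lt hl1).trans_eq (card_conj h _).symm).trans_le (card_le a1)
  have b2 : ♯(Q1 ⊓ Q2) < ♯(Q3 ⊓ Q2) := (card_lt hl2).trans_le (card_le a2)
  have c1 : h •ᶜ Q1 ⊓ H ≠ ⊥ := by
    rw [← conj_eq_of_mem hH', ← conj_inf, Ne, conj_eq_bot_iff]
    exact (bot_le.trans_lt hl1).ne'
  have c2 : Q2 ⊓ H ≠ ⊥ := (bot_le.trans_lt hl2).ne'
  have c3 : Q3 ⊓ H ≠ ⊥ := fun e => c2 (le_bot_iff.mp (e ▸ le_inf (l2.trans l3) inf_le_right))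
  obtain ⟨k1, hk1, e1⟩ := ih _ (by have := hle (h •ᶜ Q1 ⊓ Q3); omega) hAH hH h1' h3 c1 c3 rfl
  obtain ⟨k2, hk2, e2⟩ := ih _ (by have := hle (Q3 ⊓ Q2); omega) hAH hH h3 h2 c3 c2 rfl
  exact ⟨k2 * k1 * h, mul_mem (mul_mem hk2 hk1) hK, by rw [e2, e1, conj_conj, conj_conj]⟩

theorem B7.meet_trans_cent1 {A : Subgroup G} {q : ℕ} (hq : q.Prime) (cstrA : NormedConstrained A)
    (hqA : q ∉ piOf A) {Q1 Q2 : Subgroup G} {z : G} (hz : z ∈ Zc A) (hz1 : z ≠ 1)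
    (h1 : IsMaxNormed ⊤ A {q} Q1) (h2 : IsMaxNormed ⊤ A {q} Q2) (hn1 : Q1 ⊓ 𝐂[z] ≠ ⊥) (hn2 : Q2 ⊓ 𝐂[z] ≠ ⊥) :
    ∃ k ∈ Opi (piOf A)ᶜ 𝐂(A), Q2 = k •ᶜ Q1 :=
  normed_constrained_meet_trans hq cstrA hqA (le_cent1_iff.mpr hz.2) (mFT_cent1_proper hz1) h1 h2 hn1 hn2

/-- Theorem 7.2 -/
theorem normed_constrained_rank3_trans {A : Subgroup G} {q : ℕ} (hq : q.Prime)
    (cstrA : NormedConstrained A) (hqA : q ∉ piOf A) (hr : 3 ≤ rank (Zc A)) :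
    NormTrans (Opi (piOf A)ᶜ 𝐂(A)) A q := by
  by_cases h0 : IsMaxNormed ⊤ A {q} ⊥
  · exact NormTrans.of_bot h0
  intro Q1 Q2 h1 h2
  obtain ⟨p, hp, B, hB⟩ := le_rank_iff.mp hr
  have := Fact.mk hp
  have hBA : B ≤ A := hB.1.trans inf_le_left
  have hc : ∀ Q, IsMaxNormed ⊤ A {q} Q → (♯B).Coprime ♯Q := fun Q hQ =>
    coprime_card_mono (coprime_of_compl_piOf (compl_piOf_of_singleton hqA hQ.1.2.1)) hBA le_rfl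
  obtain ⟨C, hCB, hCi, hC⟩ : ∃ C ≤ B, C.relIndex B = p ∧ Q1 ⊓ 𝐂(C) ≠ ⊥ := by
    by_contra hne
    push Not at hne
    refine h0 (le_bot_iff.mp (le_of_forall_hyperplane hB.2.1.1 hB.2.1.2 (hB.ne_bot (by norm_num))
      (hBA.trans h1.1.2.2) (hc _ h1) fun C hC hi => (hne C hC hi).le) ▸ h1)
  have hC2 : IsEp p 2 C B := by
    refine ⟨hCB, Core.isElementaryAbelian_of_le hB.2.1 hCB, ?_⟩
    have := card_mul_relIndex hCB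
    rw [hCi, hB.2.2, pow_succ] at this
    exact Nat.eq_of_mul_eq_mul_right hp.pos this
  obtain ⟨z, hz, hz1, hz2⟩ := exists_inf_centralizer_ne_bot hC2.2.1.1 (hC2.not_isCyclic le_rfl)
    ((hCB.trans hBA).trans h2.1.2.2) (coprime_card_mono (hc _ h2) hCB le_rfl) (fun e => h0 (e ▸ h2))
  exact meet_trans_cent1 hq cstrA hqA (hB.1 (hCB hz)) hz1 h1 h2
    (fun e => hC (le_bot_iff.mp (e ▸ inf_le_inf_left _ (cent_le_cent1 hz)))) hz2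

/-- Theorem 7.3 -/
theorem normed_constrained_rank2_trans {A : Subgroup G} {q : ℕ} (hq : q.Prime)
    (cstrA : NormedConstrained A) (hqA : q ∉ piOf A) (hqC : q ∣ ♯𝐂(A)) (hr : 2 ≤ rank (Zc A)) :
    NormTrans (Opi (piOf A)ᶜ 𝐂(A)) A q := by
  by_cases h0 : IsMaxNormed ⊤ A {q} ⊥
  · exact NormTrans.of_bot h0
  obtain ⟨p, hp, B, hB⟩ := le_rank_iff.mp hr
  have := Fact.mk hp
  have := Fact.mk hq
  have hBA : B ≤ A := hB.1.trans inf_le_left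
  obtain ⟨R, hR⟩ := exists_syl q 𝐂(A)
  obtain ⟨Q0, hQ0, hRQ⟩ := exists_maxNormed hR.piGrp (le_norm_of_le_cent (le_cent_symm hR.1))
  have key : ∀ Q, IsMaxNormed ⊤ A {q} Q → ∃ k ∈ Opi (piOf A)ᶜ 𝐂(A), Q = k •ᶜ Q0 := fun Q hQ => by
    obtain ⟨z, hz, hz1, hz2⟩ := exists_inf_centralizer_ne_bot hB.2.1.1 (hB.not_isCyclic le_rfl)
      (hBA.trans hQ.1.2.2)
      (coprime_card_mono (coprime_of_compl_piOf (compl_piOf_of_singleton hqA hQ.1.2.1)) hBA le_rfl)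
      (fun e => h0 (e ▸ hQ))
    exact meet_trans_cent1 hq cstrA hqA (hB.1 hz) hz1 hQ0 hQ
      (fun e => hR.ne_bot hqC (le_bot_iff.mp (e ▸ le_inf hRQ (hR.1.trans (cent_le_cent1 (hBA hz)))))) hz2
  intro Q1 Q2 h1 h2
  obtain ⟨k1, hk1, e1⟩ := key Q1 h1
  obtain ⟨k2, hk2, e2⟩ := key Q2 h2
  exact ⟨k2 * k1⁻¹, mul_mem hk2 (inv_mem hk1), by rw [e1, conj_conj, inv_mul_cancel_right, e2]⟩

theorem B7.trans_superset_aux {A : Subgroup G} {q : ℕ} (hq : q.Prime)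
    (cstrA : NormedConstrained A) (hqA : q ∉ piOf A) (htr : NormTrans (Opi (piOf A)ᶜ 𝐂(A)) A q)
    (P : Subgroup G) : Core.SubnormalIn A P → PiGrp (piOf A) P →
    NormTrans (Opi (piOf A)ᶜ 𝐂(P)) P q ∧ ∀ Q, IsMaxNormed ⊤ P {q} Q → IsMaxNormed ⊤ A {q} Q := by
  have := Fact.mk hq
  induction P using Core.subgroup_induction_lt with
  | h P ih =>
  intro hsn hP
  by_cases he : A = P
  · subst he
    exact ⟨htr, fun _ h => h⟩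
  obtain ⟨B, hAB, hBP, hn⟩ := hsn.exists_normal_lt he
  obtain ⟨trB, sB⟩ := ih B hBP (hsn.of_le hAB hBP.le) (hP.of_le hBP.le)
  have hPt : P ≠ ⊤ := ne_top_of_le_ne_top
    (mFT_norm_proper (fun e => cstrA.1 (le_bot_iff.mp (e ▸ hAB))) (hBP.trans_le le_top).ne) hn
  have hs : ∀ L : Subgroup G, Sol P ∨ Sol L := fun _ => Or.inl (mFT_sol hPt)
  have hPK : P ≤ 𝐍(Opi (piOf A)ᶜ 𝐂(B)) := le_norm_Opi _ (le_norm_cent hn)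
  have hc : ∀ L : Subgroup G, (♯P).Coprime ♯(Opi (piOf A)ᶜ L) := fun L => hP.coprime (Opi_piGrp _ L)
  have sP : ∀ Q, IsMaxNormed ⊤ P {q} Q → IsMaxNormed ⊤ B {q} Q := by
    intro Q1 h1
    by_cases hb : Q1 = ⊥
    · subst hb
      obtain ⟨Q, hQ, -⟩ := exists_maxNormed (A := B) (piGrp_bot {q}) (norm_bot (G := G) ▸ le_top)
      obtain ⟨g, hg, hng⟩ := exists_invariant_conj hPK (hc _) (hs _) Q fun a ha =>
        trB Q _ hQ (cent_core_acts_max_norm (hn ha) hQ)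
      have h2 := cent_core_acts_max_norm (cent_le_norm B (Opi_le _ _ hg)) hQ
      rwa [IsMaxNormed.eq_of_bot h1 h2.1.2.1 hng] at h2
    have hN : 𝐍(Q1) ≠ ⊤ := mFT_norm_proper hb (mFT_pgroup_proper h1.1.2.1.isPGroup)
    have hAN : A ≤ 𝐍(Q1) := hsn.le.trans h1.1.2.2
    obtain ⟨R, hR, hRn, hle⟩ := exists_invariant_sylow_ge
      (le_norm_Opi (piOf A)ᶜ (le_norm_of_le h1.1.2.2)) (hc _) (hs _)
      (cstrA.2.2 _ _ hAN hN ⟨le_norm_self Q1, compl_piOf_of_singleton hqA h1.1.2.1, hAN⟩)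
      h1.1.2.1.isPGroup h1.1.2.2
    have hRQ : R = Q1 := h1.2 R ⟨le_top, hR.piGrp, hRn⟩ hle
    subst hRQ
    refine ⟨⟨le_top, h1.1.2.1, hBP.le.trans h1.1.2.2⟩, fun Q2 h2 hle => ?_⟩
    refine (eq_of_nil_of_inf_norm_le (nil_of_isPGroup h2.2.1.isPGroup) hle (le_of_eq ?_)).symm
    exact hR.eq_of_le (le_inf hle (le_norm_self R))
      (cstrA.2.2 _ _ hAN hN ⟨inf_le_right, compl_piOf_of_singleton hqA (h2.2.1.inf_left _),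
        le_norm_inf (hAB.trans h2.2.2) (le_norm_of_le hAN)⟩) (h2.2.1.inf_left _).isPGroup
  refine ⟨fun Q1 Q2 h1 h2 => ?_, fun Q hQ => sB Q (sP Q hQ)⟩
  obtain ⟨k, hk, e⟩ := trB Q1 Q2 (sP _ h1) (sP _ h2)
  obtain ⟨c, hc, e⟩ := exists_centralizer_conj hPK (hc _) (hs _) h1.1.2.2 h2.1.2.2 hk e
  exact ⟨c, Opi_inf_le _ (cent_anti hBP.le) hc, e⟩

/-- Theorem 7.4 -/
theorem normed_trans_superset {A P : Subgroup G} {q : ℕ} (hq : q.Prime)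
    (cstrA : NormedConstrained A) (hqA : q ∉ piOf A) (hAP : A ≤ P) (hsn : (A.subgroupOf P).IsSubnormal)
    (hP : PiGrp (piOf A) P) (htr : NormTrans (Opi (piOf A)ᶜ 𝐂(A)) A q) :
    Opi (piOf A)ᶜ 𝐂(A) ⊓ 𝐂(P) = Opi (piOf A)ᶜ 𝐂(P) ∧ NormTrans (Opi (piOf A)ᶜ 𝐂(P)) P q ∧
    (∀ Q, IsMaxNormed ⊤ P {q} Q → IsMaxNormed ⊤ A {q} Q) ∧
    ∀ Q, IsMaxNormed ⊤ P {q} Q → P ⊓ der 𝐍(P) ≤ der 𝐍(Q) ∧
      IsProd (Opi (piOf A)ᶜ 𝐂(A) ⊓ 𝐂(P)) (𝐍(P) ⊓ 𝐍(Q)) 𝐍(P) := by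
  have defK : Opi (piOf A)ᶜ 𝐂(A) ⊓ 𝐂(P) = Opi (piOf A)ᶜ 𝐂(P) :=
    le_antisymm (Opi_inf_le _ (cent_anti hAP))
      (le_inf (le_K cstrA ((Opi_le _ _).trans (cent_anti hAP)) (Opi_piGrp _ _)) (Opi_le _ _))
  obtain ⟨tr, s⟩ := trans_superset_aux hq cstrA hqA htr P ⟨hAP, hsn⟩ hP
  refine ⟨defK, tr, s, fun Q hQ => ?_⟩
  have hK : Opi (piOf A)ᶜ 𝐂(P) ⊴ 𝐍(P) := NormalIn.Opi ⟨cent_le_norm P, norm_le_norm_cent P⟩ _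
  have hp : IsProd (Opi (piOf A)ᶜ 𝐂(P)) (𝐍(P) ⊓ 𝐍(Q)) 𝐍(P) := by
    refine IsProd.of_forall hK.1 inf_le_left fun g hg => ?_
    obtain ⟨k, hk, e⟩ := tr Q _ hQ (cent_core_acts_max_norm hg hQ)
    refine ⟨k, hk, k⁻¹ * g, ⟨𝐍(P).mul_mem (inv_mem (hK.1 hk)) hg, ?_⟩, by group⟩
    exact conj_eq_self_iff.mp (by rw [← conj_conj, e, inv_conj_conj])
  refine ⟨(inf_der_le_der hK hp.sup_eq (le_inf (le_norm_self P) hQ.1.2.2)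
    (hP.coprime (Opi_piGrp _ _))).trans (der_mono inf_le_right), defK ▸ hp⟩

end Cfsg.Agent.OO.Pf
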