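import Cfsg.Agent.Lib.OO.PF10Defs
import Cfsg.Agent.Lib.OO.PF7
import Cfsg.Agent.Lib.OO.BG16
import Cfsg.Agent.Lib.OO.BG3
import Cfsg.Agent.Lib.OO.Quo

/-! # Peterfalvi section 10, part A: (10.2), (10.3), (10.5), (10.9) -/

set_option autoImplicit false
set_option linter.unusedSectionVars false
set_option linter.unusedVariables false

namespace Cfsg.Agent.OO.Pf

open Subgroup Cfsg.Agent.Coprime
open scoped Pointwise ComplexConjugate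

universe u

namespace P10

section General
variable {G : Type u} [Group G] [Finite G] {Γ L K W W1 W2 : Subgroup G} {i j k l φ ψ ξ : G → ℂ}

/-- the nonprincipal characters of a group of prime order are Galois conjugate -/
theorem exists_cfAut_of_prime (hp : (♯W).Prime) (hi : IsIrr W i) (hi0 : i ≠ cf1 W) (hj : IsIrr W j)
    (hj0 : j ≠ cf1 W) : ∃ u : ℂ ≃+* ℂ, cfAut u i = j := by
  obtain ⟨x, hx, ho⟩ := cauchy hp dvd_rfl
  have hW : zpowers x = W := eq_zpowers_of_prime hp hx (by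
    rintro rfl; exact hp.one_lt.ne (by simpa using ho))
  subst hW
  have li := irr_prime_lin hp hi
  have lj := irr_prime_lin hp hj
  have key : ∀ {i}, IsLinChar (zpowers x) i → i ≠ cf1 (zpowers x) → i x ≠ 1 := fun li h0 e =>
    h0 (li.ext_zpowers (isLinChar_cf1 _) (by rw [e, cf1E hx]))
  have : Fact (♯(zpowers x)).Prime := ⟨hp⟩
  have h1 : orderOf (i x) = ♯(zpowers x) :=
    orderOf_eq_prime (ho ▸ lin_char_unity_root li hx) (key li hi0)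
  have : NeZero (♯(zpowers x)) := ⟨hp.ne_zero⟩
  obtain ⟨k, hk, e⟩ := (h1 ▸ IsPrimitiveRoot.orderOf (i x)).eq_pow_of_pow_eq_one
    (ho ▸ lin_char_unity_root lj hx)
  have hk0 : k ≠ 0 := by rintro rfl; exact key lj hj0 (by rw [← e, pow_zero])
  obtain ⟨u, hu, -⟩ := make_pi_cfAut (G := G) (a := ♯(zpowers x)) (k := k)
    (Nat.coprime_of_lt_prime hk0 hk hp).symm
  refine ⟨u, (li.cfAut u).ext_zpowers lj ?_⟩
  rw [cfAutE, hu _ _ _ (irr_vchar hi) hx ho.dvd, lin_charX li hx, e]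

theorem sum_even {ι : Type*} {s : Finset ι} {f : ι → ℂ} (hf : ∀ i ∈ s, IsCint (f i)) (g : ι → ι)
    (h1 : ∀ i ∈ s, g i ∈ s) (h2 : ∀ i ∈ s, g i ≠ i) (h3 : ∀ i ∈ s, g (g i) = i)
    (h4 : ∀ i ∈ s, f (g i) = f i) : ∃ z : ℤ, ∑ i ∈ s, f i = 2 * z := by
  choose! F hF using hf
  have h5 : ((∑ i ∈ s, F i : ℤ) : ZMod 2) = 0 := by
    push_cast
    refine Finset.sum_involution (fun i _ => g i) (fun i hi => ?_) (fun i hi _ => h2 i hi) h1 h3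
    have : F (g i) = F i := by exact_mod_cast (hF _ (h1 i hi)).symm.trans ((h4 i hi).trans (hF i hi))
    rw [this, ← two_mul]; exact mul_eq_zero_of_left rfl _
  obtain ⟨z, hz⟩ := (ZMod.intCast_zmod_eq_zero_iff_dvd _ 2).1 h5
  refine ⟨z, ?_⟩
  rw [Finset.sum_congr rfl hF, ← Int.cast_sum, hz]; push_cast; rfl

theorem sgn_eq (L W W1 W2 : Subgroup G) (j : G → ℂ) :
    prTIsign L W W1 W2 j = 1 ∨ prTIsign L W W1 W2 j = -1 := by
  unfold prTIsign; split_ifs <;> simp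

local notation "η" => cycTIeta Γ W W1 W2

open Classical in
theorem dot_col (h : CycTIHyp Γ W W1 W2) (hj : IsIrr W2 j) (hk : IsIrr W1 k) (hl : IsIrr W2 l) :
    ⟪∑ i ∈ Irr W1, η i j, η k l⟫[Γ] = if j = l then 1 else 0 := by
  rw [cfdot_suml, Finset.sum_congr rfl fun i hi => cfdot_cycTIiso h (mem_Irr.1 hi) hj hk hl]
  by_cases e : j = l <;> simp [e, hk]

open Classical in
theorem dot_col' (h : CycTIHyp Γ W W1 W2) (hj : IsIrr W2 j) (hk : IsIrr W1 k) (hl : IsIrr W2 l) :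
    ⟪η k l, ∑ i ∈ Irr W1, η i j⟫[Γ] = if l = j then 1 else 0 := by
  rw [cfdotC, dot_col h hj hk hl]
  by_cases e : j = l <;> simp [e, eq_comm]

open Classical in
theorem dot_row (h : CycTIHyp Γ W W1 W2) (hi : IsIrr W1 i) (hk : IsIrr W1 k) (hl : IsIrr W2 l) :
    ⟪∑ j ∈ Irr W2, η i j, η k l⟫[Γ] = if i = k then 1 else 0 := by
  rw [cfdot_suml, Finset.sum_congr rfl fun j hj => cfdot_cycTIiso h hi (mem_Irr.1 hj) hk hl]
  by_cases e : i = k <;> simp [e, hl]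

theorem dot_row_col (h : CycTIHyp Γ W W1 W2) (hi : IsIrr W1 i) (hj : IsIrr W2 j) :
    ⟪∑ l ∈ Irr W2, η i l, ∑ k ∈ Irr W1, η k j⟫[Γ] = 1 := by
  classical
  rw [cfdot_sumr, Finset.sum_congr rfl fun k hk => dot_row h hi (mem_Irr.1 hk) hj]
  simp [hi]

theorem dot_col_self (h : CycTIHyp Γ W W1 W2) (hj : IsIrr W2 j) :
    ⟪∑ i ∈ Irr W1, η i j, ∑ i ∈ Irr W1, η i j⟫[Γ] = ♯W1 := by
  rw [cfdot_sumr, Finset.sum_congr rfl fun k hk => dot_col h hj (mem_Irr.1 hk) hj]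
  simp [h.card_Irr.1]

theorem cfnorm_col (h : CycTIHyp Γ W W1 W2) (hj : IsIrr W2 j) :
    cfnorm Γ (∑ i ∈ Irr W1, η i j) = ♯W1 := cfnorm_eq_of_cfdot (by rw [dot_col_self h hj]; simp)

theorem cfnorm_row (h : CycTIHyp Γ W W1 W2) (hi : IsIrr W1 i) :
    cfnorm Γ (∑ j ∈ Irr W2, η i j) = ♯W2 := by
  rw [← cfnorm_col h.symm hi]
  exact congrArg _ (Finset.sum_congr rfl fun j hj => (cycTIetaC h hi (mem_Irr.1 hj)).symm)

theorem col_vchar (h : CycTIHyp Γ W W1 W2) (hj : IsIrr W2 j) : ∑ i ∈ Irr W1, η i j ∈ ZIrr Γ :=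
  Submodule.sum_mem _ fun i hi => cycTIiso_vchar h (mem_Irr.1 hi) hj

theorem dot_col_eq_zero (hj : IsIrr W2 j)
    (h0 : ∀ k ∈ Irr W1, ∀ l ∈ Irr W2, ⟪φ, η k l⟫[Γ] = 0) : ⟪φ, ∑ i ∈ Irr W1, η i j⟫[Γ] = 0 := by
  rw [cfdot_sumr]; exact Finset.sum_eq_zero fun k hk => h0 k hk j (mem_Irr.2 hj)

theorem dot_row_eq_zero (hi : IsIrr W1 i)
    (h0 : ∀ k ∈ Irr W1, ∀ l ∈ Irr W2, ⟪φ, η k l⟫[Γ] = 0) : ⟪φ, ∑ j ∈ Irr W2, η i j⟫[Γ] = 0 := by
  rw [cfdot_sumr]; exact Finset.sum_eq_zero fun l hl => h0 i (mem_Irr.2 hi) l hl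

theorem exists_irr_ne_ne (h : 2 < (Irr W).card) (j k : G → ℂ) : ∃ l, IsIrr W l ∧ l ≠ j ∧ l ≠ k := by
  classical
  by_contra hn
  push Not at hn
  have : Irr W ⊆ {j, k} := fun l hl => by
    by_cases e : l = j
    · simp [e]
    · simp [hn l (mem_Irr.1 hl) e]
  exact (Finset.card_le_two.trans_lt h).not_ge (Finset.card_le_card this)

local notation "μ₂" => prTIirr L W W1 W2
local notation "μ" => prTIred L W W1 W2

theorem dot_mu2_irr (h : PrimeTIHyp L K W W1 W2) (hi : IsIrr W1 i) (hj : IsIrr W2 j)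
    (hξ : ξ ∈ seqIndT K L) (hirr : IsIrr L ξ) : ⟪μ₂ i j, ξ⟫[L] = 0 := by
  obtain ⟨θ, hθ, rfl⟩ := mem_seqIndT.1 hξ
  rcases prTIres_irr_cases h hθ with ⟨k, hk, rfl⟩ | ⟨-, -, h3⟩
  · exact (prTIred_not_irr h hk (cfInd_prTIres h hk ▸ hirr)).elim
  · exact cfdot_irr_ne (prTIirr_irr h hi hj) hirr (h3 i (mem_Irr.2 hi) j (mem_Irr.2 hj)).symm

theorem dot_mu_irr (h : PrimeTIHyp L K W W1 W2) (hj : IsIrr W2 j)
    (hξ : ξ ∈ seqIndT K L) (hirr : IsIrr L ξ) : ⟪μ j, ξ⟫[L] = 0 := by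
  rw [prTIred, cfdot_suml]
  exact Finset.sum_eq_zero fun i hi => dot_mu2_irr h (mem_Irr.1 hi) hj hξ hirr

theorem mu_mem_seqIndT (h : PrimeTIHyp L K W W1 W2) (hj : IsIrr W2 j) : μ j ∈ seqIndT K L :=
  mem_seqIndT.2 ⟨_, prTIres_irr h hj, (cfInd_prTIres h hj).symm⟩

/-- characters induced from the nonprincipal linear characters of `K` -/
theorem seqIndD_lin (h : PrimeTIHyp L K W W1 W2) (h2 : W2 ≤ der K) {N : Subgroup G} (hN : der K ≤ N)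
    (hφ : φ ∈ seqIndD K L K N) : IsIrr L φ ∧ φ 1 = ♯W1 := by
  obtain ⟨θ, hθ, h3, h4, rfl⟩ := mem_seqIndD.1 hφ
  refine ⟨?_, by rw [cfInd1 h.K_le, h.relIndex, (lin_irr_der1 hθ (hN.trans h3)).one, mul_one]⟩
  by_contra hn
  obtain ⟨j, hj, rfl, -⟩ := prTIred_of_not_irr h hθ hn
  have h5 := (le_cfker_prTIres_iff h h.normalK.der (der_le K) hj).1 (hN.trans h3)
  rw [inf_eq_right.2 h2, hj.le_cfker_iff] at h5
  exact h4 (by rw [h5, prTIres0 h]; exact (isIrr_cf1 K).le_cfker_iff.2 rfl)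

theorem card_seqIndD_lin (h : PrimeTIHyp L K W W1 W2) (h2 : W2 ≤ der K) {N : Subgroup G}
    (hN : der K ≤ N) (hNK : N ≤ K) (hNL : N ⊴ L) :
    (seqIndD K L K N).card * ♯W1 + 1 = N.relIndex K := by
  have h1 := sum_seqIndD_square h.normalK le_rfl h.normalK hNL hNK
  rw [Finset.sum_congr rfl fun φ hφ => by
    rw [(seqIndD_lin h h2 hN hφ).2, cfdot_irr_self (seqIndD_lin h h2 hN hφ).1, div_one],
    Finset.sum_const, h.relIndex, nsmul_eq_mul, pow_two, mul_left_comm] at h1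
  have h3 := mul_left_cancel₀ (cardC_ne_zero W1) h1
  exact_mod_cast (eq_sub_iff_add_eq.1 h3)

end General

variable {G : Type u} [Group G] [Finite G] [MinOdd G] {M U W W1 W2 : Subgroup G}

theorem gt2 (h : T345Hyp M U W W1 W2) : 2 < FTtype M := by
  have := (FTtype_range M).1
  have := FTtypeP_neq1 h.max h.typeP
  have := h.not2
  omega

theorem supp_eq (h : T345Hyp M U W W1 W2) : FTsupp M = sharp (der M) := FTsupp_type_gt2 (gt2 h)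

theorem pti (h : T345Hyp M U W W1 W2) : PrimeTIHyp M (der M) W W1 W2 := FT_primeTI_hyp h.typeP

theorem cti (h : T345Hyp M U W W1 W2) : CycTIHyp ⊤ W W1 W2 := FT_cyclicTI_hyp h.typeP

theorem pdd (h : T345Hyp M U W W1 W2) :
    PrimeDadeHyp ⊤ M (der M) (der M) (sharp (der M)) (FTsupp0 M) W W1 W2 := by
  have := FT_prDade_hyp h.max h.typeP
  rwa [FTcore_type_gt2 (gt2 h), supp_eq h] at this

theorem calSP_eq (h : T345Hyp M U W W1 W2) : calSP M = calSD M := by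
  rw [calSP, FTcore_type_gt2 (gt2 h)]

theorem onA0 (h : T345Hyp M U W W1 W2) {φ : G → ℂ} (hφ : φ ∈ CFon M (sharp (der M))) :
    φ ∈ CFon M (FTsupp0 M) := CFon_mono M (pdd h).A_subset hφ

theorem subT {N : Subgroup G} {φ : G → ℂ} (hφ : φ ∈ seqIndD (der M) M (der M) N) :
    φ ∈ seqIndT (der M) M := seqInd_subT _ _ _ _ hφ

theorem subD {N H : Subgroup G} (hH : H ≤ der M) : seqIndD (der M) M H N ⊆ calSD M :=
  seqInd_sub _ _ _ hH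

theorem csubD (h : T345Hyp M U W W1 W2) {N H : Subgroup G} (hH : H ≤ der M) :
    ConjSubset (seqIndD (der M) M H N) (calSP M) :=
  calSP_eq h ▸ seqInd_conjC_subset1 _ _ _ hH

theorem mu_mem (h : T345Hyp M U W W1 W2) {j : G → ℂ} (hj : IsIrr W2 j) (hj0 : j ≠ cf1 W2) :
    prTIred M W W1 W2 j ∈ calSD M := prTIred_mem_seqIndD (pdd h) hj hj0

theorem ref_star {ζ : G → ℂ} (hζ : RefIrr M W1 ζ) : RefIrr M W1 (star ζ) :=
  ⟨hζ.irr.star, star_seqInd hζ.mem, by rw [cfConjCE, hζ.deg]; simp⟩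

theorem ref_star_ne {ζ : G → ℂ} (hζ : RefIrr M W1 ζ) : star ζ ≠ ζ :=
  seqInd_conjC_neq (mFT_odd M) (der_normal M) le_rfl hζ.mem

theorem refIrr_of_mem (h : OfTypeP M U W W1 W2) {N : Subgroup G} (hN : der2 M ≤ N) {ζ : G → ℂ}
    (hζ : ζ ∈ seqIndD (der M) M (der M) N) : RefIrr M W1 ζ :=
  have := seqIndD_lin (FT_primeTI_hyp h) h.W2_le_der2 hN hζ
  ⟨this.1, subD le_rfl hζ, this.2⟩

theorem der2_lt (h : OfTypeP M U W W1 W2) : der2 M < der M :=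
  der_lt (sol_of_le (of_typeP_sol h) (der_le M))
    (ne_bot_of_le_ne_bot h.W2_ne_bot (h.W2_le_der2.trans (der_le _)))

end P10

open P10

variable {G : Type u} [Group G] [Finite G] [MinOdd G] {M U W W1 W2 : Subgroup G}

theorem FTtypeP_ref_irr (hM : IsCoatom M) (h : OfTypeP M U W W1 W2) : ∃ ζ, RefIrr M W1 ζ := by
  obtain ⟨ζ, hζ⟩ := seqIndD_nonempty M (der_normal (der M)) (der2_lt h).not_ge
  exact ⟨ζ, refIrr_of_mem h le_rfl hζ⟩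

theorem P10.exists_partner (h : T345Hyp M U W W1 W2) :
    ∃ T V, IsCoatom T ∧ FTtype T = 2 ∧ OfTypeP T V W W2 W1 := by
  obtain ⟨T, hT, V, hV⟩ := FTtypeP_pair_witness h.max h.typeP
  exact ⟨T, V, hT.maxT, hT.type2.resolve_left h.not2, hV⟩

theorem FTtype345_core_prime (h : T345Hyp M U W W1 W2) : (♯W2).Prime := by
  obtain ⟨T, V, hT, h2, hV⟩ := exists_partner h
  exact (compl_of_typeII hT hV h2).base.prime

theorem FTtype345_constants (h : T345Hyp M U W W1 W2) : ∃ d δ n, T345Const M W W1 W2 d δ n := by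
  have hp := pti h
  obtain ⟨j0, hj0, hj00⟩ := exists_irr_ne_cf1 h.typeP.W2_ne_bot
  have hμ := prTIirr_irr hp (isIrr_cf1 W1) hj0
  obtain ⟨d, hd0, hd⟩ := hμ.exists_one
  have hd1 : 1 < d := by
    by_contra hn
    obtain rfl : d = 1 := by omega
    obtain ⟨i, hi, e⟩ := (prTIirr0P hp hμ).1 (lin_char_der1 (hμ.isLinChar (by simpa using hd)))
    exact hj00 ((prTIirr_inj hp (isIrr_cf1 W1) hj0 hi (isIrr_cf1 W2)).1 e).2
  obtain ⟨z, hz⟩ := prTIirr1_mod hp (isIrr_cf1 W1) hj0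
  rw [hd] at hz
  have hs := sgn_eq M W W1 W2 j0
  have hz0 : 0 ≤ z := by
    have h1 : (0 : ℤ) < ♯W1 * z := by
      rcases hs with hs | hs <;> rw [hs] at hz
      · have : (d : ℤ) - 1 = ♯W1 * z := by exact_mod_cast hz
        omega
      · have : (d : ℤ) - -1 = ♯W1 * z := by exact_mod_cast hz
        omega
    exact ((mul_pos_iff_of_pos_left (by exact_mod_cast card_pos' W1)).1 h1).le
  lift z to ℕ using hz0
  have key := fun j hj hj' => exists_cfAut_of_prime (FTtype345_core_prime h) hj0 hj00 (j := j) hj hj'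
  refine ⟨d, _, z, fun i hi j hj hj' => ?_, fun j hj hj' => ?_, hs, hd1, by exact_mod_cast hz⟩
  · obtain ⟨u, rfl⟩ := key j (mem_Irr.1 hj) hj'
    rw [prTIirr_1 hp (mem_Irr.1 hi) (mem_Irr.1 hj), ← cfAut_cf1 u W1,
      prTIirr_aut hp u (isIrr_cf1 W1) hj0, cfAutE, hd, map_natCast]
  · obtain ⟨u, rfl⟩ := key j (mem_Irr.1 hj) hj'
    exact prTIsign_aut hp u hj0

section Bridge
variable {d n : ℕ} {δ : ℂ} {ζ i j k ξ : G → ℂ}

local notation "μ₂" => prTIirr M W W1 W2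
local notation "μ" => prTIred M W W1 W2
local notation "η" => cycTIeta ⊤ W W1 W2
local notation "τ" => FTDade0 M
local notation "α" => T345bridge M W W1 W2 δ n ζ

theorem vchar_FTtype345_bridge (h : T345Hyp M U W W1 W2) (hc : T345Const M W W1 W2 d δ n)
    (hζ : RefIrr M W1 ζ) (hi : IsIrr W1 i) (hj : IsIrr W2 j) : α i j ∈ ZIrr M :=
  sub_mem (sub_mem (irr_vchar (prTIirr_irr (pti h) hi hj))
    ((prTIirr_irr (pti h) hi (isIrr_cf1 W2)).isDirr.smul_sign hc.sign_eq).vchar)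
    (nsmul_mem (irr_vchar hζ.irr) n)

theorem P10.bridgeE (x : G) : α i j x = μ₂ i j x - δ * μ₂ i (cf1 W2) x - n * ζ x := by
  simp [T345bridge]

theorem P10.bridge_apply (h : T345Hyp M U W W1 W2) (hc : T345Const M W W1 W2 d δ n)
    (hζ : RefIrr M W1 ζ) (hi : IsIrr W1 i) (hj : IsIrr W2 j) (hj0 : j ≠ cf1 W2) {x : G} (hx : x ∈ W)
    (hx2 : x ∉ W2) : α i j x = δ * (cycTIirr W1 W2 i j x - cycTIirr W1 W2 i (cf1 W2) x) := by
  have hp := pti h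
  rw [bridgeE, prTIirr_id hp hi hj hx hx2, prTIirr_id hp hi (isIrr_cf1 W2) hx hx2, prTIsign0 hp,
    hc.sign j (mem_Irr.2 hj) hj0, cfun_on0 (seqInd_on hp.normalK (subT hζ.mem))
      fun e => hx2 (hp.inf_eq.le ⟨e, hx⟩)]
  ring

theorem supp_FTtype345_bridge (h : T345Hyp M U W W1 W2) (hc : T345Const M W W1 W2 d δ n)
    (hζ : RefIrr M W1 ζ) (hi : IsIrr W1 i) (hj : IsIrr W2 j) (hj0 : j ≠ cf1 W2) :
    α i j ∈ CFon M (FTsupp0 M) := by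
  have hW := h.typeP.defW
  refine (pdd h).mem_CFon (vchar_mem_CF (vchar_FTtype345_bridge h hc hζ hi hj)) (fun x hx hA => ?_)
    fun x hx h1 => ?_
  · obtain rfl : x = 1 := by_contra fun e => hA ⟨hx, e⟩
    rw [bridgeE, hc.deg i (mem_Irr.2 hi) j (mem_Irr.2 hj) hj0, prTIirr0_1 (pti h) hi, hζ.deg, mul_one, hc.ratio]
    ring
  · rw [bridge_apply h hc hζ hi hj hj0 (hW.left_le hx) fun e => h1 (hW.inf_eq.le ⟨hx, e⟩),
      ← mul_one x, cycTIirrE hW _ _ hx W2.one_mem, cycTIirrE hW _ _ hx W2.one_mem,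
      ((cti h).lin2 hj).one, cf1_one, sub_self, mul_zero]

theorem vchar_Dade_FTtype345_bridge (h : T345Hyp M U W W1 W2) (hc : T345Const M W W1 W2 d δ n)
    (hζ : RefIrr M W1 ζ) (hi : IsIrr W1 i) (hj : IsIrr W2 j) (hj0 : j ≠ cf1 W2) :
    τ (α i j) ∈ ZIrr (⊤ : Subgroup G) :=
  Dade_vchar (FT_Dade0_hyp h.max) (mem_ZIrrOn.2 ⟨vchar_FTtype345_bridge h hc hζ hi hj,
    (supp_FTtype345_bridge h hc hζ hi hj hj0).2⟩)

theorem P10.norm_sign (hc : T345Const M W W1 W2 d δ n) : ‖δ‖ = 1 := by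
  rcases hc.sign_eq with e | e <;> simp [e]

theorem P10.conj_sign (hc : T345Const M W W1 W2 d δ n) : conj δ = δ := by
  rcases hc.sign_eq with e | e <;> simp [e]

theorem P10.sign_sq (hc : T345Const M W W1 W2 d δ n) : δ * δ = 1 := by
  rcases hc.sign_eq with e | e <;> simp [e]

theorem P10.n_even (h : T345Hyp M U W W1 W2) (hc : T345Const M W W1 W2 d δ n) : 2 ≤ n ∧ Even n := by
  obtain ⟨j, hj, hj0⟩ := exists_irr_ne_cf1 h.typeP.W2_ne_bot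
  have h1 := (mFT_odd M).of_dvd_nat (dvd_irr1_cardG (prTIirr_irr (pti h) (isIrr_cf1 W1) hj)
    (hc.deg _ (cf1_mem_Irr W1) j (mem_Irr.2 hj) hj0))
  have h2 : Even (♯W1 * n) ∧ ♯W1 * n ≠ 0 := by
    have h3 := hc.ratio
    have h4 := hc.one_lt
    obtain ⟨m, hm⟩ := h1
    rcases hc.sign_eq with e | e <;> rw [e] at h3
    · have : (d : ℤ) - 1 = (♯W1 * n : ℕ) := by exact_mod_cast h3
      exact ⟨⟨m, by omega⟩, by omega⟩
    · have : (d : ℤ) - -1 = (♯W1 * n : ℕ) := by exact_mod_cast h3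
      exact ⟨⟨m + 1, by omega⟩, by omega⟩
  have h5 := (Nat.even_mul.1 h2.1).resolve_left (Nat.not_even_iff_odd.2 (mFT_odd W1))
  exact ⟨Nat.le_of_dvd (Nat.pos_of_ne_zero (right_ne_zero_of_mul h2.2)) h5.two_dvd, h5⟩

theorem norm_FTtype345_bridge (h : T345Hyp M U W W1 W2) (hc : T345Const M W W1 W2 d δ n)
    (hζ : RefIrr M W1 ζ) (hi : IsIrr W1 i) (hj : IsIrr W2 j) (hj0 : j ≠ cf1 W2) :
    cfnorm ⊤ (τ (α i j)) = 2 + (n : ℝ) ^ 2 := by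
  have hp := pti h
  have h0 := isIrr_cf1 W2
  rw [cfnorm_Dade (FT_Dade0_hyp h.max) (supp_FTtype345_bridge h hc hζ hi hj hj0), T345bridge,
    cfnormBd (by rw [cfdotMnr, cfdotBl, cfdotZl, dot_mu2_irr hp hi hj (subT hζ.mem) hζ.irr,
      dot_mu2_irr hp hi h0 (subT hζ.mem) hζ.irr]; simp),
    cfnormBd (by rw [cfdotZr, cfdot_prTIirr hp hi hj hi h0]; simp [hj0]), cfnormMn, cfnormZ,
    cfnorm_irr hζ.irr, cfnorm_irr (prTIirr_irr hp hi hj), cfnorm_irr (prTIirr_irr hp hi h0), norm_sign hc]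
  ring

theorem P10.bridge_eq (h : T345Hyp M U W W1 W2) (hc : T345Const M W W1 W2 d δ n)
    (hζ : RefIrr M W1 ζ) (hi : IsIrr W1 i) (hj : IsIrr W2 j) (hj0 : j ≠ cf1 W2) {X Y : G → ℂ}
    (hXY : τ (α i j) = X + Y) (hY : Y ∈ ZIrr (⊤ : Subgroup G))
    (hYη : ∀ k ∈ Irr W1, ∀ l ∈ Irr W2, ⟪Y, η k l⟫[⊤] = 0) (hYX : ⟪Y, X⟫[⊤] = 0)
    (hYn : cfnorm ⊤ Y = (n : ℝ) ^ 2) : X = δ • (η i j - η i (cf1 W2)) := by
  have hX : X = τ (α i j) - Y := by rw [hXY, add_sub_cancel_right]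
  have h1 := norm_FTtype345_bridge h hc hζ hi hj hj0
  rw [hXY, cfnormDd (cfdot_symm0 hYX), hYn] at h1
  refine eq_signed_sub_cTIiso (cti h) hc.sign_eq
    (hX ▸ sub_mem (vchar_Dade_FTtype345_bridge h hc hζ hi hj hj0) hY) (by linarith) hi hj (isIrr_cf1 W2)
    hj0 fun x hx => ?_
  have hx' := (mem_cycTIset' h.typeP.defW).1 hx
  rw [hX, Pi.sub_apply, ortho_cycTIiso_vanish (cti h) (vchar_mem_CF hY) hYη x hx, sub_zero,
    (pdd h).Dade_V (supp_FTtype345_bridge h hc hζ hi hj hj0).1 hx,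
    bridge_apply h hc hζ hi hj hj0 hx'.1 hx'.2.2, Pi.smul_apply, Pi.sub_apply,
    cycTIeta_restrict (cti h) hi hj hx, cycTIeta_restrict (cti h) hi (isIrr_cf1 W2) hx, smul_eq_mul]

open Classical in
theorem FTtype345_bridge_coherence (h : T345Hyp M U W W1 W2) (hc : T345Const M W W1 W2 d δ n)
    (hζ : RefIrr M W1 ζ) (hi : IsIrr W1 i) (hj : IsIrr W2 j) (hj0 : j ≠ cf1 W2)
    {S1 : Finset (G → ℂ)} {τ1 : (G → ℂ) →+ (G → ℂ)} {X Y : G → ℂ}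
    (hτ : CoherentWith M ⊤ S1 (sharp M) (FTDade0 M) τ1)
    (hXY : FTDade0 M (T345bridge M W W1 W2 δ n ζ i j) = X + Y) (hS : ConjSubset S1 (calSP M))
    (hirr : ∀ φ ∈ S1, IsIrr M φ) (hY : Y ∈ Zspan (S1.image τ1))
    (hYX : ⟪Y, X⟫[⊤] = 0) (hYn : cfnorm ⊤ Y = (n : ℝ) ^ 2) :
    X = δ • (cycTIeta ⊤ W W1 W2 i j - cycTIeta ⊤ W W1 W2 i (cf1 W2)) := by
  refine bridge_eq h hc hζ hi hj hj0 hXY (zchar_trans_vchar (fun ξ hξ => ?_) hY)
    (fun k hk l hl => cfdot_zchar_eq_zero hY fun ξ hξ => ?_) hYX hYn <;>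
    obtain ⟨φ, hφ, rfl⟩ := Finset.mem_image.1 hξ
  · exact hτ.vchar_mem hφ
  · exact coherent_ortho_cycTIiso h.max h.typeP hS hτ hφ (hirr φ hφ) (mem_Irr.1 hk) (mem_Irr.1 hl)

theorem P10.def_tau_alpha (h : T345Hyp M U W W1 W2) (hc : T345Const M W W1 W2 d δ n)
    (hζ : RefIrr M W1 ζ) (hi : IsIrr W1 i) (hj : IsIrr W2 j) (hj0 : j ≠ cf1 W2) {ζ1 : G → ℂ}
    (h1 : IsDirr ⊤ ζ1) (h2 : ∀ k ∈ Irr W1, ∀ l ∈ Irr W2, ⟪ζ1, η k l⟫[⊤] = 0)
    (h3 : ⟪τ (α i j), ζ1⟫[⊤] = -n) : τ (α i j) = δ • (η i j - η i (cf1 W2)) - n • ζ1 := by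
  rw [← bridge_eq h hc hζ hi hj hj0 (X := τ (α i j) + n • ζ1) (Y := -(n • ζ1)) (by simp)
    (neg_mem (nsmul_mem h1.vchar n)) (fun k hk l hl => by rw [cfdotNl, cfdotMnl, h2 k hk l hl]; simp)
    (cfdot_symm0 (by rw [cfdotNr, cfdotMnr, cfdotDl, cfdotMnl, h3, h1.cfdot_self]; simp))
    (by rw [cfnormN, cfnormMn, h1.cfnorm, mul_one]), add_sub_cancel_right]

theorem P10.dot_alpha_irr (h : T345Hyp M U W W1 W2) (hi : IsIrr W1 i) (hj : IsIrr W2 j)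
    (hξ : ξ ∈ calSD M) (hirr : IsIrr M ξ) : ⟪α i j, ξ⟫[M] = -(n * ⟪ζ, ξ⟫[M]) := by
  rw [T345bridge, cfdotBl, cfdotBl, cfdotZl, cfdotMnl, dot_mu2_irr (pti h) hi hj (subT hξ) hirr,
    dot_mu2_irr (pti h) hi (isIrr_cf1 W2) (subT hξ) hirr]
  ring

open Classical in
theorem P10.dot_alpha_mu (h : T345Hyp M U W W1 W2) (hζ : RefIrr M W1 ζ) (hi : IsIrr W1 i)
    (hj : IsIrr W2 j) (hk : IsIrr W2 k) :
    ⟪α i j, μ k⟫[M] = (if j = k then 1 else 0) - δ * if cf1 W2 = k then 1 else 0 := by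
  rw [T345bridge, cfdotBl, cfdotBl, cfdotZl, cfdotMnl, cfdot_prTIirr_red (pti h) hi hj hk,
    cfdot_prTIirr_red (pti h) hi (isIrr_cf1 W2) hk,
    cfdot_symm0 (dot_mu_irr (pti h) hk (subT hζ.mem) hζ.irr)]
  ring

theorem P10.dotτ (h : T345Hyp M U W W1 W2) {φ ψ : G → ℂ} (hφ : φ ∈ CFon M (FTsupp0 M))
    (hψ : ψ ∈ CFon M (sharp (der M))) : ⟪τ φ, τ ψ⟫[⊤] = ⟪φ, ψ⟫[M] :=
  Dade_isometry (FT_Dade0_hyp h.max) hφ (onA0 h hψ)

theorem P10.mu0_on (h : T345Hyp M U W W1 W2) (hζ : RefIrr M W1 ζ) :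
    μ (cf1 W2) - ζ ∈ CFon M (sharp (der M)) := by
  simpa using sub_seqInd_on (der_normal M) (mu_mem_seqIndT (pti h) (isIrr_cf1 W2)) (subT hζ.mem)
    (a := 1) (by rw [prTIred0 (pti h), hζ.deg]; simp)

theorem P10.mu_one (h : T345Hyp M U W W1 W2) (hc : T345Const M W W1 W2 d δ n) (hζ : RefIrr M W1 ζ)
    (hj : IsIrr W2 j) (hj0 : j ≠ cf1 W2) : μ j 1 = d * ζ 1 := by
  rw [prTIred_1 (pti h) (isIrr_cf1 W1) hj, hc.deg _ (cf1_mem_Irr W1) j (mem_Irr.2 hj) hj0, hζ.deg,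
    mul_comm]

theorem P10.mu_on (h : T345Hyp M U W W1 W2) (hc : T345Const M W W1 W2 d δ n) (hζ : RefIrr M W1 ζ)
    (hj : IsIrr W2 j) (hj0 : j ≠ cf1 W2) : μ j - (d : ℂ) • ζ ∈ CFon M (sharp (der M)) :=
  sub_seqInd_on (der_normal M) (mu_mem_seqIndT (pti h) hj) (subT hζ.mem) (mu_one h hc hζ hj hj0)

theorem P10.psi_vchar (h : T345Hyp M U W W1 W2) (hζ : RefIrr M W1 ζ) :
    τ (μ (cf1 W2) - ζ) ∈ ZIrr (⊤ : Subgroup G) :=
  Dade_vchar (FT_Dade0_hyp h.max) (mem_ZIrrOn.2 ⟨sub_mem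
    (char_vchar (prTIred_char (pti h) (isIrr_cf1 W2))) (irr_vchar hζ.irr), (onA0 h (mu0_on h hζ)).2⟩)

theorem P10.psi_norm (h : T345Hyp M U W W1 W2) (hζ : RefIrr M W1 ζ) :
    cfnorm ⊤ (τ (μ (cf1 W2) - ζ)) = ♯W1 + 1 := by
  rw [cfnorm_Dade (FT_Dade0_hyp h.max) (onA0 h (mu0_on h hζ)),
    cfnormBd (dot_mu_irr (pti h) (isIrr_cf1 W2) (subT hζ.mem) hζ.irr), cfnorm_irr hζ.irr,
    cfnorm_prTIred (pti h) (isIrr_cf1 W2)]

theorem P10.psi_V (h : T345Hyp M U W W1 W2) (hζ : RefIrr M W1 ζ) :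
    ∀ x ∈ cycTIset W1 W2, τ (μ (cf1 W2) - ζ) x = 0 := fun x hx => by
  rw [(pdd h).Dade_V (mu0_on h hζ).1 hx]
  exact cfun_on0 (mu0_on h hζ) fun e => prDade_supp_disjoint (pti h) hx e.1

theorem P10.psi_00 (h : T345Hyp M U W W1 W2) (hζ : RefIrr M W1 ζ) :
    ⟪τ (μ (cf1 W2) - ζ), η (cf1 W1) (cf1 W2)⟫[⊤] = 1 := by
  rw [cycTIiso00 (cti h), Dade_cf1 (FT_Dade0_hyp h.max) (onA0 h (mu0_on h hζ)), cfdotBl,
    seqInd_ortho_1 (der_le M) le_rfl hζ.mem, sub_zero, ← prTIirr00 (pti h), cfdotC,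
    cfdot_prTIirr_red (pti h) (isIrr_cf1 W1) (isIrr_cf1 W2) (isIrr_cf1 W2)]
  simp

theorem P10.psi_col (h : T345Hyp M U W W1 W2) (hζ : RefIrr M W1 ζ)
    (h0 : ∀ k ∈ Irr W1, ∀ l ∈ Irr W2,
      ⟪τ (μ (cf1 W2) - ζ) - ∑ i ∈ Irr W1, η i (cf1 W2), η k l⟫[⊤] = 0) :
    ∃ χ, τ (μ (cf1 W2) - ζ) = ∑ i ∈ Irr W1, η i (cf1 W2) - χ ∧ IsDirr ⊤ χ ∧
      ∀ k ∈ Irr W1, ∀ l ∈ Irr W2, ⟪χ, η k l⟫[⊤] = 0 := by
  refine ⟨-(τ (μ (cf1 W2) - ζ) - ∑ i ∈ Irr W1, η i (cf1 W2)), by simp, IsDirr.neg (vchar_norm1P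
    (sub_mem (psi_vchar h hζ) (col_vchar (cti h) (isIrr_cf1 W2))) ?_),
    fun k hk l hl => by rw [cfdotNl, h0 k hk l hl, neg_zero]⟩
  have h1 := cfnormDd (dot_col_eq_zero (isIrr_cf1 W2) h0)
  rw [sub_add_cancel, psi_norm h hζ, cfnorm_col (cti h) (isIrr_cf1 W2)] at h1
  linarith

theorem FTtype345_Dade_bridge0 (h : T345Hyp M U W W1 W2) (hζ : RefIrr M W1 ζ) (hw : ♯W1 < ♯W2) :
    ∃ χ, FTDade0 M (prTIred M W W1 W2 (cf1 W2) - ζ) = ∑ i ∈ Irr W1, cycTIeta ⊤ W W1 W2 i (cf1 W2) - χ ∧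
      χ ∈ ZIrr (⊤ : Subgroup G) ∧ ⟪χ, χ⟫[⊤] = 1 ∧
      ∀ k ∈ Irr W1, ∀ l ∈ Irr W2, ⟪χ, cycTIeta ⊤ W W1 W2 k l⟫[⊤] = 0 := by
  classical
  have h1 := cycTI_NC_norm (cti h) (psi_vchar h hζ)
  rw [psi_norm h hζ] at h1
  have h2 := (cti h).two_lt.1
  rcases small_cycTI_NC (cti h) (vchar_mem_CF (psi_vchar h hζ)) (psi_V h hζ)
    (by rw [min_eq_left hw.le]; norm_cast at h1; omega) (isIrr_cf1 W1) (isIrr_cf1 W2)
    (by rw [psi_00 h hζ]; exact one_ne_zero) with h3 | h3 <;> rw [psi_00 h hζ] at h3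
  · obtain ⟨χ, h4, h5, h6⟩ := psi_col h hζ fun k hk l hl => by
      rw [cfdotBl, h3 k hk l hl, dot_col (cti h) (isIrr_cf1 W2) (mem_Irr.1 hk) (mem_Irr.1 hl)]
      simp [eq_comm]
    exact ⟨χ, h4, h5.vchar, h5.cfdot_self, h6⟩
  · have h4 := cfCauchySchwarz (H := ⊤) (τ (μ (cf1 W2) - ζ)) (∑ l ∈ Irr W2, η (cf1 W1) l)
    rw [cfdot_sumr, Finset.sum_congr rfl (h3 _ (cf1_mem_Irr W1)), psi_norm h hζ,
      cfnorm_row (cti h) (isIrr_cf1 W1)] at h4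
    simp only [if_true, Finset.sum_const, (cti h).card_Irr.2, nsmul_eq_mul, mul_one,
      Complex.norm_natCast, pow_two] at h4
    have h5 : ♯W2 ≤ ♯W1 + 1 := by exact_mod_cast le_of_mul_le_mul_right h4 (cardR_pos W2)
    obtain ⟨a, ha⟩ := mFT_odd W1
    obtain ⟨b, hb⟩ := mFT_odd W2
    omega

theorem P10.sum_alpha (h : T345Hyp M U W W1 W2) (hc : T345Const M W W1 W2 d δ n) :
    μ j - (d : ℂ) • ζ = ∑ i ∈ Irr W1, α i j + δ • (μ (cf1 W2) - ζ) := by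
  simp only [T345bridge, Finset.sum_sub_distrib, ← Finset.smul_sum, Finset.sum_const,
    (cti h).card_Irr.1, prTIred, eq_add_of_sub_eq hc.ratio]
  module

end Bridge

end Cfsg.Agent.OO.Pf
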