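import Cfsg.Agent.Lib.OO.Pf.PF10_A

/-! # Peterfalvi section 10, part B: (10.5) to (10.8) -/

set_option autoImplicit false
set_option linter.unusedSectionVars false
set_option linter.unusedVariables false

namespace Cfsg.Agent.OO.Pf

open Subgroup Cfsg.Agent.Coprime
open scoped Pointwise ComplexConjugate

universe u

variable {G : Type u} [Group G] [Finite G] [MinOdd G] {M U W W1 W2 : Subgroup G}
  {d n : ℕ} {δ : ℂ} {ζ i j k ξ φ ψ : G → ℂ} {S1 : Finset (G → ℂ)} {τ1 : (G → ℂ) →+ (G → ℂ)}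

local notation "μ₂" => prTIirr M W W1 W2
local notation "μ" => prTIred M W W1 W2
local notation "η" => cycTIeta ⊤ W W1 W2
local notation "τ" => FTDade0 M
local notation "α" => T345bridge M W W1 W2 δ n ζ

namespace P10

theorem coh_sub_smul (hτ : CoherentWith M ⊤ S1 (sharp M) τ τ1) (hS : S1 ⊆ calSD M) (hφ : φ ∈ S1)
    (hψ : ψ ∈ S1) {a : ℕ} (h1 : φ 1 = a * ψ 1) : τ (φ - (a : ℂ) • ψ) = τ1 φ - (a : ℂ) • τ1 ψ :=
  hτ.sub_smul (fun φ hφ => seqInd_mem_CF (subT (hS hφ))) hφ hψ (isCint_natCast a) h1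

theorem coh_sub (hτ : CoherentWith M ⊤ S1 (sharp M) τ τ1) (hS : S1 ⊆ calSD M) (hφ : φ ∈ S1)
    (hψ : ψ ∈ S1) (h1 : φ 1 = ψ 1) : τ (φ - ψ) = τ1 φ - τ1 ψ := by
  simpa using coh_sub_smul hτ hS hφ hψ (a := 1) (by simpa using h1)

theorem sub_on (hφ : φ ∈ calSD M) (hψ : ψ ∈ calSD M) (h1 : φ 1 = ψ 1) :
    φ - ψ ∈ CFon M (sharp (der M)) := by
  simpa using sub_seqInd_on (der_normal M) (subT hφ) (subT hψ) (a := 1) (by simpa using h1)

theorem dot_alpha_other (h : T345Hyp M U W W1 W2) (hc : T345Const M W W1 W2 d δ n)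
    (hζ : RefIrr M W1 ζ) (hi : IsIrr W1 i) (hj : IsIrr W2 j) (hj0 : j ≠ cf1 W2)
    (hτ : CoherentWith M ⊤ S1 (sharp M) τ τ1) (hS : S1 ⊆ calSD M) (h1 : ζ ∈ S1) (h2 : ξ ∈ S1)
    (hξ : RefIrr M W1 ξ) (hne : ξ ≠ ζ) : ⟪τ (α i j), τ1 ξ⟫[⊤] = ⟪τ (α i j), τ1 ζ⟫[⊤] + n := by
  have e := hζ.deg.trans hξ.deg.symm
  have h3 := dotτ h (supp_FTtype345_bridge h hc hζ hi hj hj0) (sub_on hζ.mem hξ.mem e)
  rw [coh_sub hτ hS h1 h2 e, cfdotBr, cfdotBr, dot_alpha_irr h hi hj hζ.mem hζ.irr,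
    dot_alpha_irr h hi hj hξ.mem hξ.irr, cfdot_irr_self hζ.irr, cfdot_irr_ne hζ.irr hξ.irr hne.symm] at h3
  linear_combination -h3

theorem tau_mu_sub (h : T345Hyp M U W W1 W2) (hc : T345Const M W W1 W2 d δ n) {ζ1 : G → ℂ}
    (h1 : ∀ i ∈ Irr W1, τ (α i j) = δ • (η i j - η i (cf1 W2)) - n • ζ1) :
    τ (μ j - (d : ℂ) • ζ) = δ • ∑ i ∈ Irr W1, η i j - (d : ℂ) • ζ1 +
      δ • (τ (μ (cf1 W2) - ζ) - (∑ i ∈ Irr W1, η i (cf1 W2) - ζ1)) := by
  rw [sum_alpha h hc (n := n), map_add, map_sum, map_smul, Finset.sum_congr rfl h1]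
  simp only [Finset.sum_sub_distrib, ← Finset.smul_sum, Finset.sum_const,
    (cti h).card_Irr.1, eq_add_of_sub_eq hc.ratio]
  module

theorem ineq105 {d w n : ℕ} (hw : 2 < w) (hn : 2 ≤ n) (h : w * n ≤ d + 1) : (2 + n ^ 2) * w < d ^ 2 := by
  obtain ⟨w, rfl⟩ := Nat.exists_eq_add_of_lt hw
  obtain ⟨n, rfl⟩ := Nat.exists_eq_add_of_le hn
  obtain ⟨e, he⟩ := Nat.exists_eq_add_of_le h
  obtain rfl : d = 5 + 2 * w + 3 * n + w * n + e := by nlinarith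
  nlinarith [Nat.zero_le (w * n), Nat.zero_le (w * n * n), Nat.zero_le (w * w * n), Nat.zero_le (w * w),
    Nat.zero_le (n * n), Nat.zero_le (w * w * n * n), Nat.zero_le (e * (5 + 2 * w + 3 * n + w * n + e))]

theorem ortho_eta (h : T345Hyp M U W W1 W2) (hτ : CoherentWith M ⊤ S1 (sharp M) τ τ1)
    (hS : ConjSubset S1 (calSP M)) (hξ : ξ ∈ S1) (hirr : IsIrr M ξ) :
    ∀ k ∈ Irr W1, ∀ l ∈ Irr W2, ⟪τ1 ξ, η k l⟫[⊤] = 0 := fun k hk l hl =>
  coherent_ortho_cycTIiso h.max h.typeP hS hτ hξ hirr (mem_Irr.1 hk) (mem_Irr.1 hl)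

section Coherent

theorem dot_alpha_tau1mu (h : T345Hyp M U W W1 W2) (hc : T345Const M W W1 W2 d δ n)
    (hζ : RefIrr M W1 ζ) (hi : IsIrr W1 i) (hj : IsIrr W2 j) (hj0 : j ≠ cf1 W2)
    (hτ : CoherentWith M ⊤ (calSD M) (sharp M) τ τ1) (hk : IsIrr W2 k) (hk0 : k ≠ cf1 W2) :
    ⟪τ (α i j), τ1 (μ k)⟫[⊤] = ⟪α i j, μ k⟫[M] + d * (⟪τ (α i j), τ1 ζ⟫[⊤] + n) := by
  have hζ' := ref_star hζ
  have h3 := dotτ h (supp_FTtype345_bridge h hc hζ hi hj hj0) (mu_on h hc hζ' hk hk0)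
  rw [coh_sub_smul hτ subset_rfl (mu_mem h hk hk0) hζ'.mem (mu_one h hc hζ' hk hk0), cfdotBr, cfdotBr,
    cfdotZr, cfdotZr, dot_alpha_irr h hi hj hζ'.mem hζ'.irr,
    cfdot_irr_ne hζ.irr hζ'.irr (ref_star_ne hζ).symm,
    dot_alpha_other h hc hζ hi hj hj0 hτ subset_rfl hζ.mem hζ'.mem hζ' (ref_star_ne hζ),
    map_natCast] at h3
  linear_combination h3

/-- (10.5) -/
theorem dot_alpha_zeta (h : T345Hyp M U W W1 W2) (hc : T345Const M W W1 W2 d δ n)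
    (hζ : RefIrr M W1 ζ) (hi : IsIrr W1 i) (hj : IsIrr W2 j) (hj0 : j ≠ cf1 W2)
    (hτ : CoherentWith M ⊤ (calSD M) (sharp M) τ τ1) : ⟪τ (α i j), τ1 ζ⟫[⊤] = -n := by
  obtain ⟨k, hk, hk0, hkj⟩ := exists_irr_ne_ne ((cti h).card_Irr.2 ▸ (cti h).two_lt.2) (cf1 W2) j
  have h1 := cfCauchySchwarz (H := ⊤) (τ (α i j)) (τ1 (μ k))
  rw [dot_alpha_tau1mu h hc hζ hi hj hj0 hτ hk hk0, dot_alpha_mu h hζ hi hj hk, if_neg hkj.symm,
    if_neg hk0.symm, norm_FTtype345_bridge h hc hζ hi hj hj0, hτ.cfnorm (mem_zchar (mu_mem h hk hk0)),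
    cfnorm_prTIred (pti h) hk, mul_zero, sub_zero, zero_add, norm_mul, mul_pow,
    Complex.norm_natCast] at h1
  by_contra hn
  have h2 := ((Cint_cfdot_vchar (vchar_Dade_FTtype345_bridge h hc hζ hi hj hj0)
    (hτ.vchar_mem hζ.mem)).add (isCint_natCast n)).one_le_norm (mt eq_neg_of_add_eq_zero_left hn)
  have h3 : ♯W1 * n ≤ d + 1 := by
    have h3 := hc.ratio
    rcases hc.sign_eq with e | e <;> rw [e] at h3
    · have : (d : ℤ) - 1 = (♯W1 * n : ℕ) := by exact_mod_cast h3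
      omega
    · have : (d : ℤ) - -1 = (♯W1 * n : ℕ) := by exact_mod_cast h3
      omega
  have h4 : ((2 : ℝ) + n ^ 2) * ♯W1 < d ^ 2 := by
    exact_mod_cast ineq105 (cti h).two_lt.1 (n_even h hc).1 h3
  nlinarith [one_le_pow₀ h2 (n := 2), sq_nonneg (d : ℝ)]

theorem tau_alpha (h : T345Hyp M U W W1 W2) (hc : T345Const M W W1 W2 d δ n)
    (hζ : RefIrr M W1 ζ) (hi : IsIrr W1 i) (hj : IsIrr W2 j) (hj0 : j ≠ cf1 W2)
    (hτ : CoherentWith M ⊤ (calSD M) (sharp M) τ τ1) :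
    τ (α i j) = δ • (η i j - η i (cf1 W2)) - n • τ1 ζ :=
  def_tau_alpha h hc hζ hi hj hj0 (hτ.dirr hζ.mem hζ.irr)
    (ortho_eta h hτ (csubD h le_rfl) hζ.mem hζ.irr) (dot_alpha_zeta h hc hζ hi hj hj0 hτ)

/-- (10.6)(a), first part -/
theorem tau1mu (h : T345Hyp M U W W1 W2) (hc : T345Const M W W1 W2 d δ n)
    (hζ : RefIrr M W1 ζ) (hj : IsIrr W2 j) (hj0 : j ≠ cf1 W2)
    (hτ : CoherentWith M ⊤ (calSD M) (sharp M) τ τ1) : τ1 (μ j) = δ • ∑ i ∈ Irr W1, η i j := by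
  rcases FTtypeP_coherent_TIred h.max h.typeP (csubD h le_rfl) hτ hζ.mem hζ.irr hj (mu_mem h hj hj0)
    with h1 | ⟨h1, -⟩
  · rwa [hc.sign j (mem_Irr.2 hj) hj0] at h1
  have hi := isIrr_cf1 W1
  have h2 := dot_alpha_tau1mu h hc hζ hi hj hj0 hτ hj hj0
  rw [dot_alpha_zeta h hc hζ hi hj hj0 hτ, dot_alpha_mu h hζ hi hj hj, tau_alpha h hc hζ hi hj hj0 hτ,
    h1, cfdotZr, cfdotBl, cfdotZl, cfdotBl, cfdotMnl, dot_col' (cti h) hj.star hi hj,
    dot_col' (cti h) hj.star hi (isIrr_cf1 W2),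
    dot_col_eq_zero hj.star (ortho_eta h hτ (csubD h le_rfl) hζ.mem hζ.irr),
    if_neg ((cti h).star_ne2 hj hj0).symm, if_neg hj0.symm,
    if_neg fun e => hj0 (by rw [← star_star j, ← e, star_cf1])] at h2
  simp at h2

/-- (10.6)(a), second part -/
theorem tau1mu0 (h : T345Hyp M U W W1 W2) (hc : T345Const M W W1 W2 d δ n)
    (hζ : RefIrr M W1 ζ) (hτ : CoherentWith M ⊤ (calSD M) (sharp M) τ τ1) :
    τ (μ (cf1 W2) - ζ) = ∑ i ∈ Irr W1, η i (cf1 W2) - τ1 ζ := by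
  obtain ⟨j, hj, hj0⟩ := exists_irr_ne_cf1 h.typeP.W2_ne_bot
  have h1 := tau_mu_sub h hc fun i hi => tau_alpha h hc hζ (mem_Irr.1 hi) hj hj0 hτ
  rw [coh_sub_smul hτ subset_rfl (mu_mem h hj hj0) hζ.mem (mu_one h hc hζ hj hj0),
    tau1mu h hc hζ hj hj0 hτ, left_eq_add, smul_eq_zero, sub_eq_zero] at h1
  exact h1.resolve_left fun e => by simpa [e] using norm_sign hc

theorem tau_eq_Dade (h : T345Hyp M U W W1 W2) (hφ : φ ∈ CFon M (sharp (der M))) :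
    τ φ = Dade ⊤ M (sharp (der M)) φ := by
  rw [← supp_eq h] at hφ ⊢; exact (FT_DadeE h.max hφ).symm

/-- (10.6)(b) -/
theorem zeta_tau1_coprime (h : T345Hyp M U W W1 W2) (hc : T345Const M W W1 W2 d δ n)
    (hζ : RefIrr M W1 ζ) (hτ : CoherentWith M ⊤ (calSD M) (sharp M) τ τ1) {g : G}
    (hg : g ∉ DadeSupp ⊤ M (sharp (der M))) (hco : (orderOf g).Coprime ♯W1) : 1 ≤ ‖τ1 ζ g‖ := by
  classical
  have hW := h.typeP.defW
  have h0 := isIrr_cf1 W2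
  have h1 := congrFun (tau1mu0 h hc hζ hτ) g
  rw [tau_eq_Dade h (mu0_on h hζ), Dade_suppOn _ _ _ _ g hg, Pi.sub_apply, eq_comm, sub_eq_zero,
    Finset.sum_apply, ← Finset.add_sum_erase _ _ (cf1_mem_Irr W1), cycTIiso00 (cti h),
    cf1E (mem_top g)] at h1
  have h2 : ∀ i ∈ (Irr W1).erase (cf1 W1), IsCint (η i (cf1 W2) g) := fun i hi => by
    have hi := mem_Irr.1 (Finset.mem_of_mem_erase hi)
    exact Cint_cycTIiso_coprime (cti h) (isIrr_cycTIirr hW hi h0) (hco.coprime_dvd_right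
      (hW.relIndex_right ▸ cforder_dvd_relIndex (cycTIirr_lin (cti h) hi h0) (cfker_cycTIr hW i)))
  obtain ⟨z, hz⟩ := sum_even h2 star (fun i hi => by
      rw [Finset.mem_erase, mem_Irr] at hi ⊢
      exact ⟨fun e => hi.1 (by rw [← star_star i, e, star_cf1]), hi.2.star⟩)
    (fun i hi => by rw [Finset.mem_erase, mem_Irr] at hi; exact (cti h).star_ne1 hi.2 hi.1)
    (fun i _ => star_star i) fun i hi => by
      rw [← (h2 i hi).conj_eq, ← cfConjCE,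
        star_cycTIeta (cti h) (mem_Irr.1 (Finset.mem_of_mem_erase hi)) h0, star_cf1]
  rw [← h1, hz]
  refine IsCint.one_le_norm ⟨1 + 2 * z, by simp⟩ fun e => ?_
  have : 1 + 2 * z = 0 := by exact_mod_cast e
  omega

theorem disjoint_supp (h : T345Hyp M U W W1 W2) {T : Subgroup G} (hT : IsCoatom T) (h2 : FTtype T = 2) :
    Disjoint (DadeSupp ⊤ M (sharp (der M))) (DadeSupp ⊤ T (FTsupp T)) := by
  rw [← FTsupp1_type_gt2 (gt2 h), FT_Dade_supportE h.max (FTsupp1_sub0 h.max),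
    FT_Dade_supportE hT (FTsupp_sub0 T)]
  by_contra hn
  obtain ⟨g, x, hx, h3, h4⟩ := (FT_Dade_support_disjoint h.max hT fun g e =>
    h.not2 (by rw [← FTtype_conj M g, ← e, h2])).2.1.2 hn
  obtain ⟨-, h5, h6⟩ := FTsupport_facts h.max
  obtain ⟨R, hR⟩ := (h6 x (FTsupp_sub0 M hx) h3).2.2.2.2 (by
    rw [← (h5 x (FTsupp_sub0 M hx) h3).2.eq (isCoatom_conj hT g) h4, FTtype_conj, h2])
  exact typePF_exclusion h.typeP R (Frobenius_of_typeF hR)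

/-- (10.7) -/
theorem Frob_der1_type2 (h : T345Hyp M U W W1 W2) (hc : T345Const M W W1 W2 d δ n)
    (hζ : RefIrr M W1 ζ) (hτ : CoherentWith M ⊤ (calSD M) (sharp M) τ τ1) {T V : Subgroup G}
    (hT : IsCoatom T) (h2 : FTtype T = 2) (hV : OfTypeP T V W W2 W1) : IsFrob (der T) (Fcore T) V := by
  classical
  obtain ⟨H0, hH0⟩ := Ptype_Fcore_kernel_exists hT hV (by omega)
  refine (typeP_reducible_core_cases hH0).elim (fun ⟨l, hl, hl1, hl2, _⟩ => False.elim ?_)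
    fun h3 => h3.2.2.2.2 h2
  obtain ⟨-, ⟨ν, hν, hν'⟩, h3⟩ := typeP_reducible_core_Ind hH0
  obtain ⟨⟨r, hr, hr0, rfl⟩, hν1, -⟩ := h3 ν hν hν'
  obtain ⟨R, hR⟩ := FTtypeP_coh_base hT hV
  have hS : ∀ {Y φ}, φ ∈ calSH T Y → φ ∈ calSP T := fun hφ => by
    rw [calSP, FTcore_type2 h2]; exact seqIndDS _ _ bot_le le_rfl hφ
  obtain ⟨S2, m1, m2, hS2, τ2, hτ2⟩ := pair_degree_coherence hR.subcoh (hS hν) (hS hl1) (hν1.trans hl2.symm)
  have hon : ∀ {φ}, φ ∈ calSP T → φ ∈ CFon T (insert 1 (FTsupp T)) := fun hφ => by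
    obtain ⟨θ, hθ, -, h4, rfl⟩ := mem_seqIndD.1 hφ
    exact prDade_Ind_irr_on (FT_prDade_hyp hT hV) hθ h4
  have h4 : prTIred T W W2 W1 r - l ∈ CFon T (FTsupp T) := by
    have := sub_mem (hon (hS hν)) (hon (hS hl1))
    refine ⟨this.1, fun x hx => ?_⟩
    by_cases e : x = 1
    · rw [e, Pi.sub_apply, hν1, hl2, sub_self]
    · exact this.2 x (by simp [e, hx])
  obtain ⟨j, hj, hj0⟩ := exists_irr_ne_cf1 h.typeP.W2_ne_bot
  have h5 := disjoint_Dade_ortho (disjoint_supp h hT h2) (μ j - (d : ℂ) • ζ) (prTIred T W W2 W1 r - l)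
  have h6 := hτ2.sub_smul (fun φ hφ => hR.subcoh.mem_CF (hS2.1 hφ)) m1 m2 isCint_one
    (by rw [hν1, hl2, one_mul])
  simp only [one_smul] at h6
  obtain ⟨e, r', he, hr', h7⟩ : ∃ (e : ℂ) (r' : G → ℂ), (e = 1 ∨ e = -1) ∧ IsIrr W1 r' ∧
      τ2 (prTIred T W W2 W1 r) = e • ∑ k ∈ Irr W2, η r' k := by
    have := sgn_eq T W W2 W1 r
    rcases FTtypeP_coherent_TIred hT hV hS2 hτ2 m2 hl hr m1 with h7 | ⟨h7, -⟩
    · exact ⟨_, r, this, hr, h7.trans (congrArg _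
        (Finset.sum_congr rfl fun k hk => cycTIetaC (cti h) hr (mem_Irr.1 hk)))⟩
    · exact ⟨_, star r, by rcases this with e | e <;> simp [e], hr.star, h7.trans (congrArg _
        (Finset.sum_congr rfl fun k hk => cycTIetaC (cti h) hr.star (mem_Irr.1 hk)))⟩
  obtain ⟨z, hz⟩ := Cint_cfdot_vchar (hτ.vchar_mem hζ.mem) (hτ2.vchar_mem m2)
  rw [← tau_eq_Dade h (mu_on h hc hζ hj hj0), FT_DadeE hT h4, h6, h7,
    coh_sub_smul hτ subset_rfl (mu_mem h hj hj0) hζ.mem (mu_one h hc hζ hj hj0),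
    tau1mu h hc hζ hj hj0 hτ, cfdotBl, cfdotZl, cfdotZl, cfdotBr, cfdotBr, cfdotZr, cfdotZr,
    cfdotC (∑ i ∈ Irr W1, η i j), dot_row_col (cti h) hr' hj, hz,
    dot_row_eq_zero hr' (ortho_eta h hτ (csubD h le_rfl) hζ.mem hζ.irr),
    cfdot_symm0 (dot_col_eq_zero hj fun k hk l hl' => by
      rw [← cycTIetaC (cti h) (mem_Irr.1 hk) (mem_Irr.1 hl')]
      exact coherent_ortho_cycTIiso hT hV hS2 hτ2 m2 hl (mem_Irr.1 hl') (mem_Irr.1 hk))] at h5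
  have h8 : (d : ℤ) ∣ 1 := by
    rcases he with rfl | rfl <;> rcases hc.sign_eq with rfl | rfl
    · exact ⟨-z, by have : (1 : ℂ) = d * (-z) := by simp at h5; linear_combination h5
                    exact_mod_cast this⟩
    · exact ⟨z, by have : (1 : ℂ) = d * z := by simp at h5; linear_combination -h5
                   exact_mod_cast this⟩
    · exact ⟨z, by have : (1 : ℂ) = d * z := by simp at h5; linear_combination -h5
                   exact_mod_cast this⟩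
    · exact ⟨-z, by have : (1 : ℂ) = d * (-z) := by simp at h5; linear_combination h5
                    exact_mod_cast this⟩
  exact hc.one_lt.ne' (Nat.dvd_one.1 (by exact_mod_cast h8))

theorem cover_G1 (h : T345Hyp M U W W1 W2) {T V : Subgroup G} (hT : IsCoatom T) (h2 : FTtype T = 2)
    (hV : OfTypeP T V W W2 W1) (hF : IsFrob (der T) (Fcore T) V) {g : G}
    (hg : ¬ (orderOf g).Coprime ♯W1) :
    g ∈ classSupp (sharp (Fcore T)) ⊤ ∪ classSupp (cycTIset W1 W2) ⊤ := by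
  obtain ⟨p, hp, h3, h4⟩ := Nat.Prime.not_coprime_iff_dvd.1 hg
  have := Fact.mk hp
  obtain ⟨a, ha, ho⟩ := cauchy hp (H := zpowers g) (by rwa [Nat.card_zpowers])
  obtain ⟨P, hP⟩ := exists_syl p (Fcore T)
  obtain ⟨y, -, hy⟩ := (hP.trans_hall (FTcore_facts hT).1.hall
    ⟨hp, h4.trans (card_dvd hV.W2_le)⟩).exists_conj_le (Q := zpowers a) le_top
    (isPGroup_of_card_prime_pow (n := 1) (by rw [Nat.card_zpowers, ho, pow_one]))
  have hb : y * a * y⁻¹ ∈ sharp (Fcore T) := ⟨hP.le (hy (conj_mem_conj (mem_zpowers a))),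
    conj_ne_one.2 (by rintro rfl; exact hp.one_lt.ne (by simpa using ho))⟩
  have hx : y * g * y⁻¹ ∈ 𝐂[y * a * y⁻¹] := by
    rw [cent1_conj]; exact conj_mem_conj (cent1_le_of_mem_zpowers ha (mem_cent1_self g))
  have hxT : y * g * y⁻¹ ∈ T := (FTtypeII_ker_TI hT h2).2.2.cent1_le (FTsupp1_type2 h2 ▸ hb) ⟨trivial, hx⟩
  by_cases h5 : y * g * y⁻¹ ∈ der T
  · refine Or.inl ((classSupp_conj_mem_iff (mem_top y)).1 (subset_classSupp _ _
      ⟨hF.cent1_ker hb.1 hb.2 ⟨h5, hx⟩, conj_ne_one.2 ?_⟩))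
    rintro rfl
    exact hg (by simp)
  obtain ⟨z, -, w, hw, hw1, e⟩ := (FT_primeTI_hyp hV).exists_conj hxT h5
  refine Or.inr ((classSupp_conj_mem_iff (mem_top y)).1 (e ▸ conj_mem_classSupp
    ((mem_cycTIset' h.typeP.defW).2 ⟨hw, hw1, fun hw2 => hg ?_⟩) (mem_top z)))
  rw [← orderOf_conj y, e, orderOf_conj]
  exact (cti h).coprime.symm.coprime_dvd_left (orderOf_dvd_card hw2)

theorem ineq108 {w1 w2 m h v g1 : ℝ} (h1 : 3 ≤ w1) (h2 : 0 < w2) (h3 : 7 ≤ v) (h4 : 0 < h)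
    (hm : (2 * w1 + 1) * w2 ≤ m) (h5 : g1 ≤ (h - 1) / (h * v * w2) + (w1 - 1) * (w2 - 1) / (w1 * w2)) :
    0 < -g1 + (1 - w1 / m - (m - 1) / (m * w1)) := by
  have hm0 : 0 < m := lt_of_lt_of_le (by positivity) hm
  have a1 : (h - 1) / (h * v * w2) ≤ 1 / (7 * w2) := by
    rw [div_le_div_iff₀ (by positivity) (by positivity)]
    nlinarith [mul_le_mul_of_nonneg_left h3 (mul_pos h4 h2).le]
  have a2 : (m - 1) / (m * w1) ≤ 1 / w1 := by
    rw [div_le_div_iff₀ (by positivity) (by positivity)]; nlinarith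
  have a3 : w1 / m ≤ 1 / (2 * w2) := by
    rw [div_le_div_iff₀ (by positivity) (by positivity)]; nlinarith
  have a4 : (w1 - 1) * (w2 - 1) / (w1 * w2) = 1 - 1 / w1 - 1 / w2 + 1 / (w1 * w2) := by
    field_simp; ring
  have a5 : 1 / (w1 * w2) ≤ 1 / (3 * w2) := by gcongr
  have a6 : 1 / (7 * w2) + 1 / (2 * w2) + 1 / (3 * w2) < 1 / w2 := by
    field_simp; norm_num
  linarith

theorem two_mul_le_relIndex (h : OfTypeP M U W W1 W2) {N : Subgroup G} (h1 : der2 M ≤ N)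
    (h2 : N < der M) (h3 : N ⊴ M) : 2 * ♯W1 + 1 ≤ N.relIndex (der M) := by
  have h4 := card_seqIndD_lin (FT_primeTI_hyp h) h.W2_le_der2 h1 h2.le h3
  obtain ⟨ζ, hζ⟩ := seqIndD_nonempty M (h3.mono h2.le (der_le M)) h2.not_ge
  have := seqInd_nontrivial (mFT_odd M) (der_normal M) le_rfl hζ
  nlinarith

/-- (10.8) -/
theorem noncoherence_main (h : T345Hyp M U W W1 W2) (hτ : CoherentWith M ⊤ (calSD M) (sharp M) τ τ1) :
    False := by
  classical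
  obtain ⟨d, δ, n, hc⟩ := FTtype345_constants h
  obtain ⟨ζ, hζ⟩ := FTtypeP_ref_irr h.max h.typeP
  obtain ⟨T, V, hT, h2, hV⟩ := exists_partner h
  have hF := Frob_der1_type2 h hc hζ hτ hT h2 hV
  have hD : DadeHyp ⊤ M (sharp (der M)) := (pdd h).dadeA
  have hm : (2 * ♯W1 + 1) * ♯W2 ≤ ♯(der M) := by
    rw [← card_mul_relIndex (der2_lt h.typeP).le, mul_comm]
    exact Nat.mul_le_mul (card_le h.typeP.W2_le_der2)
      (two_mul_le_relIndex h.typeP le_rfl (der2_lt h.typeP) (der_normal M).der)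
  have hi := (pti h).relIndex
  obtain ⟨-, ⟨_, -, -, -, -, h3⟩, -⟩ := Dade_Ind1_sub_lin hD
    (hτ.congr fun φ hφ => tau_eq_Dade h (zcharD1_seqInd_on (der_normal M) (seqInd_subT _ _ _ _) hφ))
    (seqInd_nontrivial (mFT_odd M) (der_normal M) le_rfl hζ.mem) hζ.irr hζ.mem (hi ▸ hζ.deg) rfl
  replace h3 := (h3 (by rw [hi]; nlinarith [card_pos' W2])).1
  have h4 := Dade_cover_inequality {()} (fun _ => M) (fun _ => sharp (der M)) (fun _ _ => hD)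
    (fun _ _ _ _ e => (e rfl).elim) rfl (hτ.dirr hζ.mem hζ.irr).mem_CF (hτ.dirr hζ.mem hζ.irr).cfnorm
  set G0 := ((⊤ : Subgroup G) : Set G) \ ⋃ i ∈ ({()} : Finset Unit), DadeSupp ⊤ M (sharp (der M))
  set G1 := classSupp (sharp (Fcore T)) ⊤ ∪ classSupp (cycTIset W1 W2) ⊤
  have h5 : -(G1.ncard : ℝ) ≤ ∑ g ∈ elts G0, ‖τ1 ζ g‖ ^ 2 - G0.ncard := by
    have h6 : (G0.ncard : ℝ) ≤ (G0 \ G1).ncard + G1.ncard := by
      exact_mod_cast (Set.ncard_le_ncard (Set.subset_sdiff_union G0 G1)).trans (Set.ncard_union_le _ _)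
    have h7 : ((G0 \ G1).ncard : ℝ) ≤ ∑ g ∈ elts (G0 \ G1), ‖τ1 ζ g‖ ^ 2 := by
      rw [← card_elts_set, Finset.card_eq_sum_ones, Nat.cast_sum]
      refine Finset.sum_le_sum fun g hg => ?_
      rw [mem_elts] at hg
      exact_mod_cast one_le_pow₀ (zeta_tau1_coprime h hc hζ hτ (by simpa [G0] using hg.1)
        (by_contra fun e => hg.2 (cover_G1 h hT h2 hV hF e)))
    have h8 : ∑ g ∈ elts (G0 \ G1), ‖τ1 ζ g‖ ^ 2 ≤ ∑ g ∈ elts G0, ‖τ1 ζ g‖ ^ 2 :=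
      Finset.sum_le_sum_of_subset_of_nonneg (fun g hg => mem_elts.2 (mem_elts.1 hg).1)
        fun _ _ _ => by positivity
    linarith
  have hFU := Ptype_compl_Frobenius hT hV (by omega)
  have h6 := odd_Frobenius_index_ler (mFT_odd _) hFU.isFrobKer
  rw [hFU.sdprod.relIndex_left] at h6
  have hW := (cti h).two_lt
  have h7 : (G1.ncard : ℝ) / ♯(⊤ : Subgroup G) ≤ (♯(Fcore T) - 1) / (♯(Fcore T) * ♯V * ♯W2) +
      (♯W1 - 1) * (♯W2 - 1) / (♯W1 * ♯W2) := by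
    have h8 := Set.ncard_union_le (classSupp (sharp (Fcore T)) ⊤) (classSupp (cycTIset W1 W2) ⊤)
    have h9 := (FTtypeII_ker_TI hT h2).2.2
    rw [FTsupp1_type2 h2] at h9
    rw [h9.ncard_classSupp, h.typeP.tiV.ncard_classSupp, ncard_sharp, ncard_cycTIset h.typeP.defW] at h8
    have e1 : (♯(Fcore T) * ♯V * ♯W2 : ℝ) * T.relIndex ⊤ = ♯(⊤ : Subgroup G) := by
      rw [← card_mul_relIndex (le_top : T ≤ ⊤), ← hV.defM.card, ← hV.defM'.card]; push_cast; rfl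
    have e2 : (♯W1 * ♯W2 : ℝ) * W.relIndex ⊤ = ♯(⊤ : Subgroup G) := by
      rw [← card_mul_relIndex (le_top : W ≤ ⊤), ← h.typeP.defW.card]; push_cast; rfl
    have p1 : (0 : ℝ) < T.relIndex ⊤ := by exact_mod_cast relIndex_pos _ _
    have p2 : (0 : ℝ) < W.relIndex ⊤ := by exact_mod_cast relIndex_pos _ _
    rw [← mul_div_mul_right (_ - _) _ p1.ne', ← mul_div_mul_right ((_ - _) * (_ - _)) _ p2.ne', e1, e2,
      ← add_div]
    gcongr
    have := card_pos' (Fcore T)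
    rify [show 1 ≤ ♯(Fcore T) by omega, show 1 ≤ ♯W1 by omega, show 1 ≤ ♯W2 by omega] at h8
    exact h8
  have h8 := ineq108 (m := ♯(der M)) (by exact_mod_cast hW.1) (cardR_pos W2) (by exact_mod_cast (by omega : 7 ≤ ♯V))
    (cardR_pos _) (by exact_mod_cast hm) h7
  rw [Finset.sum_singleton, ncard_sharp, Nat.cast_sub (card_pos' _), ← h.typeP.defM.card] at h4
  rw [hi] at h3
  have h9 := mul_le_mul_of_nonneg_left h5 (inv_pos.2 (cardR_pos (⊤ : Subgroup G))).le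
  rw [div_eq_inv_mul] at h8
  push_cast at h4
  linarith

end Coherent

end P10

theorem FTtype345_noncoherence (hM : IsCoatom M) (ht : 2 < FTtype M) :
    ¬ Coherent M ⊤ (calSD M) (sharp M) (FTDade0 M) := fun ⟨_, hτ⟩ => by
  obtain ⟨U, W, W1, W2, h⟩ := FTtypeP_witness hM (by omega)
  exact P10.noncoherence_main ⟨hM, h, by omega⟩ hτ

end Cfsg.Agent.OO.Pf
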