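import Cfsg.Agent.Lib.OO.PF10

/-! # Peterfalvi section 11, part A: (11.1) to (11.7) -/

set_option autoImplicit false
set_option linter.unusedSectionVars false
set_option linter.unusedVariables false

namespace Cfsg.Agent.OO.Pf

open Subgroup Cfsg.Agent.Coprime
open scoped Pointwise ComplexConjugate commutatorElement

universe u

theorem lbound_expn_odd_prime {p q : ℕ} (hp : p.Prime) (hq : q.Prime) (op : Odd p) (oq : Odd q)
    (hpq : p ≠ q) : 4 * q ^ 2 + 1 < p ^ q := by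
  have h1 := hp.two_le
  have h2 := hq.two_le
  obtain ⟨a, ha⟩ := op
  obtain ⟨b, hb⟩ := oq
  by_cases h3 : q = 3
  · subst h3
    exact lt_of_lt_of_le (by norm_num) (Nat.pow_le_pow_left (show 5 ≤ p by omega) 3)
  refine lt_of_lt_of_le ?_ (Nat.pow_le_pow_left (show 3 ≤ p by omega) q)
  have h4 : 5 ≤ q := by omega
  clear * - h4
  induction q, h4 using Nat.le_induction with
  | base => norm_num
  | succ n hn ih => rw [pow_succ 3]; nlinarith

namespace P11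

section Group
variable {G : Type u} [Group G] [Finite G] {H H0 H1 K U A B N : Subgroup G}

theorem secCent_eq (h : H ≤ 𝐍(N)) : secCent H N = quoPre N 𝐂(H ⁒ N) :=
  Subgroup.ext fun _ => (mem_quoPre_cent h).symm

theorem le_norm_secCent (h : H ≤ 𝐍(N)) (h1 : A ≤ 𝐍(H)) (h2 : A ≤ 𝐍(N)) : A ≤ 𝐍(secCent H N) :=
  secCent_eq h ▸ le_norm_quoPre h2 (le_norm_cent (quo_le_norm N h1))

theorem le_secCent_symm (h : A ≤ secCent B N) (hB : B ≤ 𝐍(N)) : B ≤ secCent A N :=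
  fun b hb => ⟨hB hb, fun a ha => by simpa [mul_assoc] using inv_mem ((h ha).2 b hb)⟩

theorem le_of_inverted (hK : U ≤ 𝐍(K)) (ho : Odd ♯U) {w : G} (hw : w ∈ 𝐍(U)) (how : Odd (orderOf w))
    (h : ∀ v ∈ U, v * (w⁻¹ * v * w) ∈ K) : U ≤ K := fun v hv => by
  have h1 : ∀ v ∈ U, coset K (w⁻¹ * v * w) = (coset K v)⁻¹ := fun v hv =>
    eq_inv_of_mul_eq_one_right (by
      rw [← coset_mul (hK hv) (hK (conj_mem_of_norm' hw hv))]; exact coset_eq_one (h v hv))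
  have h2 : ∀ m : ℕ, ∀ v ∈ U, coset K ((w ^ (2 * m))⁻¹ * v * w ^ (2 * m)) = coset K v := fun m => by
    induction m with
    | zero => simp
    | succ m ih =>
      intro v hv
      have h3 := conj_mem_of_norm' hw hv
      rw [← inv_inv (coset K v), ← h1 v hv, ← h1 _ h3, ← ih _ (conj_mem_of_norm' hw h3)]
      congr 1; group
  obtain ⟨m, hm⟩ := how
  have h3 : coset K v = (coset K v)⁻¹ := by
    rw [← h1 v hv, ← h2 m _ (conj_mem_of_norm' hw hv)]
    congr 1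
    calc v = (w ^ (2 * m + 1))⁻¹ * v * w ^ (2 * m + 1) := by rw [← hm, pow_orderOf_eq_one]; group
      _ = _ := by group
  rw [← coset_eq_one_iff (hK hv), ← orderOf_eq_one_iff]
  exact Nat.Coprime.eq_one_of_dvd (Odd.coprime_two_right (ho.of_dvd_nat
    ((orderOf_coset_dvd K v).trans (orderOf_dvd_card hv))))
    (orderOf_dvd_of_pow_eq_one (by rw [pow_two]; exact mul_eq_one_iff_eq_inv.2 h3))

theorem exists_pow_action (h : H1 ≤ 𝐍(H0)) (hc : IsCyclic (H1 ⁒ H0 : Subgroup _)) {v : G}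
    (h0 : v ∈ 𝐍(H0)) (h1 : v ∈ 𝐍(H1)) :
    ∃ a : ℕ, ∀ t ∈ H1, coset H0 (v * t * v⁻¹) = coset H0 t ^ a := by
  obtain ⟨c, hc⟩ := exists_zpowers_eq hc
  obtain ⟨a, ha⟩ := mem_powers_iff_mem_zpowers.2
    (hc.ge (conj_mem_of_norm (coset_mem_norm H0 h1) (hc.le (mem_zpowers c))))
  refine ⟨a, fun t ht => ?_⟩
  obtain ⟨k, hk⟩ := mem_powers_iff_mem_zpowers.2 (hc.ge (coset_mem_quo H0 ht))
  simp only at ha hk
  rw [coset_conj h0 (h ht), ← hk, ← conj_pow, ← ha, ← pow_mul, ← pow_mul, mul_comm]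

/-- the situation of (11.7): the commutator form on `H / H'` -/
structure Form (H U : Subgroup G) (χ l : G → ℂ) : Prop where
  irr : IsIrr H χ
  lin : IsLinChar (der H) l
  ker : ⁅der H, H⁆ ≤ cfker H χ
  not_ker : ¬ der H ≤ cfker H χ
  mul : ∀ z ∈ der H, ∀ y, χ (z * y) = l z * χ y
  norm : U ≤ 𝐍(H)
  cent : U ≤ 𝐂(der H)

variable {χ l : G → ℂ} {x y x' y' z : G}

theorem Form.ker_iff (h : Form H U χ l) (hz : z ∈ der H) : z ∈ cfker H χ ↔ l z = 1 := by
  rw [cfkerEchar h.irr.isChar, ← mul_one z, h.mul z hz, mul_one, mul_eq_right₀ (irr1_neq0 h.irr)]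
  simp [der_le H hz]

theorem Form.conj (h : Form H U χ l) (hz : z ∈ der H) (hx : x ∈ H) : l (x * z * x⁻¹) = l z :=
  mul_right_cancel₀ (irr1_neq0 h.irr) (by
    rw [← h.mul _ ((der_normal H).conj_mem hx hz), ← h.mul _ hz, mul_one, mul_one,
      cfunJ h.irr.mem_CF hx])

theorem Form.mulL (h : Form H U χ l) (hx : x ∈ H) (hx' : x' ∈ H) (hy : y ∈ H) :
    l ⁅x * x', y⁆ = l ⁅x, y⁆ * l ⁅x', y⁆ := by
  have h1 := commutator_mem_commutator hx' hy
  rw [mul_comm, ← h.conj h1 hx, ← lin_charM h.lin ((der_normal H).conj_mem hx h1)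
    (commutator_mem_commutator hx hy)]
  congr 1; simp only [commutatorElement_def]; group

theorem Form.swap (h : Form H U χ l) (hx : x ∈ H) (hy : y ∈ H) : l ⁅y, x⁆ = (l ⁅x, y⁆)⁻¹ := by
  rw [← lin_charV h.lin (commutator_mem_commutator hx hy), commutatorElement_inv]

theorem Form.powL (h : Form H U χ l) (hx : x ∈ H) (hy : y ∈ H) (a : ℕ) :
    l ⁅x ^ a, y⁆ = l ⁅x, y⁆ ^ a := by
  induction a with
  | zero => simp [h.lin.one]
  | succ a ih => rw [pow_succ, h.mulL (pow_mem hx a) hx hy, ih, pow_succ]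

theorem Form.derL (h : Form H U χ l) (hz : z ∈ der H) (hy : y ∈ H) : l ⁅z, y⁆ = 1 :=
  (h.ker_iff (commutator_mem_commutator (der_le H hz) hy)).1 (h.ker (commutator_mem_commutator hz hy))

theorem Form.cosetL (h : Form H U χ l) (hx : x ∈ H) (hx' : x' ∈ H) (hy : y ∈ H) {a : ℕ}
    (e : coset (der H) x' = coset (der H) x ^ a) : l ⁅x', y⁆ = l ⁅x, y⁆ ^ a := by
  have hn := (der_normal H).2
  rw [← coset_pow (hn hx), eq_comm, coset_eq_iff (hn (pow_mem hx a)) (hn hx')] at e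
  rw [← h.powL hx hy, ← mul_inv_cancel_left (x ^ a) x', h.mulL (pow_mem hx a) (der_le H e) hy,
    h.derL e hy, mul_one]

theorem Form.norm_inf (h : Form H U χ l) : U ≤ 𝐍(der H ⊓ cfker H χ) :=
  le_norm_of_le_cent (h.cent.trans (cent_anti inf_le_left))

theorem Form.not_le (h : Form H U χ l) : ¬ H ≤ secCent H (der H ⊓ cfker H χ) := fun e =>
  h.not_ker (commutator_le.2 fun x hx y hy => ((e hx).2 y hy).2)

theorem Form.normal (h : Form H U χ l) : H ≤ 𝐍(der H ⊓ cfker H χ) :=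
  le_norm_inf (der_normal H).2 (cfker_normal h.irr.mem_CF).2

theorem Form.galois (h : Form H U χ l)
    (hg : ∀ X : Subgroup G, der H ≤ X → X ≤ H → U ≤ 𝐍(X) → X = der H ∨ X = H) :
    IsSquare ((der H).relIndex H) := by
  have h1 := (hg (H ⊓ secCent H (der H ⊓ cfker H χ)) (le_inf (der_le H) fun z hz =>
    ⟨h.normal (der_le H hz), fun y hy => ⟨commutator_mem_commutator (der_le H hz) hy,
      h.ker (commutator_mem_commutator hz hy)⟩⟩) inf_le_left
    (le_norm_inf h.norm (le_norm_secCent h.normal h.norm h.norm_inf))).resolve_right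
    fun e => h.not_le (e.ge.trans inf_le_right)
  have h2 : χ ∈ suppOn (der H : Set G) := fun x hx => by
    by_contra h0
    have hxH : x ∈ H := by_contra fun e => h0 (cfun0 h.irr.mem_CF e)
    refine hx (h1.le ⟨hxH, h.normal hxH, fun y hy => ?_⟩)
    have h3 := commutator_mem_commutator hxH hy
    refine ⟨h3, (h.ker_iff h3).2 ?_⟩
    rw [h.swap hy hxH, inv_eq_one, ← mul_eq_right₀ h0, ← h.mul _ (commutator_mem_commutator hy hxH),
      commutatorElement_def, inv_mul_cancel_right, cfunJ h.irr.mem_CF hy]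
  have h3 := cfdot_of_suppOn (der_le H) h2 χ
  obtain ⟨d, -, hd⟩ := h.irr.exists_one
  have h4 : ∀ z ∈ der H, χ z = ((d : ℂ) • l) z := fun z hz => by
    rw [← mul_one z, h.mul z hz, mul_one, hd, mul_comm]; rfl
  rw [cfdot_irr_self h.irr, mul_one, cfdot_congr h4 h4, cfdotZl, cfdotZr, cfdot_irr_self h.lin.isIrr,
    mul_one, map_natCast] at h3
  exact ⟨d, by exact_mod_cast h3⟩

theorem Form.nonGalois (h : Form H U χ l) {p : ℕ} (hp : p.Prime) (h1 : H1 ≤ H)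
    (hc : (der H).relIndex H1 = p) (hn : U ≤ 𝐍(H1)) (hs : ⨆ w ∈ A, w •ᶜ H1 = H) (hU : A ≤ 𝐍(U))
    (hH : A ≤ 𝐍(H)) (oU : Odd ♯U) (oA : Odd ♯A) : U ≤ secCent H1 (der H) := by
  have hN : H ≤ 𝐍(der H) := (der_normal H).2
  have hN1 := h1.trans hN
  have hUN := h.norm.trans (norm_le_norm_der H)
  have hAN := hH.trans (norm_le_norm_der H)
  have h2 : ∀ w ∈ A, w •ᶜ H1 ≤ H := fun w hw => conj_le_of_mem_norm (hH hw) h1
  obtain ⟨w1, hw1, w2, hw2, s, hs, t, ht, h3⟩ : ∃ w1 ∈ A, ∃ w2 ∈ A, ∃ s ∈ H1, ∃ t ∈ H1,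
      l ⁅w1 * s * w1⁻¹, w2 * t * w2⁻¹⁆ ≠ 1 := by
    by_contra! hn
    refine h.not_le (hs.ge.trans (iSup₂_le fun w2 hw2 => le_secCent_symm (hs.ge.trans (iSup₂_le
      fun w1 hw1 x hx => ⟨h.normal (h2 w1 hw1 hx), fun y hy => ?_⟩)) ((h2 w2 hw2).trans h.normal)))
    have := commutator_mem_commutator (h2 w1 hw1 hx) (h2 w2 hw2 hy)
    obtain ⟨s, hs, rfl⟩ := mem_conj_iff_exists.1 hx
    obtain ⟨t, ht, rfl⟩ := mem_conj_iff_exists.1 hy
    exact ⟨this, (h.ker_iff this).2 (hn w1 hw1 w2 hw2 s hs t ht)⟩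
  rw [← card_quo hN1] at hc
  have h4 : ∀ t ∈ H1, coset (der H) t ^ p = 1 := fun t ht =>
    orderOf_dvd_iff_pow_eq_one.1 (hc ▸ orderOf_dvd_card (coset_mem_quo _ ht))
  have h5 : ∀ {w s v a}, w ∈ A → s ∈ H1 → v ∈ U → coset (der H) (v * s * v⁻¹) = coset (der H) s ^ a →
      coset (der H) (w * (v * s * v⁻¹) * w⁻¹) = coset (der H) (w * s * w⁻¹) ^ a := fun hw hs hv e => by
    rw [coset_conj (hAN hw) (hN1 (conj_mem_of_norm (hn hv) hs)), e, coset_conj (hAN hw) (hN1 hs), conj_pow]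
  have hw := mul_mem (inv_mem hw1) hw2
  refine le_of_inverted (le_norm_secCent hN1 hn hUN) oU (hU hw)
    (oA.of_dvd_nat (orderOf_dvd_card hw)) fun v hv => ?_
  have hv' := conj_mem_of_norm' (hU hw) hv
  set v' := (w1⁻¹ * w2)⁻¹ * v * (w1⁻¹ * w2) with e
  obtain ⟨a, ha⟩ := exists_pow_action hN1 (isCyclic_of_prime (hc ▸ hp)) (hUN hv) (hn hv)
  obtain ⟨b, hb⟩ := exists_pow_action hN1 (isCyclic_of_prime (hc ▸ hp)) (hUN hv') (hn hv')
  have hx := h2 w1 hw1 (conj_mem_conj hs)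
  have hy := h2 w2 hw2 (conj_mem_conj ht)
  have hx' := h2 w1 hw1 (conj_mem_conj (conj_mem_of_norm (hn hv) hs))
  have hy' := h2 w2 hw2 (conj_mem_conj (conj_mem_of_norm (hn hv') ht))
  have h6 := h.cosetL hx hx' hy' (h5 hw1 hs hv (ha s hs))
  rw [h.swap hy' hx, h.cosetL hy hy' hx (h5 hw2 ht hv' (hb t ht)), ← inv_pow, ← h.swap hy hx, ← pow_mul,
    show ⁅w1 * (v * s * v⁻¹) * w1⁻¹, w2 * (v' * t * v'⁻¹) * w2⁻¹⁆ = (w1 * v * w1⁻¹) *
      ⁅w1 * s * w1⁻¹, w2 * t * w2⁻¹⁆ * (w1 * v * w1⁻¹)⁻¹ by simp only [e, commutatorElement_def]; group,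
    mem_cent_iff_conj.1 (h.cent (conj_mem_of_norm (hU hw1) hv)) _ (commutator_mem_commutator hx hy)] at h6
  have := Fact.mk hp
  have h7 : orderOf (l ⁅w1 * s * w1⁻¹, w2 * t * w2⁻¹⁆) = p := orderOf_eq_prime (by
    rw [← h.cosetL hx (one_mem _) hy (by rw [coset_conj (hAN hw1) (hN1 hs), conj_pow, h4 s hs]; simp)]
    simp [h.lin.one]) h3
  have h8 : b * a ≡ 1 [MOD p] := by
    rw [← h7, ← (isOfFinOrder_iff_pow_eq_one.2 ⟨p, hp.pos, h7 ▸ pow_orderOf_eq_one _⟩).pow_eq_pow_iff_modEq,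
      pow_one, ← h6]
  refine ⟨mul_mem (hUN hv) (hUN hv'), fun t ht => ?_⟩
  have h9 := conj_mem_of_norm (hn hv') ht
  rw [← coset_eq_one_iff (hN1 (mul_mem (conj_mem_of_norm (hn (mul_mem hv hv')) ht) (inv_mem ht))),
    coset_mul (hN1 (conj_mem_of_norm (hn (mul_mem hv hv')) ht)) (hN1 (inv_mem ht)), coset_inv,
    mul_inv_eq_one, show v * v' * t * (v * v')⁻¹ = v * (v' * t * v'⁻¹) * v⁻¹ by group, ha _ h9, hb t ht,
    ← pow_mul, pow_eq_pow_of_modEq h8 (h4 t ht), pow_one]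

theorem relIndex_sup_dprod (h : IsDprod H K N) (h0 : H0 ≤ H) : (H0 ⊔ K).relIndex N = H0.relIndex H := by
  have h1 := le_norm_of_le_cent h.le_cent
  rw [← h.sup_eq, ← sup_eq_left.2 h0, sup_assoc, relIndex_sup_eq (Or.inr (sup_le (le_norm_of_le h0) h1)),
    ← inf_relIndex_right, sup_inf_of_le_left (Or.inr (le_norm_of_le_cent (h.le_cent.trans (cent_anti h0))))
      h0, inf_comm, h.inf_eq, sup_bot_eq, sup_eq_left.2 h0]

theorem arith115 {x u q s t : ℕ} (h1 : s * q + 1 = x * u) (h2 : t * q + 1 = u) (h3 : 1 < u)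
    (h4 : x * u ≤ 2 * (u * q) + 1) (ox : Odd x) (oq : Odd q) : x = 1 := by
  obtain ⟨k, hk⟩ : q ∣ x - 1 := (Nat.modEq_iff_dvd' ox.pos).1 (by
    have h5 : ∀ a, a * q + 1 ≡ 1 [MOD q] := fun a => by simp [Nat.ModEq]
    exact ((h5 s).symm.trans (h1 ▸ ((h2 ▸ h5 t).mul_left x))).trans (by rw [mul_one]))
  obtain ⟨a, ha⟩ := ox
  obtain ⟨b, hb⟩ := oq
  have h5 : x ≤ 2 * q := by nlinarith
  have h6 : k < 2 := by
    by_contra e
    have := Nat.mul_le_mul_left q (not_lt.1 e)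
    omega
  interval_cases k <;> omega

end Group

variable {G : Type u} [Group G] [Finite G] [MinOdd G] {M U W W1 W2 H0 : Subgroup G}

local notation "𝓗" => Fcore M
local notation "𝓒" => U ⊓ 𝐂(Fcore M)

theorem t345 (h : PtypeHyp M U W W1 W2 H0) (h2 : FTtype M ≠ 2) : T345Hyp M U W W1 W2 :=
  ⟨h.max, h.typeP, h2⟩

theorem defF (h : OfTypeP M U W W1 W2) : 𝓗 ⊔ 𝓒 = Fit M := (typeP_context h).1.sup_eq

theorem normal_C (h : OfTypeP M U W W1 W2) : 𝓒 ⊴ M := by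
  have h1 := Ptype_Fcore_sdprod h
  refine ⟨inf_le_left.trans (le_sup_left.trans h1.right_le), h1.sup_eq.ge.trans (sup_le
    (le_norm_of_le_cent (le_cent_symm inf_le_right)) (le_norm_inf ?_ (le_norm_cent h1.le_norm)))⟩
  exact sup_le (le_norm_self U) h.W1_le_norm

theorem card_Hbar (h : PtypeHyp M U W W1 W2 H0) (h2 : FTtype M ≠ 2) : H0.relIndex 𝓗 = ♯W2 ^ ♯W1 := by
  rw [(Ptype_Fcore_factor_facts h).2.2, typeIII_IV_core_prime h h2]

theorem Fit_inf (h : OfTypeP M U W W1 W2) : Fit M ⊓ U = 𝓒 := by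
  rw [← defF h, sup_inf_of_le_right (Or.inr (le_norm_of_le_cent inf_le_right)) inf_le_left,
    h.defM'.inf_eq, bot_sup_eq]

theorem Fit_lt (h : PtypeHyp M U W W1 W2 H0) : Fit M < der M :=
  h.typeP.fit_le.lt_of_ne fun e => (typeP_context h.typeP).2.1.2
    (compl_of_typeII_IV h.max h.typeP h.not5).U_ne_bot
    ((le_inf (h.typeP.U_le.trans e.ge) le_rfl).trans ((Fit_inf h.typeP).le.trans inf_le_right))

end P11

open P10 P11

variable {G : Type u} [Group G] [Finite G] [MinOdd G] {M U W W1 W2 H0 : Subgroup G}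

local notation "𝓗" => Fcore M
local notation "𝓒" => U ⊓ 𝐂(Fcore M)

theorem FTtype34_noncoherence (h : PtypeHyp M U W W1 W2 H0) (h2 : FTtype M ≠ 2) :
    ¬ Coherent M ⊤ (seqIndD (der M) M (der M) (H0 ⊔ U ⊓ 𝐂(Fcore M))) (sharp M) (FTDade0 M) := fun hc => by
  have h3 := t345 h h2
  obtain ⟨R, hR⟩ := subcoh h3
  refine FTtype345_noncoherence h.max (gt2 h3) (bounded_seqIndD_coherence ⟨der_normal M,
    sol_of_le (of_typeP_sol h.typeP) (der_le M), hR⟩ (NormalIn.bot M) (Fit_normal M)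
    (h.chief.normal_bot.sup (normal_C h.typeP)) bot_le
    (defF h.typeP ▸ sup_le_sup_right h.chief.le _) h.typeP.fit_le (nil_quo (Fit_nil M) _) hc ?_)
  rw [relIndex_sup_dprod (typeP_context h.typeP).1 h.chief.le, card_Hbar h h2, (pti h3).relIndex]
  refine lbound_expn_odd_prime (FTtype345_core_prime h3) h.prime_q (mFT_odd W2) (mFT_odd W1) fun e => ?_
  exact h.prime_q.one_lt.ne' (by simpa [e] using (cti h3).coprime)

theorem FTtype34_der2 (h : PtypeHyp M U W W1 W2 H0) (h2 : FTtype M ≠ 2) :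
    der2 M = Fcore M ⊔ U ⊓ 𝐂(Fcore M) := by
  have h3 := t345 h h2
  have hP := h.typeP
  obtain ⟨R, hR⟩ := subcoh h3
  have h4 := (coherent_seqIndD_bound ⟨der_normal M, sol_of_le (of_typeP_sol hP) (der_le M), hR⟩
    (der_normal M).der (der2_lt hP) le_rfl hP.fit_le ((typeP_context hP).1.toCprod.der_eq.trans_le
      (sup_le_sup h.der_le (der_le _))) (coherent_lin h3 le_rfl)).resolve_left (FTtype34_noncoherence h h2)
  have h5 := card_seqIndD_lin (pti h3) hP.W2_le_der2 le_rfl (der_le _) (der_normal M).der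
  have h6 := two_mul_le_relIndex hP hP.der2_le (Fit_lt h) (Fit_normal M)
  rw [relIndex_self, ← relIndex_mul_relIndex _ _ _ hP.fit_le (der_le M), (pti h3).relIndex, Nat.cast_one,
    Real.sqrt_one, mul_one, sub_le_iff_le_add] at h4
  rw [← relIndex_mul_relIndex _ _ _ hP.der2_le hP.fit_le] at h4 h5
  rw [defF hP]
  exact hP.der2_le.antisymm (relIndex_eq_one.1 (arith115 h5 (card_seqIndD_lin (pti h3) hP.W2_le_der2
    hP.der2_le hP.fit_le (Fit_normal M)) (by have := card_pos' W1; omega) (by exact_mod_cast h4)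
    ((mFT_odd _).of_dvd_nat (relIndex_dvd_card _ _)) (mFT_odd W1)))

theorem FTtype34_facts (h : PtypeHyp M U W W1 W2 H0) (h2 : FTtype M ≠ 2) :
    IsPGroup ♯W2 (Fcore M) ∧ U ≤ 𝐂(H0) ∧ H0 = der (Fcore M) ∧ U ⊓ 𝐂(Fcore M) = der U := by
  have hP := h.typeP
  have h3 := (FTtype34_der2 h h2).symm.trans hP.defM'.der_eq
  have hn := hP.defM'.le_norm
  have h4 : der 𝓗 ⊔ ⁅𝓗, U⁆ ≤ 𝓗 := sup_le (der_le _) (commutator_le_left' hn)
  have h5 := (der_le U).trans (le_norm_sup (hn.trans (norm_le_norm_der _)) (le_norm_commutator_right 𝓗 U))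
  have h6 : 𝓗 ⊓ 𝐂(U) = H0 := eq_of_le_of_card_le h.cent_le (by
    have h6 := card_mul_relIndex h.chief.le
    rw [((typeII_IV_core h.max hP h.not5).2 h2).2.2, card_Hbar h h2, mul_comm] at h6
    exact (Nat.eq_of_mul_eq_mul_left (pow_pos (card_pos' W2) _) h6).le)
  have h7 : U ≤ 𝐂(H0) := le_cent_symm (h6.ge.trans inf_le_right)
  have hN := (der_normal 𝓗).2
  have h8 : H0 = der 𝓗 := le_antisymm (by
    have hUN := hn.trans (norm_le_norm_der _)
    rw [← quo_eq_bot_iff (h.chief.le.trans hN), eq_bot_iff, ← coprime_abel_cent_TI (quo_le_norm _ hn)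
      (coprime_quo (coprime_card_mono (Ptype_Fcore_coprime hP) le_rfl le_sup_left) _ _)
      (ab_quo_of_der_le le_rfl), ← quo_commutator hN hUN]
    refine le_inf ?_ (quo_le_cent _ (le_cent_symm h7))
    rw [← quo_self_sup ((commutator_le_left' hn).trans hN)]
    refine quo_mono _ (h.chief.le.trans ((le_inf (le_sup_left.trans h3.le) le_rfl).trans_eq ?_))
    rw [sup_inf_of_le_left (Or.inr h5) h4, eq_bot_iff.2 ((inf_le_inf_right _ (der_le U)).trans_eq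
      ((inf_comm _ _).trans hP.defM'.inf_eq)), sup_bot_eq]) h.der_le
  refine ⟨?_, h7, h8, ?_⟩
  · have := Fact.mk (FTtype345_core_prime (t345 h h2))
    refine PiGrp.isPGroup fun r hr h9 => (Nat.prime_dvd_prime_iff_eq hr this.out).1 (hr.dvd_of_dvd_pow
      (card_Hbar h h2 ▸ (dvd_relIndex_Phi hr h9).trans (relIndex_dvd_of_le_left _ ?_)))
    exact h8 ▸ der_le_Phi_of_nil (Fcore_nil M)
  · rw [← Fit_inf hP, ← defF hP, h3, sup_inf_of_le_right (Or.inr h5) (der_le U),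
      eq_bot_iff.2 ((inf_le_inf_right _ h4).trans_eq hP.defM'.inf_eq), bot_sup_eq]

theorem FTtype34_Fcore_kernel_trivial (h : PtypeHyp M U W W1 W2 H0) (h2 : FTtype M ≠ 2) :
    IsElementaryAbelian ♯W2 (Fcore M) ∧ ♯(Fcore M) = ♯W2 ^ ♯W1 ∧ H0 = ⊥ := by
  have h3 := card_Hbar h h2
  have hp := FTtype345_core_prime (t345 h h2)
  have h4 := typeIII_IV_core_prime h h2
  obtain rfl : H0 = ⊥ := by
    obtain ⟨-, h5, rfl, -⟩ := FTtype34_facts h h2
    by_contra e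
    obtain ⟨χ, h6, h7, h8⟩ := exists_irr_cfker_not_le ((der_normal 𝓗).commutator (NormalIn.refl 𝓗))
      (commutator_lt_of_nil (Fcore_nil M) (der_normal _) e).not_ge
    obtain ⟨l, h9, -, h10⟩ := h6.exists_lin_of_central (der_le _) h7
    have hF : Form 𝓗 U χ l := ⟨h6, h9, h7, h8, h10, h.typeP.defM'.le_norm, h5⟩
    by_cases hg : PGalois M U (der 𝓗)
    · obtain ⟨d, hd⟩ := h3 ▸ hF.galois hg
      obtain ⟨k, -, rfl⟩ := (Nat.dvd_prime_pow hp).1 (Dvd.intro _ hd.symm)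
      rw [← pow_add, Nat.pow_right_inj hp.one_lt] at hd
      exact Nat.not_even_iff_odd.2 (mFT_odd W1) ⟨k, hd⟩
    · obtain ⟨H1, a, ha⟩ := typeP_Galois_Pn h hg
      exact ha.one_lt.ne' (ha.a_eq.trans (relIndex_eq_one.2 (le_inf le_rfl (hF.nonGalois h.prime_p ha.le
        ha.card ha.norm ha.sup h.typeP.W1_le_norm (le_sup_right.trans (Ptype_Fcore_sdprod h.typeP).le_norm)
        (mFT_odd U) (mFT_odd W1)))))
  exact ⟨abelem_congr (quoBotEquiv _).symm (h4 ▸ h.abelem), by rwa [relIndex_bot_left] at h3, rfl⟩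

theorem Ptype_Fcompl_kernel_cent (h : PtypeHyp M U W W1 W2 H0) (h2 : FTtype M ≠ 2) :
    Pc M U H0 = U ⊓ 𝐂(Fcore M) := by
  rw [(FTtype34_Fcore_kernel_trivial h h2).2.2, Pc]
  exact congrArg _ (Subgroup.ext fun x => (and_iff_right ((NormalIn.bot ⊤).2 (mem_top x))).trans
    (by simp [mem_cent_iff_conj, mul_inv_eq_one]))

end Cfsg.Agent.OO.Pf
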