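import Cfsg.Agent.Lib.OO.PF12Defs
import Cfsg.Agent.Lib.OO.PF7
import Cfsg.Agent.Lib.OO.BG16
import Cfsg.Agent.Lib.OO.BG3
import Cfsg.Agent.Lib.OO.Quo

/-! # Peterfalvi (12.1) to (12.6) -/

set_option autoImplicit false
set_option linter.unusedSectionVars false
set_option linter.unusedVariables false

namespace Cfsg.Agent.OO.Pf

open Subgroup Cfsg.Agent.Coprime
open scoped Pointwise ComplexConjugate

universe u

variable {G : Type u} [Group G] [Finite G] [MinOdd G] {L : Subgroup G} {χ φ ψ θ ξ : G → ℂ}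

namespace P12

omit [MinOdd G] in
theorem mem_irrConstt : φ ∈ irrConstt L χ ↔ IsIrr L φ ∧ ⟪χ, φ⟫[L] ≠ 0 := by
  simp [irrConstt]

omit [MinOdd G] in
theorem mem_calIF : φ ∈ calIF L ↔ IsIrr L φ ∧ ¬ Fcore L ≤ cfker L φ := by
  rw [calIF, mem_IrrKerD]; simp

omit [MinOdd G] in
theorem calSF_T (h : χ ∈ calSF L) : χ ∈ seqIndT (Fcore L) L := seqInd_subT _ _ _ _ h

omit [MinOdd G] in
theorem calSF_char (h : χ ∈ calSF L) : IsChar L χ := seqInd_char (Fcore_le L) (calSF_T h)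

omit [MinOdd G] in
theorem calSF_CF (h : χ ∈ calSF L) : χ ∈ CF L := (calSF_char h).mem_CF

omit [MinOdd G] in
theorem star_mem_irrConstt (h : φ ∈ irrConstt L χ) : star φ ∈ irrConstt L (star χ) := by
  rw [mem_irrConstt] at h ⊢
  refine ⟨h.1.star, ?_⟩
  rw [cfdot_conjC]
  simpa using h.2

theorem typeF (hL : IsCoatom L) (h1 : FTtype L = 1) : ∃ U, OfTypeI L U := (FTtypeP hL 1).mp h1

end P12

open P12

theorem FTtype1_ref_irr (hL : IsCoatom L) : ∃ φ ∈ calSF L, φ 1 = (Fcore L).relIndex L :=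
  exists_linInd (Fcore_le L) (sol_of_nil (Fcore_nil L)) (NormalIn.bot _) (mmax_Fcore_neq1 hL).symm

theorem FTtype1_irr_partition (hL : IsCoatom L) :
    (∀ χ ∈ calSF L, irrConstt L χ ⊆ calIF L) ∧ (∀ φ ∈ calIF L, ∃ χ ∈ calSF L, φ ∈ irrConstt L χ) ∧
    ∀ χ ∈ calSF L, ∀ ψ ∈ calSF L, χ ≠ ψ → Disjoint (irrConstt L χ) (irrConstt L ψ) := by
  have hn := Fcore_normal L
  refine ⟨fun χ hχ φ hφ => ?_, fun φ hφ => ?_, fun χ hχ ψ hψ hne => ?_⟩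
  · obtain ⟨θ, hθ, h1, rfl⟩ := seqIndC1P.mp hχ
    obtain ⟨h2, h3⟩ := mem_irrConstt.mp hφ
    refine mem_calIF.mpr ⟨h2, fun h => h1 ?_⟩
    exact hθ.le_cfker_iff.mp ((sub_cfker_constt_Ind_irr hn.le le_rfl hn.norm h2 hθ h3).mpr h)
  · obtain ⟨h2, h3⟩ := mem_calIF.mp hφ
    obtain ⟨θ, hθ, h4⟩ := constt_cfRes_irr h2 hn.le
    rw [← cfdot_Ind_irr hn.le hθ.isChar h2.isChar] at h4
    refine ⟨_, seqIndC1P.mpr ⟨θ, hθ, fun h => h3 ?_, rfl⟩, mem_irrConstt.mpr ⟨h2, h4⟩⟩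
    exact (sub_cfker_constt_Ind_irr hn.le le_rfl hn.norm h2 hθ h4).mp (hθ.le_cfker_iff.mpr h)
  · rw [Finset.disjoint_left]
    intro φ h1 h2
    obtain ⟨h3, h4⟩ := mem_irrConstt.mp h1
    have := cfdot_constt_eq_zero (calSF_char hχ) h3 h4 (calSF_char hψ)
      (seqInd_ortho hn (calSF_T hχ) (calSF_T hψ) hne)
    exact (mem_irrConstt.mp h2).2 (cfdot_symm0 this)

/-- (12.2)(a), first part -/
theorem FTtype1_seqInd_facts (hL : IsCoatom L) (h1 : FTtype L = 1) {χ : G → ℂ} (hχ : χ ∈ calSF L) :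
    χ = ∑ φ ∈ irrConstt L χ, φ ∧ (∀ φ ∈ irrConstt L χ, ∀ ψ ∈ irrConstt L χ, φ 1 = ψ 1) ∧
    ∀ φ ∈ irrConstt L χ, φ ∈ CFon L (insert 1 (FTsupp L)) := by
  have hn := Fcore_normal L
  have hsub := (FTtype1_irr_partition hL).1 χ hχ
  obtain ⟨θ, hθ, hθ1, rfl⟩ := seqIndC1P.mp hχ
  obtain ⟨U, hF, -⟩ := typeF hL h1
  obtain ⟨U1, hab, hU1⟩ := hF.inertia
  have hTL : inertia L θ ≤ L := fun g hg => hg.1
  have hHT : Fcore L ≤ inertia L θ := fun g hg => ⟨hn.le hg, cfConjg_id hθ.mem_CF hg⟩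
  have hsd := hF.sdprod.of_left_le hHT hTL
  have hle : U ⊓ inertia L θ ≤ U1 := fun g hg =>
    (typeF_context (mFT_odd L) hF).2.2 U1 θ hU1 hθ hθ1 ⟨hg.1, hg.2.2⟩
  obtain ⟨e1, -, e2⟩ := cfInd_Hall_central_Inertia hn hθ (hsd.der_le_of_ab (ab_of_le hab hle))
    ((Fcore_isHallIn L).mono hHT hTL)
  refine ⟨e1, fun φ hφ ψ hψ => ?_, fun φ hφ => ?_⟩
  · rw [mem_irrConstt] at hφ hψ
    rw [e2 φ hφ.1 hφ.2, e2 ψ hψ.1 hψ.2]
  · obtain ⟨h2, h3⟩ := mem_calIF.mp (hsub hφ)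
    refine mem_CFon_of h2.mem_CF fun y hy hyA => irr_reg_off_ker_0 h2 hn h3 ?_
    by_contra hne
    obtain ⟨z, hz, hz1⟩ := exists_mem_ne_one hne
    apply hyA
    by_cases hy1 : y = 1
    · exact Or.inl hy1
    refine Or.inr (Set.mem_biUnion (x := z) ?_ ?_)
    · rw [FTsupp1_type1 h1]; exact ⟨hz.1, hz1⟩
    · rw [FTder_type1 h1]; exact ⟨⟨hy, mem_cent1_comm.mp hz.2⟩, hy1⟩

theorem P12.calIF_on (hL : IsCoatom L) (h1 : FTtype L = 1) (hφ : φ ∈ calIF L) :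
    φ ∈ CFon L (insert 1 (FTsupp L)) := by
  obtain ⟨χ, hχ, h⟩ := (FTtype1_irr_partition hL).2.1 φ hφ
  exact (FTtype1_seqInd_facts hL h1 hχ).2.2 φ h

/-- (12.2)(a), second part -/
theorem FTtype1_irr_isometry (hL : IsCoatom L) (h1 : FTtype L = 1) :
    IsometryTo L ⊤ (ZspanOn (calIF L) (sharp L)) (ZIrrOn ⊤ (sharp ⊤)) (FTDade L) :=
  Dade_isometryTo_zchar (FT_Dade_hyp hL) (fun _ h => irr_vchar (mem_calIF.mp h).1)
    fun _ h => (calIF_on hL h1 h).2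

namespace P12

theorem calIF_not_real (hφ : φ ∈ calIF L) : star φ ≠ φ := by
  obtain ⟨h1, h2⟩ := mem_calIF.mp hφ
  intro h
  exact h2 ((Fcore_le L).trans (h1.le_cfker_iff.mpr ((odd_eq_conj_irr1 (mFT_odd L) h1).mp h)))

theorem calSF_not_real (hχ : χ ∈ calSF L) : star χ ≠ χ :=
  seqInd_conjC_neq (mFT_odd L) (Fcore_normal L) le_rfl hχ

theorem mem_zspan (hL : IsCoatom L) (h1 : FTtype L = 1) (hχ : χ ∈ calSF L) : χ ∈ Zspan (calIF L) := by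
  rw [(FTtype1_seqInd_facts hL h1 hχ).1]
  exact Submodule.sum_mem _ fun φ hφ => mem_zchar ((FTtype1_irr_partition hL).1 χ hχ hφ)

/-- constituents of orthogonal members of `𝒮` -/
theorem orth_R1 (hL : IsCoatom L) {R1 : (G → ℂ) → Finset (G → ℂ)}
    (hR : Subcoherent L ⊤ (calIF L) (FTDade L) R1) (hχ : χ ∈ calSF L) (hξ : ξ ∈ calSF L)
    (hne : χ ≠ star ξ) (hφ : φ ∈ irrConstt L χ) (hψ : ψ ∈ irrConstt L ξ) (h : φ ≠ ψ) :
    Orth ⊤ (R1 φ) (R1 ψ) := by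
  obtain ⟨p1, -, p3⟩ := FTtype1_irr_partition hL
  have i1 := (mem_irrConstt.mp hφ).1
  have i2 := (mem_irrConstt.mp hψ).1
  refine hR.orth_R ψ (p1 ξ hξ hψ) φ (p1 χ hχ hφ) (cfdot_irr_ne i1 i2 h) (cfdot_irr_ne i1 i2.star ?_)
  rintro rfl
  exact Finset.disjoint_left.mp (p3 χ hχ _ (star_seqInd hξ) hne) hφ (star_mem_irrConstt hψ)

end P12

/-- (12.2)(b) -/
theorem FTtype1_subcoherent (hL : IsCoatom L) (h1 : FTtype L = 1) : ∃ R1 R, FT1Base L R1 R := by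
  classical
  have hn := Fcore_normal L
  obtain ⟨p1, -, p3⟩ := FTtype1_irr_partition hL
  obtain ⟨R1, hR, hc⟩ := irr_subcoherent (fun _ h => (mem_calIF.mp h).1)
    (fun _ h => star_mem_IrrKerD h) (fun _ h => calIF_not_real h) (FTtype1_irr_isometry hL h1)
  refine ⟨R1, fun χ => (irrConstt L χ).biUnion R1, hR, hc, ?_, fun _ _ => rfl⟩
  have hd : ∀ χ ∈ calSF L, ∀ φ ∈ irrConstt L χ, ∀ ψ ∈ irrConstt L χ, φ ≠ ψ →
      Orth ⊤ (R1 φ) (R1 ψ) := fun χ hχ φ hφ ψ hψ h =>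
    orth_R1 hL hR hχ hχ (calSF_not_real hχ).symm hφ hψ h
  refine ⟨fun _ h => calSF_char h, fun _ h => calSF_not_real h, fun _ h => star_seqInd h,
    sub_iso_to (zchar_trans_on fun _ h => mem_zspan hL h1 h) le_rfl (FTtype1_irr_isometry hL h1),
    seqInd_orthogonal hn (seqInd_subT _ _ _ _), fun χ hχ α hα => ?_, fun χ hχ => ⟨fun α hα => ?_,
      fun α hα β hβ hne => ?_⟩, fun χ hχ => ?_, fun ξ hξ χ hχ o1 o2 α hα β hβ => ?_⟩
  · obtain ⟨φ, hφ, h⟩ := Finset.mem_biUnion.mp hα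
    exact hR.R_mem φ (p1 χ hχ hφ) α h
  · obtain ⟨φ, hφ, h⟩ := Finset.mem_biUnion.mp hα
    exact (hR.R_orth φ (p1 χ hχ hφ)).1 α h
  · obtain ⟨φ, hφ, h⟩ := Finset.mem_biUnion.mp hα
    obtain ⟨ψ, hψ, h'⟩ := Finset.mem_biUnion.mp hβ
    by_cases e : φ = ψ
    · subst e
      exact (hR.R_orth φ (p1 χ hχ hφ)).2 α h β h' hne
    · exact hd χ hχ φ hφ ψ hψ e α h β h'
  · rw [Finset.sum_biUnion fun φ hφ ψ hψ e =>
      (hd χ hχ φ hφ ψ hψ e).disjoint (hR.R_orth φ (p1 χ hχ hφ))]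
    have e := (FTtype1_seqInd_facts hL h1 hχ).1
    have : χ - star χ = ∑ φ ∈ irrConstt L χ, (φ - star φ) := by
      rw [Finset.sum_sub_distrib, ← star_sum, ← e]
    rw [this, map_sum]
    exact Finset.sum_congr rfl fun φ hφ => hR.sum_R φ (p1 χ hχ hφ)
  · obtain ⟨φ, hφ, h⟩ := Finset.mem_biUnion.mp hα
    obtain ⟨ψ, hψ, h'⟩ := Finset.mem_biUnion.mp hβ
    have hχ0 := cfdot_self_ne_zero (calSF_CF hχ) (seqInd_neq0 hn.le (calSF_T hχ))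
    have n1 : χ ≠ ξ := fun e => hχ0 (by rw [← e] at o1; exact o1)
    have n2 : χ ≠ star ξ := fun e => hχ0 (by rw [← e] at o2; exact o2)
    refine orth_R1 hL hR hχ hξ n2 hφ hψ ?_ α h β h'
    rintro rfl
    exact Finset.disjoint_left.mp (p3 χ hχ ξ hξ n1) hφ hψ

namespace P12

omit [MinOdd G] in
/-- a constituent `a` of `ξ - ξ^*` determines it -/
theorem eq_sub_star {Γ : Subgroup G} {a : G → ℂ} (ha : IsDirr Γ a) (hξ : IsIrr Γ ξ)
    (h : ⟪ξ - star ξ, a⟫[Γ] = 1) : ξ - star ξ = a - star a := by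
  rw [cfdotBl] at h
  by_cases h0 : ⟪ξ, a⟫[Γ] = 0
  · rw [h0, zero_sub, ← cfdotNl] at h
    rw [← (cfdot_dirr_eq1 hξ.star.isDirr.neg ha).mp h]
    rw [star_neg, star_star]; abel
  · rcases hξ.isDirr.eq_or_eq_neg ha h0 with e | e
    · rw [e]
    · exfalso
      have e1 : ⟪ξ, a⟫[Γ] = -1 := by rw [e, cfdotNl, ha.cfdot_self]
      rw [e1] at h
      rcases cfdot_dirr_cases hξ.star.isDirr ha with e2 | e2 | e2 <;> rw [e2] at h <;> norm_num at h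

theorem FTDade_eq_F (hL : IsCoatom L) (h : φ ∈ CFon L (sharp (Fcore L))) : FTDade L φ = FTDadeF L φ := by
  rw [FT_DadeF_E hL h, FT_DadeE hL (CFon_mono L (Fcore_sub_FTsupp hL) h)]

theorem seqInd_ortho_aux {L1 L2 : Subgroup G} (hL1 : IsCoatom L1) (hL2 : IsCoatom L2)
    (h1 : FTtype L1 = 1) (h2 : FTtype L2 = 1) {Q1 R1 Q2 R2 : (G → ℂ) → Finset (G → ℂ)}
    (hR1 : FT1Base L1 Q1 R1) (hR2 : FT1Base L2 Q2 R2) (hd : Disjoint (A1til L2) (Atil L1)) :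
    ∀ χ1 ∈ calSF L1, ∀ χ2 ∈ calSF L2, Orth ⊤ (R1 χ1) (R2 χ2) := by
  classical
  intro χ1 m1 χ2 m2 a ha b hb
  have da := hR1.subcoh.dirr m1 ha
  have db := hR2.subcoh.dirr m2 hb
  rw [hR1.defR χ1 m1] at ha
  obtain ⟨φ, hφ, ha⟩ := Finset.mem_biUnion.mp ha
  have hφI := (FTtype1_irr_partition hL1).1 χ1 m1 hφ
  obtain ⟨ξ, hξ, e1⟩ := Dade_irr_sub_conjC (FT_Dade_hyp hL1) (mem_calIF.mp hφI).1
    (calIF_on hL1 h1 hφI).2
  have e2 : ⟪ξ - star ξ, a⟫[⊤] = 1 := by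
    rw [← e1, hR1.subcoh1.sum_R φ hφI,
      (hR1.subcoh1.R_orth φ hφI).cfdot_sum_subset subset_rfl ha, if_pos ha]
  rw [eq_sub_star da hξ e2] at e1
  set ψ := FTDade L2 (χ2 - star χ2) with hψ
  have hon : χ2 - star χ2 ∈ CFon L2 (sharp (Fcore L2)) := seqInd_sub_conjC_on (Fcore_normal L2) (calSF_T m2)
  have o1 : ⟪a - star a, ψ⟫[⊤] = 0 := by
    rw [← e1, hψ, FTDade_eq_F hL2 hon]
    refine disjoint_Dade_ortho ?_ _ _
    rw [FT_Dade_supportE hL1 (FTsupp_sub0 L1), FT_Dade_supportE hL2 (Fcore_sub_FTsupp0 hL2),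
      ← FTsupp1_type1 h2]
    exact hd.symm
  have hs : star ψ = -ψ := by rw [hψ, ← Dade_conjC, ← map_neg]; simp
  have hsum := hR2.subcoh.sum_R χ2 m2
  have hZ : ψ ∈ ZIrr ⊤ := by
    rw [hψ, hsum]; exact Submodule.sum_mem _ fun β hβ => hR2.subcoh.R_mem χ2 m2 β hβ
  have o2 : ⟪a, ψ⟫[⊤] = 0 := by
    rw [cfdotBl, cfdot_conjCl, hs, cfdotNr, map_neg, (Cint_cfdot_vchar da.vchar hZ).conj_eq] at o1
    linear_combination o1 / 2
  by_contra hne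
  have o3 : ⟪ψ, b⟫[⊤] = 1 := by
    rw [hψ, hsum, (hR2.subcoh.R_orth χ2 m2).cfdot_sum_subset subset_rfl hb, if_pos hb]
  replace o2 := cfdot_symm0 o2
  rcases da.eq_or_eq_neg db hne with e | e
  · rw [e, o3] at o2; exact one_ne_zero o2
  · rw [e, cfdotNr, o3] at o2; norm_num at o2

end P12

/-- (12.3) -/
theorem FTtype1_seqInd_ortho {L1 L2 : Subgroup G} (hL1 : IsCoatom L1) (hL2 : IsCoatom L2)
    (h1 : FTtype L1 = 1) (h2 : FTtype L2 = 1) {Q1 R1 Q2 R2 : (G → ℂ) → Finset (G → ℂ)}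
    (hR1 : FT1Base L1 Q1 R1) (hR2 : FT1Base L2 Q2 R2) (hn : NotConj L2 L1) :
    ∀ χ1 ∈ calSF L1, ∀ χ2 ∈ calSF L2, Orth ⊤ (R1 χ1) (R2 χ2) := by
  rcases (FT_Dade_support_disjoint hL1 hL2 hn).2.2 with h | h
  · exact fun χ1 m1 χ2 m2 => (seqInd_ortho_aux hL2 hL1 h2 h1 hR2 hR1 h χ2 m2 χ1 m1).symm
  · exact seqInd_ortho_aux hL1 hL2 h1 h2 hR1 hR2 h

namespace P12

omit [MinOdd G] in
/-- a class function orthogonal to `R φ` and `R ξ` is orthogonal to `τ (φ - ξ)` -/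
theorem cfdot_tau_sub {Γ : Subgroup G} {S : Finset (G → ℂ)} {τ : (G → ℂ) →ₗ[ℂ] (G → ℂ)}
    {R : (G → ℂ) → Finset (G → ℂ)} (h : Subcoherent L Γ S τ R) (hφ : φ ∈ S) (hξ : ξ ∈ S)
    (e : φ 1 = ξ 1) (o1 : ∀ α ∈ R φ, ⟪ψ, α⟫[Γ] = 0) (o2 : ∀ α ∈ R ξ, ⟪ψ, α⟫[Γ] = 0) :
    ⟪τ (φ - ξ), ψ⟫[Γ] = 0 := by
  obtain ⟨S1, m1, m2, hS, τ1, hτ⟩ := pair_degree_coherence h hφ hξ e
  have := hτ.sub_smul (fun _ hx => h.mem_CF (hS.1 hx)) m1 m2 isCint_one (by rw [one_mul, e])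
  rw [one_smul, one_smul] at this
  obtain ⟨E1, s1, e1⟩ := mem_coherent_sum_subseq h hS hτ m1
  obtain ⟨E2, s2, e2⟩ := mem_coherent_sum_subseq h hS hτ m2
  rw [this, e1, e2, cfdotBl, cfdot_suml, cfdot_suml,
    Finset.sum_eq_zero fun α hα => cfdot_symm0 (o1 α (s1 hα)),
    Finset.sum_eq_zero fun α hα => cfdot_symm0 (o2 α (s2 hα)), sub_zero]

/-- the constituents of `χ ∈ 𝒮` have the same restriction to `H` -/
theorem eq_on_Fcore (hL : IsCoatom L) (h1 : FTtype L = 1) (hχ : χ ∈ calSF L) (hφ : φ ∈ irrConstt L χ)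
    (hψ : ψ ∈ irrConstt L χ) {x : G} (hx : x ∈ Fcore L) : φ x = ψ x := by
  classical
  have hn := Fcore_normal L
  have key : ∀ θ, IsIrr (Fcore L) θ → ∀ φ ∈ irrConstt L χ,
      ⟪cfRes (Fcore L) φ, θ⟫[Fcore L] = if cfInd L (Fcore L) θ = χ then 1 else 0 := by
    intro θ hθ φ hφ
    obtain ⟨i1, i2⟩ := mem_irrConstt.mp hφ
    rw [← cfdot_Ind_irr hn.le hθ.isChar i1.isChar]
    split_ifs with e
    · rw [e]
      conv_lhs => rw [(FTtype1_seqInd_facts hL h1 hχ).1]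
      rw [(orthonormal_of_irr fun _ h => (mem_irrConstt.mp h).1).cfdot_sum_subset subset_rfl hφ,
        if_pos hφ]
    · exact cfdot_symm0 (cfdot_constt_eq_zero (calSF_char hχ) i1 i2 (hθ.isChar.cfInd hn.le)
        (seqInd_ortho hn (calSF_T hχ) (mem_seqIndT.mpr ⟨θ, hθ, rfl⟩) (Ne.symm e)))
  have := cfun_ext_irr (cfRes_mem_CF hn.le (mem_irrConstt.mp hφ).1.mem_CF)
    (cfRes_mem_CF hn.le (mem_irrConstt.mp hψ).1.mem_CF) fun θ hθ => by rw [key θ hθ φ hφ, key θ hθ ψ hψ]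
  have := congrFun this x
  rwa [cfResE _ hx, cfResE _ hx] at this

theorem constt_sub_on (hL : IsCoatom L) (h1 : FTtype L = 1) (hχ : χ ∈ calSF L) (hφ : φ ∈ irrConstt L χ)
    (hψ : ψ ∈ irrConstt L χ) : φ - ψ ∈ CFon L (FTsupp L \ FTsupp1 L) := by
  have f := (FTtype1_seqInd_facts hL h1 hχ).2.2
  refine mem_CFon_of (sub_mem (f φ hφ).1 (f ψ hψ).1) fun y hy hA => ?_
  by_cases hH : y ∈ Fcore L
  · rw [Pi.sub_apply, eq_on_Fcore hL h1 hχ hφ hψ hH, sub_self]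
  · refine cfun_on0 (sub_mem (f φ hφ) (f ψ hψ)) ?_
    rintro (rfl | h)
    · exact hH (one_mem _)
    · exact hA ⟨h, by rw [FTsupp1_type1 h1]; exact fun h => hH h.1⟩

end P12

/-- (12.4) -/
theorem FTtype1_ortho_constant (hL : IsCoatom L) (h1 : FTtype L = 1) {R1 R : (G → ℂ) → Finset (G → ℂ)}
    (hR : FT1Base L R1 R) {ψ : G → ℂ} (hψ : ψ ∈ CF (⊤ : Subgroup G))
    (ho : ∀ φ ∈ calSF L, ∀ α ∈ R φ, ⟪ψ, α⟫[⊤] = 0) {x : G} (hx : x ∈ L) (hxH : x ∉ Fcore L) :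
    ∀ h ∈ Fcore L, ψ (x * h) = ψ x := by
  classical
  have hn := Fcore_normal L
  obtain ⟨p1, p2, p3⟩ := FTtype1_irr_partition hL
  obtain ⟨U, hF, -⟩ := typeF hL h1
  have hTI := (FTtypeI_II_facts hL (by omega) (by rw [FTder_type1 h1]; exact hF.sdprod)).2.2
  have key : ∀ χ ∈ calSF L, ∀ φ ∈ irrConstt L χ, ∀ ξ ∈ irrConstt L χ, ⟪ψ, φ⟫[L] = ⟪ψ, ξ⟫[L] := by
    intro χ hχ φ hφ ξ hξ
    have hon := constt_sub_on hL h1 hχ hφ hξ
    rw [← sub_eq_zero, ← cfdotBr, cfdot_eq_zero_comm]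
    by_cases hA : (FTsupp L \ FTsupp1 L).Nonempty
    · have hR1 : ∀ φ ∈ irrConstt L χ, ∀ α ∈ R1 φ, ⟪ψ, α⟫[⊤] = 0 := fun φ hφ α hα =>
        ho χ hχ α (by rw [hR.defR χ hχ]; exact Finset.mem_biUnion.mpr ⟨φ, hφ, hα⟩)
      have := cfdot_tau_sub hR.subcoh1 (p1 χ hχ hφ) (p1 χ hχ hξ)
        ((FTtype1_seqInd_facts hL h1 hχ).2.1 φ hφ ξ hξ) (hR1 φ hφ) (hR1 ξ hξ)
      rwa [← restr_DadeE (FT_Dade_hyp hL) Set.diff_subset (hTI hA).conj_mem hon,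
        Dade_Ind (hTI hA) (fun y hy => ⟨trivial, (FTsupp_sub L hy.1).2⟩) hon,
        cfdot_cfInd_left le_top (CF_le_suppOn L hon.1) hψ] at this
    · exact cfdot_eq_zero_of_forall fun y _ => Or.inl (cfun_on0 hon fun h => hA ⟨y, h⟩)
  have hI : calIF L = (calSF L).biUnion (irrConstt L) := by
    ext φ
    rw [Finset.mem_biUnion]
    exact ⟨p2 φ, fun ⟨χ, h, h'⟩ => p1 χ h h'⟩
  have van : ∀ y, y ∉ Fcore L → ∑ φ ∈ calIF L, ⟪ψ, φ⟫[L] * φ y = 0 := by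
    intro y hy
    rw [hI, Finset.sum_biUnion p3]
    refine Finset.sum_eq_zero fun χ hχ => ?_
    rcases (irrConstt L χ).eq_empty_or_nonempty with e | ⟨φ0, h0⟩
    · rw [e, Finset.sum_empty]
    rw [Finset.sum_congr rfl fun φ hφ => by rw [key χ hχ φ hφ φ0 h0], ← Finset.mul_sum,
      ← Finset.sum_apply, ← (FTtype1_seqInd_facts hL h1 hχ).1,
      cfun_on0 (seqInd_on hn (calSF_T hχ)) hy, mul_zero]
  have dec : ∀ y ∈ L, y ∉ Fcore L →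
      ψ y = ∑ φ ∈ (Irr L).filter fun φ => Fcore L ≤ cfker L φ, ⟪ψ, φ⟫[L] * φ y := by
    intro y hy hyH
    have := cfun_apply_sum_cfdot (cfRes_mem_CF le_top hψ : cfRes L ψ ∈ CF L) y
    rw [cfResE _ hy, Finset.sum_congr rfl fun φ _ => by
      rw [cfdot_congr (fun z hz => cfResE ψ hz) fun _ _ => rfl],
      ← Finset.sum_filter_add_sum_filter_not _ fun φ => Fcore L ≤ cfker L φ] at this
    have e : (Irr L).filter (fun φ => ¬ Fcore L ≤ cfker L φ) = calIF L := by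
      ext φ; rw [mem_calIF]; simp
    rw [this, e, van y hyH, add_zero]
  intro h hh
  rw [dec x hx hxH, dec (x * h) (mul_mem hx (hn.le hh)) fun h' => hxH ((mul_mem_cancel_right hh).mp h')]
  refine Finset.sum_congr rfl fun φ hφ => ?_
  obtain ⟨i1, i2⟩ := Finset.mem_filter.mp hφ
  rw [cfkerMr (mem_Irr.mp i1).mem_CF (i2 hh)]

omit [MinOdd G] in
/-- a class function whose coefficients on the nonprincipal characters only depend on the degree is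
constant outside the derived group -/
theorem P12.const_off_der {H : Subgroup G} {f : G → ℂ} (hf : f ∈ CF H)
    (h : ∀ θ ξ, IsIrr H θ → IsIrr H ξ → θ ≠ cf1 H → ξ ≠ cf1 H → θ 1 = ξ 1 → ⟪f, θ⟫[H] = ⟪f, ξ⟫[H])
    {x y : G} (hx : x ∈ H) (hx' : x ∉ der H) (hy : y ∈ H) (hy' : y ∉ der H) : f x = f y := by
  classical
  obtain ⟨l0, hl0, -, hx0⟩ := exists_lin_char_cfker (der_normal H) le_rfl hx'
  have n0 : l0 ≠ cf1 H := fun e => hx0 ((hl0.isIrr.le_cfker_iff.mpr e) hx)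
  let c : (G → ℂ) → ℂ := fun θ => if θ = cf1 H then ⟪f, l0⟫[H] else ⟪f, θ⟫[H]
  have hc : ∀ θ ξ, IsIrr H θ → IsIrr H ξ → θ 1 = ξ 1 → c θ = c ξ := by
    intro θ ξ i1 i2 e
    have e1 : cf1 H 1 = 1 := cf1E (one_mem H)
    by_cases a : θ = cf1 H <;> by_cases b : ξ = cf1 H <;> simp only [c, a, b, if_true, if_false]
    · exact h _ _ hl0.isIrr i2 n0 b (by rw [hl0.one, ← e, a, e1])
    · exact h _ _ i1 hl0.isIrr a n0 (by rw [hl0.one, e, b, e1])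
    · exact h _ _ i1 i2 a b e
  have key : ∀ z ∈ H, z ∉ der H → f z = ⟪f, cf1 H⟫[H] - ⟪f, l0⟫[H] := by
    intro z hz hz'
    obtain ⟨l, hl, -, hzl⟩ := exists_lin_char_cfker (der_normal H) le_rfl hz'
    rw [mem_cfker_lin hl] at hzl
    have e1 : ∑ θ ∈ Irr H, c θ * θ z = l z * ∑ θ ∈ Irr H, c θ * θ z := by
      rw [Finset.mul_sum]
      symm
      refine Finset.sum_bij' (fun θ _ => l * θ) (fun θ _ => star l * θ)
        (fun θ hθ => mem_Irr.mpr (mul_lin_irr hl (mem_Irr.mp hθ)))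
        (fun θ hθ => mem_Irr.mpr (mul_lin_irr hl.star (mem_Irr.mp hθ)))
        (fun θ hθ => hl.star_mul_mul (mem_Irr.mp hθ).mem_CF) (fun θ hθ => ?_) fun θ hθ => ?_
      · have := hl.star.star_mul_mul (mem_Irr.mp hθ).mem_CF
        rwa [star_star] at this
      · rw [hc (l * θ) θ (mul_lin_irr hl (mem_Irr.mp hθ)) (mem_Irr.mp hθ) (by simp [hl.one]),
          Pi.mul_apply]
        ring
    have e2 : ∑ θ ∈ Irr H, c θ * θ z = 0 := by
      have : (1 - l z) * ∑ θ ∈ Irr H, c θ * θ z = 0 := by linear_combination e1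
      exact (mul_eq_zero.mp this).resolve_left (sub_ne_zero.mpr (Ne.symm hzl))
    rw [cfun_apply_sum_cfdot hf z, ← Finset.add_sum_erase _ _ (cf1_mem_Irr H)]
    rw [← Finset.add_sum_erase _ _ (cf1_mem_Irr H),
      Finset.sum_congr rfl (g := fun θ => ⟪f, θ⟫[H] * θ z) fun θ hθ => by
        simp only [c, if_neg (Finset.ne_of_mem_erase hθ)]] at e2
    simp only [c, if_true, cf1E hz, mul_one] at e2 ⊢
    linear_combination e2
  rw [key x hx hx', key y hy hy']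

/-- (12.5) -/
theorem FTtype1_invDade_ortho_constant (hL : IsCoatom L) (h1 : FTtype L = 1)
    {R1 R : (G → ℂ) → Finset (G → ℂ)} (hR : FT1Base L R1 R) {ψ : G → ℂ} (hψ : ψ ∈ CF (⊤ : Subgroup G))
    (ho : ∀ φ ∈ calSF L, ∀ α ∈ R φ, ⟪ψ, α⟫[⊤] = 0) :
    ∀ x ∈ Fcore L, x ∉ der (Fcore L) → ∀ y ∈ Fcore L, y ∉ der (Fcore L) →
      invDade ⊤ L (sharp (Fcore L)) ψ x = invDade ⊤ L (sharp (Fcore L)) ψ y := by
  intro x hx hx' y hy hy'
  have hn := Fcore_normal L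
  have hρ := (invDade_on (FT_DadeF_hyp hL) hψ).1
  have := const_off_der (cfRes_mem_CF hn.le hρ) (fun θ ξ i1 i2 n1 n2 e => ?_) hx hx' hy hy'
  · rwa [cfResE _ hx, cfResE _ hy] at this
  have m1 : cfInd L (Fcore L) θ ∈ calSF L := seqIndC1P.mpr ⟨θ, i1, n1, rfl⟩
  have m2 : cfInd L (Fcore L) ξ ∈ calSF L := seqIndC1P.mpr ⟨ξ, i2, n2, rfl⟩
  have e' : cfInd L (Fcore L) θ 1 = cfInd L (Fcore L) ξ 1 := by rw [cfInd1 hn.le, cfInd1 hn.le, e]
  have hon := sub_seqInd_on hn (calSF_T m1) (calSF_T m2) (a := 1) (by rw [one_mul, e'])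
  rw [one_smul] at hon
  have := cfdot_tau_sub hR.subcoh m1 m2 e' (ho _ m1) (ho _ m2)
  rw [FTDade_eq_F hL hon, invDade_reciprocity (FT_DadeF_hyp hL) hψ hon, cfdot_eq_zero_comm,
    cfdotBr, sub_eq_zero] at this
  rwa [cfdot_Res_l hn.le hρ i1.mem_CF, cfdot_Res_l hn.le hρ i2.mem_CF]

theorem FT_Frobenius_type1 (hL : IsCoatom L) (hF : IsFrobKer L (Fcore L)) : FTtype L = 1 := by
  by_contra h
  obtain ⟨E, hE⟩ := hF
  obtain ⟨U, W, W1, W2, hP⟩ := FTtypeP_witness hL h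
  exact typePF_exclusion hP E (Frobenius_of_typeF hE)

theorem FTsupp_Frobenius (hL : IsCoatom L) (hF : IsFrobKer L (Fcore L)) :
    FTsupp L = sharp (Fcore L) := by
  have h1 := FT_Frobenius_type1 hL hF
  refine Set.Subset.antisymm (fun y hy => ?_) (Fcore_sub_FTsupp hL)
  obtain ⟨x, hx, hy⟩ := Set.mem_iUnion₂.mp hy
  rw [FTsupp1_type1 h1] at hx
  rw [FTder_type1 h1] at hy
  exact ⟨(Frobenius_kerP.mp hF).2.2.2 x hx.1 hx.2 hy.1, hy.2⟩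

/-- (12.6) -/
theorem FT_Frobenius_coherence (hL : IsCoatom L) (hF : IsFrobKer L (Fcore L)) :
    (∀ χ ∈ calSF L, IsIrr L χ) ∧ Coherent L ⊤ (calSF L) (sharp L) (FTDade L) := by
  have h1 := FT_Frobenius_type1 hL hF
  have hn := Fcore_normal L
  have hA := FTsupp_Frobenius hL hF
  constructor
  · intro χ hχ
    obtain ⟨φ, i1, i2⟩ := (calSF_char hχ).exists_constt (seqInd_neq0 hn.le (calSF_T hχ))
    have hφ := mem_irrConstt.mpr ⟨i1, i2⟩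
    have : irrConstt L χ = {φ} := Finset.eq_singleton_iff_unique_mem.mpr ⟨hφ, fun ξ hξ => by
      have := constt_sub_on hL h1 hχ hξ hφ
      rw [hA, FTsupp1_type1 h1, Set.diff_self] at this
      exact sub_eq_zero.mp (funext fun y => cfun_on0 this (Set.notMem_empty y))⟩
    rw [(FTtype1_seqInd_facts hL h1 hχ).1, this, Finset.sum_singleton]
    exact i1
  obtain ⟨U, hU, hc⟩ := typeF hL h1
  obtain ⟨R1, R, hR⟩ := FTtype1_subcoherent hL h1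
  obtain ⟨E, hE⟩ := hF
  have hFU := hE.compl_conj hU.sdprod
  rcases hc with hc | hc | hc
  · refine (Sibley_coherence (mFT_odd L) (Fcore_nil L) hc (Or.inl hFU)).congr fun φ hφ => ?_
    have hon := zcharD1_seqInd_on hn (seqInd_subT _ _ _ _) hφ
    rw [FTDade_eq_F hL hon, Dade_Ind hc (sharp_mono le_top) hon]
  · have : ∀ φ ∈ calSF L, φ 1 = (Fcore L).relIndex L := fun φ hφ => by
      obtain ⟨θ, i1, -, rfl⟩ := seqIndC1P.mp hφ
      rw [cfInd1 hn.le, (irr_abelian_lin hc.1 i1).one, mul_one]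
    exact uniform_degree_coherence hR.subcoh fun φ hφ ψ hψ => by rw [this φ hφ, this ψ hψ]
  · have hs := sol_of_nil (Fcore_nil L)
    have hq : OddFrobQuo (Fcore L) L ⊥ := ⟨mFT_odd L, NormalIn.bot L, bot_le,
      nil_quo (Fcore_nil L) _, by
        rw [sup_bot_eq]
        exact (Frobenius_proper_quotient hFU hn.der (der_lt hs hFU.ker_ne_bot)).isFrobKer⟩
    rcases non_coherent_chief ⟨hn, hs, hR.subcoh⟩ hq with h | ⟨-, p, hp, hP, -, hd⟩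
    · exact h
    exfalso
    haveI := Fact.mk hp
    have hZ := (typeF_context (mFT_odd L) hU).2.1.mp hFU
    have hP' : IsPGroup p (Fcore L) := hP.of_equiv (quoBotEquiv _).symm
    apply hd
    rw [hU.sdprod.relIndex_left, ← IsZGroup.exponent_eq_card]
    exact hc.1 p ⟨hp, dvd_card_of_isPGroup hP' hFU.ker_ne_bot⟩

end Cfsg.Agent.OO.Pf
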