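import Cfsg.Agent.Lib.OO.Pf.PF12_A

/-! # Peterfalvi (12.8) to (12.12) -/

set_option autoImplicit false
set_option linter.unusedSectionVars false
set_option linter.unusedVariables false

namespace Cfsg.Agent.OO.Pf.P12

open Subgroup Cfsg.Agent.Coprime
open scoped Pointwise

universe u

variable {G : Type u} [Group G] [Finite G] {p : ℕ} [hp : Fact p.Prime]

section Lines
variable {T X Y Z E : Subgroup G} {a x : G}

/-- an element normalizing three subgroups of order `p` of `T ≅ ℤ_p²` normalizes all of them -/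
theorem norm_of_three (hT : IsEp p 2 T T) (hX : IsEp p 1 X T) (hY : IsEp p 1 Y T) (hZ : IsEp p 1 Z T)
    (h1 : X ≠ Y) (h2 : X ≠ Z) (h3 : Y ≠ Z) (aX : a ∈ 𝐍(X)) (aY : a ∈ 𝐍(Y)) (aZ : a ∈ 𝐍(Z))
    (hx : x ∈ T) : a ∈ 𝐍(zpowers x) := by
  have hD := hT.dprod_of_ne hX hY h1
  obtain ⟨z, hzT, hz, rfl⟩ := hZ.exists_zpowers
  obtain ⟨u, hu, v, hv, rfl⟩ := hD.mem_iff.mp hzT
  have hc : ∀ s ∈ T, ∀ t ∈ T, Commute s t := ab_iff.mp hT.ab
  have huT := hX.le hu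
  have hvT := hY.le hv
  have u1 : u ≠ 1 := by
    rintro rfl
    exact h3 (hZ.eq_of_le hY (by simpa using hv)).symm
  have v1 : v ≠ 1 := by
    rintro rfl
    exact h2 (hZ.eq_of_le hX (by simpa using hu)).symm
  obtain ⟨k, hk⟩ := mem_zpowers_iff.mp (conj_mem_of_norm aZ (mem_zpowers (u * v)))
  rw [(hc u huT v hvT).mul_zpow] at hk
  have e : (u ^ k)⁻¹ * (a * u * a⁻¹) = v ^ k * (a * v * a⁻¹)⁻¹ := by
    rw [inv_mul_eq_iff_eq_mul, ← mul_assoc (u ^ k), hk]; group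
  have m : (u ^ k)⁻¹ * (a * u * a⁻¹) ∈ X ⊓ Y :=
    mem_inf.mpr ⟨mul_mem (inv_mem (zpow_mem hu k)) (conj_mem_of_norm aX hu),
      e ▸ mul_mem (zpow_mem hv k) (inv_mem (conj_mem_of_norm aY hv))⟩
  rw [hD.inf_eq, mem_bot] at m
  have eu : a * u * a⁻¹ = u ^ k := (inv_mul_eq_one.mp m).symm
  have ev : a * v * a⁻¹ = v ^ k := (mul_inv_eq_one.mp (e ▸ m)).symm
  obtain ⟨s, hs, t, ht, rfl⟩ := hD.mem_iff.mp hx
  rw [← eq_zpowers_of_prime hX.prime_card hu u1] at hs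
  rw [← eq_zpowers_of_prime hY.prime_card hv v1] at ht
  obtain ⟨i, rfl⟩ := mem_zpowers_iff.mp hs
  obtain ⟨j, rfl⟩ := mem_zpowers_iff.mp ht
  refine mem_norm_of_conj_le ?_
  rw [conj_zpowers, zpowers_le]
  refine mem_zpowers_iff.mpr ⟨k, ?_⟩
  rw [(hc _ (zpow_mem huT i) _ (zpow_mem hvT j)).mul_zpow, ← zpow_mul, ← zpow_mul, mul_comm i, mul_comm j,
    zpow_mul, zpow_mul, ← eu, ← ev, conj_zpow, conj_zpow]
  group

theorem card_lines (hT : IsEp p 2 T T) : Nat.card {X : Subgroup G // IsEp p 1 X T} = p + 1 := by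
  classical
  let Λ := (Set.toFinite {X : Subgroup G | IsEp p 1 X T}).toFinset
  have hΛ : ∀ X, X ∈ Λ ↔ IsEp p 1 X T := fun X => Set.Finite.mem_toFinset _
  have e : elts (sharp T) = Λ.biUnion fun X => elts (sharp X) := by
    ext t
    simp only [mem_elts, Finset.mem_biUnion, hΛ]
    exact ⟨fun h => ⟨zpowers t, isEp_zpowers h.1 (orderOf_eq_of_abelem hT.abelem h.1 h.2),
      mem_zpowers t, h.2⟩, fun ⟨X, h1, h2⟩ => ⟨h1.le h2.1, h2.2⟩⟩
  have := congrArg Finset.card e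
  rw [Finset.card_biUnion, card_elts_set, ncard_sharp, hT.card,
    Finset.sum_congr rfl (g := fun _ => p - 1) fun X hX => by
      rw [card_elts_set, ncard_sharp, ((hΛ X).mp hX).card_one], Finset.sum_const, smul_eq_mul] at this
  · have h2 := hp.out.two_le
    have e2 : p ^ 2 - 1 = (p + 1) * (p - 1) := by simpa using Nat.sq_sub_sq p 1
    rw [e2] at this
    rw [← Nat.eq_of_mul_eq_mul_right (by omega) this |>.symm, ← Set.ncard_eq_toFinset_card]
    rfl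
  · intro X hX Y hY hne
    rw [Function.onFun, Finset.disjoint_left]
    intro t h1 h2
    rw [mem_elts] at h1 h2
    have := ((hΛ X).mp hX).inf_eq_bot_of_ne ((hΛ Y).mp hY) hne
    exact h1.2 (mem_bot.mp (this ▸ (⟨h1.1, h2.1⟩ : t ∈ X ⊓ Y)))

theorem dvd_succ_of_free (hT : IsEp p 2 T T) (hE : E ≤ 𝐍(T))
    (h : ∀ a ∈ E, ∀ X, IsEp p 1 X T → a ∈ 𝐍(X) → a = 1) : ♯E ∣ p + 1 := by
  letI : MulAction E {X : Subgroup G // IsEp p 1 X T} :=
    { smul := fun a X => ⟨(a : G) •ᶜ X.1, X.2.conj_of_norm (hE a.2)⟩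
      one_smul := fun X => Subtype.ext (conj_eq_of_mem (one_mem _))
      mul_smul := fun a b X => Subtype.ext (conj_conj _ _ _).symm }
  rw [← card_lines hT]
  exact Frob.card_dvd_of_free fun a X e =>
    Subtype.ext (h a a.2 X.1 X.2 (conj_eq_self_iff.mp (congrArg Subtype.val e)))

theorem two_mul_le_of_odd_dvd {e n : ℕ} (he : Odd e) (hn : Even n) (h0 : n ≠ 0) (h : e ∣ n) : 2 * e ≤ n :=
  Nat.le_of_dvd (Nat.pos_of_ne_zero h0)
    ((Nat.coprime_two_left.mpr he).mul_dvd_of_dvd_of_dvd hn.two_dvd h)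

theorem bound_of_line (op : Odd p) (ho : Odd ♯E) (hX : IsEp p 1 X T) (hn : E ≤ 𝐍(X))
    (hr : Semiregular X E) : 2 * ♯E ≤ p + 1 := by
  have := regular_norm_dvd_pred hn hr
  rw [hX.card_one] at this
  have h2 := hp.out.two_le
  have := two_mul_le_of_odd_dvd ho (Nat.Odd.sub_odd op odd_one) (by omega) this
  omega

theorem bound_of_plane (op : Odd p) (ho : Odd ♯E) (hT : IsEp p 2 T T) (hn : E ≤ 𝐍(T))
    (hr : Semiregular T E) (hx : x ∈ T) (hE : E ⊓ 𝐍(zpowers x) = ⊥) : 2 * ♯E ≤ p + 1 := by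
  by_cases h : ∃ X, IsEp p 1 X T ∧ E ≤ 𝐍(X)
  · obtain ⟨X, hX, hN⟩ := h
    exact bound_of_line op ho hX hN (hr.mono hX.le le_rfl)
  refine two_mul_le_of_odd_dvd ho op.add_one (by omega) (dvd_succ_of_free hT hn fun a ha X hX haX => ?_)
  by_contra a1
  obtain ⟨b, hb, hbp⟩ := exists_prime_order_mem (H := zpowers a) (by simpa using a1)
  have hbE : zpowers b ≤ E := zpowers_le.mpr (zpowers_le.mpr ha hb)
  have hbX : zpowers b ≤ 𝐍(X) := zpowers_le.mpr (zpowers_le.mpr haX hb)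
  have hB := odd_regular_prime_normal ho (hT.ne_bot two_ne_zero) hn hr hbE (by rwa [Nat.card_zpowers])
  have hc : ∀ g ∈ E, b ∈ 𝐍(g •ᶜ X) := fun g hg => by
    have := conj_le_norm_conj (g := g) |>.mpr hbX
    rw [hB.conj_eq hg] at this
    exact this (mem_zpowers b)
  obtain ⟨g, hg, hgX⟩ := SetLike.not_le_iff_exists.mp fun hN => h ⟨X, hX, hN⟩
  have hb1 : b ∈ E ⊓ 𝐍(zpowers x) := by
    refine ⟨hbE (mem_zpowers b), norm_of_three hT hX (hX.conj_of_norm (hn hg))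
      (hX.conj_of_norm (hn (mul_mem hg hg))) (fun e => hgX (conj_eq_self_iff.mp e.symm))
      (fun e => hgX ?_) (fun e => hgX ?_) (hbX (mem_zpowers b)) (hc g hg) (hc _ (mul_mem hg hg)) hx⟩
    · have h2 : g ^ 2 ∈ 𝐍(X) := by rw [sq]; exact conj_eq_self_iff.mp e.symm
      obtain ⟨k, hk⟩ := Odd.of_dvd_nat ho (orderOf_dvd_card hg)
      have := pow_mem h2 (k + 1)
      rwa [← pow_mul, show 2 * (k + 1) = orderOf g + 1 by omega, pow_succ, pow_orderOf_eq_one,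
        one_mul] at this
    · rw [← conj_conj, conj_inj] at e
      exact conj_eq_self_iff.mp e.symm
  rw [hE, mem_bot] at hb1
  rw [hb1, orderOf_one] at hbp
  exact Nat.not_prime_one hbp

end Lines

omit hp in
/-- a prime divisor of the order of a type `𝓕` complement divides the order of `U₀` -/
theorem exists_regular_elt {M U : Subgroup G} (h : OfTypeF M U) {q : ℕ} (hq : q.Prime) (hd : q ∣ ♯U) :
    q ∣ expo U ∧ ∃ y ∈ U, orderOf y = q ∧ Semiregular (Fcore M) (zpowers y) := by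
  obtain ⟨U0, hle, he, hF⟩ := h.compl
  obtain ⟨z, hz, hzq⟩ := cauchy hq hd
  have h1 : q ∣ expo U := by
    rw [← hzq, ← orderOf_mk z hz]; exact Monoid.order_dvd_exponent _
  obtain ⟨y, hy, hyq⟩ := cauchy hq (H := U0) ((he ▸ h1).trans Group.exponent_dvd_nat_card)
  exact ⟨h1, y, hle hy, hyq, hF.semiregular.mono le_rfl (zpowers_le.mpr hy)⟩

variable [MinOdd G]

/-- Hypothesis (12.8) and the conclusion of (12.9) -/
structure Hyp (p : ℕ) (M P0 L : Subgroup G) (x : G) : Prop where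
  ih : ∀ q < p, q.Prime → ∀ N : Subgroup G, IsCoatom N → FTtype N = 1 → 1 < rp q N → q ∣ ♯(Fcore N)
  maxM : IsCoatom M
  typeM : FTtype M = 1
  not_dvd : ¬ p ∣ ♯(Fcore M)
  syl : Syl p P0 M
  ab : Ab P0
  rank : rp p P0 = 2
  maxL : IsCoatom L
  P0_le : P0 ≤ FTcore L
  mem : x ∈ P0
  ox : orderOf x = p
  not_le : ¬ Fcore M ⊓ 𝐂[x] ≤ der (Fcore M)
  uniq : UniqMax 𝐂[x] M
  not_cent : ¬ 𝐂[x] ≤ L

/-- (12.9) -/
theorem exists_hyp {M : Subgroup G}
    (ih : ∀ q < p, q.Prime → ∀ N : Subgroup G, IsCoatom N → FTtype N = 1 → 1 < rp q N → q ∣ ♯(Fcore N))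
    (hM : IsCoatom M) (h1 : FTtype M = 1) (hr : 1 < rp p M) (hK : ¬ p ∣ ♯(Fcore M)) :
    ∃ P0 L x, Hyp p M P0 L x := by
  have hn := Fcore_normal M
  obtain ⟨P0, hP⟩ := exists_syl p M
  have hco := (coprime_of_isPGroup hP.isPGroup ((piGrp_compl_singleton hp.out).mpr hK)).symm
  obtain ⟨U, hU, hPU⟩ := exists_hall_ge (mmax_sol hM) hP.le (coprime_iff_isPiNum_compl.mp hco)
  have hsd := (Fcore_hall M).sdprod hn.norm hU
  obtain ⟨f1, f2, -⟩ := FTtypeI_II_facts hM (by omega) (by rw [FTder_type1 h1]; exact hsd)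
  obtain ⟨hab, hrk⟩ := f1 p hp.out P0 (hP.hall.mono hPU hU.le).syl
  have hr2 : rp p P0 = 2 := by
    rw [rank_eq_rp hP.isPGroup] at hrk
    rw [← rp_syl hP] at hr
    omega
  have hd : p ∣ ♯P0 := rp_pos_iff.mp (by omega)
  obtain ⟨L0, hL0, hpL⟩ := FT_Dade_support_partition.1 p ⟨hp.out, hd.trans (card_dvd le_top)⟩
  obtain ⟨P, hPs⟩ := exists_syl p (FTcore L0)
  obtain ⟨g, -, hg⟩ := (hPs.trans_hall (FTcore_facts hL0).2.1.hall hpL).exists_le_conj' le_top hP.isPGroup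
  have hPL : P0 ≤ FTcore (g •ᶜ L0) := by rw [FTcore_conj]; exact hg.trans (conj_mono g hPs.le)
  have hE := isEp_Ohm_of_ab (p := p) hab
  rw [hr2] at hE
  have hKs := sol_of_nil (Fcore_nil M)
  have : ¬ ∀ a ∈ Ohm p P0, a ≠ 1 → Fcore M ⊓ 𝐂[a] ≤ der (Fcore M) := fun h =>
    (der_lt hKs (mmax_Fcore_neq1 hM)).not_ge (coprime_abelian_gen_cent1 hE.ab (hE.not_isCyclic le_rfl)
      (hE.le.trans (hP.le.trans hn.norm)) (coprime_card_mono hco le_rfl hE.le) h)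
  push Not at this
  obtain ⟨x, hx, x1, hC⟩ := this
  have hu : UniqMax 𝐂[x] M := f2 {x} (Set.singleton_nonempty x)
    (Set.singleton_subset_iff.mpr ⟨hPU (hE.le hx), x1⟩) fun e => hC (e ▸ bot_le)
  refine ⟨P0, _, x, ih, hM, h1, hK, hP, hab, hr2, isCoatom_conj hL0 g, hPL, hE.le hx,
    orderOf_eq_of_abelem hE.abelem hx x1, hC, hu, fun h => hK ?_⟩
  rw [hu.eq (isCoatom_conj hL0 g) h, FTcore_type1 h1] at hPL
  exact hd.trans (card_dvd hPL)

namespace Hyp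
variable {M P0 L : Subgroup G} {x : G}

theorem ne_one (h : Hyp p M P0 L x) : x ≠ 1 := fun e => hp.out.one_lt.ne (by rw [← h.ox, e, orderOf_one])

theorem odd (h : Hyp p M P0 L x) : Odd p := h.ox ▸ mFT_odd_orderOf x

theorem three_le (h : Hyp p M P0 L x) : 3 ≤ p := by
  have := hp.out.two_le
  obtain ⟨k, hk⟩ := h.odd
  omega

theorem A1 (h : Hyp p M P0 L x) : x ∈ FTsupp1 L := ⟨h.P0_le h.mem, h.ne_one⟩

theorem not_TI (h : Hyp p M P0 L x) {A : Set G} (hx : x ∈ A) : ¬ NormedTI A ⊤ L := fun hTI =>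
  h.not_cent fun y hy => hTI.cent1_le hx ⟨trivial, hy⟩

theorem typeL (h : Hyp p M P0 L x) : FTtype L = 1 := by
  by_contra h1
  have hL := h.maxL
  obtain ⟨U, W, W1, W2, hP⟩ := FTtypeP_witness hL h1
  have h5 := FTtype5_exclusion hL
  have h2 : FTtype L ≠ 2 := fun e => h.not_TI h.A1 (FTtypeII_ker_TI hL e).2.2
  obtain ⟨H0, hH⟩ := Ptype_Fcore_kernel_exists hL hP h5
  obtain ⟨-, -, h3, hg⟩ := FTtype34_structure hH h2
  have hc := (typeP_Galois_P hH hg).2.1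
  rw [Ptype_Fcompl_kernel_cent hH h2, (FTtype34_facts hH h2).2.2.2,
    ab_iff_der.mp (compl_of_typeIII hL hP h3).2.1] at hc
  have hU : IsCyclic U := (quoBotEquiv U).isCyclic.mpr hc
  have hle := h.P0_le
  rw [FTcore_type_gt2 (by omega)] at hle
  have hd : p ∣ ♯(Fcore L) := by
    by_contra hd
    have e := rp_eq_of_not_dvd hP.defM'.right_le (by rwa [hP.defM'.relIndex_right])
    have h1 := rp_le_one_of_isCyclic (p := p) hU
    have h2 := rp_mono p hle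
    rw [h.rank] at h2
    omega
  refine h.not_TI (A := sharp (Fit L)) ⟨Fcore_le_Fit L ((Fcore_hall L).mem_of_normal (Fcore_normal L).norm
    (der_le L (hle h.mem)) ?_), h.ne_one⟩ (compl_of_typeII_IV hL hP h5).tiF
  rw [PiElt, h.ox]
  exact (isPiNum_prime hp.out).mpr ⟨hp.out, hd⟩

theorem P0_le' (h : Hyp p M P0 L x) : P0 ≤ Fcore L := FTcore_type1 h.typeL ▸ h.P0_le

theorem dvd_L (h : Hyp p M P0 L x) : p ∣ ♯(Fcore L) := h.ox ▸ orderOf_dvd_card (h.P0_le' h.mem)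

/-- (12.10) -/
theorem frob (h : Hyp p M P0 L x) : IsFrobKer L (Fcore L) := by
  obtain ⟨U, hF, hc⟩ := typeF h.maxL h.typeL
  refine ⟨U, (typeF_context (mFT_odd L) hF).2.1.mpr ((isZGroup_iff_rank_of_odd (mFT_odd U)).mpr
    (rank_le_iff.mpr fun q hq => ?_))⟩
  by_contra hr
  have hd : q ∣ ♯U := rp_pos_iff.mp (by omega)
  have hco := hF.sdprod.coprime_of_left (Fcore_isHallIn L)
  obtain ⟨he, y, hy, hyq, hreg⟩ := exists_regular_elt hF hq.out hd
  have h3 := h.three_le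
  have hlt : q < p := by
    have a1 : q ∣ p - 1 → q < p := fun h => by have := Nat.le_of_dvd (by omega) h; omega
    rcases hc with hc | hc | hc
    · exact absurd hc (h.not_TI ⟨h.P0_le' h.mem, h.ne_one⟩)
    · have hE := isEp_Ohm_of_ab (p := p) hc.1
      have h1 := rp_le_rank p (Fcore L)
      have h2 := rp_mono p h.P0_le'
      rw [show rp p (Fcore L) = 2 by rw [hc.2] at h1; rw [h.rank] at h2; omega] at hE
      have := regular_norm_dvd_pred (le_norm_Ohm p ((zpowers_le.mpr hy).trans hF.sdprod.le_norm))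
        (hreg.mono hE.le le_rfl)
      rw [Nat.card_zpowers, hyq, hE.card, show p ^ 2 - 1 = (p + 1) * (p - 1) by
        simpa using Nat.sq_sub_sq p 1] at this
      rcases (Nat.Prime.dvd_mul hq.out).mp this with h' | h'
      · have := two_mul_le_of_odd_dvd (hyq ▸ mFT_odd_orderOf y) h.odd.add_one (by omega) h'
        omega
      · exact a1 h'
    · exact a1 (he.trans (hc.1 p ⟨hp.out, h.dvd_L⟩))
  have := h.ih q hlt hq.out L h.maxL h.typeL (lt_of_lt_of_le (by omega) (rp_mono q hF.sdprod.right_le))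
  exact hq.out.one_lt.ne' (Nat.eq_one_of_dvd_coprimes hco this hd)

theorem A0 (h : Hyp p M P0 L x) : x ∈ FTsupp0 L := FTsupp1_sub0 h.maxL h.A1

theorem Nx_eq (h : Hyp p M P0 L x) : Nx x = M :=
  have := ((FTsupport_facts h.maxL).2.1 x h.A0 h.not_cent).2
  h.uniq.eq this.1 this.le

/-- (12.11), first part -/
theorem defM (h : Hyp p M P0 L x) : IsSdprod (Fcore M) (L ⊓ M) M := by
  have := ((FTsupport_facts h.maxL).2.2 x h.A0 h.not_cent).1.1
  rwa [h.Nx_eq] at this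

theorem Op_inf (h : Hyp p M P0 L x) : Op p (Fcore L) ⊓ M = P0 :=
  h.syl.hall.eq_of_le (le_inf (le_Op_of_nil (Fcore_nil L) h.P0_le' h.syl.isPGroup) h.syl.le) inf_le_right
    ((Op_piGrp p _).inf_left M)

theorem P0_le_inf (h : Hyp p M P0 L x) : P0 ≤ L ⊓ M := le_inf (h.P0_le'.trans (Fcore_le L)) h.syl.le

theorem typeFM (h : Hyp p M P0 L x) : OfTypeF M (L ⊓ M) :=
  let ⟨_, hU, _⟩ := typeF h.maxM h.typeM
  compl_of_typeF h.defM hU

theorem not_le_cent (h : Hyp p M P0 L x) : ¬ P0 ≤ 𝐂(Fcore M) := by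
  intro hc
  obtain ⟨-, y, hy, hyq, hreg⟩ := exists_regular_elt h.typeFM hp.out
    (h.ox ▸ orderOf_dvd_card (h.P0_le_inf h.mem))
  obtain ⟨g, hg, hle⟩ := h.syl.exists_le_conj' (Q := zpowers y) (zpowers_le.mpr hy.2)
    (isPGroup_of_card_prime_pow (n := 1) (by rw [Nat.card_zpowers, hyq, pow_one]))
  have h1 := hle.trans (conj_le_cent_conj.mpr hc)
  rw [(Fcore_normal M).conj_eq hg] at h1
  have := hreg.inf_cent le_rfl (ne_bot_of_prime_dvd hp.out (by rw [Nat.card_zpowers, hyq]))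
  exact mmax_Fcore_neq1 h.maxM (by rw [← this, left_eq_inf]; exact le_cent_symm h1)

/-- (12.11), second part -/
theorem inf_le (h : Hyp p M P0 L x) : L ⊓ M ≤ Fcore L := by
  intro z hz
  by_contra hzH
  obtain ⟨E, hE⟩ := h.frob
  obtain ⟨k, hk, hzE⟩ := hE.mem_conj hz.1 hzH
  have hE' := hE.compl_conj (hE.sdprod.conj_right (hE.ker_le hk))
  have z1 : zpowers z ≠ ⊥ := fun e => hzH (zpowers_eq_bot.mp e ▸ one_mem _)
  have hA : zpowers z ≤ L ⊓ M := zpowers_le.mpr hz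
  have hn : zpowers z ≤ 𝐍(P0) := by
    rw [← h.Op_inf]
    exact le_norm_inf (le_norm_Op p ((hA.trans inf_le_left).trans (Fcore_normal L).norm))
      (le_norm_of_le (hA.trans inf_le_right))
  have hF : IsFrob (P0 ⊔ zpowers z) P0 (zpowers z) :=
    ⟨hE'.pair.mono h.P0_le' (zpowers_le.mpr hzE) hn
      (ne_bot_of_prime_dvd hp.out (h.ox ▸ orderOf_dvd_card h.mem)) z1, rfl⟩
  have hle : P0 ⊔ zpowers z ≤ L ⊓ M := sup_le h.P0_le_inf hA
  have hW := (Frobenius_Wielandt_fixpoint hF (hle.trans h.defM.le_norm)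
    (coprime_card_mono (h.defM.coprime_of_left (Fcore_isHallIn M)) le_rfl hle)
    (sol_of_nil (Fcore_nil M))).2.1
  obtain ⟨k2, hk2, k21⟩ := exists_mem_ne_one fun e => h.not_le_cent (hW e)
  obtain ⟨k1, hk1, k11⟩ := exists_mem_ne_one (H := Fcore M ⊓ 𝐂[x]) fun e => h.not_le (e ▸ bot_le)
  obtain ⟨U1, hab, -, hU1⟩ := h.typeFM.inertia
  have m1 : x ∈ U1 := hU1 k1 hk1.1 k11 ⟨h.P0_le_inf h.mem, mem_cent1_comm.mp hk1.2⟩
  have m2 : z ∈ U1 := hU1 k2 hk2.1 k21 ⟨hz, mem_cent1_comm.mp (cent_zpowers z ▸ hk2.2)⟩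
  exact hzH (hE.cent1_ker (h.P0_le' h.mem) h.ne_one ⟨hz.1, mem_cent1.mpr (ab_iff.mp hab z m2 x m1)⟩)

theorem norm_le (h : Hyp p M P0 L x) : 𝐍(zpowers x) ≤ M :=
  h.uniq.le_of_ne_top (cent_zpowers x ▸ cent_le_norm _)
    (mFT_norm_proper (by simpa using h.ne_one) (mFT_ne_top_of_sol inferInstance))

/-- (12.12) -/
theorem index_le (h : Hyp p M P0 L x) : 2 * (Fcore L).relIndex L ≤ p + 1 := by
  obtain ⟨E, hE⟩ := h.frob
  rw [hE.sdprod.relIndex_left]
  have hP := Op_isPGroup p (Fcore L)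
  have hxP : x ∈ Op p (Fcore L) := (h.Op_inf.ge h.mem).1
  have hP1 : Op p (Fcore L) ≠ ⊥ := fun e => h.ne_one (mem_bot.mp (e ▸ hxP))
  set T := Ohm p (Zc (Op p (Fcore L))) with hT
  have hT1 : T ≠ ⊥ := Ohm_ne_bot (hP.to_le inf_le_left) (Zc_ne_bot (Op_nil p _) hP1)
  have hTZ : T ≤ Zc (Op p (Fcore L)) := Ohm_le _ _
  have hTP : T ≤ P0 := h.Op_inf ▸ le_inf (hTZ.trans inf_le_left)
    ((hTZ.trans inf_le_right).trans ((cent_le_cent1 hxP).trans h.uniq.le))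
  have hn : E ≤ 𝐍(T) := le_norm_Ohm p (le_norm_Zc (le_norm_Op p hE.le_norm))
  have hr : Semiregular T E := hE.semiregular.mono (hTP.trans h.P0_le') le_rfl
  have h2 := isEp_Ohm_of_ab (p := p) h.ab
  rw [h.rank] at h2
  rcases (le_Ohm hTP (Ohm_abelem p (Zc_ab _))).lt_or_eq with hlt | e
  · exact bound_of_line h.odd (mFT_odd E) (h2.one_of_lt_two hlt hT1) hn hr
  · refine bound_of_plane h.odd (mFT_odd E) (e ▸ h2.self) hn hr (x := x)
      (e ▸ mem_Ohm h.mem (h.ox ▸ pow_orderOf_eq_one x)) (eq_bot_iff.mpr ?_)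
    rw [← hE.sdprod.inf_eq]
    exact le_inf ((inf_le_inf hE.compl_le h.norm_le).trans h.inf_le) inf_le_left

theorem sq_le (h : Hyp p M P0 L x) : p ^ 2 ≤ ♯(Fcore L) :=
  Nat.le_of_dvd (card_pos' _) ((h.rank ▸ pow_rp_dvd p P0).trans (card_dvd h.P0_le'))

theorem notConj (h : Hyp p M P0 L x) : NotConj M L := fun g e =>
  h.not_dvd (by rw [e, Fcore_conj, card_conj_smul]; exact h.dvd_L)

theorem not_frob (h : Hyp p M P0 L x) : ¬ IsFrobKer M (Fcore M) := by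
  rintro ⟨E, hE⟩
  have h1 := rank_le_one_of_isZGroup
    (odd_regular_Zgroup (mFT_odd E) hE.ker_ne_bot hE.le_norm hE.semiregular)
  have h2 := rp_le_rank p E
  rw [rp_eq_of_not_dvd hE.compl_le (hE.sdprod.relIndex_right ▸ h.not_dvd), ← rp_syl h.syl, h.rank] at h2
  omega

theorem seven_le (h : Hyp p M P0 L x) : 7 ≤ (der (Fcore M)).relIndex (Fcore M) := by
  obtain ⟨U0, hle, -, hF⟩ := h.typeFM.compl
  have hlt := der_lt (sol_of_nil (Fcore_nil M)) hF.ker_ne_bot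
  have hq := Frobenius_proper_quotient hF hF.ker_normal.der hlt
  have := odd_Frobenius_index_ler (odd_quo (mFT_odd _) _) hq.isFrobKer
  rw [hq.sdprod.relIndex_left, card_quo (der_normal _).norm] at this
  have h1 := one_lt_card hq.compl_ne_bot
  obtain ⟨k, hk⟩ := odd_quo (mFT_odd U0) (der (Fcore M))
  omega

end Hyp

end Cfsg.Agent.OO.Pf.P12
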