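import Cfsg.Agent.Lib.OO.PF13Defs

/-! # Peterfalvi (13.2), (13.3), (13.14) -/

set_option autoImplicit false
set_option linter.unusedSectionVars false
set_option linter.unusedVariables false

namespace Cfsg.Agent.OO.Pf

open Subgroup Cfsg.Agent.Coprime
open scoped Pointwise ComplexConjugate

universe u

namespace P13

theorem ustar_mul (p q : ℕ) : (p ^ q - 1) / (p - 1) * (p - 1) = p ^ q - 1 :=
  Nat.div_mul_cancel (Nat.sub_one_dvd_pow_sub_one p q)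

theorem ustar_modEq {p n : ℕ} (hp : 2 ≤ p) (q : ℕ) (h : p ≡ 1 [MOD n]) :
    (p ^ q - 1) / (p - 1) ≡ q [MOD n] := by
  rw [← Nat.geomSum_eq hp]
  induction q with
  | zero => rfl
  | succ q ih => rw [Finset.sum_range_succ]; exact ih.add (by simpa using h.pow q)

theorem ustar_real {p : ℕ} (hp : 2 ≤ p) (q : ℕ) :
    (((p ^ q - 1) / (p - 1) : ℕ) : ℝ) * (p - 1) = (p : ℝ) ^ q - 1 := by
  have := congrArg (Nat.cast : ℕ → ℝ) (ustar_mul p q)
  rwa [Nat.cast_mul, Nat.cast_pred (by omega), Nat.cast_pred (by positivity), Nat.cast_pow] at this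

end P13

open P13

/-- (13.14) -/
theorem FTtypeP_primes_mod_cases {p q : ℕ} (hp : p.Prime) (hq : q.Prime) (op : Odd p) (oq : Odd q) :
    Odd ((p ^ q - 1) / (p - 1)) ∧ (p ≡ 1 [MOD q] → q ∣ (p ^ q - 1) / (p - 1)) ∧
    (¬ p ≡ 1 [MOD q] → ((p ^ q - 1) / (p - 1)).Coprime (p - 1) ∧
      ∀ b, b ∣ (p ^ q - 1) / (p - 1) → b ≡ 1 [MOD q]) := by
  have h2 := hp.two_le
  have ho : Odd ((p ^ q - 1) / (p - 1)) := by
    have := ustar_modEq h2 q (n := 2) (Nat.odd_iff.mp op)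
    rw [Nat.odd_iff, this, ← Nat.odd_iff]; exact oq
  refine ⟨ho, fun h => (Nat.modEq_zero_iff_dvd.mp ((ustar_modEq h2 q h).trans
    (Nat.modEq_zero_iff_dvd.mpr dvd_rfl))), fun h => ?_⟩
  have hc : ((p ^ q - 1) / (p - 1)).Coprime (p - 1) := by
    refine Nat.coprime_of_dvd fun r hr h1 h3 => h ?_
    have e : p ≡ 1 [MOD r] := ((Nat.modEq_iff_dvd' (by omega)).mpr h3).symm
    have := ((ustar_modEq h2 q e).dvd_iff dvd_rfl).mp h1
    rwa [← (Nat.prime_dvd_prime_iff_eq hr hq).mp this]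
  refine ⟨hc, fun b => ?_⟩
  induction b using induction_on_primes with
  | zero => intro hb; rw [Nat.eq_zero_of_zero_dvd hb] at ho; exact absurd ho (by decide)
  | one => exact fun _ => rfl
  | prime_mul r b hr ih =>
    intro hb
    have h1 : r ∣ (p ^ q - 1) / (p - 1) := (dvd_mul_right r b).trans hb
    refine (mul_one 1) ▸ Nat.ModEq.mul ?_ (ih ((dvd_mul_left b r).trans hb))
    haveI := Fact.mk hr
    haveI := Fact.mk hq
    have e1 : (p : ZMod r) ^ q = 1 := by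
      have : r ∣ p ^ q - 1 := ustar_mul p q ▸ h1.mul_right _
      have := (Nat.modEq_iff_dvd' (Nat.one_le_pow _ _ (by omega))).mpr this
      exact_mod_cast ((ZMod.natCast_eq_natCast_iff _ _ _).mpr this).symm
    have e2 : (p : ZMod r) ≠ 1 := fun e => by
      have : 1 ≡ p [MOD r] := (ZMod.natCast_eq_natCast_iff _ _ _).mp (by exact_mod_cast e.symm)
      exact hr.one_lt.ne' (Nat.eq_one_of_dvd_coprimes hc h1 ((Nat.modEq_iff_dvd' (by omega)).mp this))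
    have e3 : (p : ZMod r) ≠ 0 := fun e => by
      rw [e, zero_pow hq.ne_zero] at e1; exact zero_ne_one e1
    have := ZMod.orderOf_dvd_card_sub_one e3
    rw [orderOf_eq_prime e1 e2] at this
    exact ((Nat.modEq_iff_dvd' hr.one_le).mpr this).symm

variable {G : Type u} [Group G] [Finite G] [MinOdd G] {S U W W1 W2 : Subgroup G}

namespace P13

omit [MinOdd G] in
theorem secCent_bot (H : Subgroup G) : secCent H ⊥ = 𝐂(H) := by
  ext x
  refine ⟨fun h => mem_cent_iff_conj.mpr fun y hy => mul_inv_eq_one.mp (mem_bot.mp (h.2 y hy)),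
    fun h => ⟨(NormalIn.bot ⊤).norm trivial, fun y hy => ?_⟩⟩
  rw [mem_cent_iff_conj.mp h y hy, mul_inv_cancel]; exact one_mem _

omit [MinOdd G] in
theorem Pu_dvd {H0 H1 : Subgroup G} {a : ℕ} (h : GaloisPn S U W1 H0 H1 a) : Pu S U H0 ∣ a ^ (♯W1 - 1) := by
  obtain ⟨f, h1, h2⟩ := h.emb
  haveI : NeZero a := ⟨by have := h.one_lt; omega⟩
  let F : U →* Multiplicative (Fin (♯W1 - 1) → ZMod a) :=
    MonoidHom.mk' (fun x => Multiplicative.ofAdd (f x)) fun x y => by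
      rw [← ofAdd_add, ← h1 x x.2 y y.2]; rfl
  have : F.ker = (Pc S U H0).subgroupOf U := by
    ext x; exact h2 x x.2
  have e := F.range.card_subgroup_dvd_card
  rw [← index_ker, this] at e
  simpa [Pu, relIndex, Nat.card_eq_fintype_card] using e

theorem not5 (hS : IsCoatom S) : FTtype S ≠ 5 := FTtype5_exclusion hS
theorem prime_q (hS : IsCoatom S) (h : OfTypeP S U W W1 W2) : (♯W1).Prime := (FTtypeP_primes hS h).1
theorem prime_p (hS : IsCoatom S) (h : OfTypeP S U W W1 W2) : (♯W2).Prime := (FTtypeP_primes hS h).2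
theorem lt_q (h : OfTypeP S U W W1 W2) : 2 < ♯W1 := (FT_cyclicTI_hyp h).two_lt.1
theorem lt_p (h : OfTypeP S U W W1 W2) : 2 < ♯W2 := (FT_cyclicTI_hyp h).two_lt.2
theorem q_ne_p (h : OfTypeP S U W W1 W2) : ♯W1 ≠ ♯W2 := fun e => by
  have := (FT_cyclicTI_hyp h).coprime
  rw [e, Nat.coprime_self] at this
  have := lt_p h
  omega

theorem type23 (hS : IsCoatom S) (h : OfTypeP S U W W1 W2) : FTtype S = 2 ∨ FTtype S = 3 := by
  by_cases h2 : FTtype S = 2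
  · exact Or.inl h2
  obtain ⟨H0, hH⟩ := Ptype_Fcore_kernel_exists hS h (not5 hS)
  exact Or.inr (FTtype34_structure hH h2).2.2.1

theorem abU (hS : IsCoatom S) (h : OfTypeP S U W W1 W2) : Ab U :=
  (type23 hS h).elim (fun e => (compl_of_typeII hS h e).abU) fun e => (compl_of_typeIII hS h e).2.1

theorem core (hS : IsCoatom S) (h : OfTypeP S U W W1 W2) :
    IsElementaryAbelian ♯W2 (Fcore S) ∧ ♯(Fcore S) = ♯W2 ^ ♯W1 := by
  by_cases h2 : FTtype S = 2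
  · exact ⟨(FTtypeII_prime_facts hS h h2).1, (FTtypeII_prime_facts hS h h2).2.1⟩
  obtain ⟨H0, hH⟩ := Ptype_Fcore_kernel_exists hS h (not5 hS)
  exact ⟨(FTtype34_Fcore_kernel_trivial hH h2).1, (FTtype34_Fcore_kernel_trivial hH h2).2.1⟩

end P13

/-- the kernel `H₀` of (9.4) is trivial -/
theorem Ptype_Fcore_kernel_trivial (hS : IsCoatom S) (h : OfTypeP S U W W1 W2) :
    PtypeHyp S U W W1 W2 ⊥ ∧ Pp S ⊥ = ♯W2 ∧ Pc S U ⊥ = U ⊓ 𝐂(Fcore S) := by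
  obtain ⟨H0, hH⟩ := Ptype_Fcore_kernel_exists hS h (not5 hS)
  have e := def_Ptype_factor_prime hH (prime_p hS h)
  have h1 := card_mul_relIndex hH.chief.le
  rw [(Ptype_Fcore_factor_facts hH).2.2, e, ← (core hS h).2] at h1
  obtain rfl : H0 = ⊥ := card_eq_one_iff.mp ((Nat.mul_eq_right (card_pos' _).ne').mp h1)
  exact ⟨hH, e, by rw [Pc, secCent_bot]⟩

namespace P13

theorem hyp (hS : IsCoatom S) (h : OfTypeP S U W W1 W2) : PtypeHyp S U W W1 W2 ⊥ :=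
  (Ptype_Fcore_kernel_trivial hS h).1
theorem Pp_eq (hS : IsCoatom S) (h : OfTypeP S U W W1 W2) : Pp S ⊥ = ♯W2 :=
  (Ptype_Fcore_kernel_trivial hS h).2.1
omit [MinOdd G] in
theorem Pc_eq : Pc S U ⊥ = U ⊓ 𝐂(Fcore S) := by rw [Pc, secCent_bot]
omit [MinOdd G] in
theorem Pu_eq : Pu S U ⊥ = (U ⊓ 𝐂(Fcore S)).relIndex U := by rw [Pu, Pc_eq]
theorem der_Pc (hS : IsCoatom S) (h : OfTypeP S U W W1 W2) : ⊥ ⊔ der (Pc S U ⊥) = ⊥ := by
  rw [bot_sup_eq, ← ab_iff_der]; exact ab_of_le (abU hS h) inf_le_left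
theorem defH (h : OfTypeP S U W W1 W2) : IsDprod (Fcore S) (U ⊓ 𝐂(Fcore S)) (Fit S) := (typeP_context h).1
theorem sup_Pc (h : OfTypeP S U W W1 W2) : Fcore S ⊔ Pc S U ⊥ = Fit S := by rw [Pc_eq, (defH h).sup_eq]

theorem u_le (hS : IsCoatom S) (h : OfTypeP S U W W1 W2) :
    (U ⊓ 𝐂(Fcore S)).relIndex U ≤ (♯W2 ^ ♯W1 - 1) / (♯W2 - 1) := by
  have hp := lt_p h
  have hq := lt_q h
  have key : (♯W2 - 1) ^ (♯W1 - 1) ≤ (♯W2 ^ ♯W1 - 1) / (♯W2 - 1) := by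
    rw [Nat.le_div_iff_mul_le (by omega), ← pow_succ, Nat.sub_add_cancel (by omega)]
    exact Nat.le_sub_one_of_lt (Nat.pow_lt_pow_left (by omega) (by omega))
  rw [← Pu_eq]
  by_cases hg : PGalois S U ⊥
  · have := (typeP_Galois_P (hyp hS h) hg).2.2.2
    rw [Pp_eq hS h] at this
    exact Nat.le_of_dvd (lt_of_lt_of_le (Nat.pow_pos (by omega)) key) this
  · obtain ⟨H1, a, hn⟩ := typeP_Galois_Pn (hyp hS h) hg
    have h1 := hn.dvd
    rw [Pp_eq hS h] at h1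
    have := hn.one_lt
    exact (Nat.le_of_dvd (by positivity) (Pu_dvd hn)).trans
      ((Nat.pow_le_pow_left (Nat.le_of_dvd (by omega) h1) _).trans key)

theorem tiA0 (hS : IsCoatom S) (h : OfTypeP S U W W1 W2) : NormedTI (FTsupp0 S) ⊤ S := by
  refine (Dade_normedTI_P (FT_Dade0_hyp hS)).mpr ⟨FTsupp0_neq0 hS, fun x hx => ?_⟩
  rw [def_FTsignalizer0 hS hx, FTsignalizer, if_pos]
  by_contra hc
  obtain ⟨-, -, hA, ht, h2⟩ := (FTsupport_facts hS).2.2 x hx hc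
  have hN := ((FTsupport_facts hS).2.1 x hx hc).2.1
  by_cases e : FTtype (Nx x) = 2
  · exact FTtypeP_neq1 hS h (OO.FT_Frobenius_type1 hS (h2 e))
  have h1 : FTtype (Nx x) = 1 := by have := (FTtype_range (Nx x)).1; omega
  rw [FTsupp1_type1 h1, OO.FTsupp_Frobenius hN (OO.FTtype1_Frobenius hN h1)] at hA
  exact hA.2 hA.1

theorem tau_eq (hS : IsCoatom S) (h : OfTypeP S U W W1 W2) {φ : G → ℂ} (hφ : φ ∈ CFon S (FTsupp0 S)) :
    FTDade0 S φ = cfInd ⊤ S φ :=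
  Dade_Ind (tiA0 hS h) (fun _ hy => ⟨trivial, (FTsupp0_sub S hy).2⟩) hφ

theorem coherent (hS : IsCoatom S) (h : OfTypeP S U W W1 W2) :
    Coherent S ⊤ (calSH S ⊥) (sharp S) (FTDade0 S) := by
  have := Ptype_core_coherence (hyp hS h)
  rwa [der_Pc hS h] at this

end P13

/-- (13.2) -/
theorem FTtypeP_facts (hS : IsCoatom S) (h : OfTypeP S U W W1 W2) :
    ((FTtype S = 2 ∨ FTtype S = 3) ∧ (♯W1 < ♯W2 → FTtype S = 2) ∧ IsFrob (U ⊔ W1) U W1 ∧ Ab U) ∧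
    (IsElementaryAbelian ♯W2 (Fcore S) ∧ ♯(Fcore S) = ♯W2 ^ ♯W1) ∧
    (U ⊓ 𝐂(Fcore S)).relIndex U ≤ (♯W2 ^ ♯W1 - 1) / (♯W2 - 1) ∧
    Coherent S ⊤ (calSH S ⊥) (sharp S) (FTDade0 S) ∧
    NormedTI (FTsupp0 S) ⊤ S ∧ ∀ φ ∈ CFon S (FTsupp0 S), FTDade0 S φ = cfInd ⊤ S φ :=
  ⟨⟨type23 hS h, fun hlt => by_contra fun h2 =>
    (FTtype34_structure (hyp hS h) h2).2.1.not_gt hlt, Ptype_compl_Frobenius hS h (not5 hS), abU hS h⟩,
    core hS h, u_le hS h, coherent hS h, tiA0 hS h, fun _ => tau_eq hS h⟩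

theorem FTseqInd_TIred (hS : IsCoatom S) (h : OfTypeP S U W W1 W2) {j : G → ℂ} (hj : IsIrr W2 j)
    (hj0 : j ≠ cf1 W2) : prTIred S W W1 W2 j ∈ calSH S ⊥ :=
  prTIred_mem_seqIndD (FT_prDade_hypF hS h) hj hj0

theorem FTtypeP_Fitting_abelian (hS : IsCoatom S) (h : OfTypeP S U W W1 W2) : Ab (Fit S) :=
  (defH h).ab (abelem_ab (core hS h).1) (ab_of_le (abU hS h) inf_le_left)

namespace P13

theorem card_U (U P : Subgroup G) : ♯(U ⊓ 𝐂(P)) * (U ⊓ 𝐂(P)).relIndex U = ♯U := card_mul_relIndex inf_le_left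

theorem relIndex_Fit_der (h : OfTypeP S U W W1 W2) :
    (Fit S).relIndex (der S) = (U ⊓ 𝐂(Fcore S)).relIndex U := by
  have h1 := card_mul_relIndex h.fit_le
  rw [← (defH h).card, ← h.defM'.card, ← card_U U (Fcore S), mul_assoc] at h1
  exact Nat.eq_of_mul_eq_mul_left (card_pos' _) (Nat.eq_of_mul_eq_mul_left (card_pos' _) h1)

theorem relIndex_Fit (h : OfTypeP S U W W1 W2) :
    (Fit S).relIndex S = (U ⊓ 𝐂(Fcore S)).relIndex U * ♯W1 := by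
  rw [← relIndex_mul_relIndex _ _ _ h.fit_le (der_le S), relIndex_Fit_der h, h.defM.relIndex_left]

theorem indHC (hS : IsCoatom S) (h : OfTypeP S U W W1 W2) {j : G → ℂ} (hj : IsIrr W2 j)
    (hj0 : j ≠ cf1 W2) : IsIndHC S U W1 ⊥ (prTIred S W W1 W2 j) :=
  ((typeP_reducible_core_Ind (hyp hS h)).2.2 _ (FTseqInd_TIred hS h hj hj0)
    (prTIred_not_irr (FT_primeTI_hyp h) hj)).2

theorem q_dvd (hS : IsCoatom S) (h : OfTypeP S U W W1 W2) :
    ♯W1 ∣ (U ⊓ 𝐂(Fcore S)).relIndex U - 1 := by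
  have hn := (hyp hS h).normal_C
  have := (Ptype_quo_compl_Frobenius (hyp hS h)).dvd_pred
  rwa [card_quo (le_sup_left.trans hn.norm), card_quo_of_inf_eq_bot (le_sup_right.trans hn.norm)
    (eq_bot_iff.mpr ((inf_le_inf_right _ inf_le_left).trans
      (Ptype_compl_Frobenius hS h (not5 hS)).sdprod.inf_eq.le)), Pc_eq] at this

end P13

theorem FTtypeP_Ind_Fitting_1 (hS : IsCoatom S) (h : OfTypeP S U W W1 W2) {lam : G → ℂ}
    (hl : lam ∈ seqIndT (Fit S) S) : lam 1 = ((U ⊓ 𝐂(Fcore S)).relIndex U * ♯W1 : ℕ) := by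
  obtain ⟨θ, hθ, rfl⟩ := mem_seqIndT.mp hl
  rw [cfInd1 (Fit_le S), (irr_abelian_lin (FTtypeP_Fitting_abelian hS h) hθ).one, mul_one, relIndex_Fit h]

/-- (13.3)(a) -/
theorem FTprTIred_Ind_Fitting (hS : IsCoatom S) (h : OfTypeP S U W W1 W2) {j : G → ℂ} (hj : IsIrr W2 j)
    (hj0 : j ≠ cf1 W2) : prTIred S W W1 W2 j ∈ seqIndT (Fit S) S := by
  obtain ⟨-, -, ξ, h1, h2⟩ := indHC hS h hj hj0
  rw [sup_Pc h] at h1 h2
  exact mem_seqIndT.mpr ⟨ξ, h1.isIrr, h2⟩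

theorem FTprTIred1 (hS : IsCoatom S) (h : OfTypeP S U W W1 W2) {j : G → ℂ} (hj : IsIrr W2 j)
    (hj0 : j ≠ cf1 W2) : prTIred S W W1 W2 j 1 = ((U ⊓ 𝐂(Fcore S)).relIndex U * ♯W1 : ℕ) :=
  FTtypeP_Ind_Fitting_1 hS h (FTprTIred_Ind_Fitting hS h hj hj0)

theorem P13.prTIirr1 (hS : IsCoatom S) (h : OfTypeP S U W W1 W2) {i j : G → ℂ} (hi : IsIrr W1 i)
    (hj : IsIrr W2 j) (hj0 : j ≠ cf1 W2) : prTIirr S W W1 W2 i j 1 = (U ⊓ 𝐂(Fcore S)).relIndex U := by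
  have := FTprTIred1 hS h hj hj0
  rw [prTIred_1 (FT_primeTI_hyp h) hi hj, Nat.cast_mul, mul_comm] at this
  exact mul_right_cancel₀ (cardC_ne_zero W1) this

/-- (13.3)(c), first assertion -/
theorem FTprTIsign (hS : IsCoatom S) (h : OfTypeP S U W W1 W2) {j : G → ℂ} (hj : IsIrr W2 j) :
    prTIsign S W W1 W2 j = 1 := by
  by_cases hj0 : j = cf1 W2
  · rw [hj0, prTIsign0 (FT_primeTI_hyp h)]
  refine (prTIsign_eq S W W1 W2 j).resolve_right fun e => ?_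
  obtain ⟨z, hz⟩ := prTIirr1_mod (FT_primeTI_hyp h) (isIrr_cf1 W1) hj
  rw [e, prTIirr1 hS h (isIrr_cf1 W1) hj hj0] at hz
  obtain ⟨k, hk⟩ := q_dvd hS h
  rw [Nat.sub_eq_iff_eq_add (relIndex_pos _ _)] at hk
  rw [hk] at hz
  have : (2 : ℤ) = ♯W1 * (z - k) := by
    have : (2 : ℂ) = ♯W1 * (z - k) := by push_cast at hz; linear_combination hz
    exact_mod_cast this
  have h2 : ♯W1 ∣ 2 := by exact_mod_cast Dvd.intro _ this.symm
  exact (lt_q h).not_ge (Nat.le_of_dvd two_pos h2)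

/-- (13.3)(b) -/
theorem FTtypeP_no_Ind_Fitting_facts (hS : IsCoatom S) (h : OfTypeP S U W W1 W2)
    (hn : ¬ ∃ lam ∈ calSH S ⊥, IsIrr S lam ∧ lam ∈ seqIndT (Fit S) S) :
    PGalois S U ⊥ ∧ U ⊓ 𝐂(Fcore S) = ⊥ ∧ ♯U = (♯W2 ^ ♯W1 - 1) / (♯W2 - 1) := by
  rcases typeP_reducible_core_cases (hyp hS h) with ⟨χ, h1, h2, -, ξ, h3, h4⟩ | ⟨h1, h2, -, h3, -⟩
  · rw [der_Pc hS h] at h2
    rw [sup_Pc h] at h3 h4
    exact absurd ⟨χ, h2, h1, mem_seqIndT.mpr ⟨ξ, h3.isIrr, h4⟩⟩ hn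
  refine ⟨h1, by_contra fun hC => h2.ker_ne_bot ?_, Pp_eq hS h ▸ h3⟩
  rw [← h2.semiregular.inf_cent (quo_mono ⊥ (inf_le_left : U ⊓ 𝐂(Fcore S) ≤ U))
    (quo_ne_bot (le_top.trans (NormalIn.bot ⊤).norm) (by rwa [le_bot_iff])), left_eq_inf]
  exact quo_le_cent ⊥ (le_cent_symm inf_le_right)

theorem P13.calSH_sub (hS : IsCoatom S) : ConjSubset (calSH S ⊥) (calSP S) :=
  seqInd_conjC_subset1 _ _ _ (Fcore_le_FTcore hS)

/-- (13.3)(c) -/
theorem FTtypeP_coherence (hS : IsCoatom S) (h : OfTypeP S U W W1 W2) :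
    ∃ τ1, CoherentWith S ⊤ (calSH S ⊥) (sharp S) (FTDade0 S) τ1 ∧ TIredCoherent S W W1 W2 τ1 := by
  classical
  have hc := FT_cyclicTI_hyp h
  have hp := FT_primeTI_hyp h
  by_cases hχ : ∃ χ ∈ calSH S ⊥, IsIrr S χ
  · obtain ⟨χ, hχ, hirr⟩ := hχ
    obtain ⟨τ1, hτ⟩ := coherent hS h
    have key := fun j (hj : IsIrr W2 j) (hj0 : j ≠ cf1 W2) =>
      FTtypeP_coherent_TIred hS h (calSH_sub hS) hτ hχ hirr hj (FTseqInd_TIred hS h hj hj0)
    refine ⟨τ1, hτ, or_iff_not_imp_left.mpr fun hn => ?_⟩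
    push Not at hn
    obtain ⟨j, hj, hj0, hn⟩ := hn
    rw [mem_Irr] at hj
    obtain ⟨e, hl⟩ := (key j hj hj0).resolve_left (by rwa [FTprTIsign hS h hj, one_smul])
    rw [FTprTIsign hS h hj, neg_smul, one_smul] at e
    replace hl : ∀ l, IsIrr W2 l → l ≠ cf1 W2 → l = j ∨ l = star j := fun l h1 h2 =>
      hl l h1 (FTseqInd_TIred hS h h1 h2) (by rw [FTprTIred1 hS h h1 h2, FTprTIred1 hS h hj hj0])
    refine ⟨le_antisymm ?_ (lt_p h), fun l h1 h2 => ?_⟩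
    · rw [← hc.card_Irr.2]
      refine le_trans (Finset.card_le_card fun l h1 => ?_)
        (Finset.card_le_three (a := cf1 W2) (b := j) (c := star j))
      by_cases h2 : l = cf1 W2
      · simp [h2]
      · simpa [h2] using hl l (mem_Irr.mp h1) h2
    rw [mem_Irr] at h1
    rcases hl l h1 h2 with rfl | rfl
    · exact e
    have := key _ h1 h2
    rw [FTprTIsign hS h h1, neg_smul, one_smul, one_smul] at this
    refine (this.resolve_left fun e' => ?_).1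
    have o := hτ.cfdot_mem (FTseqInd_TIred hS h hj hj0) (FTseqInd_TIred hS h h1 h2)
    rw [cfdot_prTIred hp hj h1, if_neg (hc.star_ne2 hj hj0).symm, e, ← e', cfdotNl, neg_eq_zero,
      hτ.cfdot_mem (FTseqInd_TIred hS h h1 h2) (FTseqInd_TIred hS h h1 h2), cfdot_prTIred hp h1 h1,
      if_pos rfl] at o
    exact cardC_ne_zero W1 o
  · obtain ⟨k, hk, hk0⟩ := exists_irr_ne_cf1 h.W2_ne_bot
    obtain ⟨-, τ1, e, hτ⟩ := uniform_prTIred_coherent (FT_prDade_hypF hS h) hk hk0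
    refine ⟨τ1, subset_coherent_with (fun ζ hζ => ?_) hτ, Or.inl fun j hj _ => by
      rw [e j hj, FTprTIsign hS h hk, one_smul]⟩
    obtain ⟨j, h1, h2, rfl⟩ := ((typeP_reducible_core_Ind (hyp hS h)).2.2 ζ hζ fun hi => hχ ⟨ζ, hζ, hi⟩).1
    exact mem_uniformTIred.mpr ⟨j, h1, h2, by rw [FTprTIred1 hS h h1 h2, FTprTIred1 hS h hk hk0], rfl⟩

theorem FTtype1_coherence {L : Subgroup G} (hL : IsCoatom L) (h1 : FTtype L = 1) :
    Coherent L ⊤ (calSF L) (sharp L) (FTDadeF L) :=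
  let ⟨τ1, hτ⟩ := (OO.FT_Frobenius_coherence hL (OO.FTtype1_Frobenius hL h1)).2
  ⟨τ1, P12.coherentF hL hτ⟩

theorem FTtype1_Ind_irr {L : Subgroup G} (hL : IsCoatom L) (h1 : FTtype L = 1) :
    ∀ χ ∈ calSF L, IsIrr L χ :=
  (OO.FT_Frobenius_coherence hL (OO.FTtype1_Frobenius hL h1)).1

end Cfsg.Agent.OO.Pf
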