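import Cfsg.Agent.Lib.OO.Pf.PF13_A

/-! # Peterfalvi (13.5) - (13.8) -/

set_option autoImplicit false
set_option linter.unusedSectionVars false
set_option linter.unusedVariables false

namespace Cfsg.Agent.OO.Pf

open Subgroup Cfsg.Agent.Coprime
open scoped Pointwise ComplexConjugate

universe u

variable {G : Type u} [Group G] [Finite G] [MinOdd G] {S U W W1 W2 : Subgroup G}
  {τ1 : (G → ℂ) →+ (G → ℂ)} {θ χ lam i j : G → ℂ}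

namespace P13

omit [MinOdd G] in
theorem sum_sharp {V : Type*} [AddCommGroup V] (H : Subgroup G) (f : G → V) :
    ∑ x ∈ elts (sharp H), f x = ∑ x ∈ elts (H : Set G), f x - f 1 := by
  rw [sharp, P12.sum_elts_diff (Set.singleton_subset_iff.mpr H.one_mem)]
  congr 1
  exact Finset.sum_eq_single_of_mem 1 (mem_elts.mpr rfl) fun x hx h => absurd (mem_elts.mp hx) h

omit [MinOdd G] in
theorem sum_norm_eq (H : Subgroup G) (f : G → ℂ) :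
    ∑ x ∈ elts (H : Set G), ‖f x‖ ^ 2 = ♯H * cfnorm H f := by
  rw [cfnorm, mul_inv_cancel_left₀ (cardR_pos H).ne']

theorem calSH_CF : ∀ φ ∈ calSH S ⊥, φ ∈ CF S := fun _ h => seqInd_mem_CF (seqInd_subT _ _ _ _ h)

theorem Ind_mem (h : OfTypeP S U W W1 W2) (hθ : θ ∈ IrrKerD (Fit S) (Fcore S) ⊥) :
    cfInd S (Fit S) θ ∈ Zspan (calSH S ⊥) := by
  obtain ⟨h1, -, h2⟩ := mem_IrrKerD.mp hθ
  rw [← cfIndInd' h.fit_le (der_le S) h1.mem_CF, cfun_sum_constt (cfInd_mem_CF (der S) (Fit S) θ), map_sum]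
  refine Submodule.sum_mem _ fun ψ hψ => ?_
  obtain ⟨h3, h4⟩ := Finset.mem_filter.mp hψ
  rw [mem_Irr] at h3
  rw [map_smul]
  refine scale_zchar (Cnat_cfdot_char (h1.isChar.cfInd h.fit_le) h3.isChar).isCint
    (mem_zchar (mem_seqIndD.mpr ⟨ψ, h3, bot_le, fun h5 => h2 ?_, rfl⟩))
  exact (sub_cfker_constt_Ind_irr h.fit_le (Fcore_le_Fit S) ((der_le S).trans (Fcore_normal S).norm) h3 h1
    h4).mpr h5

theorem on_A0 (hS : IsCoatom S) {φ : G → ℂ} (hφ : φ ∈ CFon S (sharp (Fit S))) : φ ∈ CFon S (FTsupp0 S) :=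
  CFon_mono S ((Fitting_sub_FTsupp hS).trans (FTsupp_sub0 S)) hφ

theorem tau1_sub (hS : IsCoatom S) (h : OfTypeP S U W W1 W2)
    (hτ : CoherentWith S ⊤ (calSH S ⊥) (sharp S) (FTDade0 S) τ1) {ζ ξ : G → ℂ}
    (h1 : ζ ∈ Zspan (calSH S ⊥)) (h2 : ξ ∈ Zspan (calSH S ⊥)) (h3 : ζ ∈ seqIndT (Fit S) S)
    (h4 : ξ ∈ seqIndT (Fit S) S) :
    ζ - ξ ∈ CFon S (sharp (Fit S)) ∧ τ1 ζ - τ1 ξ = cfInd ⊤ S (ζ - ξ) := by
  have e : ζ 1 = 1 * ξ 1 := by rw [FTtypeP_Ind_Fitting_1 hS h h3, FTtypeP_Ind_Fitting_1 hS h h4, one_mul]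
  have := sub_seqInd_on (Fit_normal S) h3 h4 e
  rw [one_smul] at this
  refine ⟨this, ?_⟩
  rw [← map_sub, hτ.eq ((zcharD1E calSH_CF).mpr ⟨sub_mem h1 h2, by simp [e]⟩), tau_eq hS h (on_A0 hS this)]

/-- (13.5) -/
theorem split1 (hS : IsCoatom S) (h : OfTypeP S U W W1 W2)
    (hτ : CoherentWith S ⊤ (calSH S ⊥) (sharp S) (FTDade0 S) τ1)
    (hθ : θ ∈ IrrKerD (Fit S) (Fcore S) ⊥) (hχ : χ ∈ ZIrr (⊤ : Subgroup G)) {a : ℤ}
    (ha : ⟪τ1 (cfInd S (Fit S) θ), χ⟫[⊤] = a)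
    (ho : ∀ ξ ∈ IrrKerD (Fit S) (Fcore S) ⊥, cfInd S (Fit S) ξ ≠ cfInd S (Fit S) θ →
      ⟪τ1 (cfInd S (Fit S) ξ), χ⟫[⊤] = 0) :
    ∃ α ∈ ZIrr (Fit S), ∃ k : ℤ, (∀ x ∈ Fcore S, α x = k) ∧
      (∀ x ∈ sharp (Fit S), χ x = a * (∑ ξ ∈ cfclass S θ, ξ) x + α x) ∧
      ∑ x ∈ elts (sharp (Fit S)), ‖χ x‖ ^ 2 = a ^ 2 * (cfclass S θ).card * ♯(Fit S) +
        ♯(Fit S) * cfnorm (Fit S) α - (a * (cfclass S θ).card + k) ^ 2 ∧
      (♯W2 : ℝ) ^ ♯W1 * k ^ 2 ≤ ♯(Fit S) * cfnorm (Fit S) α := by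
  classical
  have nH := Fit_normal S
  have hab := FTtypeP_Fitting_abelian hS h
  have hθi := IrrKerD_irr hθ
  have hcl : ∀ ξ ∈ cfclass S θ, IsIrr (Fit S) ξ := fun ξ => cfclass_irr nH.norm hθi
  have hf := cfRes_vchar (le_top : Fit S ≤ ⊤) hχ
  obtain ⟨c, hc⟩ := Cint_cfdot_vchar_irr hf hθi
  set β := ∑ ξ ∈ cfclass S θ, ξ with hβ
  have hβv : β ∈ ZIrr (Fit S) := Submodule.sum_mem _ fun ξ hξ => irr_vchar (hcl ξ hξ)
  set α := cfRes (Fit S) χ - (c - a) • cfReg (Fit S) - a • β with hα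
  have hαv : α ∈ ZIrr (Fit S) := sub_mem (sub_mem hf (Submodule.smul_mem _ _ (char_vchar (isChar_cfReg _))))
    (Submodule.smul_mem _ _ hβv)
  have h0 : ∀ ξ ∈ IrrKerD (Fit S) (Fcore S) ⊥, ⟪α, ξ⟫[Fit S] = 0 := fun ξ hξ => by
    have hξi := IrrKerD_irr hξ
    have e := (tau1_sub hS h hτ (Ind_mem h hξ) (Ind_mem h hθ) (mem_seqIndT.mpr ⟨ξ, hξi, rfl⟩)
      (mem_seqIndT.mpr ⟨θ, hθi, rfl⟩)).2
    have m := sub_mem hξi.mem_CF hθi.mem_CF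
    rw [← map_sub (cfInd S (Fit S)), cfIndInd' nH.le le_top m] at e
    have e2 := congrArg (⟪·, χ⟫[⊤]) e
    rw [← Frobenius_reciprocity le_top m (vchar_mem_CF hχ), cfdotBl, cfdotBl, ha,
      cfdot_vchar_comm (irr_vchar hξi) hf, cfdot_vchar_comm (irr_vchar hθi) hf, hc] at e2
    rw [hα, cfdotBl, cfdotBl, cfdotMzl, cfdotMzl, cfdot_char_comm (isChar_cfReg _) hξi.isChar, cfdot_cfReg,
      (irr_abelian_lin hab hξi).one, hβ, cfdot_sum_cfclass nH.norm hθi hξi]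
    split_ifs with h1
    · rw [cfclass_Ind' _ h1, ha] at e2; push_cast; linear_combination -e2
    · rw [ho ξ hξ fun e => h1 ((cfclass_Ind_irrP nH hθi hξi).mp e)] at e2; push_cast; linear_combination -e2
  have hk : Fcore S ≤ cfker (Fit S) α := le_cfker_of_constt (vchar_mem_CF hαv) (Fcore_le_Fit S)
    fun ξ h1 h2 => by_contra fun h3 => h2 (h0 ξ (mem_IrrKerD.mpr ⟨h1, bot_le, h3⟩))
  obtain ⟨k, hk1⟩ := Cint_vchar1 hαv
  have hv : ∀ x ∈ sharp (Fit S), χ x = a * β x + α x := fun x hx => by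
    simp [hα, cfResE χ hx.1, cfReg_of_ne _ hx.2]
  refine ⟨α, hαv, k, fun x hx => by rw [cfker1 (hk hx), hk1], hv, ?_, ?_⟩
  · have o : ⟪a • β, α⟫[Fit S] = 0 := by
      rw [cfdotMzl, hβ, cfdot_suml, Finset.sum_eq_zero, mul_zero]
      refine fun ξ hξ => cfdot_symm0 (h0 ξ (mem_IrrKerD.mpr ⟨hcl ξ hξ, bot_le, ?_⟩))
      rw [le_cfker_cfclass nH.norm (Fcore_normal S).norm hξ]
      exact (mem_IrrKerD.mp hθ).2.2
    have e1 : (a • β + α) 1 = ((a * (cfclass S θ).card + k : ℤ) : ℂ) := by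
      simp [hβ, hk1, Finset.sum_congr rfl fun ξ hξ => (irr_abelian_lin hab (hcl ξ hξ)).one]
    rw [Finset.sum_congr rfl fun x hx => (by rw [hv x (mem_elts.mp hx)]; simp :
      ‖χ x‖ ^ 2 = ‖(a • β + α) x‖ ^ 2), sum_sharp, sum_norm_eq, cfnormDd o, cfnormMz, e1, hβ,
      (orthonormal_of_irr hcl).cfnorm_sum_one, Complex.norm_intCast, sq_abs]
    push_cast; ring
  · rw [← sum_norm_eq]
    refine le_trans (le_of_eq ?_) (Finset.sum_le_sum_of_subset_of_nonneg (s := elts (Fcore S : Set G))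
      (fun x hx => mem_elts.mpr (Fcore_le_Fit S (mem_elts.mp hx))) fun _ _ _ => by positivity)
    rw [Finset.sum_congr rfl fun x hx => by rw [cfker1 (hk (mem_elts.mp hx)), hk1], sum_elts_const,
      (core hS h).2, Complex.norm_intCast, sq_abs, nsmul_eq_mul, Nat.cast_pow]

omit [MinOdd G] in
theorem card_cfclass_mul {H : Subgroup G} (hH : H ⊴ S) (hθ : IsIrr H θ) :
    cfnorm S (cfInd S H θ) * (cfclass S θ).card = H.relIndex S := by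
  rw [cfnorm_Ind_irr' hH hθ, card_cfclass, ← Nat.cast_mul,
    relIndex_mul_relIndex _ _ _ (sub_inertia hH.le hθ.mem_CF) (inertia_le _ _)]

theorem exists_theta (hl : lam ∈ calSH S ⊥) (hind : lam ∈ seqIndT (Fit S) S) :
    ∃ θ ∈ IrrKerD (Fit S) (Fcore S) ⊥, lam = cfInd S (Fit S) θ := by
  obtain ⟨θ, hθ, rfl⟩ := mem_seqIndT.mp hind
  obtain ⟨ψ, h1, -, h2, e⟩ := mem_seqIndD.mp hl
  refine ⟨θ, mem_IrrKerD.mpr ⟨hθ, bot_le, fun h3 => h2 ?_⟩, rfl⟩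
  rw [← sub_cfker_Ind_irr (der_le S) (Fcore_normal S).norm h1, ← e]
  exact le_cfker_cfInd (Fit_le S) (Fcore_normal S).norm h3

theorem two_u_le (hS : IsCoatom S) (h : OfTypeP S U W W1 W2) :
    2 * ((U ⊓ 𝐂(Fcore S)).relIndex U : ℝ) ≤ (♯W2 : ℝ) ^ ♯W1 - 1 := by
  have h1 : ((U ⊓ 𝐂(Fcore S)).relIndex U : ℝ) ≤ _ := Nat.cast_le.mpr (u_le hS h)
  have h2 : (3 : ℝ) ≤ ♯W2 := by exact_mod_cast lt_p h
  rw [← ustar_real (lt_p h).le]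
  nlinarith [Nat.cast_nonneg (α := ℝ) ((U ⊓ 𝐂(Fcore S)).relIndex U)]

omit [MinOdd G] in
/-- values on `W₂^#` modulo `q` -/
theorem dvd_of_val {H : Subgroup G} (hq : (♯W1).Prime) (hW : IsDprod W1 W2 W) (hH : W ≤ H)
    (hχ : χ ∈ ZIrr H) {x y : G} (hx : x ∈ W2) (hy : y ∈ W1) (hy1 : y ≠ 1) {k : ℤ}
    (e : χ (y * x) - χ x = k) : (♯W1 : ℤ) ∣ k := by
  have hε := Complex.isPrimitiveRoot_exp _ hq.ne_zero
  refine int_eqAmod_prime_prim hq hε ?_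
  have := vchar_ker_mod_prim hq hε hχ (hH (hW.left_le hy)) (hH (hW.right_le hx))
    (by rw [← Nat.card_zpowers, eq_zpowers_of_prime hq hy hy1])
    (cent_le_cent1 hy (hW.le_cent hx))
  rwa [EqAmod, e, ← sub_zero (k : ℂ)] at this

theorem tau1_vanish (hS : IsCoatom S) (h : OfTypeP S U W W1 W2)
    (hτ : CoherentWith S ⊤ (calSH S ⊥) (sharp S) (FTDade0 S) τ1) (hl : lam ∈ calSH S ⊥)
    (hirr : IsIrr S lam) : ∀ x ∈ cycTIset W1 W2, τ1 lam x = 0 :=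
  ortho_cycTIiso_vanish (FT_cyclicTI_hyp h) (vchar_mem_CF (hτ.vchar_mem hl)) fun _ hi _ hj =>
    coherent_ortho_cycTIiso hS h (calSH_sub hS) hτ hl hirr (mem_Irr.mp hi) (mem_Irr.mp hj)

/-- inner products with `η_{ij}` under the map `τ₁` of (13.3)(c) -/
theorem cfdot_tau1 (hS : IsCoatom S) (h : OfTypeP S U W W1 W2)
    (hτ : CoherentWith S ⊤ (calSH S ⊥) (sharp S) (FTDade0 S) τ1) (hi : IsIrr W1 i) (hj : IsIrr W2 j)
    {c : ℂ} {ν : G → ℂ}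
    (hν : ∀ φ ∈ calSH S ⊥, IsIrr S φ → ⟪φ, ν⟫[S] = 0)
    (hc : ∀ l, IsIrr W2 l → l ≠ cf1 W2 →
      ⟪τ1 (prTIred S W W1 W2 l), cycTIeta ⊤ W W1 W2 i j⟫[⊤] = c * ⟪prTIred S W W1 W2 l, ν⟫[S])
    {φ : G → ℂ} (hφ : φ ∈ Zspan (calSH S ⊥)) : ⟪τ1 φ, cycTIeta ⊤ W W1 W2 i j⟫[⊤] = c * ⟪φ, ν⟫[S] := by
  refine Zspan.induction (P := fun φ => ⟪τ1 φ, cycTIeta ⊤ W W1 W2 i j⟫[⊤] = c * ⟪φ, ν⟫[S]) hφ (by simp)
    (fun ξ hξ => ?_) fun a b _ _ ha hb => by rw [map_sub, cfdotBl, cfdotBl, ha, hb, mul_sub]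
  by_cases hirr : IsIrr S ξ
  · rw [coherent_ortho_cycTIiso hS h (calSH_sub hS) hτ hξ hirr hi hj, hν ξ hξ hirr, mul_zero]
  · obtain ⟨l, h1, h2, rfl⟩ := ((typeP_reducible_core_Ind (hyp hS h)).2.2 ξ hξ hirr).1
    exact hc l h1 h2

omit [MinOdd G] in
open Classical in
theorem cfdot_sum_eta {Γ : Subgroup G} (hc : CycTIHyp Γ W W1 W2) {l : G → ℂ} (hl : IsIrr W2 l)
    (hi : IsIrr W1 i) (hj : IsIrr W2 j) :
    ⟪∑ k ∈ Irr W1, cycTIeta Γ W W1 W2 k l, cycTIeta Γ W W1 W2 i j⟫[Γ] = if l = j then 1 else 0 := by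
  rw [cfdot_suml, Finset.sum_eq_single_of_mem i (mem_Irr.mpr hi) fun k hk hne =>
    cfdot_cycTIiso_ne hc (mem_Irr.mp hk) hl hi hj (Or.inl hne), cfdot_cycTIiso hc hi hl hi hj]
  simp

omit [MinOdd G] in
theorem star_ne_cf1 {H : Subgroup G} (hj0 : j ≠ cf1 H) : star j ≠ cf1 H := fun e =>
  hj0 (by rw [← star_star j, e]; simp)

theorem tau1_ortho_i0 (hS : IsCoatom S) (h : OfTypeP S U W W1 W2)
    (hτ : CoherentWith S ⊤ (calSH S ⊥) (sharp S) (FTDade0 S) τ1) (hred : TIredCoherent S W W1 W2 τ1)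
    (hi : IsIrr W1 i) {φ : G → ℂ} (hφ : φ ∈ Zspan (calSH S ⊥)) :
    ⟪τ1 φ, cycTIeta ⊤ W W1 W2 i (cf1 W2)⟫[⊤] = 0 := by
  have hc := FT_cyclicTI_hyp h
  rw [cfdot_tau1 hS h hτ hi (isIrr_cf1 W2) (c := 0) (ν := 0) (by simp) (fun l h1 h2 => ?_) hφ, zero_mul]
  rcases hred with e | ⟨-, e⟩ <;> rw [e l (mem_Irr.mpr h1) h2, zero_mul]
  · rw [cfdot_sum_eta hc h1 hi (isIrr_cf1 W2), if_neg h2]
  · rw [cfdotNl, cfdot_sum_eta hc h1.star hi (isIrr_cf1 W2), if_neg (star_ne_cf1 h2), neg_zero]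

theorem tau1_dot_ij (hS : IsCoatom S) (h : OfTypeP S U W W1 W2)
    (hτ : CoherentWith S ⊤ (calSH S ⊥) (sharp S) (FTDade0 S) τ1) (hred : TIredCoherent S W W1 W2 τ1)
    (hi : IsIrr W1 i) (hj : IsIrr W2 j) (hj0 : j ≠ cf1 W2) :
    ∃ l, IsIrr W2 l ∧ l ≠ cf1 W2 ∧ ∃ a : ℤ, a ^ 2 = 1 ∧ ∀ φ ∈ Zspan (calSH S ⊥),
      ⟪τ1 φ, cycTIeta ⊤ W W1 W2 i j⟫[⊤] = a / ♯W1 * ⟪φ, prTIred S W W1 W2 l⟫[S] := by
  classical
  have hc := FT_cyclicTI_hyp h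
  have hp := FT_primeTI_hyp h
  have q0 := cardC_ne_zero W1
  have o : ∀ l, IsIrr W2 l → l ≠ cf1 W2 → ∀ φ ∈ calSH S ⊥, IsIrr S φ → ⟪φ, prTIred S W W1 W2 l⟫[S] = 0 :=
    fun l h1 h2 φ h3 h4 => seqInd_ortho (der_normal S) (seqInd_subT _ _ _ _ h3)
      (seqInd_subT _ _ _ _ (FTseqInd_TIred hS h h1 h2)) fun e => prTIred_not_irr hp h1 (e ▸ h4)
  rcases hred with e | ⟨-, e⟩
  · refine ⟨j, hj, hj0, 1, rfl, fun φ => cfdot_tau1 hS h hτ hi hj (o j hj hj0) fun l h1 h2 => ?_⟩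
    rw [e l (mem_Irr.mpr h1) h2, cfdot_sum_eta hc h1 hi hj, cfdot_prTIred hp h1 hj]
    split_ifs <;> simp [q0]
  · refine ⟨star j, hj.star, star_ne_cf1 hj0, -1, rfl, fun φ =>
      cfdot_tau1 hS h hτ hi hj (o _ hj.star (star_ne_cf1 hj0)) fun l h1 h2 => ?_⟩
    rw [e l (mem_Irr.mpr h1) h2, cfdotNl, cfdot_sum_eta hc h1.star hi hj, cfdot_prTIred hp h1 hj.star]
    simp only [star_eq_iff_star_eq (s := j), eq_comm (a := star j)]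
    split_ifs <;> simp [q0, neg_div]

end P13

open P13

/-- (13.6) -/
theorem FTtypeP_sum_Ind_Fitting_lb (hS : IsCoatom S) (h : OfTypeP S U W W1 W2)
    {τ1 : (G → ℂ) →+ (G → ℂ)} (hτ : CoherentWith S ⊤ (calSH S ⊥) (sharp S) (FTDade0 S) τ1)
    {lam : G → ℂ} (hl : lam ∈ calSH S ⊥) (hirr : IsIrr S lam) (hind : lam ∈ seqIndT (Fit S) S) :
    (♯S : ℝ) - ‖lam 1‖ ^ 2 ≤ ∑ x ∈ elts (sharp (Fit S)), ‖τ1 lam x‖ ^ 2 := by
  have nH := Fit_normal S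
  have hp := FT_primeTI_hyp h
  obtain ⟨θ, hθ, rfl⟩ := exists_theta hl hind
  have hθi := IrrKerD_irr hθ
  obtain ⟨α, -, k, hk, hv, e, hle⟩ := split1 hS h hτ hθ (hτ.vchar_mem hl) (a := 1)
    (by rw [hτ.cfdot_mem hl hl, cfdot_irr_self hirr, Int.cast_one]) fun ξ hξ hne => by
      rw [hτ.cfdot (Ind_mem h hξ) (mem_zchar hl), cfInd_ortho_of_ne nH (IrrKerD_irr hξ) hθi hne]
  have hm := card_cfclass_mul nH hθi
  rw [cfnorm_irr hirr, one_mul] at hm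
  obtain ⟨x, hx, hx1⟩ := exists_mem_ne_one h.W2_ne_bot
  obtain ⟨y, hy, hy1⟩ := exists_mem_ne_one h.W1_ne_bot
  have hV := (mul_mem_cycTIset h.defW hy hx).mpr ⟨hy1, hx1⟩
  have hxH : x ∈ Fit S := Fcore_le_Fit S (h.W2_le hx)
  obtain ⟨b, hb⟩ := dvd_of_val (prime_q hS h) h.defW hp.W_le (sub_mem (irr_vchar hirr)
      (cfRes_vchar le_top (hτ.vchar_mem hl))) hx hy hy1 (k := k) (by
    rw [Pi.sub_apply, Pi.sub_apply, cfResE _ (hp.W_le (cycTIset_subset h.defW hV).1),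
      cfResE _ (nH.le hxH), tau1_vanish hS h hτ hl hirr _ hV, hv x ⟨hxH, hx1⟩, hk x (h.W2_le hx),
      ← cfRes_cfInd_of_irr nH hθi hirr, cfResE _ hxH,
      cfun_on0 (seqInd_on nH hind) fun h1 => prDade_supp_disjoint hp hV (h.fit_le h1)]
    simp)
  have e1 := card_mul_relIndex nH.le
  rw [e, hm, FTtypeP_Ind_Fitting_1 hS h hind, Complex.norm_natCast, ← e1, relIndex_Fit h]
  have h2 := two_u_le hS h
  have h3 : (b : ℝ) ≤ b ^ 2 := by exact_mod_cast Int.le_self_sq b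
  rw [hb] at hle ⊢
  push_cast at hle ⊢
  have h4 : (0 : ℝ) ≤ (U ⊓ 𝐂(Fcore S)).relIndex U * (♯W1 : ℝ) ^ 2 := by positivity
  nlinarith [mul_le_mul_of_nonneg_left h3 h4, mul_le_mul_of_nonneg_right h2 (sq_nonneg ((♯W1 : ℝ) * b))]

/-- (13.7) -/
theorem FTtypeP_sum_cycTIiso10_lb (hS : IsCoatom S) (h : OfTypeP S U W W1 W2) {i : G → ℂ}
    (hi : IsIrr W1 i) (hi0 : i ≠ cf1 W1) :
    (♯(Fit S) : ℝ) - 1 ≤ ∑ x ∈ elts (sharp (Fit S)), ‖cycTIeta ⊤ W W1 W2 i (cf1 W2) x‖ ^ 2 := by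
  have hc := FT_cyclicTI_hyp h
  obtain ⟨τ1, hτ, hred⟩ := FTtypeP_coherence hS h
  obtain ⟨j, hj, hj0⟩ := exists_irr_ne_cf1 h.W2_ne_bot
  obtain ⟨θ, hθ, -⟩ := exists_theta (FTseqInd_TIred hS h hj hj0) (FTprTIred_Ind_Fitting hS h hj hj0)
  have hη := cycTIiso_vchar hc hi (isIrr_cf1 W2)
  obtain ⟨α, hα, k, hk, hv, e, hle⟩ := split1 hS h hτ hθ hη (a := 0)
    (by rw [tau1_ortho_i0 hS h hτ hred hi (Ind_mem h hθ), Int.cast_zero]) fun ξ hξ _ =>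
      tau1_ortho_i0 hS h hτ hred hi (Ind_mem h hξ)
  obtain ⟨x, hx, hx1⟩ := exists_mem_ne_one h.W2_ne_bot
  obtain ⟨y, hy, hy1⟩ := exists_mem_ne_one h.W1_ne_bot
  have hV := (mul_mem_cycTIset h.defW hy hx).mpr ⟨hy1, hx1⟩
  have hω := isIrr_cycTIirr h.defW hi (isIrr_cf1 W2)
  have k0 : k ≠ 0 := fun k0 => by
    have := dvd_of_val (prime_q hS h) h.defW le_rfl (sub_mem (cfRes_vchar le_top hη) (irr_vchar hω))
      hx hy hy1 (k := 1) (by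
        rw [Pi.sub_apply, Pi.sub_apply, cfResE _ (cycTIset_subset h.defW hV).1, cfResE _ (h.defW.right_le hx),
          cycTIeta_restrict hc hi (isIrr_cf1 W2) hV, hv x ⟨Fcore_le_Fit S (h.W2_le hx), hx1⟩,
          hk x (h.W2_le hx), k0, cfker1 (cfker_cycTIr h.defW i hx), (hc.lin hω).one]
        simp)
    exact (prime_q hS h).one_lt.ne' (Nat.dvd_one.mp (by exact_mod_cast this))
  have a0 : α ≠ 0 := fun e => k0 (Int.cast_eq_zero.mp ((hk 1 (one_mem _)).symm.trans (congrFun e 1)))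
  rw [e]
  obtain ⟨n, hn⟩ := Cnat_cfnorm_vchar hα
  have h1 := cfnorm_vchar_ge1 hα a0
  rw [hn] at h1
  obtain rfl | h2 := (Nat.one_le_cast.mp h1).eq_or_lt
  · obtain ⟨s, hs, ξ, hξ, rfl⟩ := (vchar_norm1P hα (by simpa using hn)).exists_sign
    have := hk 1 (one_mem _)
    rw [Pi.smul_apply, (irr_abelian_lin (FTtypeP_Fitting_abelian hS h) hξ).one, smul_eq_mul, mul_one] at this
    have : (k : ℂ) ^ 2 = 1 := by rcases hs with rfl | rfl <;> simp [← this]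
    have : (k : ℝ) ^ 2 = 1 := by exact_mod_cast this
    simp [hn, this]
  · have h3 : (2 : ℝ) ≤ n := by exact_mod_cast h2
    have h4 := two_u_le hS h
    have h5 : (1 : ℝ) ≤ (U ⊓ 𝐂(Fcore S)).relIndex U := Nat.one_le_cast.mpr (relIndex_pos _ _)
    rw [hn] at hle ⊢
    have := cardR_pos (Fit S)
    push_cast
    nlinarith [sq_nonneg (k : ℝ)]

/-- (13.8) -/
theorem FTtypeP_sum_cycTIiso01_lb (hS : IsCoatom S) (h : OfTypeP S U W W1 W2) {j : G → ℂ}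
    (hj : IsIrr W2 j) (hj0 : j ≠ cf1 W2) :
    (♯(der S) : ℝ) - ((U ⊓ 𝐂(Fcore S)).relIndex U : ℝ) ^ 2 ≤
      ∑ x ∈ elts (sharp (Fit S)), ‖cycTIeta ⊤ W W1 W2 (cf1 W1) j x‖ ^ 2 := by
  have nH := Fit_normal S
  have hp := FT_primeTI_hyp h
  obtain ⟨τ1, hτ, hred⟩ := FTtypeP_coherence hS h
  obtain ⟨l, hl, hl0, a, ha, hd⟩ := tau1_dot_ij hS h hτ hred (isIrr_cf1 W1) hj hj0
  obtain ⟨θ, hθ, e1⟩ := exists_theta (FTseqInd_TIred hS h hl hl0) (FTprTIred_Ind_Fitting hS h hl hl0)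
  obtain ⟨α, hα, k, -, -, e, hle⟩ := split1 hS h hτ hθ
    (cycTIiso_vchar (FT_cyclicTI_hyp h) (isIrr_cf1 W1) hj) (a := a)
    (by rw [hd _ (Ind_mem h hθ), ← e1, cfdot_prTIred hp hl hl, if_pos rfl,
      div_mul_cancel₀ _ (cardC_ne_zero W1)]) fun ξ hξ hne => by
      rw [hd _ (Ind_mem h hξ), e1, cfInd_ortho_of_ne nH (IrrKerD_irr hξ) (IrrKerD_irr hθ) hne, mul_zero]
  have hm := card_cfclass_mul nH (IrrKerD_irr hθ)
  rw [← e1, cfnorm_prTIred hp hl, relIndex_Fit h, Nat.cast_mul, mul_comm] at hm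
  rw [e, mul_right_cancel₀ (cardR_pos W1).ne' hm, ← card_mul_relIndex h.fit_le, relIndex_Fit_der h]
  have h2 := two_u_le hS h
  have h3 : (a * k : ℝ) ≤ (a * k) ^ 2 := by exact_mod_cast Int.le_self_sq (a * k)
  have h4 : (a : ℝ) ^ 2 = 1 := by exact_mod_cast ha
  rw [mul_pow, h4] at h3
  rw [add_sq, mul_pow, h4]
  push_cast
  nlinarith [mul_le_mul_of_nonneg_left h3 (Nat.cast_nonneg (α := ℝ) ((U ⊓ 𝐂(Fcore S)).relIndex U)),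
    mul_le_mul_of_nonneg_right h2 (sq_nonneg (k : ℝ))]

end Cfsg.Agent.OO.Pf
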