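import Cfsg.Agent.Lib.OO.Pf.PF13_B

/-! # Peterfalvi (13.4), (13.9), (13.10) -/

set_option autoImplicit false
set_option linter.unusedSectionVars false
set_option linter.unusedVariables false

namespace Cfsg.Agent.OO.Pf

open Subgroup Cfsg.Agent.Coprime Polynomial
open scoped Pointwise ComplexConjugate

universe u

variable {G : Type u} [Group G] [Finite G] {S T U V W W1 W2 H Γ : Subgroup G}
  {τ1 : (G → ℂ) →+ (G → ℂ)} {θ χ lam i j : G → ℂ}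

namespace P13

omit [Finite G] in
theorem Cint_of_aeval {n : ℕ} (hn : n ≠ 0) (P : ℤ[X]) {N : ℂ}
    (h : ∀ ξ : ℂ, IsPrimitiveRoot ξ n → aeval ξ P = N) : IsCint N := by
  have hm := cyclotomic.monic n ℤ
  have e : (P %ₘ cyclotomic n ℤ).map (Int.castRingHom ℂ) = C N := by
    refine eq_of_degrees_lt_of_eval_finset_eq (primitiveRoots n ℂ) ?_ ?_ fun ξ hξ => ?_
    · rw [Complex.card_primitiveRoots, ← degree_cyclotomic n ℤ]
      exact degree_map_le.trans_lt (degree_modByMonic_lt _ hm)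
    · rw [Complex.card_primitiveRoots]
      exact degree_C_le.trans_lt (by exact_mod_cast Nat.totient_pos.mpr (Nat.pos_of_ne_zero hn))
    · rw [mem_primitiveRoots (Nat.pos_of_ne_zero hn)] at hξ
      rw [eval_C, ← h ξ hξ, ← algebraMap_int_eq, eval_map_algebraMap, aeval_modByMonic_eq_self_of_root]
      rw [← eval_map_algebraMap, map_cyclotomic]
      exact hξ.isRoot_cyclotomic (Nat.pos_of_ne_zero hn)
  exact ⟨_, by simpa using (congrArg (coeff · 0) e).symm⟩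

theorem exists_poly {ζ : ℂ} (hζ : IsPrimitiveRoot ζ (Nat.card G)) (hχ : χ ∈ ZIrr Γ) {x : G} (hx : x ∈ Γ) :
    ∃ P : ℤ[X], ∀ k : ℕ, χ (x ^ k) = aeval (ζ ^ k) P := by
  haveI : NeZero (Nat.card G) := ⟨Nat.card_pos.ne'⟩
  have key : ∀ ψ, IsChar Γ ψ → ∃ P : ℤ[X], ∀ k : ℕ, ψ (x ^ k) = aeval (ζ ^ k) P := fun ψ hψ => by
    obtain ⟨s, -, h1, h2⟩ := hψ.exists_roots hx
    have : ∃ P : ℤ[X], ∀ k : ℕ, (s.map (· ^ k)).sum = aeval (ζ ^ k) P := by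
      clear h2
      induction s using Multiset.induction_on with
      | empty => exact ⟨0, by simp⟩
      | cons a s ih =>
        obtain ⟨P, hP⟩ := ih fun ε hε => h1 ε (Multiset.mem_cons_of_mem hε)
        obtain ⟨d, hd⟩ := orderOf_dvd_natCard x
        obtain ⟨m, -, rfl⟩ := hζ.eq_pow_of_pow_eq_one (ξ := a)
          (by rw [hd, pow_mul, h1 a (Multiset.mem_cons_self _ _), one_pow])
        exact ⟨X ^ m + P, fun k => by simp [hP, ← pow_mul, mul_comm]⟩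
    exact this.imp fun P hP k => by rw [← hP, ← zpow_natCast, h2]; simp
  obtain ⟨φ, ψ, h1, h2, rfl⟩ := vcharP.mp hχ
  obtain ⟨P, hP⟩ := key φ h1
  obtain ⟨Q, hQ⟩ := key ψ h2
  exact ⟨P - Q, fun k => by simp [hP, hQ]⟩

/-- a positive virtual character has average at least one on a union of generator classes -/
theorem card_lt_sum (hχ : χ ∈ ZIrr (⊤ : Subgroup G)) {A : Set G}
    (hA : ∀ x y, zpowers x = zpowers y → x ∈ A → y ∈ A) {f : G → ℝ} (hf : ∀ x, χ x = f x)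
    (h0 : ∀ x ∈ A, 0 < f x) {x0 : G} (hx0 : x0 ∈ A) (h1 : f x0 ≠ 1) :
    ∑ x ∈ elts A, (1 : ℝ) < ∑ x ∈ elts A, f x := by
  haveI : NeZero (Nat.card G) := ⟨Nat.card_pos.ne'⟩
  have hζ := Complex.isPrimitiveRoot_exp _ (NeZero.ne (Nat.card G))
  choose P hP using fun x : G => exists_poly hζ hχ (mem_top x)
  obtain ⟨N, hN⟩ : IsCint (∏ x ∈ elts A, χ x) :=
    Cint_of_aeval (NeZero.ne _) (∏ x ∈ elts A, P x) fun ξ hξ => by
      obtain ⟨k, -, hk, rfl⟩ := hζ.isPrimitiveRoot_iff.mp hξ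
      rw [map_prod]
      refine Finset.prod_equiv (powCoprime hk.symm) (fun x => ?_) fun x _ => (hP x k).symm
      have e : zpowers x = zpowers (x ^ k) := le_antisymm (zpowers_le.mpr (mem_zpowers_pow_iff.mpr
        (hk.coprime_dvd_right (orderOf_dvd_natCard x)))) (zpowers_le.mpr (pow_mem (mem_zpowers x) k))
      simp only [mem_elts]
      exact ⟨hA _ _ e, hA _ _ e.symm⟩
  have hp : 0 < ∏ x ∈ elts A, f x := Finset.prod_pos fun x hx => h0 x (mem_elts.mp hx)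
  have e : ∏ x ∈ elts A, f x = N := by
    have : ((∏ x ∈ elts A, f x : ℝ) : ℂ) = N := by rw [← hN]; simp [hf]
    exact_mod_cast this
  have h2 := Real.log_nonneg (x := ∏ x ∈ elts A, f x) (by rw [e] at hp ⊢; exact_mod_cast hp)
  rw [Real.log_prod fun x hx => (h0 x (mem_elts.mp hx)).ne'] at h2
  rw [← sub_pos, ← Finset.sum_sub_distrib]
  exact h2.trans_lt (Finset.sum_lt_sum (fun x hx => Real.log_le_sub_one_of_pos (h0 x (mem_elts.mp hx)))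
    ⟨x0, mem_elts.mpr hx0, Real.log_lt_sub_one_of_pos (h0 x0 hx0) h1⟩)

omit [Finite G] in
theorem supp_gen {x y : G} (e : zpowers x = zpowers y) (hx : x ∈ classSupp (sharp H) ⊤) :
    y ∈ classSupp (sharp H) ⊤ := by
  obtain ⟨a, ha, g, -, rfl⟩ := hx
  refine ⟨g⁻¹ * y * g, ⟨mem_conj.mp (zpowers_le.mpr (conj_mem_conj ha.1) (e ▸ mem_zpowers y)), ?_⟩, g,
    trivial, by group⟩
  refine conj_ne_one'.mpr fun h => ha.2 ?_
  rw [h, zpowers_one_eq_bot, zpowers_eq_bot] at e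
  exact by_contra fun h1 => conj_ne_one.mpr h1 e

theorem exists_aut (hq : (♯H).Prime) (hi : IsIrr H i) (hi0 : i ≠ cf1 H) (hj : IsIrr H j) (hj0 : j ≠ cf1 H) :
    ∃ u, j = cfAut u i := by
  obtain ⟨y, rfl⟩ := exists_zpowers_eq (isCyclic_of_prime hq)
  haveI := Fact.mk hq
  have key : ∀ l, IsIrr (zpowers y) l → l ≠ cf1 _ → IsPrimitiveRoot (l y) ♯(zpowers y) := fun l h1 h2 => by
    have h3 := irr_prime_lin hq h1
    have := IsPrimitiveRoot.orderOf (l y)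
    rwa [orderOf_eq_prime (p := ♯(zpowers y)) (by rw [Nat.card_zpowers]; exact lin_char_unity_root h3 (mem_zpowers y))
      fun e => h2 (h3.ext_zpowers (irr_prime_lin hq (isIrr_cf1 _)) (e.trans (cf1E (mem_zpowers y)).symm))]
      at this
  obtain ⟨k, -, hk, e⟩ := (key i hi hi0).isPrimitiveRoot_iff.mp (key j hj hj0)
  obtain ⟨u, hu, -⟩ := make_pi_cfAut (G := G) hk
  refine ⟨u, (irr_prime_lin hq hj).ext_zpowers ((irr_prime_lin hq hi).cfAut u) ?_⟩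
  rw [cfAutE, hu _ i y (irr_vchar hi) (mem_zpowers y) (by rw [Nat.card_zpowers]), ← e, ← zpow_natCast y,
    lin_char_zpow (irr_prime_lin hq hi) (mem_zpowers y), zpow_natCast]

theorem sum_TI {A : Set G} (hTI : NormedTI A Γ H) (hA : A ⊆ sharp Γ) (hχ : χ ∈ CF Γ) :
    (♯Γ : ℝ)⁻¹ * ∑ x ∈ elts (classSupp A Γ), ‖χ x‖ ^ 2 = (♯H : ℝ)⁻¹ * ∑ x ∈ elts A, ‖χ x‖ ^ 2 := by
  obtain ⟨h1, h2⟩ := normedTI_Dade hTI hA
  rw [← Dade_support_normedTI h1 hTI, ← (leC_cfnorm_invDade_support h1 hχ).2.mpr fun a ha u hu => by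
    rw [h2 a ha, mem_bot] at hu; rw [hu, one_mul], cfnormE_invDade h1,
    Finset.sum_congr rfl fun a ha => by rw [invDade_normedTI h1 hTI χ (mem_elts.mp ha)]]

theorem red_form (hred : TIredCoherent S W W1 W2 τ1) (hj : IsIrr W2 j) (hj0 : j ≠ cf1 W2) :
    ∃ l, IsIrr W2 l ∧ l ≠ cf1 W2 ∧ ∃ e : ℂ, e ≠ 0 ∧
      τ1 (prTIred S W W1 W2 j) = e • ∑ i ∈ Irr W1, cycTIeta ⊤ W W1 W2 i l := by
  rcases hred with e | ⟨-, e⟩
  · exact ⟨j, hj, hj0, 1, one_ne_zero, by rw [e j (mem_Irr.mpr hj) hj0, one_smul]⟩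
  · exact ⟨_, hj.star, star_ne_cf1 hj0, -1, by simp, by rw [e j (mem_Irr.mpr hj) hj0, neg_one_smul]⟩

variable [MinOdd G]

theorem tiH (hS : IsCoatom S) (h : OfTypeP S U W W1 W2) : NormedTI (sharp (Fit S)) ⊤ S :=
  (compl_of_typeII_IV hS h (not5 hS)).tiF

theorem tau1_supp (hS : IsCoatom S) (h : OfTypeP S U W W1 W2)
    (hτ : CoherentWith S ⊤ (calSH S ⊥) (sharp S) (FTDade0 S) τ1) {ζ ξ : G → ℂ}
    (h1 : ζ ∈ calSH S ⊥) (h2 : ξ ∈ calSH S ⊥) (h3 : ζ ∈ seqIndT (Fit S) S) (h4 : ξ ∈ seqIndT (Fit S) S) :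
    τ1 ζ - τ1 ξ ∈ suppOn (classSupp (sharp (Fit S)) ⊤) := by
  obtain ⟨a, b⟩ := tau1_sub hS h hτ (mem_zchar h1) (mem_zchar h2) h3 h4
  exact b ▸ cfInd_suppOn _ _ a.2

theorem disj_Fit (hS : IsCoatom S) (h : OfTypeP S U W W1 W2) (hT : IsCoatom T) (hV : OfTypeP T V W W2 W1) :
    Disjoint (classSupp (sharp (Fit S)) ⊤) (classSupp (sharp (Fit T)) ⊤) := by
  rw [Set.disjoint_left]
  rintro _ ⟨a, ha, g, -, rfl⟩ ⟨b, hb, k, -, e⟩
  have h1 : Fcore T ≤ 𝐂[b] := (Fcore_le_Fit T).trans ((FTtypeP_Fitting_abelian hT hV).le_cent.trans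
    (cent_le_cent1 hb.1))
  have h2 : (g⁻¹ * k) •ᶜ Fcore T ≤ S := (conj_mono _ h1).trans (by
    rw [← cent1_conj, show g⁻¹ * k * b * (g⁻¹ * k)⁻¹ = a by rw [eq_mul_inv_iff_mul_eq] at e; rw [mul_assoc g⁻¹, ← e]; group]
    exact le_trans (le_inf le_top le_rfl) ((tiH hS h).cent1_le ha))
  have h3 := card_dvd h2
  rw [card_conj_smul, (core hT hV).2, ← h.defM.card] at h3
  have h4 := ((FT_primeTI_hyp h).coprime.symm.pow_left ♯W2).dvd_of_dvd_mul_left h3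
  exact (Nat.le_of_dvd (card_pos' _) h4).not_gt (lt_self_pow₀ (prime_q hS h).one_lt (prime_p hS h).one_lt)

theorem calSH_orth_star (hl : lam ∈ calSH S ⊥) (hF : Fcore S ≤ der S) : ⟪lam, star lam⟫[S] = 0 :=
  seqInd_conjC_ortho (mFT_odd S) (der_normal S) hF hl

/-- (13.4) -/
theorem T_Galois (hS : IsCoatom S) (h : OfTypeP S U W W1 W2) (hT : IsCoatom T) (hV : OfTypeP T V W W2 W1)
    (hl : lam ∈ calSH S ⊥) (hirr : IsIrr S lam) (hind : lam ∈ seqIndT (Fit S) S) :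
    PGalois T V ⊥ ∧ V ⊓ 𝐂(Fcore T) = ⊥ ∧ ♯V = (♯W1 ^ ♯W2 - 1) / (♯W1 - 1) := by
  refine FTtypeP_no_Ind_Fitting_facts hT hV fun ⟨θ, m1, m2, m3⟩ => ?_
  have hc := FT_cyclicTI_hyp h
  obtain ⟨τS, hτ, r1⟩ := FTtypeP_coherence hS h
  obtain ⟨τT, hσ, r2⟩ := FTtypeP_coherence hT hV
  have hd := disj_Fit hS h hT hV
  have s1 := tau1_supp hS h hτ hl (star_seqInd hl) hind (star_seqIndT hind)
  have s2 := tau1_supp hT hV hσ m1 (star_seqInd m1) m3 (star_seqIndT m3)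
  have o := (orthonormal_vchar_diff_ortho (hτ.dirr hl hirr) (hτ.dirr (star_seqInd hl) hirr.star)
    (hσ.dirr m1 m2) (hσ.dirr (star_seqInd m1) m2.star)
    (by rw [hτ.cfdot_mem hl (star_seqInd hl), calSH_orth_star hl h.defM'.left_le])
    (by rw [hσ.cfdot_mem m1 (star_seqInd m1), calSH_orth_star m1 hV.defM'.left_le])
    (cfdot_complement s1 s2 hd) (sub_eq_zero.mp (s1 1 (mt one_mem_classSupp.mp (one_not_mem_sharp _))))
    (sub_eq_zero.mp (s2 1 (mt one_mem_classSupp.mp (one_not_mem_sharp _))))).1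
  obtain ⟨j, hj, hj0⟩ := exists_irr_ne_cf1 h.W2_ne_bot
  obtain ⟨i, hi, hi0⟩ := exists_irr_ne_cf1 h.W1_ne_bot
  have o2 := cfdot_complement (H := ⊤)
    (tau1_supp hS h hτ hl (FTseqInd_TIred hS h hj hj0) hind (FTprTIred_Ind_Fitting hS h hj hj0))
    (tau1_supp hT hV hσ m1 (FTseqInd_TIred hT hV hi hi0) m3 (FTprTIred_Ind_Fitting hT hV hi hi0)) hd
  obtain ⟨l, hl1, -, a, ha, e1⟩ := red_form r1 hj hj0
  obtain ⟨k, hk1, -, b, hb, e2⟩ := red_form r2 hi hi0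
  rw [Finset.sum_congr rfl fun x hx => cycTIetaC hc hk1 (mem_Irr.mp hx)] at e2
  have z1 : ⟪τS lam, ∑ x ∈ Irr W2, cycTIeta ⊤ W W1 W2 k x⟫[⊤] = 0 := by
    rw [cfdot_sumr]
    exact Finset.sum_eq_zero fun x hx =>
      coherent_ortho_cycTIiso hS h (calSH_sub hS) hτ hl hirr hk1 (mem_Irr.mp hx)
  have z2 : ⟪∑ x ∈ Irr W1, cycTIeta ⊤ W W1 W2 x l, τT θ⟫[⊤] = 0 := by
    rw [cfdot_suml]
    refine Finset.sum_eq_zero fun x hx => cfdot_symm0 ?_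
    rw [← cycTIetaC hc (mem_Irr.mp hx) hl1]
    exact coherent_ortho_cycTIiso hT hV (calSH_sub hT) hσ m1 m2 hl1 (mem_Irr.mp hx)
  rw [e1, e2, cfdotBl, cfdotBr, cfdotBr, o, cfdotZr, cfdotZl, cfdotZl, cfdotZr, z1, z2, cfdot_sumr,
    Finset.sum_congr rfl fun x hx => cfdot_sum_eta hc hl1 hk1 (mem_Irr.mp hx)] at o2
  simp [ha, hb] at o2
  exact o2 hl1 rfl

/-- (13.9)(a) -/
theorem nonvanish (hS : IsCoatom S) (h : OfTypeP S U W W1 W2)
    (hτ : CoherentWith S ⊤ (calSH S ⊥) (sharp S) (FTDade0 S) τ1) (hred : TIredCoherent S W W1 W2 τ1)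
    (hl : lam ∈ calSH S ⊥) (hind : lam ∈ seqIndT (Fit S) S) (hi : IsIrr W1 i) (hi0 : i ≠ cf1 W1) {x : G}
    (hx : x ∉ classSupp (sharp (Fit S)) ⊤) (h1 : τ1 lam x = 0)
    (h2 : cycTIeta ⊤ W W1 W2 i (cf1 W2) x = 0) : False := by
  classical
  have hc := FT_cyclicTI_hyp h
  have o := isIrr_cf1 W2
  obtain ⟨j, hj, hj0⟩ := exists_irr_ne_cf1 h.W2_ne_bot
  obtain ⟨l, hl1, -, a, ha, e1⟩ := red_form hred hj hj0
  have e2 := tau1_supp hS h hτ hl (FTseqInd_TIred hS h hj hj0) hind (FTprTIred_Ind_Fitting hS h hj hj0) x hx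
  rw [Pi.sub_apply, h1, zero_sub, neg_eq_zero, e1, Pi.smul_apply, smul_eq_mul, mul_eq_zero, or_iff_right ha,
    Finset.sum_apply, ← Finset.add_sum_erase _ _ (cf1_mem_Irr W1)] at e2
  have hV : x ∉ classSupp (cycTIset W1 W2) ⊤ := by
    rintro ⟨v, hv, g, hg, rfl⟩
    rw [cfunJ (cycTIeta_mem_CF hc hi o) hg, cycTIeta_restrict hc hi o hv] at h2
    exact lin_char_neq0 (cycTIirr_lin hc hi o) (cycTIset_subset h.defW hv).1 h2
  rw [Finset.sum_congr rfl (g := fun _ => cycTIeta ⊤ W W1 W2 (cf1 W1) l x - 1) fun k hk => by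
    obtain ⟨k0, hk⟩ := Finset.mem_erase.mp hk
    rw [mem_Irr] at hk
    have e := cfInd_suppOn ⊤ W (cfCycTI_on hc hk hl1).2 x hV
    obtain ⟨u, rfl⟩ := exists_aut (prime_q hS h) hi hi0 hk k0
    rw [cfInd_cycTI_alpha hc hk hl1, ← cfAut_cf1 u W2, ← cfAut_cycTIeta hc u hi o] at e
    simp only [Pi.add_apply, Pi.sub_apply, cfAutE, h2, map_zero, cf1E (mem_top x)] at e
    linear_combination e, Finset.sum_const, Finset.card_erase_of_mem (cf1_mem_Irr W1), hc.card_Irr.1,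
    nsmul_eq_mul, Nat.cast_pred (card_pos' _)] at e2
  have := isIntegral_one.sub (Aint_vchar (cycTIiso_vchar hc (isIrr_cf1 W1) hl1) x)
  rw [show 1 - cycTIeta ⊤ W W1 W2 (cf1 W1) l x = (1 : ℕ) / ♯W1 by
    rw [eq_div_iff (cardC_ne_zero W1)]; push_cast; linear_combination -e2] at this
  exact (prime_q hS h).one_lt.ne' (Nat.dvd_one.mp (Char.dvd_of_isIntegral_div (card_pos' _).ne' this))

theorem three_sum (hS : IsCoatom S) (h : OfTypeP S U W W1 W2) (hT : IsCoatom T) (hV : OfTypeP T V W W2 W1)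
    (hχ : χ ∈ CF (⊤ : Subgroup G)) : cfnorm ⊤ χ = (♯(⊤ : Subgroup G) : ℝ)⁻¹ *
      ∑ x ∈ elts (classSupp (sharp (Fit S)) ⊤ ∪ classSupp (sharp (Fit T)) ⊤)ᶜ, ‖χ x‖ ^ 2 +
      (♯S : ℝ)⁻¹ * ∑ x ∈ elts (sharp (Fit S)), ‖χ x‖ ^ 2 +
      (♯T : ℝ)⁻¹ * ∑ x ∈ elts (sharp (Fit T)), ‖χ x‖ ^ 2 := by
  rw [← sum_TI (tiH hS h) (sharp_mono le_top) hχ, ← sum_TI (tiH hT hV) (sharp_mono le_top) hχ, add_assoc,
    ← mul_add, ← mul_add, ← P12.sum_elts_union (disj_Fit hS h hT hV), ← P12.sum_elts_union disjoint_compl_left,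
    Set.compl_union_self, cfnorm, coe_top]

end P13

open P13

variable [MinOdd G]

/-- (13.10), whose proof includes (13.4) and (13.9) -/
theorem FTtypeP_compl_ker_ratio_lb (hS : IsCoatom S) (h : OfTypeP S U W W1 W2) {lam : G → ℂ}
    (hl : lam ∈ calSH S ⊥) (hirr : IsIrr S lam) (hind : lam ∈ seqIndT (Fit S) S) :
    (1 - 1 / ((♯W1 : ℝ) - 1) - ((♯W1 : ℝ) - 1) / (♯W1 : ℝ) ^ ♯W2 +
        1 / (((♯W1 : ℝ) - 1) * (♯W1 : ℝ) ^ ♯W2)) * (♯W2 : ℝ) ^ (♯W1 - 1) / ♯W1 <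
      ((U ⊓ 𝐂(Fcore S)).relIndex U : ℝ) / ♯(U ⊓ 𝐂(Fcore S)) := by
  have hc := FT_cyclicTI_hyp h
  obtain ⟨T, hST, V, hV⟩ := FTtypeP_pair_witness hS h
  have hT := hST.maxT
  obtain ⟨-, hD, hv⟩ := T_Galois hS h hT hV hl hirr hind
  obtain ⟨τ1, hτ, hred⟩ := FTtypeP_coherence hS h
  obtain ⟨i, hi, hi0⟩ := exists_irr_ne_cf1 h.W1_ne_bot
  have d1 := hτ.dirr hl hirr
  have d2 := cycTIiso_dirr hc hi (isIrr_cf1 W2)
  have e1 := three_sum hS h hT hV d1.mem_CF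
  have e2 := three_sum hS h hT hV d2.mem_CF
  have e3 := three_sum hS h hT hV (cf1_mem_CF ⊤)
  have b1 := FTtypeP_sum_Ind_Fitting_lb hS h hτ hl hirr hind
  have b2 := FTtypeP_sum_cycTIiso10_lb hS h hi hi0
  have b3 := FTtypeP_sum_cycTIiso01_lb hT hV hi hi0
  have b4 := card_lt_sum (add_mem (mul_vchar d1.vchar (star_vchar d1.vchar))
      (mul_vchar d2.vchar (star_vchar d2.vchar)))
    (A := (classSupp (sharp (Fit S)) ⊤ ∪ classSupp (sharp (Fit T)) ⊤)ᶜ)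
    (fun x y e hx hy => hx (hy.imp (supp_gen e.symm) (supp_gen e.symm)))
    (f := fun x => ‖τ1 lam x‖ ^ 2 + ‖cycTIeta ⊤ W W1 W2 i (cf1 W2) x‖ ^ 2)
    (fun x => by simp [Complex.mul_conj']) (fun x hx => by
      by_cases h1 : τ1 lam x = 0
      · have : cycTIeta ⊤ W W1 W2 i (cf1 W2) x ≠ 0 :=
          nonvanish hS h hτ hred hl hind hi hi0 (fun h2 => hx (Or.inl h2)) h1
        positivity
      · positivity) (x0 := 1)
    (fun h1 => h1.elim (mt one_mem_classSupp.mp (one_not_mem_sharp _))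
      (mt one_mem_classSupp.mp (one_not_mem_sharp _))) (by
      have a1 := (Cint_vchar1 d1.vchar).one_le_norm d1.one_ne_zero
      have a2 := (Cint_vchar1 d2.vchar).one_le_norm d2.one_ne_zero
      nlinarith)
  have hQ : ♯(Fit T) = ♯W1 ^ ♯W2 := by rw [← (defH hV).card, hD, card_bot, mul_one, (core hT hV).2]
  have b5 : 0 ≤ (♯T : ℝ)⁻¹ * ∑ x ∈ elts (sharp (Fit T)), ‖τ1 lam x‖ ^ 2 := by positivity
  rw [cycTIetaC hc hi (isIrr_cf1 W2), hD, relIndex_bot_left, ← hV.defM'.card, (core hT hV).2] at b3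
  rw [FTtypeP_Ind_Fitting_1 hS h hind, Complex.norm_natCast] at b1
  simp only [cf1E (mem_top _), norm_one, one_pow, sum_sharp, sum_elts_const, hQ, nsmul_eq_mul, mul_one,
    cfnorm_irr (isIrr_cf1 ⊤)] at e3
  rw [d1.cfnorm] at e1
  rw [d2.cfnorm] at e2
  rw [Finset.sum_add_distrib] at b4
  have c1 := mul_le_mul_of_nonneg_left b1 (inv_pos.mpr (cardR_pos S)).le
  have c2 := mul_le_mul_of_nonneg_left b2 (inv_pos.mpr (cardR_pos S)).le
  have c3 := mul_le_mul_of_nonneg_left b3 (inv_pos.mpr (cardR_pos T)).le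
  have c4 := mul_lt_mul_of_pos_left b4 (inv_pos.mpr (cardR_pos (⊤ : Subgroup G)))
  have key : (♯T : ℝ)⁻¹ * ((♯W1 ^ ♯W2 * ♯V : ℕ) - (♯V : ℝ) ^ 2 - ((♯W1 ^ ♯W2 : ℕ) - 1)) <
      (♯S : ℝ)⁻¹ * ((U ⊓ 𝐂(Fcore S)).relIndex U * ♯W1 : ℕ) ^ 2 := by
    rw [mul_sub, inv_mul_cancel₀ (cardR_pos S).ne'] at c1
    linarith
  have hv' := ustar_real (lt_q h).le ♯W2
  rw [← hv] at hv'
  rw [← hV.defM.card, ← hV.defM'.card, (core hT hV).2, ← h.defM.card, ← h.defM'.card, (core hS h).2,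
    ← card_U U (Fcore S)] at key
  have q1 : (0 : ℝ) < ♯W1 - 1 := sub_pos.mpr (by exact_mod_cast (prime_q hS h).one_lt)
  have := cardR_pos W1
  have := cardR_pos W2
  have := cardR_pos V
  have := cardR_pos (U ⊓ 𝐂(Fcore S))
  have : (0 : ℝ) < (U ⊓ 𝐂(Fcore S)).relIndex U := Nat.cast_pos.mpr (relIndex_pos _ _)
  push_cast at key
  rw [← Nat.sub_add_cancel (card_pos' W1), pow_succ (♯W2 : ℝ), Nat.sub_add_cancel (card_pos' W1)] at key
  refine lt_of_eq_of_lt ?_ ((mul_lt_mul_of_pos_right key (show (0 : ℝ) < (♯W2 : ℝ) ^ (♯W1 - 1) * ♯W2 / ♯W1 by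
    positivity)).trans_eq (by field_simp))
  rw [← hv', show 1 / ((♯W1 - 1 : ℝ) * (♯W1 : ℝ) ^ ♯W2) =
    1 / (♯W1 - 1 : ℝ) - ♯V / (♯W1 : ℝ) ^ ♯W2 by field_simp; linear_combination hv']
  field_simp
  ring

end Cfsg.Agent.OO.Pf
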