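import Cfsg.Agent.Lib.OO.Pf.PF13_C

/-! # Peterfalvi (13.11) - (13.13), (13.15) -/

set_option autoImplicit false
set_option linter.unusedSectionVars false
set_option linter.unusedVariables false

namespace Cfsg.Agent.OO.Pf

open Subgroup Cfsg.Agent.Coprime
open scoped Pointwise ComplexConjugate

universe u

namespace P13

/-- the constant `m` of (13.10) -/
noncomputable def mm (q p : ℕ) : ℝ :=
  1 - 1 / ((q : ℝ) - 1) - ((q : ℝ) - 1) / (q : ℝ) ^ p + 1 / (((q : ℝ) - 1) * (q : ℝ) ^ p)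

theorem mm_gt {p q : ℕ} (hp : 3 ≤ p) {k : ℝ} (hk : 2 ≤ k) (hq : k ≤ q) :
    1 - 1 / (k - 1) - 1 / k ^ 2 < mm q p := by
  have q0 : (0 : ℝ) < q := by linarith
  have k0 : 0 < k := by linarith
  have h1 : 1 / ((q : ℝ) - 1) ≤ 1 / (k - 1) := one_div_le_one_div_of_le (by linarith) (by linarith)
  have h2 : (q : ℝ) ^ 3 ≤ q ^ p := pow_le_pow_right₀ (by linarith) hp
  have h3 : ((q : ℝ) - 1) / q ^ p ≤ 1 / k ^ 2 := by
    rw [div_le_div_iff₀ (by positivity) (by positivity)]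
    have : k ^ 2 ≤ (q : ℝ) ^ 2 := pow_le_pow_left₀ (by linarith) hq 2
    nlinarith
  have h4 : 0 < 1 / (((q : ℝ) - 1) * (q : ℝ) ^ p) := by
    have : (0 : ℝ) < q - 1 := by linarith
    positivity
  rw [mm]; linarith

theorem mm_three {p : ℕ} (hp : 5 ≤ p) : ((p : ℝ) ^ 2 - 1) / 6 < mm 3 p * p ^ 2 / 3 := by
  have h : 3 * p ^ 2 < 3 ^ p := by
    induction p, hp using Nat.le_induction with
    | base => norm_num
    | succ n hn ih => rw [pow_succ 3]; nlinarith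
  have h : 3 * (p : ℝ) ^ 2 / 3 ^ p < 1 := (div_lt_one (by positivity)).mpr (by exact_mod_cast h)
  have : mm 3 p * p ^ 2 / 3 = (p ^ 2 - 3 * (p : ℝ) ^ 2 / 3 ^ p) / 6 := by
    rw [mm]; push_cast; field_simp; ring
  rw [this]; linarith

theorem q_eq_three {p q x : ℕ} (hp : 2 < p) (hq : 2 < q) (op : Odd p) (oq : Odd q) (hx : 2 * q + 1 ≤ x)
    (h : mm q p * p ^ (q - 1) / q < ((p ^ q - 1) / (p - 1) : ℕ) / x) : q = 3 := by
  by_contra h3
  have q5 : (5 : ℝ) ≤ q := by exact_mod_cast (by grind : 5 ≤ q)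
  have p3 : (3 : ℝ) ≤ p := by exact_mod_cast hp
  have hx' : (2 * q + 1 : ℝ) ≤ x := by exact_mod_cast hx
  have m7 : 7 / 10 < mm q p := lt_trans (by norm_num) (mm_gt hp (by norm_num) q5)
  have e := ustar_real hp.le q
  rw [← Nat.sub_add_cancel (by omega : 1 ≤ q), pow_succ (p : ℝ), Nat.sub_add_cancel (by omega)] at e
  have pp : (0 : ℝ) < p ^ (q - 1) := by positivity
  rw [div_lt_div_iff₀ (by linarith) (by linarith)] at h
  have k : mm q p * x * (p - 1) < q * p := by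
    refine lt_of_mul_lt_mul_right ?_ pp.le
    have := mul_lt_mul_of_pos_right h (by linarith : (0 : ℝ) < p - 1)
    nlinarith
  have k2 : mm q p * (2 * q + 1) * (p - 1) < q * p :=
    lt_of_le_of_lt (mul_le_mul_of_nonneg_right (mul_le_mul_of_nonneg_left hx' (by linarith)) (by linarith)) k
  by_cases h5 : 5 ≤ p
  · have : (5 : ℝ) ≤ p := by exact_mod_cast h5
    nlinarith [mul_le_mul_of_nonneg_right m7.le (show (0 : ℝ) ≤ (2 * q + 1) * (p - 1) by nlinarith)]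
  obtain rfl : p = 3 := by grind
  by_cases h7 : 7 ≤ q
  · have m8 : 8 / 10 < mm q 3 :=
      lt_trans (by norm_num) (mm_gt hp (k := 7) (by norm_num) (by exact_mod_cast h7))
    push_cast at k2; nlinarith
  obtain rfl : q = 5 := by grind
  push_cast at k2; linarith

theorem three_bound {p u c : ℕ} (hp : 5 ≤ p) (hc : 0 < c) (h : mm 3 p * p ^ (3 - 1) / (3 : ℕ) < u / c) :
    c * p ^ 2 < 6 * u + c := by
  have := (mm_three hp).trans h
  rw [div_lt_div_iff₀ (by norm_num) (by exact_mod_cast hc)] at this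
  have : (c : ℝ) * p ^ 2 < 6 * u + c := by linarith
  exact_mod_cast this

theorem two_mul_add_one_le {q c : ℕ} (oq : Odd q) (oc : Odd c) (h1 : c ≠ 1) (h : q ∣ c - 1) :
    2 * q + 1 ≤ c := by
  have := P12.two_mul_le_of_odd_dvd oq (Nat.Odd.sub_odd oc odd_one) (by grind) h
  grind

variable {G : Type u} [Group G] [Finite G] [MinOdd G] {S U W W1 W2 : Subgroup G}

theorem ratio (hS : IsCoatom S) (h : OfTypeP S U W W1 W2)
    (hn : ¬ (PGalois S U ⊥ ∧ U ⊓ 𝐂(Fcore S) = ⊥ ∧ ♯U = (♯W2 ^ ♯W1 - 1) / (♯W2 - 1))) :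
    mm ♯W1 ♯W2 * ♯W2 ^ (♯W1 - 1) / ♯W1 < ((U ⊓ 𝐂(Fcore S)).relIndex U : ℝ) / ♯(U ⊓ 𝐂(Fcore S)) := by
  obtain ⟨lam, h1, h2, h3⟩ := by_contra (mt (FTtypeP_no_Ind_Fitting_facts hS h) hn)
  exact FTtypeP_compl_ker_ratio_lb hS h h1 h2 h3

theorem five_le (h : OfTypeP S U W W1 W2) (h3 : ♯W1 = 3) : 5 ≤ ♯W2 := by
  have := q_ne_p h
  have := lt_p h
  have := mFT_odd W2
  grind

theorem nonGalois_dvd (hS : IsCoatom S) (h : OfTypeP S U W W1 W2) (hn : ¬ PGalois S U ⊥) :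
    (U ⊓ 𝐂(Fcore S)).relIndex U ∣ ((♯W2 - 1) / 2) ^ (♯W1 - 1) := by
  obtain ⟨H1, a, ha⟩ := typeP_Galois_Pn (hyp hS h) hn
  have h1 := ha.dvd
  rw [Pp_eq hS h, ← Nat.mul_div_cancel' (Nat.Odd.sub_odd (mFT_odd W2) odd_one).two_dvd] at h1
  rw [← Pu_eq]
  refine (Pu_dvd ha).trans (pow_dvd_pow_of_dvd (Nat.Coprime.dvd_of_dvd_mul_left ?_ h1) _)
  rw [Nat.coprime_two_right, ha.a_eq]
  exact (mFT_odd U).of_dvd_nat (relIndex_dvd_card _ _)

theorem Galois_dvd (hS : IsCoatom S) (h : OfTypeP S U W W1 W2) (hg : PGalois S U ⊥) :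
    (U ⊓ 𝐂(Fcore S)).relIndex U ∣ (♯W2 ^ ♯W1 - 1) / (♯W2 - 1) := by
  have := (typeP_Galois_P (hyp hS h) hg).2.2.2
  rwa [Pp_eq hS h, Pu_eq] at this

end P13

open P13

variable {G : Type u} [Group G] [Finite G] [MinOdd G] {S U W W1 W2 : Subgroup G}

/-- (13.12) -/
theorem FTtypeP_reg_Fcore (hS : IsCoatom S) (h : OfTypeP S U W W1 W2) : U ⊓ 𝐂(Fcore S) = ⊥ := by
  by_contra hC
  have hr := ratio hS h fun h1 => hC h1.2.1
  have hF := Ptype_compl_Frobenius hS h (not5 hS)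
  have hc := two_mul_add_one_le (mFT_odd W1) (mFT_odd _) (mt card_eq_one_iff.mp hC)
    (regular_norm_dvd_pred (le_sup_right.trans (by simpa only [Pc_eq] using (hyp hS h).normal_C.norm))
      (hF.semiregular.mono inf_le_left le_rfl))
  have h3 := q_eq_three (lt_p h) (lt_q h) (mFT_odd W2) (mFT_odd W1) hc (hr.trans_le
    (div_le_div_of_nonneg_right (Nat.cast_le.mpr (u_le hS h)) (Nat.cast_nonneg _)))
  have h5 := five_le h h3
  rw [h3] at hr hc
  have hb := three_bound h5 (card_pos' _) hr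
  have hb7 : 7 * ♯W2 ^ 2 < 6 * (U ⊓ 𝐂(Fcore S)).relIndex U + 7 := by
    nlinarith [Nat.one_le_pow 2 _ (card_pos' W2)]
  by_cases hg : PGalois S U ⊥
  · have h1 := Galois_dvd hS h hg
    have h2 := (coprime_card_mono (Ptype_Fcore_coprime h) h.W2_le
      ((inf_le_left : U ⊓ 𝐂(Fcore S) ≤ U).trans le_sup_left))
    have h4 := (defH h).card
    have h6 := relIndex_Fit h
    have op := mFT_odd W2
    have p9 := prime_p hS h
    rw [(core hS h).2] at h4
    rw [h3, ← Nat.geomSum_eq (lt_p h).le] at h1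
    simp only [Finset.sum_range_succ, Finset.range_zero, Finset.sum_empty] at h1
    have h7 := Nat.le_of_dvd (by positivity) h1
    have p7 : ♯W2 ≤ 7 := by nlinarith
    have : ♯W2 = 5 ∨ ♯W2 = 7 := by grind
    rcases this with e | e <;> rw [e] at h1 h2 h4 h7 hb
    · have c7 : ♯(U ⊓ 𝐂(Fcore S)) = 7 := by omega
      have u31 : (U ⊓ 𝐂(Fcore S)).relIndex U = 31 :=
        ((Nat.dvd_prime (by norm_num)).mp h1).resolve_left (by omega)
      have := card_le (le_Fcore ⟨Fit_le S, by rw [← h4, h6, c7, u31, h3]; norm_num⟩ (Fit_normal S).norm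
        (Fit_nil S))
      rw [← h4, (core hS h).2, c7, e, h3] at this
      omega
    · rw [show ♯(U ⊓ 𝐂(Fcore S)) = 7 by omega] at h2
      norm_num at h2
  · have h1 := Nat.le_of_dvd (Nat.pow_pos (by omega)) (nonGalois_dvd hS h hg)
    obtain ⟨b, e⟩ := mFT_odd W2
    rw [h3, e, Nat.add_sub_cancel, Nat.mul_div_cancel_left _ two_pos] at h1
    rw [e] at hb7 h5
    norm_num at h1
    nlinarith

theorem P13.u_eq (hS : IsCoatom S) (h : OfTypeP S U W W1 W2) : (U ⊓ 𝐂(Fcore S)).relIndex U = ♯U := by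
  rw [FTtypeP_reg_Fcore hS h, relIndex_bot_left]

/-- (13.13) -/
theorem FTtypeP_nonGalois_facts (hS : IsCoatom S) (h : OfTypeP S U W W1 W2) (hn : ¬ PGalois S U ⊥) :
    ♯W1 = 3 ∧ ♯U = ((♯W2 - 1) / 2) ^ 2 := by
  have hr := ratio hS h fun h1 => hn h1.1
  have hd := nonGalois_dvd hS h hn
  rw [u_eq hS h] at hr hd
  rw [FTtypeP_reg_Fcore hS h, card_bot] at hr
  have hp := lt_p h
  obtain ⟨b, e⟩ := mFT_odd W2
  have eb : (♯W2 - 1) / 2 = b := by omega
  rw [eb] at hd ⊢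
  have h1 := Nat.le_of_dvd (Nat.pow_pos (by omega)) hd
  have h3 : ♯W1 = 3 := by
    by_contra h3
    have q5 : 5 ≤ ♯W1 := by have := lt_q h; have := mFT_odd W1; grind
    have m7 : 7 / 10 < mm ♯W1 ♯W2 := lt_trans (by norm_num) (mm_gt hp (k := 5) (by norm_num) (by exact_mod_cast q5))
    have k1 : ∀ n, 4 ≤ n → 2 * (n + 1) ≤ 2 ^ n := fun n hn => by
      induction n, hn using Nat.le_induction with
      | base => norm_num
      | succ n hn ih => rw [pow_succ]; omega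
    have k2 : 2 * ♯W1 * ♯U ≤ ♯W2 ^ (♯W1 - 1) := by
      have := k1 (♯W1 - 1) (by omega)
      rw [Nat.sub_add_cancel (by omega)] at this
      exact (Nat.mul_le_mul this h1).trans (by rw [← mul_pow]; exact Nat.pow_le_pow_left (by omega) _)
    have k3 : (2 * ♯W1 * ♯U : ℝ) ≤ ♯W2 ^ (♯W1 - 1) := by exact_mod_cast k2
    rw [Nat.cast_one, div_one, div_lt_iff₀ (cardR_pos W1)] at hr
    nlinarith [mul_pos (cardR_pos W1) (cardR_pos U)]
  rw [h3] at hr hd h1
  have hb := three_bound (five_le h h3) one_pos hr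
  obtain ⟨y, hy⟩ := hd
  refine ⟨h3, by_contra fun hne => ?_⟩
  have : 2 ≤ y := by
    rcases y with _ | _ | y
    · have : 0 < b ^ (3 - 1) := Nat.pow_pos (by omega)
      omega
    · exact absurd (by simpa using hy.symm) hne
    · omega
  rw [e] at hb
  norm_num at hy
  nlinarith [Nat.mul_le_mul_left ♯U this]

/-- (13.15) -/
theorem card_FTtypeP_Galois_compl (hS : IsCoatom S) (h : OfTypeP S U W W1 W2) (hg : PGalois S U ⊥) :
    ♯U = if ♯W2 ≡ 1 [MOD ♯W1] then (♯W2 ^ ♯W1 - 1) / (♯W2 - 1) / ♯W1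
      else (♯W2 ^ ♯W1 - 1) / (♯W2 - 1) := by
  obtain ⟨x, hx⟩ := Galois_dvd hS h hg
  have hq := q_dvd hS h
  rw [u_eq hS h] at hx hq
  obtain ⟨o, c1, c2⟩ := FTtypeP_primes_mod_cases (prime_p hS h) (prime_q hS h) (mFT_odd W2) (mFT_odd W1)
  have ox : Odd x := o.of_dvd_nat (Dvd.intro_left _ hx.symm)
  have q3 := lt_q h
  have u0 := card_pos' U
  have key : ¬ 2 * ♯W1 + 1 ≤ x := fun hle => by
    have hr := ratio hS h fun h1 => by
      have := h1.2.2
      rw [hx] at this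
      nlinarith
    rw [u_eq hS h, FTtypeP_reg_Fcore hS h, card_bot] at hr
    have h3 := q_eq_three (lt_p h) q3 (mFT_odd W2) (mFT_odd W1) hle (hr.trans_eq (by
      rw [hx, Nat.cast_mul, mul_div_cancel_right₀ _ (Nat.cast_ne_zero.mpr (by omega)), Nat.cast_one, div_one]))
    have h5 := five_le h h3
    rw [h3] at hr hle
    have hb := three_bound h5 one_pos hr
    rw [h3, ← Nat.geomSum_eq (lt_p h).le] at hx
    simp only [Finset.sum_range_succ, Finset.range_zero, Finset.sum_empty] at hx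
    have p7 : ♯W2 ≤ 7 := by nlinarith
    have op := mFT_odd W2
    have : ♯W2 = 5 ∨ ♯W2 = 7 := by grind
    have u8 : ♯U ≤ 8 := by rcases this with e | e <;> rw [e] at hx <;> nlinarith
    rcases this with e | e <;> rw [e] at hx hb <;> interval_cases ♯U <;> omega
  split_ifs with hm
  · have h1 := c1 hm
    rw [hx] at h1 ⊢
    obtain ⟨y, rfl⟩ := ((prime_q hS h).dvd_mul.mp h1).resolve_left fun h2 =>
      (prime_q hS h).one_lt.ne' (Nat.dvd_one.mp ((Nat.dvd_sub_iff_right u0 h2).mp hq))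
    obtain ⟨z, rfl⟩ := ox.of_dvd_nat (dvd_mul_left _ _)
    obtain rfl : z = 0 := by_contra fun hz => key (by nlinarith [Nat.pos_of_ne_zero hz])
    simp [Nat.mul_div_cancel _ (card_pos' W1)]
  · rw [hx, by_contra fun h1 : ¬ x = 1 => key (two_mul_add_one_le (mFT_odd W1) ox h1
      ((Nat.modEq_iff_dvd' ox.pos).mp ((c2 hm).2 x (Dvd.intro_left _ hx.symm)).symm)), mul_one]

end Cfsg.Agent.OO.Pf
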