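import Cfsg.Agent.Lib.OO.Pf.PF13_D

/-! # Peterfalvi (13.16), (13.17) -/

set_option autoImplicit false
set_option linter.unusedSectionVars false
set_option linter.unusedVariables false

namespace Cfsg.Agent.OO.Pf

open Subgroup Cfsg.Agent.Coprime
open scoped Pointwise ComplexConjugate

universe u

open P13

variable {G : Type u} [Group G] [Finite G] [MinOdd G] {S U W W1 W2 : Subgroup G}

/-- (13.16), transposed -/
theorem FTtypeP_norm_cent_compl (hS : IsCoatom S) (h : OfTypeP S U W W1 W2) :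
    IsSdprod (Fcore S) W1 𝐍(W2) ∧ IsSdprod (Fcore S) W1 𝐂(W2) := by
  have hF := Ptype_compl_Frobenius hS h (not5 hS)
  have ab := abelem_ab (core hS h).1
  have c1 : Fcore S ≤ 𝐂(W2) := ab.le_cent.trans (cent_anti h.W2_le)
  have c2 : W1 ≤ 𝐂(W2) := h.defW.symm.le_cent
  have nS : 𝐍(W2) ≤ S := fun g hg => by
    obtain ⟨x, hx, hx1⟩ := exists_mem_ne_one h.W2_ne_bot
    exact (tiH hS h).mem_of_conj g trivial x ⟨Fcore_le_Fit S (h.W2_le hx), hx1⟩
      ⟨Fcore_le_Fit S (h.W2_le (conj_mem_of_norm hg hx)), conj_ne_one.mpr hx1⟩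
  have nP := (Fcore_normal S).norm
  have hK : U ⊓ 𝐍(W2) = ⊥ := by
    by_contra hK
    have n1 : W1 ≤ 𝐍(U ⊓ 𝐍(W2)) := le_norm_inf h.W1_le_norm (le_norm_norm (le_norm_of_le_cent c2))
    have hF1 := hF.subl hK inf_le_left n1
    have k1 : U ⊓ 𝐍(W2) ≤ 𝐂(W2) := hF1.commg.ge.trans ((commutator_mono inf_le_right
      (le_norm_of_le_cent c2)).trans (B4.der_norm_le_cent h.cycW2))
    have l1 : U ⊓ 𝐍(W2) ⊔ W1 ≤ U ⊔ W1 := sup_le_sup_right inf_le_left _
    have n2 : U ⊓ 𝐍(W2) ⊔ W1 ≤ 𝐍(Fcore S) := l1.trans (Ptype_Fcore_sdprod h).le_norm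
    have d := coprime_abelian_cent_dprod (le_sup_left.trans n2)
      (coprime_card_mono (Ptype_Fcore_coprime h) le_rfl (le_sup_left.trans l1)) ab
    have k2 := (Frobenius_Wielandt_fixpoint hF1 (le_norm_commutator n2 hF1.ker_normal.norm)
      (coprime_card_mono (Ptype_Fcore_coprime h) d.left_le l1) (sol_of_ab (ab_of_le ab d.left_le))).2.1
      (eq_bot_iff.mpr (d.inf_eq.le.trans' (le_inf inf_le_left ((inf_le_inf_right _ d.left_le).trans
        ((typeP_cent_core_compl h).le.trans (le_inf h.W2_le (le_cent_symm k1)))))))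
    refine hK (eq_bot_iff.mpr ((FTtypeP_reg_Fcore hS h).le.trans' (le_inf inf_le_left ?_)))
    rw [← d.sup_eq]
    exact le_cent_sup k2 (le_cent_symm inf_le_right)
  have e := (Ptype_Fcore_sdprod h).of_left_le (le_norm_of_le_cent c1) nS
  rw [sup_inf_of_le_right (Or.inr h.W1_le_norm) (le_norm_of_le_cent c2), hK, bot_sup_eq] at e
  exact ⟨e, ⟨le_antisymm (sup_le c1 c2) ((cent_le_norm W2).trans e.sup_eq.ge), e.le_norm, e.inf_eq⟩⟩

/-- (13.17) -/
theorem FTtypeII_support_facts (hS : IsCoatom S) (h : OfTypeP S U W W1 W2) {T L : Subgroup G}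
    (h2 : FTtype S = 2) (hST : TypePPair S T W W1 W2) (hL : IsCoatom L) (hUL : 𝐍(U) ≤ L) :
    IsFrobKer L (Fcore L) ∧ U ≤ Fcore L ∧
    (IsSdprod (Fcore L) W1 L ∨ ∃ y ∈ Fcore T, IsSdprod (Fcore L) (W1 ⊔ y •ᶜ W2) L) := by
  have hF := Ptype_compl_Frobenius hS h (not5 hS)
  obtain ⟨V, hV⟩ := typeP_pairW (typeP_pair_sym hST)
  have hT := hST.maxT
  have hq := prime_q hS h
  have hp := prime_p hS h
  haveI := Fact.mk hq
  have nH := Fcore_normal L
  have l1 : W1 ≤ L := h.W1_le_norm.trans hUL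
  have l2 : U ≤ L := (le_norm_self U).trans hUL
  have q1 : ¬ ♯W1 ∣ ♯(Fcore L) := fun hd => by
    have h1 : W1 ≤ Fcore L := (Fcore_hall L).le_of_normal_hall nH.norm l1
      ((isPiNum_prime hq).mpr ⟨hq, hd⟩)
    have h3 : U ≤ Fcore L := hF.commg.ge.trans (commutator_le_right' (l2.trans nH.norm) |>.trans' ?_)
    · exact hF.ker_ne_bot (by
        rw [← hF.semiregular.inf_cent le_rfl h.W1_ne_bot, left_eq_inf]
        exact le_cent_of_nil_of_coprime (Fcore_nil L) h3 h1 hF.coprime)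
    · exact commutator_mono le_rfl h1
  have nc : NotConj L S := by
    rintro x rfl
    have h1 : IsHallIn U S := ⟨h.U_le.trans (der_le S), by
      rw [← relIndex_mul_relIndex _ _ _ h.U_le (der_le S), h.defM'.relIndex_right, h.defM.relIndex_left]
      exact (coprime_card_mono (Ptype_Fcore_coprime h).symm le_sup_left le_rfl).mul_right hF.coprime⟩
    obtain ⟨g, hg, e⟩ := (h1.hall.conj x).exists_conj (mmax_sol hL)
      ((h1.hall.conj x).of_card_eq l2 (card_conj_smul x U).symm)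
    rw [e, norm_conj, norm_conj, ← conj_eq_of_mem hg, conj_le_conj_iff, conj_le_conj_iff] at hUL
    exact (compl_of_typeII hS h h2).not_norm_le hUL
  have t1 : FTtype L = 1 := by_contra fun h1 => by
    obtain ⟨x, rfl | rfl⟩ := hST.conj L hL h1
    · exact nc x rfl
    · rw [Fcore_conj, card_conj_smul, (core hT hV).2] at q1
      exact q1 (dvd_pow_self _ hp.ne_zero)
  have hFL := OO.FTtype1_Frobenius hL t1
  have c1 := FT_Dade_support_partition.2.1 S L hS hL nc
  rw [FTcore_type2 h2, FTcore_type1 t1] at c1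
  have c2 := ((Nat.Prime.coprime_iff_not_dvd hq).mpr q1).symm
  obtain ⟨dN, dC⟩ := FTtypeP_norm_cent_compl hT hV
  have c3 : Fcore L ⊓ 𝐂(W1) = ⊥ := inf_eq_bot_of_coprime_card (by
    rw [← dC.card, (core hT hV).2]
    exact (c2.pow_right _).mul_right (coprime_card_mono c1.symm le_rfl h.W2_le))
  obtain ⟨n1, -, -, k⟩ := Frobenius_kerP.mp hFL
  refine ⟨hFL, ?_, ?_⟩
  · by_cases h1 : Fcore L ⊓ U = ⊥
    · have := (Frobenius_Wielandt_fixpoint hF ((sup_le l2 l1).trans nH.norm) (by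
        rw [← hF.sdprod.card]
        refine Nat.Coprime.mul_right ((Fcore_isHallIn L).coprime.coprime_dvd_right ?_) c2
        rw [← card_inf_mul_relIndex (Fcore L) U, h1, card_bot, one_mul]
        exact relIndex_dvd_of_le_norm l2 nH.norm) (sol_of_nil (Fcore_nil L))).2.1 c3
      obtain ⟨x, hx, hx1⟩ := exists_mem_ne_one n1
      exact (le_inf l2 (this.trans (cent_le_cent1 hx))).trans (k x hx hx1)
    · obtain ⟨x, hx, hx1⟩ := exists_mem_ne_one h1
      exact (le_inf l2 ((abU hS h).le_cent.trans (cent_le_cent1 hx.2))).trans (k x hx.1 hx1)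
  obtain ⟨E0, hE0⟩ := hFL
  obtain ⟨g, hg, l3⟩ := hE0.sdprod.exists_le_conj hE0.coprime l1 c2 (Or.inl (sol_of_nil (Fcore_nil L)))
  have hE := hE0.compl_conj (hE0.sdprod.conj_right (nH.le hg))
  generalize g •ᶜ E0 = E at l3 hE
  have l4 := (odd_regular_prime_normal (mFT_odd E) n1 hE.le_norm hE.semiregular l3 hq).norm
  have e1 : W1 = Fcore T ⊓ E := by
    obtain ⟨n, hn⟩ := exists_isEp_of_abelem (abelem_of_le (core hT hV).1 (inf_le_left : Fcore T ⊓ E ≤ _)) le_rfl
    have := mt hn.not_isCyclic (not_not.mpr (isCyclic_of_isZGroup_of_isPGroup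
      (odd_regular_Zgroup (mFT_odd E) n1 hE.le_norm hE.semiregular) inf_le_right hn.isPGroup))
    refine eq_of_le_of_card_le (le_inf hV.W2_le l3) ?_
    rw [hn.card]
    exact (Nat.pow_le_pow_right hq.pos (by omega : n ≤ 1)).trans_eq (pow_one _)
  have e2 := card_inf_mul_relIndex (Fcore T) E
  have e3 := relIndex_dvd_of_le_norm l4 dN.normal.norm
  rw [← e1] at e2
  rw [dN.relIndex_left, Nat.dvd_prime hp] at e3
  rcases e3 with e3 | e3 <;> rw [e3] at e2
  · exact Or.inl (eq_of_le_of_card_le l3 (by omega) ▸ hE.sdprod)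
  obtain ⟨x, hx, ox⟩ := cauchy hp (Dvd.intro_left _ e2)
  have c4 : (♯(Fcore T)).Coprime ♯W2 := dN.coprime_of_left ⟨dN.left_le, by
    rw [dN.relIndex_left, (core hT hV).2]; exact (FT_cyclicTI_hyp h).coprime.pow_left _⟩
  obtain ⟨y, hy, l5⟩ := dN.exists_le_conj c4 (zpowers_le.mpr (l4 hx)) (by rwa [Nat.card_zpowers, ox])
    (Or.inl (sol_of_nil (Fcore_nil T)))
  have e4 := eq_of_le_of_card_le l5 (by rw [card_conj_smul, Nat.card_zpowers, ox])
  refine Or.inr ⟨y, hy, eq_of_le_of_card_le (sup_le l3 (e4 ▸ zpowers_le.mpr hx)) ?_ ▸ hE.sdprod⟩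
  rw [← (IsSdprod.of_coprime ((e4 ▸ zpowers_le.mpr hx : y •ᶜ W2 ≤ E).trans l4)
    (by rw [card_conj_smul]; exact (FT_cyclicTI_hyp h).coprime)).card, card_conj_smul, e2]

end Cfsg.Agent.OO.Pf
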