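import Cfsg.Agent.Lib.OO.PF14Defs

/-! # Peterfalvi section 14, part A: arithmetic and (14.4)-(14.8) -/

set_option autoImplicit false
set_option linter.unusedSectionVars false
set_option linter.unusedVariables false

namespace Cfsg.Agent.OO.Pf

open Subgroup Cfsg.Agent.Coprime
open scoped Pointwise

universe u

namespace P14

theorem gs_eq {p : ℕ} (hp : 2 ≤ p) (n : ℕ) : (p ^ n - 1) / (p - 1) = ∑ i ∈ Finset.range n, p ^ i :=
  (Nat.geomSum_eq hp n).symm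

theorem gs_mul {p : ℕ} (hp : 2 ≤ p) (n : ℕ) : (p ^ n - 1) / (p - 1) * (p - 1) = p ^ n - 1 :=
  Nat.div_mul_cancel (by simpa using Nat.sub_dvd_pow_sub_pow p 1 n)

theorem gs_succ {p : ℕ} (hp : 2 ≤ p) (n : ℕ) :
    (p ^ (n + 1) - 1) / (p - 1) = p * ((p ^ n - 1) / (p - 1)) + 1 := by
  rw [gs_eq hp, gs_eq hp, geom_sum_succ]

theorem gs_succ' {p : ℕ} (hp : 2 ≤ p) (n : ℕ) :
    (p ^ (n + 1) - 1) / (p - 1) = (p ^ n - 1) / (p - 1) + p ^ n := by
  rw [gs_eq hp, gs_eq hp, Finset.sum_range_succ]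

theorem gs_modEq {p n : ℕ} (hp : 2 ≤ p) (hn : 0 < n) : (p ^ n - 1) / (p - 1) ≡ 1 [MOD p] := by
  obtain ⟨m, rfl⟩ : ∃ m, n = m + 1 := ⟨n - 1, by omega⟩
  rw [gs_succ hp]
  simp [Nat.ModEq]

theorem gs_gt {p n : ℕ} (hp : 2 ≤ p) (hn : 2 ≤ n) : p ^ (n - 1) < (p ^ n - 1) / (p - 1) := by
  obtain ⟨m, rfl⟩ : ∃ m, n = m + 2 := ⟨n - 2, by omega⟩
  rw [gs_succ' hp, gs_succ hp]
  simp

theorem pow_succ_le {p q : ℕ} (hq : 3 ≤ q) (h : q + 1 ≤ p) : (p + 1) ^ (q + 1) ≤ q * p ^ (q + 1) := by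
  have hp : (0 : ℝ) < p := by exact_mod_cast (by omega : 0 < p)
  have h1 : ((p : ℝ) + 1) = p * (1 + 1 / p) := by field_simp
  have h2 : (1 + 1 / (p : ℝ)) ^ (q + 1) ≤ Real.exp 1 := by
    calc (1 + 1 / (p : ℝ)) ^ (q + 1) ≤ (Real.exp (1 / p)) ^ (q + 1) := by
          gcongr; rw [add_comm]; exact Real.add_one_le_exp _
      _ = Real.exp ((q + 1 : ℕ) * (1 / p)) := by rw [Real.exp_nat_mul]
      _ ≤ Real.exp 1 := by
          gcongr
          rw [mul_one_div, div_le_one hp]; exact_mod_cast h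
  have h3 : Real.exp 1 ≤ q := by
    have := Real.exp_one_lt_d9
    have : (3 : ℝ) ≤ q := by exact_mod_cast hq
    linarith
  have : ((p : ℝ) + 1) ^ (q + 1) ≤ q * p ^ (q + 1) := by
    rw [h1, mul_pow, mul_comm]
    gcongr
    exact h2.trans h3
  exact_mod_cast this

theorem base_lt {q : ℕ} (hq : 3 ≤ q) : (q + 2) ^ (q + 1) < q ^ (q + 3) := by
  rcases Nat.lt_or_ge q 4 with h | h
  · obtain rfl : q = 3 := by omega
    norm_num
  have hp : (0 : ℝ) < q := by exact_mod_cast (by omega : 0 < q)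
  have h4 : (4 : ℝ) ≤ q := by exact_mod_cast h
  have h1 : ((q : ℝ) + 2) = q * (1 + 2 / q) := by field_simp
  have h2 : (1 + 2 / (q : ℝ)) ^ q ≤ Real.exp 1 ^ 2 := by
    calc (1 + 2 / (q : ℝ)) ^ q ≤ (Real.exp (2 / q)) ^ q := by
          gcongr; rw [add_comm]; exact Real.add_one_le_exp _
      _ = Real.exp (q * (2 / q)) := by rw [Real.exp_nat_mul]
      _ = Real.exp 1 ^ 2 := by
          rw [← Real.exp_nat_mul]; congr 1; field_simp; norm_num
  have h3 : Real.exp 1 ^ 2 < 9 := by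
    have := Real.exp_one_lt_d9
    have := Real.exp_pos 1
    nlinarith
  have h5 : (1 + 2 / (q : ℝ)) ≤ 3 / 2 := by
    have : 2 / (q : ℝ) ≤ 2 / 4 := by gcongr
    linarith
  have h6 : (1 + 2 / (q : ℝ)) ^ (q + 1) < q ^ 2 := by
    rw [pow_succ]
    have : (0 : ℝ) ≤ (1 + 2 / (q : ℝ)) ^ q := by positivity
    nlinarith
  have : ((q : ℝ) + 2) ^ (q + 1) < q ^ (q + 3) := by
    rw [h1, mul_pow, show q + 3 = (q + 1) + 2 by ring, pow_add (q : ℝ) (q + 1) 2]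
    gcongr
  exact_mod_cast this

theorem lt_expn_swap' {p q : ℕ} (hq : 3 ≤ q) (h : q + 2 ≤ p) : p ^ (q + 1) < q ^ (p + 1) := by
  induction p, h using Nat.le_induction with
  | base => exact base_lt hq
  | succ p hp ih =>
    calc (p + 1) ^ (q + 1) ≤ q * p ^ (q + 1) := pow_succ_le hq (by omega)
      _ < q * q ^ (p + 1) := by gcongr
      _ = q ^ (p + 1 + 1) := by ring

theorem ltr_arith {p q u v : ℕ} (hq : 3 ≤ q) (h : q + 2 ≤ p) (hu : u ≤ (p ^ q - 1) / (p - 1))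
    (hv : v = (q ^ p - 1) / (q - 1)) (du : q ∣ u - 1) (dv : p ∣ v - 1) : (u - 1) / q < (v - 1) / p := by
  have key := lt_expn_swap' hq h
  obtain ⟨q', rfl⟩ : ∃ m, q = m + 1 := ⟨q - 1, by omega⟩
  obtain ⟨p', rfl⟩ : ∃ m, p = m + 1 := ⟨p - 1, by omega⟩
  rw [gs_succ (by omega)] at hu hv
  have hA := gs_mul (p := p' + 1) (by omega) q'
  have hB := gs_mul (p := q' + 1) (by omega) p'
  set A := ((p' + 1) ^ q' - 1) / (p' + 1 - 1)
  set B := ((q' + 1) ^ p' - 1) / (q' + 1 - 1)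
  obtain ⟨a, ha⟩ := du
  obtain ⟨b, hb⟩ := dv
  rw [ha, hb, Nat.mul_div_cancel_left _ (by omega), Nat.mul_div_cancel_left _ (by omega)]
  by_contra hc
  push Not at hc
  have e1 : (q' + 1) * a ≤ (p' + 1) * A := by omega
  have e2 : (p' + 1) * b = (q' + 1) * B := by omega
  have p1 : 0 < (p' + 1) ^ q' := by positivity
  have p2 : 0 < (q' + 1) ^ p' := by positivity
  rw [show (p' + 1) ^ (q' + 1 + 1) = (p' + 1) ^ 2 * (p' + 1) ^ q' by ring,
    show (q' + 1) ^ (p' + 1 + 1) = (q' + 1) ^ 2 * (q' + 1) ^ p' by ring] at key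
  simp only [Nat.add_sub_cancel] at hA hB
  have hA' : (p' + 1) ^ q' = A * p' + 1 := by omega
  have hB' : (q' + 1) ^ p' = B * q' + 1 := by omega
  rw [hA', hB'] at key
  have e3 : (q' + 1) ^ 2 * B ≤ (p' + 1) ^ 2 * A := by
    calc (q' + 1) ^ 2 * B = (q' + 1) * ((p' + 1) * b) := by rw [e2]; ring
      _ ≤ (q' + 1) * ((p' + 1) * a) := by gcongr
      _ = (p' + 1) * ((q' + 1) * a) := by ring
      _ ≤ (p' + 1) * ((p' + 1) * A) := by gcongr
      _ = _ := by ring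
  have e4 : (q' + 1) ^ 2 * B * q' ≤ (p' + 1) ^ 2 * A * p' := Nat.mul_le_mul e3 (by omega)
  have e5 : (q' + 1) ^ 2 ≤ (p' + 1) ^ 2 := by gcongr; omega
  nlinarith

/-- the arithmetic of (14.14)(b) -/
theorem small_case {p q : ℕ} (hq : 3 ≤ q) (op : Odd p) (oq : Odd q) (h : q < p)
    (hb : q ^ (p - 1) < p ^ 2 * q ^ 2) : q = 3 ∧ p = 5 := by
  have h5 : 5 ≤ p := by obtain ⟨a, ha⟩ := op; obtain ⟨b, hb⟩ := oq; omega
  have hlt : q ^ (p - 3) < p ^ 2 := by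
    have : q ^ (p - 1) = q ^ (p - 3) * q ^ 2 := by rw [← pow_add]; congr 1; omega
    rw [this] at hb
    exact lt_of_mul_lt_mul_right hb (Nat.zero_le _)
  have h7 : p < 7 := by
    by_contra hc
    push Not at hc
    have : ∀ n, 7 ≤ n → n ^ 2 ≤ 3 ^ (n - 3) := by
      intro n hn
      induction n, hn using Nat.le_induction with
      | base => norm_num
      | succ n hn ih =>
        rw [show n + 1 - 3 = (n - 3) + 1 by omega, pow_succ 3]
        nlinarith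
    have h1 := this p hc
    have h2 : 3 ^ (p - 3) ≤ q ^ (p - 3) := by gcongr
    omega
  obtain ⟨a, ha⟩ := op; obtain ⟨b, hb⟩ := oq
  omega

end P14

open P14

/-- (14.8)(a) -/
theorem lt_expn_swap {p q : ℕ} (hq : 3 ≤ q) (op : Odd p) (oq : Odd q) (h : q < p) :
    p ^ (q + 1) < q ^ (p + 1) :=
  lt_expn_swap' hq (by obtain ⟨a, ha⟩ := op; obtain ⟨b, hb⟩ := oq; omega)

variable {G : Type u} [Group G] [Finite G] [MinOdd G] {S T U V W W1 W2 L M : Subgroup G}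

namespace P14

theorem cti (h : Hyp14 S T U V W W1 W2) : CycTIHyp ⊤ W W1 W2 := FT_cyclicTI_hyp h.typeS

theorem prime1 (h : Hyp14 S T U V W W1 W2) : (♯W1).Prime := (FTtypeP_primes h.maxS h.typeS).1
theorem prime2 (h : Hyp14 S T U V W W1 W2) : (♯W2).Prime := (FTtypeP_primes h.maxS h.typeS).2

theorem bounds (h : Hyp14 S T U V W W1 W2) : 3 ≤ ♯W1 ∧ ♯W1 + 2 ≤ ♯W2 := by
  have h1 := (cti h).two_lt
  have h2 := h.lt
  obtain ⟨a, ha⟩ := mFT_odd W1
  obtain ⟨b, hb⟩ := mFT_odd W2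
  omega

theorem pair (h : Hyp14 S T U V W W1 W2) : TypePPair S T W W1 W2 :=
  of_typeP_pair h.maxS h.typeS h.maxT h.typeT

theorem U_le (h : OfTypeP S U W W1 W2) : U ≤ S := h.U_le.trans (der_le S)
theorem W1_le (h : OfTypeP S U W W1 W2) : W1 ≤ S := h.defM.right_le
theorem W2_le (h : OfTypeP S U W W1 W2) : W2 ≤ S := h.W2_le.trans (Fcore_le S)

theorem frobU (hS : IsCoatom S) (h : OfTypeP S U W W1 W2) : IsFrob (U ⊔ W1) U W1 :=
  (FTtypeP_facts hS h).1.2.2.1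
theorem abU (hS : IsCoatom S) (h : OfTypeP S U W W1 W2) : Ab U := (FTtypeP_facts hS h).1.2.2.2
theorem abelemP (hS : IsCoatom S) (h : OfTypeP S U W W1 W2) : IsElementaryAbelian ♯W2 (Fcore S) :=
  (FTtypeP_facts hS h).2.1.1
theorem cardP (hS : IsCoatom S) (h : OfTypeP S U W W1 W2) : ♯(Fcore S) = ♯W2 ^ ♯W1 :=
  (FTtypeP_facts hS h).2.1.2
theorem cardU_le (hS : IsCoatom S) (h : OfTypeP S U W W1 W2) : ♯U ≤ (♯W2 ^ ♯W1 - 1) / (♯W2 - 1) := by
  have := (FTtypeP_facts hS h).2.2.1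
  rwa [FTtypeP_reg_Fcore hS h, relIndex_bot_left] at this
theorem ti0 (hS : IsCoatom S) (h : OfTypeP S U W W1 W2) : NormedTI (FTsupp0 S) ⊤ S :=
  (FTtypeP_facts hS h).2.2.2.2.1
theorem cardS (hS : IsCoatom S) (h : OfTypeP S U W W1 W2) : ♯S = ♯(Fcore S) * ♯U * ♯W1 := by
  rw [h.defM'.card, h.defM.card]
theorem Pc_eq (hS : IsCoatom S) (h : OfTypeP S U W W1 W2) : Pc S U ⊥ = ⊥ := by
  rw [(Ptype_Fcore_kernel_trivial hS h).2.2, FTtypeP_reg_Fcore hS h]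
theorem two_mul_lt (hS : IsCoatom S) (h : OfTypeP S U W W1 W2) : 2 * ♯W1 + 1 ≤ ♯U := by
  have := odd_Frobenius_index_ler (mFT_odd _) (frobU hS h).isFrobKer
  rwa [(frobU hS h).sdprod.relIndex_left] at this

theorem modEq_of_dvd_pred {a n : ℕ} (hn : 0 < n) (h : a ∣ n - 1) : n ≡ 1 [MOD a] :=
  ((Nat.modEq_iff_dvd' hn).2 h).symm

end P14

theorem FTtypeP_max_typeII (h : Hyp14 S T U V W W1 W2) : FTtype S = 2 :=
  (FTtypeP_facts h.maxS h.typeS).1.2.1 h.lt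

/-- (14.4) -/
theorem FTtypeP_min_Galois (h : Hyp14 S T U V W W1 W2) :
    PGalois T V ⊥ ∧ ♯V = (♯W1 ^ ♯W2 - 1) / (♯W1 - 1) := by
  have hb := bounds h
  have hg : PGalois T V ⊥ := by
    by_contra hn
    have := (FTtypeP_nonGalois_facts h.maxT h.typeT hn).1
    omega
  refine ⟨hg, ?_⟩
  rw [card_FTtypeP_Galois_compl h.maxT h.typeT hg, if_neg]
  intro hm
  have := Nat.le_of_dvd (by omega) ((Nat.modEq_iff_dvd' (by omega)).1 hm.symm)
  omega

/-- (14.5) -/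
theorem FTtype2_support_sdprod (h : Hyp14 S T U V W W1 W2) (hL : IsCoatom L) (hUL : 𝐍(U) ≤ L) :
    ∃ y ∈ Fcore T, IsSdprod (Fcore L) (W1 ⊔ y •ᶜ W2) L := by
  obtain ⟨hF, hUH, hc | hc⟩ :=
    FTtypeII_support_facts h.maxS h.typeS (FTtypeP_max_typeII h) (pair h) hL hUL
  swap
  · exact hc
  exfalso
  have h1 := FT_Frobenius_type1 hL hF
  obtain ⟨τ1, hτ⟩ := FTtype1_coherence hL h1
  obtain ⟨φ, hφ, hφ1⟩ := FTtype1_ref_irr hL
  obtain ⟨j, hj, hj0⟩ := exists_irr_ne_cf1 h.typeS.W2_ne_bot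
  have hlt := h.lt
  obtain ⟨-, -, -, ⟨-, hb⟩ | ⟨-, hb⟩⟩ := FTtypeI_bridge_facts h.maxS h.typeS hL h1 hτ hφ hφ1 hj hj0
  · rw [hc.relIndex_left] at hb
    have hq : (0 : ℝ) < ♯W1 := cardR_pos W1
    have h2 : (((♯U - 1) / ♯W1 : ℕ) : ℝ) ≤ ((♯U : ℝ) - 1) / ♯W1 := by
      refine Nat.cast_div_le.trans ?_
      rw [Nat.cast_pred (card_pos' U)]
    have h3 : (♯(Fcore L) : ℝ) ≤ ♯U := by
      have := (div_le_div_iff_of_pos_right hq).1 (hb.trans h2)
      linarith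
    have hHU : U = Fcore L := eq_of_le_of_card_le hUH (by exact_mod_cast h3)
    refine (compl_of_typeII h.maxS h.typeS (FTtypeP_max_typeII h)).not_norm_le (hUL.trans ?_)
    rw [← hc.sup_eq, ← hHU]
    exact sup_le (U_le h.typeS) (W1_le h.typeS)
  · rw [hc.relIndex_left] at hb
    omega

/-- (14.6) -/
theorem FTtypeP_max_Galois (h : Hyp14 S T U V W W1 W2) : PGalois S U ⊥ := by
  by_contra hn
  have hb := bounds h
  have hS := h.maxS
  have tS := h.typeS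
  have h2 := FTtypeP_max_typeII h
  obtain ⟨hq3, hu⟩ := FTtypeP_nonGalois_facts hS tS hn
  obtain ⟨hP, hpp, -⟩ := Ptype_Fcore_kernel_trivial hS tS
  obtain ⟨H1, a, hG⟩ := typeP_Galois_Pn hP hn
  obtain ⟨f, hf, hf0⟩ := hG.emb
  have hdvd := hG.dvd
  rw [hpp] at hdvd
  rw [Pc_eq hS tS] at hf0
  have hpow : ∀ x ∈ U, x ^ a = 1 := by
    intro x hx
    have : ∀ n : ℕ, f (x ^ n) = n • f x := by
      intro n
      induction n with
      | zero => simpa using (hf0 1 U.one_mem).2 (one_mem _)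
      | succ n ih => rw [pow_succ, hf _ (pow_mem hx n) _ hx, ih, succ_nsmul]
    refine mem_bot.1 ((hf0 _ (pow_mem hx a)).1 ?_)
    rw [this]
    ext i
    simp
  obtain ⟨k, hk⟩ := mFT_odd W2
  have hk2 : (♯W2 - 1) / 2 = k := by omega
  rw [hk2] at hu
  have hk1 : 2 ≤ k := by omega
  have hpowk : ∀ x ∈ U, orderOf x ∣ k := by
    intro x hx
    have h1 : orderOf x ∣ 2 * k := by
      have := (orderOf_dvd_of_pow_eq_one (hpow x hx)).trans hdvd
      rwa [show ♯W2 - 1 = 2 * k by omega] at this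
    exact (Nat.Coprime.dvd_of_dvd_mul_left ((mFT_odd_orderOf x).coprime_two_right) h1)
  have hnc : ¬ IsCyclic U := by
    intro hc
    obtain ⟨x, hx⟩ := exists_zpowers_eq hc
    have h1 := hpowk x (hx ▸ mem_zpowers x)
    rw [← Nat.card_zpowers, hx, hu] at h1
    have := Nat.le_of_dvd (by omega) h1
    nlinarith
  have hab := abU hS tS
  have : ¬ IsZGroup U := fun hz => hnc (isCyclic_of_isZGroup_of_nil hz (nil_of_ab hab))
  rw [isZGroup_iff_syl] at this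
  push Not at this
  obtain ⟨r, hr, R0, hR0, hR0c⟩ := this
  have hR0ne : R0 ≠ ⊥ := by rintro rfl; exact hR0c inferInstance
  have hru : r ∣ ♯U := (dvd_card_of_isPGroup hR0.isPGroup hR0ne).trans (card_dvd hR0.le)
  have hrk : r ∣ k := by rw [hu] at hru; exact hr.out.dvd_of_dvd_pow hru
  have hrk' := Nat.le_of_dvd (by omega) hrk
  -- an element of `R0` centralizing an element of `P`
  have hcop : (♯(Fcore S)).Coprime ♯U :=
    (Ptype_Fcore_coprime tS).coprime_dvd_right (card_dvd le_sup_left)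
  obtain ⟨x, hx, hx1, hxP⟩ : ∃ x ∈ R0, x ≠ 1 ∧ Fcore S ⊓ 𝐂[x] ≠ ⊥ := by
    by_contra hc
    push Not at hc
    refine mmax_Fcore_neq1 hS (le_bot_iff.1 (coprime_abelian_gen_cent1 (ab_of_le hab hR0.le) hR0c
      (hR0.le.trans tS.defM'.le_norm) (hcop.coprime_dvd_right (card_dvd hR0.le)) fun a ha ha1 =>
      (hc a ha ha1).le))
  have hfacts := FTtypeI_II_facts hS h2.le (U := U) (by rw [FTder_typeP (by omega)]; exact tS.defM')
  have hCx : 𝐂[x] ≤ S := (hfacts.2.1 {x} (Set.singleton_nonempty x)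
    (by rintro _ rfl; exact ⟨hR0.le hx, hx1⟩) hxP).le
  have hrank := (hfacts.1 r hr.out R0 hR0).2
  -- `R0` is a Sylow subgroup of `S`
  have hR0S : Syl r R0 S := by
    refine ⟨hR0.le.trans (U_le tS), hR0.isPGroup, ?_⟩
    rw [← relIndex_mul_relIndex R0 U S hR0.le (U_le tS), hr.out.dvd_mul]
    rintro (h1 | h1)
    · exact hR0.not_dvd h1
    have e : U.relIndex S = ♯(Fcore S) * ♯W1 := by
      have e1 := cardS hS tS
      have e2 : ♯U * U.relIndex S = ♯S := by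
        exact_mod_cast card_mul_relIndexC (U_le tS)
      refine Nat.eq_of_mul_eq_mul_left (card_pos' U) ?_
      rw [e2, e1]; ring
    rw [e] at h1
    have hc2 : (♯(Fcore S) * ♯W1).Coprime ♯U :=
      Nat.Coprime.mul_left hcop (frobU hS tS).coprime.symm
    exact hr.out.one_lt.ne' (Nat.eq_one_of_dvd_coprimes hc2 h1 hru)
  obtain ⟨L, hL, hUL⟩ := mmax_exists (mFT_norm_proper (frobU hS tS).ker_ne_bot
    (ne_top_of_le_mmax hS (U_le tS)))
  obtain ⟨hF, hUH, -⟩ := FTtypeII_support_facts hS tS h2 (pair h) hL hUL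
  obtain ⟨y, -, hy⟩ := FTtype2_support_sdprod h hL hUL
  obtain ⟨E, hE⟩ := hF
  have hF := hE.compl_conj hy
  set R := Op r (Fcore L)
  have hR0R : R0 ≤ R := le_Op_of_nil (Fcore_nil L) (hR0.le.trans hUH) hR0.isPGroup
  have hRne : R ≠ ⊥ := fun e => hR0ne (le_bot_iff.1 (e ▸ hR0R))
  have hRp : IsPGroup r R := Op_isPGroup r _
  set Z := Ohm r (Zc R)
  have hZR : Z ≤ Zc R := Ohm_le _ _
  have hZne : Z ≠ ⊥ := Ohm_ne_bot (hRp.to_le (Zc_le R)) (Zc_ne_bot (Op_nil r _) hRne)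
  have hZe : IsElementaryAbelian r Z := Ohm_abelem r (Zc_ab R)
  have hZc : Z ≤ 𝐂(R0) := hZR.trans ((Zc_le_cent R).trans (cent_anti hR0R))
  have hZR0 : Z ≤ R0 := hR0S.le_of_norm ((hZc.trans (cent_le_cent1 hx)).trans hCx)
    (abelem_isPGroup hZe) (Or.inr (le_norm_of_le_cent hZc))
  obtain ⟨n, hn'⟩ := exists_isEp_of_abelem hZe hZR0
  have hn2 : n ≤ 2 := (hn'.le_rank hr.out).trans hrank
  have hLZ : L ≤ 𝐍(Z) := le_norm_Ohm r (le_norm_Zc (le_norm_Op r (Fcore_normal L).norm))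
  have hd : ♯(y •ᶜ W2) ∣ ♯Z - 1 :=
    (((hF.subr (R1 := y •ᶜ W2) (by simpa [conj_eq_bot_iff] using tS.W2_ne_bot) le_sup_right).subl hZne
      (hZR.trans ((Zc_le R).trans (Op_le _ _))) ((le_sup_right.trans hy.right_le).trans hLZ))).dvd_pred
  rw [card_conj, hn'.card] at hd
  have hr2 := hr.out.two_le
  have hd2 : ♯W2 ∣ (r + 1) * (r - 1) := by
    interval_cases n
    · exact absurd (card_eq_one_iff.1 (by simpa using hn'.card)) hZne
    · exact Dvd.dvd.mul_left (by simpa using hd) _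
    · rwa [← Nat.sq_sub_sq, one_pow]
  rcases (Nat.Prime.dvd_mul (prime2 h)).1 hd2 with h1 | h1
  · have := Nat.le_of_dvd (by omega) h1
    omega
  · have := Nat.le_of_dvd (by omega) h1
    omega

namespace P14

theorem frobL (h : Hyp14 S T U V W W1 W2) (hL : IsCoatom L) (hUL : 𝐍(U) ≤ L) :
    ∃ y ∈ Fcore T, IsFrob L (Fcore L) (W1 ⊔ y •ᶜ W2) := by
  obtain ⟨⟨E, hE⟩, -, -⟩ :=
    FTtypeII_support_facts h.maxS h.typeS (FTtypeP_max_typeII h) (pair h) hL hUL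
  obtain ⟨y, hy, hs⟩ := FTtype2_support_sdprod h hL hUL
  exact ⟨y, hy, hE.compl_conj hs⟩

theorem U_le_H (h : Hyp14 S T U V W W1 W2) (hL : IsCoatom L) (hUL : 𝐍(U) ≤ L) : U ≤ Fcore L :=
  (FTtypeII_support_facts h.maxS h.typeS (FTtypeP_max_typeII h) (pair h) hL hUL).2.1

theorem fixed_of_pow {F : Type} [Field F] [Fintype F] {p n : ℕ} [Fact p.Prime]
    (hF : Fintype.card F = p ^ n) (α : F ≃+* F) {z : F} (hz : z ^ p = z) : α z = z := by
  have : CharP F p := charP_of_card_eq_prime_pow hF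
  have h1 := (Subfield.mem_bot_iff_pow_eq_self F p).2 hz
  have h2 : (⊥ : Subfield F) ≤ RingHom.eqLocusField (α : F →+* F) (RingHom.id F) := bot_le
  exact h2 h1

end P14

/-- (14.7) together with (14.2) and B&G Theorem C -/
theorem FTtype2_compl_not_normal (h : Hyp14 S T U V W W1 W2) (hL : IsCoatom L) (hUL : 𝐍(U) ≤ L) :
    ¬ L ≤ 𝐍(U) := by
  intro hLU
  have hb := bounds h
  have hS := h.maxS
  have tS := h.typeS
  obtain ⟨y, hy, hF⟩ := frobL h hL hUL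
  have hyL : y •ᶜ W2 ≤ L := le_sup_right.trans hF.compl_le
  have hd : ♯(y •ᶜ W2) ∣ ♯U - 1 :=
    ((hF.subr (R1 := y •ᶜ W2) (by simpa [conj_eq_bot_iff] using tS.W2_ne_bot) le_sup_right).subl
      (frobU hS tS).ker_ne_bot (U_le_H h hL hUL) (hyL.trans hLU)).dvd_pred
  rw [card_conj] at hd
  have hu1 := modEq_of_dvd_pred (card_pos' U) hd
  have hg := FTtypeP_max_Galois h
  have hu := card_FTtypeP_Galois_compl hS tS hg
  obtain ⟨-, hm1, hm2⟩ := FTtypeP_primes_mod_cases (prime2 h) (prime1 h) (mFT_odd W2) (mFT_odd W1)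
  have hgs := gs_modEq (p := ♯W2) (n := ♯W1) (by omega) (by omega)
  by_cases hm : ♯W2 ≡ 1 [MOD ♯W1]
  · rw [if_pos hm] at hu
    have e : ♯W1 * ♯U = (♯W2 ^ ♯W1 - 1) / (♯W2 - 1) := by rw [hu, Nat.mul_div_cancel' (hm1 hm)]
    rw [← e] at hgs
    have h1 : ♯W1 * 1 ≡ 1 [MOD ♯W2] := (hu1.symm.mul_left _).trans hgs
    rw [mul_one] at h1
    have := Nat.le_of_dvd (by omega) ((Nat.modEq_iff_dvd' (by omega)).1 h1.symm)
    omega
  rw [if_neg hm] at hu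
  obtain ⟨hP, hpp, -⟩ := Ptype_Fcore_kernel_trivial hS tS
  obtain ⟨⟨F, _, _, φ, ψ, η, hG⟩, -⟩ := typeP_Galois_P hP hg
  have := Fact.mk (prime1 h)
  have := Fact.mk (prime2 h)
  have hcard := hG.card
  rw [hpp] at hcard
  have hψ1 : ∀ x ∈ U, ψ x = 1 → x = 1 := fun x hx e => by
    have := (hG.ψ_ker x hx).1 e
    rwa [Pc_eq hS tS, mem_bot] at this
  have hφ0 : ∀ x ∈ Fcore S, φ x = 0 → x = 1 := fun x hx e => mem_bot.1 ((hG.φ_ker x hx).1 e)
  have hφinj : Set.InjOn φ (Fcore S) := by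
    intro a ha b hb e
    have h1 := hG.φ_mul _ (mul_mem ha (inv_mem hb)) _ hb
    rw [inv_mul_cancel_right, e] at h1
    exact mul_inv_eq_one.1 (hφ0 _ (mul_mem ha (inv_mem hb)) (by linear_combination -h1))
  have hψinj : Set.InjOn ψ U := by
    intro a ha b hb e
    have h1 := hG.ψ_mul _ (mul_mem ha (inv_mem hb)) _ hb
    rw [inv_mul_cancel_right, e] at h1
    exact mul_inv_eq_one.1 (hψ1 _ (mul_mem ha (inv_mem hb))
      (mul_right_cancel₀ (hG.ψ_ne b hb) (by rw [← h1, one_mul])))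
  have hW2 : ∀ x ∈ Fcore S, φ x ^ ♯W2 = φ x → x ∈ W2 := by
    intro x hx e
    rw [← typeP_cent_core_compl tS]
    refine ⟨hx, mem_cent_iff.2 fun w hw => ?_⟩
    have h1 := hG.φ_η x hx w hw
    rw [fixed_of_pow hcard _ e] at h1
    have h2 := hφinj ((Fcore_normal S).conj_mem (W1_le tS hw) hx) hx h1
    exact mul_inv_eq_iff_eq_mul.1 h2
  have := prime_dim_normed_finField ♯W2 ♯W1 (hm2 hm).1 F hcard (Fcore S) U (Fcore T) φ ψ
    ⟨fun _ _ => trivial, hφinj, fun z _ => by obtain ⟨x, hx, e⟩ := hG.φ_surj z; exact ⟨x, hx, e⟩⟩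
    hG.φ_mul tS.defM'.le_norm (fun u hu => ⟨hG.ψ_ne u hu, fun x hx => hG.φ_ψ x hx u hu⟩) hG.ψ_mul hψinj
    (by rw [hu, gs_mul (by omega)]) (abelem_ab (abelemP h.maxT h.typeT))
    (by rw [cardP h.maxT h.typeT]; exact (cti h).coprime.pow_left _)
    (fun x hx e => (Fcore_normal T).norm (W1_le h.typeT (hW2 x hx e))) y hy
    (fun x hx e => hLU (hyL (conj_mem_conj (hW2 x hx e))))
  omega

/-- (14.8)(b) -/
theorem FTtypeP_complV_ltr (h : Hyp14 S T U V W W1 W2) : (♯U - 1) / ♯W1 < (♯V - 1) / ♯W2 :=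
  ltr_arith (bounds h).1 (bounds h).2 (cardU_le h.maxS h.typeS) (FTtypeP_min_Galois h).2
    (frobU h.maxS h.typeS).dvd_pred (frobU h.maxT h.typeT).dvd_pred

end Cfsg.Agent.OO.Pf
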