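import Cfsg.Agent.Lib.OO.Pf.PF14_A

/-! # Peterfalvi section 14, part B: (14.9) and the symmetric lemmas -/

set_option autoImplicit false
set_option linter.unusedSectionVars false
set_option linter.unusedVariables false

namespace Cfsg.Agent.OO.Pf

open Subgroup Cfsg.Agent.Coprime P14
open scoped Pointwise ComplexConjugate

universe u

variable {G : Type u} [Group G] [Finite G] [MinOdd G] {S T U V W W1 W2 L M : Subgroup G}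

namespace P14

theorem classSupp_sub_til (M : Subgroup G) (A : Set G) : classSupp A ⊤ ⊆ FTDadeSupp M A := by
  rintro _ ⟨a, ha, g, hg, rfl⟩
  exact Set.mem_biUnion ha ⟨a, by simp, g, hg, rfl⟩

theorem one_le_of_odd {a : ℂ} (h : EqCmod 2 a 1) : 1 ≤ ‖a‖ ^ 2 := by
  obtain ⟨z, hz⟩ := h
  have e : a = ((2 * z + 1 : ℤ) : ℂ) := by push_cast; linear_combination hz
  have : 1 ≤ ‖a‖ := IsCint.one_le_norm ⟨_, e⟩ (by
    rw [e]; exact_mod_cast (by omega : 2 * z + 1 ≠ 0))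
  nlinarith

theorem proj_img {Γ : Subgroup G} {X : Finset (G → ℂ)} {τ : (G → ℂ) → G → ℂ}
    (hX : ∀ χ ∈ X, IsIrr L χ) (hf : ∀ ξ ∈ X, ∀ η ∈ X, ⟪τ ξ, τ η⟫[Γ] = ⟪ξ, η⟫[L]) (β : G → ℂ) :
    ⟪β - ∑ ξ ∈ X, ⟪β, τ ξ⟫[Γ] • τ ξ, ∑ ξ ∈ X, ⟪β, τ ξ⟫[Γ] • τ ξ⟫[Γ] = 0 ∧
    cfnorm Γ (∑ ξ ∈ X, ⟪β, τ ξ⟫[Γ] • τ ξ) = ∑ ξ ∈ X, ‖⟪β, τ ξ⟫[Γ]‖ ^ 2 ∧
    ∑ ξ ∈ X, ‖⟪β, τ ξ⟫[Γ]‖ ^ 2 ≤ cfnorm Γ β := by
  classical
  have ho := (orthonormal_of_irr hX).image hf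
  have hi := (orthonormal_of_irr hX).injOn hf
  have e1 : ∑ ξ ∈ X, ⟪β, τ ξ⟫[Γ] • τ ξ = ∑ η ∈ X.image τ, ⟪β, η⟫[Γ] • η :=
    (Finset.sum_image (f := fun η => ⟪β, η⟫[Γ] • η) hi).symm
  have e2 : ∑ ξ ∈ X, ‖⟪β, τ ξ⟫[Γ]‖ ^ 2 = ∑ η ∈ X.image τ, ‖⟪β, η⟫[Γ]‖ ^ 2 :=
    (Finset.sum_image (f := fun η => ‖⟪β, η⟫[Γ]‖ ^ 2) hi).symm
  rw [e1, e2]
  refine ⟨?_, by convert ho.cfnorm_sum _, by convert ho.bessel β⟩
  nth_rw 2 [← e1]
  rw [cfdot_sumr]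
  refine Finset.sum_eq_zero fun ξ hξ => ?_
  rw [cfdotZr]
  have := ho.cfdot_sub_proj β (ξ := τ ξ) (by convert Finset.mem_image_of_mem τ hξ)
  rw [show ⟪β - ∑ η ∈ X.image τ, ⟪β, η⟫[Γ] • η, τ ξ⟫[Γ] = 0 by convert this, mul_zero]

theorem notConj_of_type (h : FTtype S ≠ FTtype T) : NotConj S T := fun g e => h (by rw [e, FTtype_conj])

theorem Pbridge_supp (hS : IsCoatom S) (tS : OfTypeP S U W W1 W2) {j : G → ℂ} (hj : IsIrr W2 j)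
    (hj0 : j ≠ cf1 W2) : FTDade0 S (Pbridge S W W1 W2 j) ∈
      suppOn (classSupp (sharp (Fcore S)) ⊤ ∪ classSupp (cycTIset W1 W2) ⊤) := by
  obtain ⟨⟨h1, h2⟩, -⟩ := FTtypeP_bridge_facts hS tS hj hj0
  rw [(FTtypeP_facts hS tS).2.2.2.2.2 _ h1]
  have := cfInd_suppOn ⊤ S h2.2
  rwa [classSupp_union, classSupp_classSupp _ le_top] at this

theorem PbridgeGap_vchar (hS : IsCoatom S) (tS : OfTypeP S U W W1 W2) {j : G → ℂ} (hj : IsIrr W2 j)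
    (hj0 : j ≠ cf1 W2) : PbridgeGap S W W1 W2 j ∈ ZIrr (⊤ : Subgroup G) := by
  obtain ⟨⟨h1, h2⟩, -⟩ := FTtypeP_bridge_facts hS tS hj hj0
  refine add_mem (sub_mem (Dade_vchar (FT_Dade0_hyp hS) (mem_ZIrrOn.2 ⟨?_, h1.2⟩)) (cf1_vchar _))
    (cycTIiso_vchar (FT_cyclicTI_hyp tS) (isIrr_cf1 _) hj)
  exact sub_mem (cfInd_vchar (sup_le (Fcore_le S) (W1_le tS)) (cf1_vchar _))
    (irr_vchar (prTIirr_irr (FT_primeTI_hyp tS) (isIrr_cf1 _) hj))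

end P14

/-- (14.9) -/
theorem FTtypeP_min_typeII (h : Hyp14 S T U V W W1 W2) : FTtype T = 2 := by
  classical
  by_contra h2
  have hS := h.maxS
  have tS := h.typeS
  have hT := h.maxT
  have tT := h.typeT
  have h3 : FTtype T = 3 := (FTtypeP_facts hT tT).1.1.resolve_left h2
  have hst := (FTtype34_structure (Ptype_Fcore_kernel_trivial hT tT).1 h2).1
  rw [FTtypeP_reg_Fcore hT tT, sup_bot_eq] at hst
  set X := seqIndD (der T) T (der T) (Fcore T) with hXdef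
  have hpr := FT_primeTI_hyp tT
  have hc' := FT_cyclicTI_hyp tT
  have hc := cti h
  have hidx : (der T).relIndex T = ♯W2 := tT.defM.relIndex_left
  have hQ : Fcore T ≤ der T := tT.defM'.left_le
  have hdeg : ∀ ζ ∈ X, ζ 1 = ♯W2 := by
    intro ζ hζ
    obtain ⟨θ, hθ, h1, -, rfl⟩ := mem_seqIndD.1 hζ
    rw [cfInd1 (der_le T), (lin_irr_der1 hθ ((tT.defM'.der_le_of_ab (abU hT tT)).trans h1)).one, hidx,
      mul_one]
  have hirr : ∀ ζ ∈ X, IsIrr T ζ := by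
    intro ζ hζ
    obtain ⟨θ, hθ, h1, h4, rfl⟩ := mem_seqIndD.1 hζ
    by_contra hn
    obtain ⟨j, hj, rfl, -⟩ := prTIred_of_not_irr hpr hθ hn
    rw [le_cfker_prTIres_iff hpr (Fcore_normal T) hQ hj, inf_eq_right.2 tT.W2_le, hj.le_cfker_iff] at h1
    subst h1
    rw [prTIres0 hpr, cfker_cf1] at h4
    exact h4 le_rfl
  have hcard : X.card = (♯V - 1) / ♯W2 := by
    have h1 := sum_seqIndD_square (der_normal T) le_rfl (der_normal T) (Fcore_normal T) hQ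
    rw [Finset.sum_congr rfl (g := fun _ => (♯W2 : ℂ) ^ 2)
      (fun ζ hζ => by rw [hdeg ζ hζ, cfdot_irr_self (hirr ζ hζ), div_one]), Finset.sum_const, hidx,
      tT.defM'.relIndex_left, nsmul_eq_mul] at h1
    have h4 : (X.card : ℂ) * ♯W2 = ((♯V - 1 : ℕ) : ℂ) := by
      rw [Nat.cast_pred (card_pos' V)]
      refine mul_left_cancel₀ (cardC_ne_zero W2) ?_
      rw [← h1]; ring
    have h5 : X.card * ♯W2 = ♯V - 1 := by exact_mod_cast h4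
    rw [← h5, Nat.mul_div_cancel _ (card_pos' W2)]
  have hsub : ConjSubset X (calSP T) :=
    seqInd_conjC_subset1 _ _ _ (FTcore_type_gt2 (by omega)).ge
  obtain ⟨R, hR⟩ := FTtypeP_coh_base hT tT
  have hsc := subset_subcoherent hR.subcoh hsub
  obtain ⟨τ1, hτ⟩ := uniform_degree_coherence hsc fun φ hφ ψ hψ => by rw [hdeg φ hφ, hdeg ψ hψ]
  obtain ⟨j, hj, hj0⟩ := exists_irr_ne_cf1 tS.W2_ne_bot
  obtain ⟨-, -, ⟨-, hΓ1, hΓr⟩, hbound, -⟩ := FTtypeP_bridge_facts hS tS hj hj0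
  have hΓv := PbridgeGap_vchar hS tS hj hj0
  have hβ : FTDade0 S (Pbridge S W W1 W2 j) =
      PbridgeGap S W W1 W2 j + cf1 ⊤ - cycTIeta ⊤ W W1 W2 (cf1 W1) j := by
    unfold PbridgeGap; abel
  set Γ := PbridgeGap S W W1 W2 j
  have horth : ∀ ζ ∈ X, ∀ k ∈ Irr W1, ∀ l ∈ Irr W2, ⟪τ1 ζ, cycTIeta ⊤ W W1 W2 k l⟫[⊤] = 0 := by
    intro ζ hζ k hk l hl
    rw [mem_Irr] at hk hl
    rw [← cycTIetaC hc hk hl]
    exact coherent_ortho_cycTIiso hT tT hsub hτ hζ (hirr ζ hζ) hl hk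
  have hsupp1 : FTsupp1 T = sharp (der T) := FTsupp1_type_gt2 (by omega)
  have hdisj : Disjoint (classSupp (sharp (Fcore S)) ⊤ ∪ classSupp (cycTIset W1 W2) ⊤) (A1til T) := by
    rw [Set.disjoint_union_left]
    refine ⟨Set.disjoint_of_subset_left ?_ (FT_Dade1_support_disjoint hS hT (notConj_of_type ?_)),
      (FT_Dade_support_partition.2.2.2.2.2.2 S T W W1 W2 (pair h)).1 T hT⟩
    · exact (classSupp_sub_til S _).trans (FT_Dade_supportS S (Fcore_sub_FTsupp1 hS))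
    · rw [FTtypeP_max_typeII h]; exact h2
  have hodd : ∀ ζ ∈ X, EqCmod 2 ⟪Γ, τ1 ζ⟫[⊤] 1 := by
    intro ζ hζ
    have hζT := seqInd_subT _ _ _ _ hζ
    have hν : prTIred T W W2 W1 (cf1 W1) = cfInd T (der T) (cf1 (der T)) := by
      rw [prTIred0 hpr, cfInd_cfun1 (der_normal T), hidx]
    have hαv := cfInd1_sub_lin_vchar (der_normal T) hζT (by rw [hdeg ζ hζ, hidx])
    have hαo := cfInd1_sub_lin_on (der_normal T) hζT (by rw [hdeg ζ hζ, hidx])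
    rw [← hν, ← hsupp1] at hαv hαo
    have hτv : FTDade0 T (prTIred T W W2 W1 (cf1 W1) - ζ) ∈ ZIrr (⊤ : Subgroup G) :=
      Dade_vchar (FT_Dade0_hyp hT) (zchar_onS (FTsupp1_sub0 hT) hαv)
    have hτs : FTDade0 T (prTIred T W W2 W1 (cf1 W1) - ζ) ∈ suppOn (A1til T) := by
      rw [← FT_Dade1E hT hαo, A1til, ← FT_Dade_supportE hT (FTsupp1_sub0 hT)]
      exact Dade_suppOn _ _ _ _
    have h0 := cfdot_complement (H := ⊤) (Pbridge_supp hS tS hj hj0) hτs hdisj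
    have hstar : star (FTDade0 T (prTIred T W W2 W1 (cf1 W1) - ζ) - cf1 ⊤ + τ1 ζ) =
        FTDade0 T (prTIred T W W2 W1 (cf1 W1) - ζ) - cf1 ⊤ + τ1 ζ := by
      have e1 := hτ.eq (hsc.sub_star_mem (ConjSubset.refl hsub.2) hζ)
      rw [star_add, star_sub, star_cf1, ← Dade_conjC, star_sub, ← prTIred_star hpr (isIrr_cf1 _),
        star_cf1, star_Dade_coherent (FT_Dade0_hyp hT) hτ (fun φ hφ => (hirr φ hφ).mem_CF) hsub.2 hζ
          (hirr ζ hζ) (hsc.not_real ζ hζ)]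
      rw [map_sub, map_sub] at e1
      rw [map_sub, map_sub]
      linear_combination (norm := abel) -e1
    obtain ⟨z, hz⟩ := cfdot_real_vchar_even (mFT_odd ⊤) hΓv hΓr
      (add_mem (sub_mem hτv (cf1_vchar _)) (hτ.vchar_mem hζ)) hstar
    have hdot : ∀ k, IsIrr W2 k → ⟪FTDade0 T (prTIred T W W2 W1 (cf1 W1) - ζ),
        cycTIeta ⊤ W W2 W1 k (cf1 W1)⟫[⊤] = if cf1 W2 = k then 1 else 0 := by
      intro k hk
      have e := hst ζ hζ k (mem_Irr.2 hk) _ (cf1_mem_Irr W1)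
      rw [cfdotBl, sub_eq_zero, cfdot_suml, Finset.sum_eq_single (cf1 W1)] at e
      · rw [e, cfdot_cycTIiso hc' (isIrr_cf1 _) (isIrr_cf1 _) hk (isIrr_cf1 _)]
        simp
      · intro b hb hb1
        exact cfdot_cycTIiso_ne hc' (isIrr_cf1 _) (mem_Irr.1 hb) hk (isIrr_cf1 _) (Or.inr hb1)
      · intro hn; exact absurd (cf1_mem_Irr W1) hn
    have d1 := hdot _ (isIrr_cf1 W2)
    have d2 := hdot _ hj
    rw [if_pos rfl, cycTIiso00 hc'] at d1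
    rw [if_neg hj0.symm, cycTIetaC hc (isIrr_cf1 _) hj] at d2
    rw [hβ, cfdotBl, cfdotDl, cfdotC (cf1 ⊤), d1, cfdot_symm0 d2] at h0
    rw [hΓ1, cfdotDr, cfdotBr, hΓ1] at hz
    exact ⟨z, by simp only [map_one] at h0; linear_combination hz - h0⟩
  obtain ⟨p1, p2, -⟩ := proj_img (τ := τ1) hirr (fun ξ hξ η hη => hτ.cfdot_mem hξ hη) Γ
  have hb := hbound _ _ (sub_add_cancel _ _).symm p1 (fun k hk l hl => by
    rw [cfdot_suml]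
    exact Finset.sum_eq_zero fun ζ hζ => by rw [cfdotZl, horth ζ hζ k hk l hl, mul_zero])
  rw [p2] at hb
  have h5 : (X.card : ℝ) ≤ ∑ ξ ∈ X, ‖⟪Γ, τ1 ξ⟫[⊤]‖ ^ 2 := by
    rw [Finset.card_eq_sum_ones]; push_cast
    exact Finset.sum_le_sum fun ζ hζ => one_le_of_odd (hodd ζ hζ)
  have h6 : X.card ≤ (♯U - 1) / ♯W1 := by exact_mod_cast h5.trans hb
  have := FTtypeP_complV_ltr h
  omega

namespace P14

theorem galois_reg (hS : IsCoatom S) (tS : OfTypeP S U W W1 W2) (hg : PGalois S U ⊥) {z : G}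
    (hz : z ∈ U) (h1 : Fcore S ⊓ 𝐂[z] ≠ ⊥) : z = 1 := by
  have hn : U ≤ 𝐍(Fcore S ⊓ 𝐂[z]) := by
    refine le_norm_inf tS.defM'.le_norm ?_
    rw [← cent_zpowers]
    exact le_norm_cent (le_norm_of_ab (abU hS tS) (zpowers_le.2 hz))
  have h2 := (hg _ bot_le inf_le_left hn).resolve_left h1
  have h3 : z ∈ U ⊓ 𝐂(Fcore S) := ⟨hz, le_cent1_iff.1 (inf_eq_left.1 h2)⟩
  rwa [FTtypeP_reg_Fcore hS tS, mem_bot] at h3

theorem sylP (hS : IsCoatom S) (tS : OfTypeP S U W W1 W2) : Syl ♯W2 (Fcore S) ⊤ := by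
  obtain ⟨q1, q2⟩ := FTtypeP_primes hS tS
  refine ⟨le_top, abelem_isPGroup (abelemP hS tS), fun hd => ?_⟩
  have := (FTcore_facts hS).1.coprime
  rw [cardP hS tS] at this
  exact q2.one_lt.ne' (Nat.eq_one_of_dvd_coprimes this (dvd_pow_self _ q1.ne_zero) hd)

/-- the loose symmetry of (14.11.3) -/
theorem coprime_core (hS : IsCoatom S) (tS : OfTypeP S U W W1 W2) (hg : PGalois S U ⊥) {g : G}
    (h1 : g ∉ classSupp (cycTIset W1 W2) ⊤) (h2 : g ∉ classSupp (sharp (Fcore S)) ⊤) :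
    (orderOf g).Coprime ♯W2 := by
  obtain ⟨q1, q2⟩ := FTtypeP_primes hS tS
  have := Fact.mk q2
  by_contra hc
  rw [Nat.coprime_comm, q2.coprime_iff_not_dvd, not_not] at hc
  have ho : orderOf (g ^ (orderOf g / ♯W2)) = ♯W2 := orderOf_pow_orderOf_div (orderOf_pos g).ne' hc
  set a := g ^ (orderOf g / ♯W2) with ha
  obtain ⟨x, -, hx⟩ := (sylP hS tS).exists_conj_le (Q := zpowers a) le_top
    (isPGroup_of_card_prime_pow (n := 1) (by rw [Nat.card_zpowers, ho, pow_one]))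
  have haP : x * a * x⁻¹ ∈ Fcore S := hx (conj_mem_conj (mem_zpowers a))
  have ha1 : x * a * x⁻¹ ≠ 1 := conj_ne_one.2 (by rintro e; rw [e, orderOf_one] at ho; exact q2.one_lt.ne ho)
  have hcomm : x * g * x⁻¹ ∈ 𝐂[x * a * x⁻¹] := by
    rw [cent1_conj]
    exact conj_mem_conj (mem_cent1.2 ((Commute.refl g).pow_right _))
  rw [← classSupp_conj_mem_iff (g := x) (mem_top x)] at h1 h2
  rw [← orderOf_conj x g] at hc
  generalize x * g * x⁻¹ = g' at *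
  generalize x * a * x⁻¹ = a' at *
  have hgS : g' ∈ S := (ti0 hS tS).cent1_le (Fcore_sub_FTsupp0 hS ⟨haP, ha1⟩) ⟨mem_top _, hcomm⟩
  have hg1 : g' ≠ 1 := by rintro rfl; rw [orderOf_one, Nat.dvd_one] at hc; exact q2.one_lt.ne' hc
  by_cases hd : g' ∈ der S
  · obtain ⟨y, hy, z, hz, rfl⟩ := tS.defM'.mem_iff.1 hd
    have hya : y ∈ 𝐂[a'] := mem_cent1.2 (ab_iff.1 (abelem_ab (abelemP hS tS)) y hy a' haP)
    have hza : z ∈ 𝐂[a'] := by simpa using mul_mem (inv_mem hya) hcomm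
    have hz1 : z = 1 := galois_reg hS tS hg hz fun e =>
      ha1 (mem_bot.1 (e ▸ (⟨haP, mem_cent1_comm.1 hza⟩ : a' ∈ Fcore S ⊓ 𝐂[z])))
    subst hz1
    exact h2 (subset_classSupp _ _ ⟨by simpa using hy, hg1⟩)
  have hF : FTder S = der S := FTder_typeP (FTtypeP_neq1 hS tS)
  have hidx : (der S).relIndex S = ♯W1 := tS.defM.relIndex_left
  have h0 : g' ∈ FTsupp0 S := by
    refine Or.inr ⟨hgS, fun hπ => ?_, fun hπ => hd ?_⟩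
    · rw [hF, hidx] at hπ
      have h3 := (hπ.mem (mem_primes.2 ⟨q2, hc⟩)).2
      exact q2.one_lt.ne' (Nat.eq_one_of_dvd_coprimes (FT_cyclicTI_hyp tS).coprime h3 dvd_rfl)
    · rw [hF] at hπ
      exact PiGrp.le_of_relIndex (piGrp_zpowers.2 hπ) (zpowers_le.2 hgS) (der_normal S).norm
        (isPiNum_primes _).compl_compl (mem_zpowers _)
  rw [FTtypeP_supp0_def hS tS] at h0
  rcases h0 with h0 | h0
  · exact hd (hF ▸ (FTsupp_sub_der S h0).1)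
  · exact h1 (classSupp_mono subset_rfl le_top h0)

theorem card_etaSet {Γ : Subgroup G} (h : CycTIHyp Γ W W1 W2) : (etaSet Γ W W1 W2).card = ♯W2 * ♯W1 := by
  rw [Finset.card_eq_sum_ones, sum_etaSet h]
  simp [h.card_Irr.1, h.card_Irr.2, mul_comm]

theorem DadeF_supp (hL : IsCoatom L) (α : G → ℂ) : FTDadeF L α ∈ suppOn (Atil L) := by
  refine suppOn_mono ?_ (Dade_suppOn _ _ _ α)
  rw [FT_Dade_supportE hL (Fcore_sub_FTsupp0 hL)]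
  exact FT_Dade_supportS L (Fcore_sub_FTsupp hL)

theorem one_lt_calSF {φ : G → ℂ} (hφ : φ ∈ calSF L) : 1 < (calSF L).card :=
  seqInd_nontrivial (mFT_odd L) (Fcore_normal L) le_rfl hφ

/-- (14.11.2), stated symmetrically -/
theorem support_coherence (hS : IsCoatom S) (tS : OfTypeP S U W W1 W2) (hT : IsCoatom T)
    (tT : OfTypeP T V W W2 W1) (hL : IsCoatom L) (h1 : FTtype L = 1) {τ1 : (G → ℂ) →+ (G → ℂ)}
    {φ : G → ℂ} (hτ : CoherentWith L ⊤ (calSF L) (sharp L) (FTDadeF L) τ1) (hφ : φ ∈ calSF L)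
    (hφ1 : φ 1 = (Fcore L).relIndex L)
    (hu : (((♯U - 1) / ♯W1 : ℕ) : ℝ) < ((♯(Fcore L) : ℝ) - 1) / (Fcore L).relIndex L)
    (hv : (((♯V - 1) / ♯W2 : ℕ) : ℝ) < ((♯(Fcore L) : ℝ) - 1) / (Fcore L).relIndex L)
    (he : (Fcore L).relIndex L ≤ ♯W2 * ♯W1) :
    (Fcore L).relIndex L = ♯W2 * ♯W1 ∧
    (∀ ξ ∈ etaSet ⊤ W W1 W2, EqCmod 2 ⟪FTDadeF L (Ibridge L φ), ξ⟫[⊤] 1) ∧
    ∃ χ, (χ = τ1 φ ∨ χ = -τ1 (star φ)) ∧ FTDadeF L (Ibridge L φ) =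
      ∑ ξ ∈ etaSet ⊤ W W1 W2, ⟪FTDadeF L (Ibridge L φ), ξ⟫[⊤] • ξ - χ := by
  have hc := FT_cyclicTI_hyp tS
  have hD := FT_DadeF_hyp hL
  have hirr := FTtype1_Ind_irr hL h1
  have hφs : star φ ∈ calSF L := star_seqInd hφ
  obtain ⟨⟨-, hB1, hBv, hBn⟩, -⟩ := Dade_Ind1_sub_lin hD hτ (one_lt_calSF hφ) (hirr φ hφ) hφ hφ1
    (β := FTDadeF L (Ibridge L φ)) rfl
  obtain ⟨j0, hj0, hj0'⟩ := exists_irr_ne_cf1 tS.W2_ne_bot
  obtain ⟨hdisj, horth, -⟩ := FTtypeI_bridge_facts hS tS hL h1 hτ hφ hφ1 hj0 hj0'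
  have hBφ : ⟪FTDadeF L (Ibridge L φ), τ1 φ - τ1 (star φ)⟫[⊤] = -1 := by
    have e := hτ.sub_smul (fun ξ hξ => (hirr ξ hξ).mem_CF) hφ hφs isCint_one
      (by rw [one_mul, cfConjCE, (Cnat_char1 (hirr φ hφ).isChar).conj_eq])
    rw [one_smul, one_smul] at e
    have hφT := seqInd_subT _ _ _ _ hφ
    rw [← e, Ibridge, Dade_isometry hD (cfInd1_sub_lin_on (Fcore_normal L) hφT hφ1)
      (seqInd_sub_conjC_on (Fcore_normal L) hφT), cfdotBl, cfdotBr, cfdotBr,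
      cfdot_symm0 (seqInd_ortho_Ind1 (Fcore_normal L) le_rfl hφ),
      cfdot_symm0 (seqInd_ortho_Ind1 (Fcore_normal L) le_rfl hφs), cfdot_irr_self (hirr φ hφ),
      seqInd_conjC_ortho (mFT_odd L) (Fcore_normal L) le_rfl hφ]
    ring
  have hvan : ∀ x ∈ cycTIset W1 W2, FTDadeF L (Ibridge L φ) x = 0 := fun x hx =>
    DadeF_supp hL _ x fun hx' => Set.disjoint_left.1 hdisj hx'
      (Or.inr (subset_classSupp _ _ (cycTIset_subset hc.defW hx).1))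
  have o1 : ∀ j, IsIrr W2 j → EqCmod 2 ⟪FTDadeF L (Ibridge L φ), cycTIeta ⊤ W W1 W2 (cf1 W1) j⟫[⊤] 1 := by
    intro j hj
    by_cases e : j = cf1 W2
    · rw [e, cycTIiso00 hc, hB1]; exact ⟨0, by simp⟩
    obtain ⟨-, -, -, h | h⟩ := FTtypeI_bridge_facts hS tS hL h1 hτ hφ hφ1 hj e
    · exact absurd h.2 hu.not_ge
    · exact h.1
  have o2 : ∀ i, IsIrr W1 i → EqCmod 2 ⟪FTDadeF L (Ibridge L φ), cycTIeta ⊤ W W1 W2 i (cf1 W2)⟫[⊤] 1 := by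
    intro i hi
    by_cases e : i = cf1 W1
    · rw [e]; exact o1 _ (isIrr_cf1 _)
    obtain ⟨-, -, -, h | h⟩ := FTtypeI_bridge_facts hT tT hL h1 hτ hφ hφ1 hi e
    · exact absurd h.2 hv.not_ge
    · rw [← cycTIetaC hc hi (isIrr_cf1 _)]; exact h.1
  set B := FTDadeF L (Ibridge L φ)
  have hodd : ∀ ξ ∈ etaSet ⊤ W W1 W2, EqCmod 2 ⟪B, ξ⟫[⊤] 1 := by
    intro ξ hξ
    obtain ⟨i, j, hi, hj, rfl⟩ := mem_etaSet.1 hξ
    have e := cycTIiso_cfdot_exchange hc (vchar_mem_CF hBv) hvan hi hj (isIrr_cf1 _) (isIrr_cf1 _)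
    obtain ⟨a, ha⟩ := o1 j hj
    obtain ⟨b, hb⟩ := o2 i hi
    rw [cycTIiso00 hc, hB1] at e
    exact ⟨a + b, by push_cast; linear_combination e + ha + hb⟩
  have hev : ∀ ξ ∈ etaSet ⊤ W W1 W2, ξ ∈ ZIrr (⊤ : Subgroup G) := by
    intro ξ hξ
    obtain ⟨i, j, hi, hj, rfl⟩ := mem_etaSet.1 hξ
    exact cycTIiso_vchar hc hi hj
  have heo : ∀ ψ ∈ calSF L, ⟪∑ ξ ∈ etaSet ⊤ W W1 W2, ⟪B, ξ⟫[⊤] • ξ, τ1 ψ⟫[⊤] = 0 := by
    intro ψ hψ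
    rw [cfdot_suml]
    refine Finset.sum_eq_zero fun ξ hξ => ?_
    obtain ⟨i, j, hi, hj, rfl⟩ := mem_etaSet.1 hξ
    rw [cfdotZl, cfdot_symm0 (horth ψ hψ i (mem_Irr.2 hi) j (mem_Irr.2 hj)), mul_zero]
  have hproj := (cycTIiso_orthonormal hc).cfnorm_proj B
  have hPv : ∑ ξ ∈ etaSet ⊤ W W1 W2, ⟪B, ξ⟫[⊤] • ξ ∈ ZIrr (⊤ : Subgroup G) :=
    Submodule.sum_mem _ fun ξ hξ => scale_zchar (Cint_cfdot_vchar hBv (hev ξ hξ)) (hev ξ hξ)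
  set P := ∑ ξ ∈ etaSet ⊤ W W1 W2, ⟪B, ξ⟫[⊤] • ξ
  have hχv : P - B ∈ ZIrr (⊤ : Subgroup G) := sub_mem hPv hBv
  have hχ1 : ⟪P - B, τ1 φ⟫[⊤] - ⟪P - B, τ1 (star φ)⟫[⊤] = 1 := by
    rw [← cfdotBr, cfdotBl, hBφ, cfdotBr, heo φ hφ, heo _ hφs]; ring
  have hχ0 : P - B ≠ 0 := fun e => by rw [e, cfdot0l, cfdot0l] at hχ1; simp at hχ1
  have n1 := cfnorm_vchar_ge1 hχv hχ0
  have n2 : ((♯W2 * ♯W1 : ℕ) : ℝ) ≤ ∑ ξ ∈ etaSet ⊤ W W1 W2, ‖⟪B, ξ⟫[⊤]‖ ^ 2 := by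
    rw [← card_etaSet hc, Finset.card_eq_sum_ones]; push_cast
    exact Finset.sum_le_sum fun ξ hξ => one_le_of_odd (hodd ξ hξ)
  rw [hBn, cfnorm_sub_comm] at hproj
  have he' : ((Fcore L).relIndex L : ℝ) ≤ (♯W2 * ♯W1 : ℕ) := by exact_mod_cast he
  have hd : IsDirr ⊤ (P - B) := vchar_norm1P hχv (by linarith)
  have d1 := hτ.dirr hφ (hirr φ hφ)
  have d2 := hτ.dirr hφs (hirr _ hφs)
  have d12 : ⟪τ1 φ, τ1 (star φ)⟫[⊤] = 0 := by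
    rw [hτ.cfdot_mem hφ hφs, seqInd_conjC_ortho (mFT_odd L) (Fcore_normal L) le_rfl hφ]
  refine ⟨le_antisymm he (by exact_mod_cast (by linarith : ((♯W2 * ♯W1 : ℕ) : ℝ) ≤
    ((Fcore L).relIndex L : ℝ))), hodd, P - B, ?_, by abel⟩
  by_cases h0 : ⟪P - B, τ1 φ⟫[⊤] = 0
  · right
    rw [h0, zero_sub, ← cfdotNr] at hχ1
    exact (cfdot_dirr_eq1 hd d2.neg).1 hχ1
  · left
    rcases hd.eq_or_eq_neg d1 h0 with e | e
    · exact e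
    · rw [e, cfdotNl, cfdotNl, d12, d1.cfdot_self] at hχ1
      norm_num at hχ1

theorem disjoint_type1 (hL : IsCoatom L) (hM : IsCoatom M) (h1 : FTtype L = 1) (h2 : FTtype M = 1)
    (hn : NotConj M L) :
    Disjoint (DadeSupp ⊤ L (sharp (Fcore L))) (DadeSupp ⊤ M (sharp (Fcore M))) := by
  rw [FT_Dade_supportE hL (Fcore_sub_FTsupp0 hL), FT_Dade_supportE hM (Fcore_sub_FTsupp0 hM),
    ← FTsupp1_type1 h1, ← FTsupp1_type1 h2]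
  exact FT_Dade1_support_disjoint hL hM hn

theorem type1_ortho (hL : IsCoatom L) (hM : IsCoatom M) (h1 : FTtype L = 1) (h2 : FTtype M = 1)
    (hn : NotConj M L) {τL τM : (G → ℂ) →+ (G → ℂ)}
    (hτL : CoherentWith L ⊤ (calSF L) (sharp L) (FTDadeF L) τL)
    (hτM : CoherentWith M ⊤ (calSF M) (sharp M) (FTDadeF M) τM) {φ ψ : G → ℂ} (hφ : φ ∈ calSF L)
    (hψ : ψ ∈ calSF M) : ⟪τL φ, τM ψ⟫[⊤] = 0 :=
  disjoint_coherent_ortho (mFT_odd ⊤) (FT_DadeF_hyp hL) (FT_DadeF_hyp hM) (disjoint_type1 hL hM h1 h2 hn)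
    hτL hτM (FTtype1_Ind_irr hL h1 φ hφ) hφ (FTtype1_Ind_irr hM h2 ψ hψ) hψ

/-- the inequality used in both branches of (14.14) -/
theorem core_ltr (hL : IsCoatom L) (hM : IsCoatom M) (h1 : FTtype L = 1) (h2 : FTtype M = 1)
    (hn : NotConj M L) {τL τM : (G → ℂ) →+ (G → ℂ)}
    (hτL : CoherentWith L ⊤ (calSF L) (sharp L) (FTDadeF L) τL)
    (hτM : CoherentWith M ⊤ (calSF M) (sharp M) (FTDadeF M) τM) {φ ψ : G → ℂ} (hφ : φ ∈ calSF L)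
    (hφ1 : φ 1 = (Fcore L).relIndex L) (hψ : ψ ∈ calSF M) (hψ1 : ψ 1 = (Fcore M).relIndex M)
    (ha : ⟪FTDadeF L (Ibridge L φ), τM ψ⟫[⊤] ≠ 0) :
    ♯(Fcore M) + (Fcore M).relIndex M ≤ (Fcore M).relIndex M * (Fcore L).relIndex L + 1 := by
  have hirrL := FTtype1_Ind_irr hL h1
  have hirrM := FTtype1_Ind_irr hM h2
  obtain ⟨⟨-, -, hBv, -⟩, ⟨Δ, -, -, -, ⟨a, -, hB, -⟩, hΔ⟩, -⟩ :=
    Dade_Ind1_sub_lin (FT_DadeF_hyp hL) hτL (one_lt_calSF hφ) (hirrL φ hφ) hφ hφ1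
      (β := FTDadeF L (Ibridge L φ)) rfl
  obtain ⟨⟨hM1, -⟩, -⟩ := Dade_Ind1_sub_lin (FT_DadeF_hyp hM) hτM (one_lt_calSF hψ) (hirrM ψ hψ) hψ hψ1 rfl
  have hΔn := (hΔ (odd_Frobenius_index_ler (mFT_odd L) (FTtype1_Frobenius hL h1))).2
  have hdot : ∀ ξ ∈ calSF M, ⟪Δ, τM ξ⟫[⊤] =
      conj (ξ 1 / (Fcore M).relIndex M) * ⟪FTDadeF L (Ibridge L φ), τM ψ⟫[⊤] := by
    intro ξ hξ
    have e1 : ⟪FTDadeF L (Ibridge L φ), τM ξ⟫[⊤] = ⟪Δ, τM ξ⟫[⊤] := by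
      rw [hB, cfdotDl, cfdotDl, cfdotBl, cfdot_symm0 (hM1 ξ hξ), type1_ortho hL hM h1 h2 hn hτL hτM hφ hξ,
        cfdotZl, cfdot_suml, Finset.sum_eq_zero fun ζ hζ => by
          rw [cfdotZl, type1_ortho hL hM h1 h2 hn hτL hτM hζ hξ, mul_zero]]
      ring
    obtain ⟨d, -, hd⟩ := dvd_index_seqInd1 (Fcore_le M) (seqInd_subT _ _ _ _ hξ)
    have e2 := hτM.sub_smul (fun ξ hξ => (hirrM ξ hξ).mem_CF) hξ hψ (isCint_natCast d) (by rw [hd, hψ1])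
    have e3 := disjoint_Dade_ortho (disjoint_type1 hL hM h1 h2 hn) (Ibridge L φ) (ξ - (d : ℂ) • ψ)
    rw [e2, cfdotBr, cfdotZr, e1, sub_eq_zero] at e3
    rw [e3, hd, mul_div_cancel_right₀ _ (relIndexC_ne_zero _ _)]
  obtain ⟨-, -, hb⟩ := proj_img (τ := τM) hirrM (fun ξ hξ η hη => hτM.cfdot_mem hξ hη) Δ
  have ha1 := (Cint_cfdot_vchar hBv (hτM.vchar_mem hψ)).one_le_norm ha
  have hsq := sum_seqIndD_square_re (Fcore_normal M) le_rfl (Fcore_normal M) (NormalIn.bot M) bot_le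
  rw [relIndex_bot_left] at hsq
  have he : (0 : ℝ) < (Fcore M).relIndex M := by
    exact_mod_cast Nat.pos_of_ne_zero (by exact_mod_cast relIndexC_ne_zero (Fcore M) M)
  have hle : ∑ ξ ∈ calSF M, (ξ 1).re ^ 2 / cfnorm M ξ ≤
      ((Fcore M).relIndex M : ℝ) ^ 2 * ∑ ξ ∈ calSF M, ‖⟪Δ, τM ξ⟫[⊤]‖ ^ 2 := by
    rw [Finset.mul_sum]
    refine Finset.sum_le_sum fun ξ hξ => ?_
    rw [hdot ξ hξ, cfnorm_irr (hirrM ξ hξ), div_one, norm_mul, RCLike.norm_conj, norm_div,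
      (hirrM ξ hξ).isChar.norm_one, Complex.norm_natCast, mul_pow, div_pow, ← mul_assoc,
      mul_div_cancel₀ _ (by positivity)]
    exact le_mul_of_one_le_right (by positivity) (by nlinarith)
  have : ((Fcore M).relIndex M : ℝ) * (♯(Fcore M) - 1) ≤
      ((Fcore M).relIndex M : ℝ) * ((Fcore M).relIndex M * ((Fcore L).relIndex L - 1)) := by
    rw [← hsq, ← mul_assoc, ← sq]
    exact hle.trans (by gcongr; exact hb.trans hΔn)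
  have := le_of_mul_le_mul_left this he
  exact_mod_cast (by linarith : (♯(Fcore M) : ℝ) + (Fcore M).relIndex M ≤
    (Fcore M).relIndex M * (Fcore L).relIndex L + 1)

end P14

end Cfsg.Agent.OO.Pf
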