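import Cfsg.Agent.Lib.OO.PF1
import Cfsg.Agent.Lib.OO.Basic

/-! # Peterfalvi section 2, first part -/

set_option autoImplicit false
set_option linter.unusedSectionVars false
set_option linter.unusedVariables false

namespace Cfsg.Agent.OO.Pf

open Subgroup Cfsg.Agent.Coprime
open scoped Pointwise commutatorElement ComplexConjugate

universe u v w

variable {G : Type u} [Group G] [Finite G]

variable {Γ H L : Subgroup G} {A A1 : Set G} {a b u x : G} {α β φ ψ : G → ℂ}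

namespace P2

/-- comparing the parts of two conjugate commuting products -/
theorem conj_eq_of_conj_mul {x y a b g : G} {n : ℕ} (hx : orderOf x ∣ n) (hy : orderOf y ∣ n)
    (ha : n.Coprime (orderOf a)) (hb : n.Coprime (orderOf b)) (hxa : Commute x a)
    (hyb : Commute y b) (e : g * (x * a) * g⁻¹ = y * b) : g * a * g⁻¹ = b := by
  have h1 : constt (primes n)ᶜ (x * a) = a := by
    rw [hxa.eq]
    exact constt_eq_of_mul (coprime_iff_isPiNum_compl.1 ha)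
      (isPiNum_primes_of_dvd hx).compl_compl hxa.symm
  have h2 : constt (primes n)ᶜ (y * b) = b := by
    rw [hyb.eq]
    exact constt_eq_of_mul (coprime_iff_isPiNum_compl.1 hb)
      (isPiNum_primes_of_dvd hy).compl_compl hyb.symm
  rw [← h2, ← e, constt_conj, h1]

theorem sum_fiber {ι κ M : Type*} [AddCommMonoid M] [DecidableEq κ] {S : Finset ι} {T : Finset κ}
    {f : ι → κ} (hf : ∀ s ∈ S, f s ∈ T) {n : ℕ}
    (hn : ∀ t ∈ T, (S.filter fun s => f s = t).card = n) (F : κ → M) :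
    ∑ s ∈ S, F (f s) = n • ∑ t ∈ T, F t := by
  rw [← Finset.sum_fiberwise_of_maps_to hf, Finset.smul_sum]
  refine Finset.sum_congr rfl fun t ht => ?_
  rw [Finset.sum_congr rfl fun p hp => by rw [(Finset.mem_filter.1 hp).2], Finset.sum_const, hn t ht]

end P2

open P2

/-- (2.1), existence part -/
theorem cent_rcoset_conj {g : G} (hg : g ∈ 𝐍(H)) (hc : (♯H).Coprime (orderOf g)) (hx : x ∈ H) :
    ∃ h ∈ H, ∃ c ∈ H ⊓ 𝐂[g], x * g = h * (c * g) * h⁻¹ := by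
  have hn : zpowers g ≤ 𝐍(H) := zpowers_le.2 hg
  have hc' : (♯H).Coprime ♯(zpowers g) := by rwa [Nat.card_zpowers]
  have hs := IsSdprod.of_coprime hn hc'
  have hH : Hall (piOf H) H (H ⊔ zpowers g) := (hs.isHallIn_left hc').hall
  have hm : x * g ∈ H ⊔ zpowers g := mul_mem (mem_sup_left hx) (mem_sup_right (mem_zpowers g))
  have hu : constt (piOf H) (x * g) ∈ H :=
    hH.mem_of_normal hs.normal.2 (constt_mem _ hm) (piElt_constt _ _)
  obtain ⟨h, hh, hle⟩ := hs.exists_le_conj hc' (L := zpowers (constt (piOf H)ᶜ (x * g)))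
    (zpowers_le.2 (constt_mem _ hm))
    (by rw [Nat.card_zpowers]; exact coprime_iff_isPiNum_compl.2 (piElt_constt _ _))
    (Or.inr (Or.inl (sol_of_ab (ab_of_isCyclic inferInstance))))
  have hv := mem_conj.1 (hle (mem_zpowers _))
  set u := constt (piOf H) (x * g) with hud
  set v := constt (piOf H)ᶜ (x * g) with hvd
  have huv : u * v = x * g := constt_mul_constt_compl _ _
  have hcm : Commute u v := commute_constt_constt _ _ _
  have h1 : h⁻¹ * v * h * g⁻¹ = 1 := by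
    have : h⁻¹ * v * h * g⁻¹ ∈ H ⊓ zpowers g := by
      refine mem_inf.2 ⟨?_, mul_mem hv (inv_mem (mem_zpowers g))⟩
      have e : h⁻¹ * v * h * g⁻¹ = h⁻¹ * u⁻¹ * x * (g * h * g⁻¹) := by
        rw [show v = u⁻¹ * (x * g) by rw [← huv]; group]; group
      rw [e]
      exact mul_mem (mul_mem (mul_mem (inv_mem hh) (inv_mem hu)) hx) (conj_mem_of_norm hg hh)
    rwa [hs.inf_eq, mem_bot] at this
  have h2 : g = h⁻¹ * v * h := (mul_inv_eq_one.1 h1).symm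
  refine ⟨h, hh, h⁻¹ * u * h, mem_inf.2 ⟨mul_mem (mul_mem (inv_mem hh) hu) hh, mem_cent1.2 ?_⟩, ?_⟩
  · rw [h2, show h⁻¹ * u * h * (h⁻¹ * v * h) = h⁻¹ * (u * v) * h by group, hcm.eq]; group
  · rw [← huv]
    conv_rhs => rw [h2]
    group

/-- (2.1), as a summation formula -/
theorem sum_cent_rcoset {g : G} (hg : g ∈ 𝐍(H)) (hc : (♯H).Coprime (orderOf g)) {f : G → ℂ}
    (hf : ∀ h ∈ H, ∀ y, f (h * y * h⁻¹) = f y) :
    (♯H : ℂ)⁻¹ * ∑ x ∈ elts (H : Set G), f (x * g) =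
      (♯(H ⊓ 𝐂[g]) : ℂ)⁻¹ * ∑ x ∈ elts ((H ⊓ 𝐂[g] : Subgroup G) : Set G), f (x * g) := by
  classical
  have h1 := sum_fiber (S := elts (H : Set G) ×ˢ elts ((H ⊓ 𝐂[g] : Subgroup G) : Set G))
    (T := elts (H : Set G)) (f := fun p => p.1 * (p.2 * g) * p.1⁻¹ * g⁻¹) (n := ♯(H ⊓ 𝐂[g]))
    (fun p hp => by
      simp only [Finset.mem_product, mem_elts, SetLike.mem_coe] at hp ⊢
      rw [show p.1 * (p.2 * g) * p.1⁻¹ * g⁻¹ = p.1 * p.2 * (g * p.1⁻¹ * g⁻¹) by group]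
      exact mul_mem (mul_mem hp.1 hp.2.1) (conj_mem_of_norm hg (inv_mem hp.1)))
    (fun t ht => by
      obtain ⟨h, hh, c, hcm, e⟩ := cent_rcoset_conj hg hc (mem_elts.1 ht)
      rw [← card_elts]
      symm
      refine Finset.card_bij (fun k _ => (h * k⁻¹, k * c * k⁻¹)) (fun k hk => ?_)
        (fun y _ z _ e => by simpa using congrArg Prod.fst e) fun p hp => ?_
      · have hk : k ∈ H ⊓ 𝐂[g] := mem_elts.1 hk
        simp only [Finset.mem_filter, Finset.mem_product, mem_elts, SetLike.mem_coe]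
        refine ⟨⟨mul_mem hh (inv_mem hk.1), mul_mem (mul_mem hk hcm) (inv_mem hk)⟩, ?_⟩
        have h3 : k⁻¹ * g * k = g := by
          rw [mul_assoc, ← mem_cent1.1 hk.2, inv_mul_cancel_left]
        rw [mul_inv_eq_iff_eq_mul, e]
        conv_rhs => rw [← h3]
        group
      · simp only [Finset.mem_filter, Finset.mem_product, mem_elts, SetLike.mem_coe] at hp
        obtain ⟨⟨h1, h2⟩, h3⟩ := hp
        rw [mul_inv_eq_iff_eq_mul, e] at h3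
        have h4 : p.1⁻¹ * h * (c * g) * (p.1⁻¹ * h)⁻¹ = p.2 * g := by
          rw [show p.1⁻¹ * h * (c * g) * (p.1⁻¹ * h)⁻¹ = p.1⁻¹ * (h * (c * g) * h⁻¹) * p.1 by group,
            ← h3]; group
        have h5 := conj_eq_of_conj_mul (orderOf_dvd_card hcm.1) (orderOf_dvd_card h2.1) hc hc
          (mem_cent1.1 hcm.2) (mem_cent1.1 h2.2) h4
        refine ⟨p.1⁻¹ * h, mem_elts.2 (mem_inf.2 ⟨mul_mem (inv_mem h1) hh, mem_cent1_iff_conj.2 h5⟩), ?_⟩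
        ext
        · simp
        · simp only
          rw [← mul_right_cancel_iff (a := g), ← h4]
          conv_lhs => rw [← h5]
          group)
    fun t => f (t * g)
  simp only [inv_mul_cancel_right] at h1
  rw [Finset.sum_product, Finset.sum_congr rfl fun h hh => Finset.sum_congr rfl fun c _ =>
    hf h (mem_elts.1 hh) (c * g), sum_elts_const, nsmul_eq_mul, nsmul_eq_mul] at h1
  have := cardC_ne_zero H
  have := cardC_ne_zero (H ⊓ 𝐂[g])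
  field_simp
  rw [h1, mul_comm]

theorem def_Dade_signalizer {K : Subgroup G} (hK : IsSdprod K (L ⊓ 𝐂[a]) (Γ ⊓ 𝐂[a]))
    (hc : (♯K).Coprime ♯(L ⊓ 𝐂[a])) : DadeSig Γ L a = K :=
  Opi_eq_of_normal_hall (hK.hall_left (coprime_iff_isPiNum_compl'.1 hc) (piGrp_piOf _).compl_compl)
    hK.normal.2

theorem Dade_sdprod (h : DadeHyp Γ L A) (ha : a ∈ A) :
    IsSdprod (DadeSig Γ L a) (L ⊓ 𝐂[a]) (Γ ⊓ 𝐂[a]) := by
  obtain ⟨K, h1, h2⟩ := h.sig
  rw [def_Dade_signalizer (h1 a ha) (h2 a ha a ha)]; exact h1 a ha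

theorem Dade_coprime (h : DadeHyp Γ L A) (ha : a ∈ A) (hb : b ∈ A) :
    (♯(DadeSig Γ L a)).Coprime ♯(L ⊓ 𝐂[b]) := by
  obtain ⟨K, h1, h2⟩ := h.sig
  rw [def_Dade_signalizer (h1 a ha) (h2 a ha a ha)]; exact h2 a ha b hb

theorem Dade_signalizer_sub (Γ L : Subgroup G) (a : G) : DadeSig Γ L a ≤ Γ :=
  (Opi_le _ _).trans inf_le_left

theorem Dade_signalizer_cent (Γ L : Subgroup G) (a : G) : DadeSig Γ L a ≤ 𝐂[a] :=
  (Opi_le _ _).trans inf_le_right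

/-- (2.3) -/
theorem normedTI_Dade (h : NormedTI A Γ L) (hA : A ⊆ sharp Γ) :
    DadeHyp Γ L A ∧ ∀ a ∈ A, DadeSig Γ L a = ⊥ := by
  have h1 : ∀ a ∈ A, IsSdprod ⊥ (L ⊓ 𝐂[a]) (Γ ⊓ 𝐂[a]) := fun a ha => by
    rw [h.inf_cent1_eq ha]; exact IsSdprod.bot_left _
  refine ⟨⟨h.subset fun a ha => (hA ha).1, h.conj_mem, h.le, fun h1 => (hA h1).2 rfl,
    fun a ha g hg h' => ⟨g, h.mem_of_conj g hg a ha h', rfl⟩, fun _ => ⊥, h1, fun _ _ _ _ => by simp⟩,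
    fun a ha => def_Dade_signalizer (h1 a ha) (by simp)⟩

theorem Dade_normedTI_P (h : DadeHyp Γ L A) :
    NormedTI A Γ L ↔ A.Nonempty ∧ ∀ a ∈ A, DadeSig Γ L a = ⊥ := by
  refine ⟨fun hT => ⟨hT.nonempty, (normedTI_Dade hT fun a ha =>
    ⟨h.le (h.subset ha), fun e => h.one_not_mem (by rwa [← Set.mem_singleton_iff.1 e])⟩).2⟩,
    fun ⟨h1, h2⟩ => ⟨h1, h.le, h.conj_mem, fun g hg a ha h' => ?_⟩⟩
  obtain ⟨t, ht, e⟩ := h.fusion a ha g hg h'
  have h3 := (Dade_sdprod h ha).sup_eq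
  rw [h2 a ha, bot_sup_eq] at h3
  have h4 : t⁻¹ * g ∈ Γ ⊓ 𝐂[a] := mem_inf.2 ⟨mul_mem (inv_mem (h.le ht)) hg, mem_cent1_iff_conj.2 (by
    rw [show t⁻¹ * g * a * (t⁻¹ * g)⁻¹ = t⁻¹ * (g * a * g⁻¹) * t by group, e]; group)⟩
  rw [← h3] at h4
  simpa using mul_mem ht h4.1

/-- (2.4)(a) -/
theorem DadeJ (hL : L ≤ Γ) (a : G) (hx : x ∈ L) :
    DadeSig Γ L (x * a * x⁻¹) = x •ᶜ DadeSig Γ L a := by
  have h1 : L ⊓ 𝐂[x * a * x⁻¹] = x •ᶜ (L ⊓ 𝐂[a]) := by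
    rw [conj_inf, conj_eq_of_mem hx, cent1_conj]
  have h2 : Γ ⊓ 𝐂[x * a * x⁻¹] = x •ᶜ (Γ ⊓ 𝐂[a]) := by
    rw [conj_inf, conj_eq_of_mem (hL hx), cent1_conj]
  rw [DadeSig, DadeSig, h1, h2, piOf_conj, Opi_conj]

theorem mem_Dade_support1 (hu : u ∈ DadeSig Γ L a) : u * a ∈ DadeSupp1 Γ L a :=
  subset_classSupp _ _ (by simpa using hu)

theorem Dade_support1_id (Γ L : Subgroup G) (a : G) : a ∈ DadeSupp1 Γ L a := by
  simpa using mem_Dade_support1 (one_mem (DadeSig Γ L a))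

namespace P2
theorem mem_supp1 : u ∈ DadeSupp1 Γ L a ↔ ∃ x ∈ DadeSig Γ L a, ∃ g ∈ Γ, u = g * (x * a) * g⁻¹ :=
  ⟨fun ⟨y, hy, g, hg, e⟩ => ⟨y * a⁻¹, hy, g, hg, by simpa using e⟩,
    fun ⟨x, hx, g, hg, e⟩ => ⟨x * a, by simpa using hx, g, hg, e⟩⟩

theorem supp1J_subset (hL : L ≤ Γ) (a : G) (hx : x ∈ L) :
    DadeSupp1 Γ L a ⊆ DadeSupp1 Γ L (x * a * x⁻¹) := fun u hu => by
  obtain ⟨y, hy, g, hg, rfl⟩ := mem_supp1.1 hu
  exact mem_supp1.2 ⟨x * y * x⁻¹, by rw [DadeJ hL a hx]; exact conj_mem_conj hy, g * x⁻¹,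
    mul_mem hg (inv_mem (hL hx)), by group⟩
end P2

theorem Dade_support1J (hL : L ≤ Γ) (a : G) (hx : x ∈ L) :
    DadeSupp1 Γ L (x * a * x⁻¹) = DadeSupp1 Γ L a :=
  (supp1J_subset hL a hx).antisymm' (by
    simpa [mul_assoc] using supp1J_subset hL (x * a * x⁻¹) (inv_mem hx))

theorem Dade_signalizer_coprime_orderOf (h : DadeHyp Γ L A) (ha : a ∈ A) (hb : b ∈ A) :
    (♯(DadeSig Γ L a)).Coprime (orderOf b) :=
  (Dade_coprime h ha hb).coprime_dvd_right (orderOf_dvd_card (mem_inf.2 ⟨h.subset hb, mem_cent1_self b⟩))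

namespace P2
theorem conj_eq_of_sig (h : DadeHyp Γ L A) (ha : a ∈ A) (hb : b ∈ A) {y g : G}
    (hx : x ∈ DadeSig Γ L a) (hy : y ∈ DadeSig Γ L b) (e : g * (x * a) * g⁻¹ = y * b) :
    g * a * g⁻¹ = b :=
  conj_eq_of_conj_mul (n := ♯(DadeSig Γ L a) * ♯(DadeSig Γ L b))
    ((orderOf_dvd_card hx).mul_right _) ((orderOf_dvd_card hy).mul_left _)
    (Nat.Coprime.mul_left (Dade_signalizer_coprime_orderOf h ha ha)
      (Dade_signalizer_coprime_orderOf h hb ha))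
    (Nat.Coprime.mul_left (Dade_signalizer_coprime_orderOf h ha hb)
      (Dade_signalizer_coprime_orderOf h hb hb))
    (mem_cent1.1 (Dade_signalizer_cent _ _ _ hx)) (mem_cent1.1 (Dade_signalizer_cent _ _ _ hy)) e
end P2

/-- (2.4)(b) -/
theorem Dade_support1_TI (h : DadeHyp Γ L A) (ha : a ∈ A) (hb : b ∈ A)
    (hd : ¬ Disjoint (DadeSupp1 Γ L a) (DadeSupp1 Γ L b)) : ∃ x ∈ L, b = x * a * x⁻¹ := by
  obtain ⟨u, h1, h2⟩ := Set.not_disjoint_iff.1 hd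
  obtain ⟨x, hx, g, hg, rfl⟩ := mem_supp1.1 h1
  obtain ⟨y, hy, k, hk, e⟩ := mem_supp1.1 h2
  have h3 := conj_eq_of_sig h ha hb (g := k⁻¹ * g) hx hy (by
    rw [show k⁻¹ * g * (x * a) * (k⁻¹ * g)⁻¹ = k⁻¹ * (g * (x * a) * g⁻¹) * k by group, e]; group)
  obtain ⟨t, ht, e'⟩ := h.fusion a ha (k⁻¹ * g) (mul_mem (inv_mem hk) hg) (h3 ▸ hb)
  exact ⟨t, ht, by rw [← e', h3]⟩

/-- (2.4)(c) -/
theorem Dade_cover_TI (h : DadeHyp Γ L A) (ha : a ∈ A) :
    NormedTI {y | y * a⁻¹ ∈ DadeSig Γ L a} Γ (Γ ⊓ 𝐂[a]) := by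
  refine ⟨⟨a, by simp⟩, inf_le_left, fun g hg y hy => ?_, fun g hg y hy h' => ⟨hg, ?_⟩⟩
  · have h1 := (Dade_sdprod h ha).normal.conj_mem hg hy
    have h2 := mem_cent1_iff_conj.1 hg.2
    rw [Set.mem_ofPred_eq]
    convert h1 using 1
    conv_lhs => rw [← h2]
    group
  · exact mem_cent1_iff_conj.2 (conj_eq_of_sig h ha ha hy h' (by simp))

theorem Dade_support1_conj {g : G} (hg : g ∈ Γ) :
    g * u * g⁻¹ ∈ DadeSupp1 Γ L a ↔ u ∈ DadeSupp1 Γ L a := classSupp_conj_mem_iff hg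

theorem mem_DadeSupp : u ∈ DadeSupp Γ L A ↔ ∃ a ∈ A, u ∈ DadeSupp1 Γ L a := by
  simp [DadeSupp]

theorem Dade_support_norm {g : G} (hg : g ∈ Γ) :
    g * u * g⁻¹ ∈ DadeSupp Γ L A ↔ u ∈ DadeSupp Γ L A := by
  simp only [mem_DadeSupp, Dade_support1_conj hg]

theorem Dade_support_sub (h : DadeHyp Γ L A) : DadeSupp Γ L A ⊆ Γ := fun u hu => by
  obtain ⟨a, ha, hu⟩ := mem_DadeSupp.1 hu
  obtain ⟨x, hx, g, hg, rfl⟩ := mem_supp1.1 hu
  exact mul_mem (mul_mem hg (mul_mem (Dade_signalizer_sub _ _ _ hx) (h.le (h.subset ha)))) (inv_mem hg)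

theorem not_support_Dade_1 (h : DadeHyp Γ L A) : (1 : G) ∉ DadeSupp Γ L A := fun hu => by
  obtain ⟨a, ha, hu⟩ := mem_DadeSupp.1 hu
  obtain ⟨x, hx, g, hg, e⟩ := mem_supp1.1 hu
  have h1 := conj_eq_of_conj_mul (y := 1) (b := 1) (g := g) (orderOf_dvd_card hx) (by simp)
    (Dade_signalizer_coprime_orderOf h ha ha) (by simp) (mem_cent1.1 (Dade_signalizer_cent _ _ _ hx))
    (Commute.refl 1) (by rw [← e, mul_one])
  exact conj_ne_one.2 (fun e => h.one_not_mem (e ▸ ha)) h1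

theorem Dade_support_subD1 (h : DadeHyp Γ L A) : DadeSupp Γ L A ⊆ sharp Γ := fun u hu =>
  ⟨Dade_support_sub h hu, fun e => not_support_Dade_1 h (Set.mem_singleton_iff.1 e ▸ hu)⟩

theorem subset_Dade_support (Γ L : Subgroup G) (A : Set G) : A ⊆ DadeSupp Γ L A :=
  fun a ha => mem_DadeSupp.2 ⟨a, ha, Dade_support1_id Γ L a⟩

theorem DadeHyp.subset_sharp (h : DadeHyp Γ L A) : A ⊆ sharp L := fun a ha =>
  ⟨h.subset ha, fun e => h.one_not_mem (Set.mem_singleton_iff.1 e ▸ ha)⟩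

theorem mem_Dade_support (ha : a ∈ A) (hx : x ∈ DadeSig Γ L a) : x * a ∈ DadeSupp Γ L A :=
  mem_DadeSupp.2 ⟨a, ha, mem_Dade_support1 hx⟩

theorem Dade_support_mono (Γ L : Subgroup G) (h : A1 ⊆ A) : DadeSupp Γ L A1 ⊆ DadeSupp Γ L A :=
  fun u hu => let ⟨a, ha, h'⟩ := mem_DadeSupp.1 hu; mem_DadeSupp.2 ⟨a, h ha, h'⟩

theorem Dade_support_normedTI (h : DadeHyp Γ L A) (hTI : NormedTI A Γ L) :
    DadeSupp Γ L A = classSupp A Γ := by
  refine Set.Subset.antisymm (fun u hu => ?_) (classSupp_subset_of_conj (subset_Dade_support Γ L A)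
    fun g hg b hb => (Dade_support_norm hg).2 hb)
  obtain ⟨a, ha, hu⟩ := mem_DadeSupp.1 hu
  obtain ⟨x, hx, g, hg, rfl⟩ := mem_supp1.1 hu
  rw [((Dade_normedTI_P h).1 hTI).2 a ha, mem_bot] at hx
  rw [hx, one_mul]
  exact conj_mem_classSupp ha hg

/-- summation over the support of the Dade isometry -/
theorem sum_Dade_support (h : DadeHyp Γ L A) {f : G → ℂ}
    (hf : ∀ g ∈ Γ, ∀ x, f (g * x * g⁻¹) = f x) :
    (♯Γ : ℂ)⁻¹ * ∑ u ∈ elts (DadeSupp Γ L A), f u = (♯L : ℂ)⁻¹ * ∑ a ∈ elts A,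
      (♯(DadeSig Γ L a) : ℂ)⁻¹ * ∑ x ∈ elts (DadeSig Γ L a : Set G), f (x * a) := by
  classical
  -- triples `(a, x, g)`
  let S : Finset ((_ : G) × G × G) :=
    (elts A).sigma fun a => elts (DadeSig Γ L a : Set G) ×ˢ elts (Γ : Set G)
  have hS : ∀ p, p ∈ S ↔ p.1 ∈ A ∧ p.2.1 ∈ DadeSig Γ L p.1 ∧ p.2.2 ∈ Γ := fun p => by simp [S]
  have h1 : ∑ p ∈ S, (♯(DadeSig Γ L p.1) : ℂ)⁻¹ * f (p.2.2 * (p.2.1 * p.1) * p.2.2⁻¹) =
      ♯Γ * ∑ a ∈ elts A,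
        (♯(DadeSig Γ L a) : ℂ)⁻¹ * ∑ x ∈ elts (DadeSig Γ L a : Set G), f (x * a) := by
    rw [Finset.sum_sigma, Finset.mul_sum]
    refine Finset.sum_congr rfl fun a _ => ?_
    rw [Finset.sum_product, Finset.mul_sum, Finset.mul_sum]
    refine Finset.sum_congr rfl fun x _ => ?_
    dsimp only
    rw [Finset.sum_congr rfl fun g hg => by rw [hf g (mem_elts.1 hg)], sum_elts_const, nsmul_eq_mul]
  have h2 : ∑ p ∈ S, (♯(DadeSig Γ L p.1) : ℂ)⁻¹ * f (p.2.2 * (p.2.1 * p.1) * p.2.2⁻¹) =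
      ♯L * ∑ u ∈ elts (DadeSupp Γ L A), f u := by
    rw [← Finset.sum_fiberwise_of_maps_to (t := elts (DadeSupp Γ L A))
      (g := fun p : (_ : G) × G × G => p.2.2 * (p.2.1 * p.1) * p.2.2⁻¹) (fun p hp => by
        obtain ⟨h1, h2, h3⟩ := (hS p).1 hp
        exact mem_elts.2 ((Dade_support_norm h3).2 (mem_Dade_support h1 h2))), Finset.mul_sum]
    refine Finset.sum_congr rfl fun u hu => ?_
    obtain ⟨a, ha, hu⟩ := mem_DadeSupp.1 (mem_elts.1 hu)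
    obtain ⟨x, hx, g, hg, rfl⟩ := mem_supp1.1 hu
    have hb := Finset.sum_bij (s := elts (DadeSig Γ L a : Set G) ×ˢ elts (L : Set G))
      (t := S.filter fun p => p.2.2 * (p.2.1 * p.1) * p.2.2⁻¹ = g * (x * a) * g⁻¹)
      (f := fun _ => (♯(DadeSig Γ L a) : ℂ)⁻¹ * f (g * (x * a) * g⁻¹))
      (g := fun p => (♯(DadeSig Γ L p.1) : ℂ)⁻¹ * f (p.2.2 * (p.2.1 * p.1) * p.2.2⁻¹))
      (fun q _ => ⟨q.2⁻¹ * a * q.2, (q.1 * q.2)⁻¹ * x * (q.1 * q.2), g * q.1 * q.2⟩)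
      (fun q hq => ?_) (fun q hq r hr e => ?_) (fun p hp => ?_) (fun q hq => ?_)
    · rw [← hb, Finset.sum_const, Finset.card_product, card_elts, card_elts, nsmul_eq_mul,
        Nat.cast_mul]
      have := cardC_ne_zero (DadeSig Γ L a)
      field_simp
    · simp only [Finset.mem_product, mem_elts, SetLike.mem_coe] at hq
      have h3 := mem_cent1.1 (Dade_signalizer_cent _ _ _ hq.1)
      rw [Finset.mem_filter, hS]
      refine ⟨⟨by simpa using h.conj_mem _ (inv_mem hq.2) a ha, ?_,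
        mul_mem (mul_mem hg (Dade_signalizer_sub _ _ _ hq.1)) (h.le hq.2)⟩, ?_⟩
      · have := DadeJ h.le a (inv_mem hq.2)
        rw [inv_inv] at this
        simp only [this, mem_conj]
        rw [show q.2⁻¹⁻¹ * ((q.1 * q.2)⁻¹ * x * (q.1 * q.2)) * q.2⁻¹ = q.1⁻¹ * x * q.1 by group]
        exact mul_mem (mul_mem (inv_mem hq.1) hx) hq.1
      · simp only
        rw [show g * q.1 * q.2 * ((q.1 * q.2)⁻¹ * x * (q.1 * q.2) * (q.2⁻¹ * a * q.2)) *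
          (g * q.1 * q.2)⁻¹ = g * x * (q.1 * a) * q.1⁻¹ * g⁻¹ by group, h3]
        group
    · simp only [Finset.mem_product, mem_elts, SetLike.mem_coe] at hq hr
      simp only [Sigma.mk.injEq, heq_eq_eq, Prod.mk.injEq] at e
      have e1 : q.1 * q.2 = r.1 * r.2 := by simpa [mul_assoc] using e.2.2
      have e2 : r.1⁻¹ * q.1 = r.2 * q.2⁻¹ := by
        rw [inv_mul_eq_iff_eq_mul, ← mul_assoc, ← e1, mul_inv_cancel_right]
      have h3 : r.1⁻¹ * q.1 ∈ DadeSig Γ L a ⊓ (L ⊓ 𝐂[a]) :=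
        mem_inf.2 ⟨mul_mem (inv_mem hr.1) hq.1, mem_inf.2 ⟨e2 ▸ mul_mem hr.2 (inv_mem hq.2),
          Dade_signalizer_cent _ _ _ (mul_mem (inv_mem hr.1) hq.1)⟩⟩
      rw [(Dade_sdprod h ha).inf_eq, mem_bot, inv_mul_eq_one] at h3
      exact Prod.ext h3.symm (by rwa [h3, mul_right_inj] at e1)
    · rw [Finset.mem_filter, hS] at hp
      obtain ⟨b, y, k⟩ := p
      obtain ⟨⟨h1, h2, h3⟩, e⟩ := hp
      simp only at h1 h2 h3 e
      have e1 : k⁻¹ * g * (x * a) * (k⁻¹ * g)⁻¹ = y * b := by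
        rw [show k⁻¹ * g * (x * a) * (k⁻¹ * g)⁻¹ = k⁻¹ * (g * (x * a) * g⁻¹) * k by group, ← e]; group
      have h4 := conj_eq_of_sig h ha h1 hx h2 e1
      obtain ⟨t, ht, e'⟩ := h.fusion a ha (k⁻¹ * g) (mul_mem (inv_mem h3) hg) (h4 ▸ h1)
      have h5 : g⁻¹ * k * t ∈ Γ ⊓ 𝐂[a] := mem_inf.2 ⟨mul_mem (mul_mem (inv_mem hg) h3) (h.le ht),
        mem_cent1_iff_conj.2 (by
          rw [show g⁻¹ * k * t * a * (g⁻¹ * k * t)⁻¹ = g⁻¹ * k * (t * a * t⁻¹) * (k⁻¹ * g) by group,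
            ← e']; group)⟩
      obtain ⟨z, hz, c, hc, e2⟩ := (Dade_sdprod h ha).mem_iff.1 h5
      have h6 := mem_cent1.1 (Dade_signalizer_cent _ _ _ hz)
      have e3 : k = g * z * (c * t⁻¹) := by
        rw [mul_assoc, ← mul_assoc z, e2]; group
      have e4 : (c * t⁻¹)⁻¹ * a * (c * t⁻¹) = b := by
        rw [← h4, e', show (c * t⁻¹)⁻¹ * a * (c * t⁻¹) = t * (c⁻¹ * (a * c)) * t⁻¹ by group,
          ← mem_cent1.1 hc.2]; group
      refine ⟨(z, c * t⁻¹), by simpa using ⟨hz, mul_mem hc.1 (inv_mem ht)⟩, ?_⟩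
      simp only [Sigma.mk.injEq, heq_eq_eq, Prod.mk.injEq]
      refine ⟨e4, ?_, e3.symm⟩
      rw [← mul_right_cancel_iff (a := b), ← e1, ← e4, e3,
        show (z * (c * t⁻¹))⁻¹ * x * (z * (c * t⁻¹)) * ((c * t⁻¹)⁻¹ * a * (c * t⁻¹)) =
          (z * (c * t⁻¹))⁻¹ * x * (z * a) * (c * t⁻¹) by group, h6]
      group
    · simp only [Finset.mem_product, mem_elts, SetLike.mem_coe] at hq
      have h3 := mem_cent1.1 (Dade_signalizer_cent _ _ _ hq.1)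
      have := DadeJ h.le a (inv_mem hq.2)
      rw [inv_inv] at this
      simp only [this, card_conj]
      rw [show g * q.1 * q.2 * ((q.1 * q.2)⁻¹ * x * (q.1 * q.2) * (q.2⁻¹ * a * q.2)) *
          (g * q.1 * q.2)⁻¹ = g * x * (q.1 * a) * q.1⁻¹ * g⁻¹ by group, h3]
      congr 2; group
  rw [h1] at h2
  rw [eq_inv_mul_iff_mul_eq₀ (cardC_ne_zero L), mul_left_comm, ← h2,
    inv_mul_cancel_left₀ (cardC_ne_zero Γ)]

theorem card_Dade_support (h : DadeHyp Γ L A) :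
    (DadeSupp Γ L A).ncard * ♯L = ♯Γ * A.ncard := by
  have h1 := sum_Dade_support h (f := fun _ => 1) fun _ _ _ => rfl
  simp only [sum_elts_const, nsmul_eq_mul, mul_one, inv_mul_cancel₀ (cardC_ne_zero _)] at h1
  simp only [Finset.sum_const, card_elts_set, nsmul_eq_mul, mul_one] at h1
  have := cardC_ne_zero Γ
  have := cardC_ne_zero L
  field_simp at h1
  exact_mod_cast h1

end Cfsg.Agent.OO.Pf
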