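import Mathlib

/-! # The combinatorial core of Peterfalvi (3.5) -/

set_option autoImplicit false

namespace Cfsg.Agent.OO.Pf.P3

open Finset Matrix

universe u

/-- an integral lattice spanned by vectors of norm one -/
structure Lat (V : Type u) [AddCommGroup V] where
  B : V →+ V →+ ℤ
  symm : ∀ x y, B x y = B y x
  pos : ∀ v, 0 ≤ B v v
  defn : ∀ v, B v v = 0 → v = 0
  con : ∀ v, v ≠ 0 → ∃ x, B x x = 1 ∧ 0 < B v x

namespace Lat

variable {V : Type u} [AddCommGroup V] (L : Lat V)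

/-- orthonormal family -/
def ON {n : ℕ} (x : Fin n → V) : Prop := ∀ i j, L.B (x i) (x j) = if i = j then 1 else 0

/-- `b = x + y + z` with orthonormal `x, y, z` -/
def Tri (b x y z : V) : Prop := L.ON ![x, y, z] ∧ b = x + y + z

/-- inner product one and no opposite constituents -/
def Adj (b c : V) : Prop := L.B b c = 1 ∧ ∀ w, L.B w w = 1 → L.B b w = 1 → 0 ≤ L.B c w

variable {L} {n : ℕ} {x : Fin n → V} {b c u v w : V}

theorem eq_or_eq_neg (hu : L.B u u = 1) (hv : L.B v v = 1) (h : L.B u v ≠ 0) : u = v ∨ u = -v := by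
  have h1 := L.pos (u - v)
  have h2 := L.pos (u + v)
  have h3 := L.defn (u - v)
  have h4 := L.defn (u + v)
  simp only [map_sub, map_add, AddMonoidHom.sub_apply, AddMonoidHom.add_apply, hu, hv,
    L.symm v u] at h1 h2 h3 h4
  rcases (by omega : L.B u v = 1 ∨ L.B u v = -1) with e | e
  · exact Or.inl (sub_eq_zero.1 (h3 (by omega)))
  · exact Or.inr (eq_neg_of_add_eq_zero_left (h4 (by omega)))

theorem ON.comp (h : L.ON x) {m : ℕ} (f : Fin m → Fin n) (hf : Function.Injective f) :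
    L.ON (x ∘ f) := fun i j => by simp [h (f i) (f j), hf.eq_iff]

theorem ON.cons (h : L.ON x) (hu : L.B u u = 1) (h0 : ∀ i, L.B u (x i) = 0) :
    L.ON (vecCons u x) := fun i j => by
  refine Fin.cases ?_ (fun i => ?_) i <;> refine Fin.cases ?_ (fun j => ?_) j
  · simpa using hu
  · simpa [(Fin.succ_ne_zero j).symm] using h0 j
  · simpa [L.symm _ u] using h0 i
  · simpa using h i j

theorem ON.single (hu : L.B u u = 1) : L.ON ![u] := fun i j => by
  simp [Subsingleton.elim i 0, Subsingleton.elim j 0, hu]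

theorem ON.res_orth (h : L.ON x) (b : V) (j : Fin n) :
    L.B (b - ∑ i, L.B b (x i) • x i) (x j) = 0 := by
  simp [map_sum, AddMonoidHom.finsetSum_apply, h _ j]

theorem ON.res_norm (h : L.ON x) (b : V) :
    L.B (b - ∑ i, L.B b (x i) • x i) (b - ∑ i, L.B b (x i) • x i) =
      L.B b b - ∑ i, L.B b (x i) ^ 2 := by
  conv_lhs => rw [map_sub (L.B _), map_sum]
  simp only [map_zsmul, h.res_orth, smul_zero, sum_const_zero, sub_zero]
  rw [L.symm]
  simp [map_sum, sq]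

theorem ON.bessel (h : L.ON x) (b : V) : ∑ i, L.B b (x i) ^ 2 ≤ L.B b b :=
  sub_nonneg.1 (h.res_norm b ▸ L.pos _)

theorem coord_le (hb : L.B b b ≤ 3) (hu : L.B u u = 1) : -1 ≤ L.B b u ∧ L.B b u ≤ 1 := by
  have := (ON.single hu).bessel b
  simp only [univ_unique, cons_val_fin_one, sum_const, card_singleton, one_smul] at this
  constructor <;> nlinarith

theorem ON.bound (h : L.ON x) (b : V) (hb : L.B b b ≤ 3) :
    ∑ i, (L.B b (x i)).natAbs ≤ (L.B b b).toNat ∧ ∀ i, -1 ≤ L.B b (x i) ∧ L.B b (x i) ≤ 1 := by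
  refine ⟨(Int.le_toNat (L.pos b)).2 (le_trans ?_ (h.bessel b)),
    fun i => coord_le hb (by simpa using h i i)⟩
  push_cast
  refine sum_le_sum fun i _ => ?_
  rw [← sq_abs]
  nlinarith [abs_nonneg (L.B b (x i)), Int.le_self_sq |L.B b (x i)|]

theorem ON.fill (h : L.ON x) (hb : L.B b b ≤ 3) (hlt : ∑ i, L.B b (x i) ^ 2 < L.B b b) :
    ∃ y, L.ON (vecCons y x) ∧ L.B b y = 1 := by
  obtain ⟨y, hy, hp⟩ := L.con (b - ∑ i, L.B b (x i) • x i) fun e => by
    have := h.res_norm b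
    rw [e] at this
    simp only [map_zero] at this
    omega
  have h0 : ∀ i, L.B y (x i) = 0 := fun i => by
    by_contra hne
    rcases eq_or_eq_neg hy (by simpa using h i i) hne with e | e
    · rw [e, h.res_orth] at hp; omega
    · rw [e, map_neg, h.res_orth] at hp; omega
  refine ⟨y, h.cons hy h0, ?_⟩
  have := coord_le hb hy
  simp only [map_sub, map_sum, AddMonoidHom.sub_apply, AddMonoidHom.finsetSum_apply, map_zsmul,
    AddMonoidHom.zsmul_apply, L.symm (x _) y, h0, smul_zero, sum_const_zero, sub_zero] at hp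
  omega

theorem ON.tri (h : L.ON ![u, v, w]) (hb : L.B b b = 3) (h1 : L.B b u = 1) (h2 : L.B b v = 1)
    (h3 : L.B b w = 1) : L.Tri b u v w := by
  refine ⟨h, sub_eq_zero.1 (L.defn _ ?_)⟩
  have := h.res_norm b
  simpa [Fin.sum_univ_succ, h1, h2, h3, hb, add_assoc] using this

theorem ON.neg (h : L.ON ![u, v, w]) : L.ON ![u, -v, w] := fun i j => by
  have := h i j
  fin_cases i <;> fin_cases j <;> simpa using this

theorem ON.three (h : L.ON x) (i j k : Fin n) (hijk : Function.Injective ![i, j, k] := by decide) :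
    L.ON ![x i, x j, x k] := by
  convert h.comp _ hijk using 1; ext i; fin_cases i <;> rfl

theorem Tri.dot (h : L.Tri b u v w) (c : V) : L.B c b = L.B c u + L.B c v + L.B c w := by
  rw [h.2, map_add, map_add]

theorem Tri.orth (h : L.Tri b u v w) (hc : L.B c b = 0) : L.B c u + L.B c v + L.B c w = 0 :=
  (h.dot c).symm.trans hc

theorem Tri.adj (h : L.Tri b u v w) (hc : L.Adj b c) :
    0 ≤ L.B c u ∧ 0 ≤ L.B c v ∧ 0 ≤ L.B c w ∧ L.B c u + L.B c v + L.B c w = 1 := by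
  have e : ∀ i, L.B b (![u, v, w] i) = 1 := fun i => by
    rw [L.symm, h.dot]
    have h0 := h.1 i 0
    have h1 := h.1 i 1
    have h2 := h.1 i 2
    fin_cases i <;> simp_all
  exact ⟨hc.2 u (by simpa using h.1 0 0) (e 0), hc.2 v (by simpa using h.1 1 1) (e 1),
    hc.2 w (by simpa using h.1 2 2) (e 2), by rw [← h.dot, L.symm, hc.1]⟩

theorem Tri.swap12 (h : L.Tri b u v w) : L.Tri b v u w :=
  ⟨by convert h.1.comp ![1, 0, 2] (by decide) using 1; ext i; fin_cases i <;> rfl, by rw [h.2]; abel⟩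

theorem Tri.swap23 (h : L.Tri b u v w) : L.Tri b u w v :=
  ⟨by convert h.1.comp ![0, 2, 1] (by decide) using 1; ext i; fin_cases i <;> rfl, by rw [h.2]; abel⟩

theorem exists_tri (hb : L.B b b = 3) (hu : L.B u u = 1) (h : L.B b u = 1) : ∃ v w, L.Tri b u v w := by
  obtain ⟨v, hv, e⟩ := (ON.single hu).fill hb.le (by simp [h, hb])
  obtain ⟨w, hw, e'⟩ := hv.fill hb.le (by simp [Fin.sum_univ_succ, h, hb, e])
  exact ⟨v, w, (hw.tri hb e' e h).swap12.swap23.swap12⟩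

/-- a grid of vectors of norm three -/
structure Grid (L : Lat V) {I J : Type*} (β : I → J → V) : Prop where
  n3 : ∀ i j, L.B (β i j) (β i j) = 3
  row : ∀ i j j', j ≠ j' → L.Adj (β i j) (β i j')
  col : ∀ i i' j, i ≠ i' → L.Adj (β i j) (β i' j)
  orth : ∀ i i' j j', i ≠ i' → j ≠ j' → L.B (β i j) (β i' j') = 0

namespace Grid

variable {I J : Type*} {β : I → J → V} (g : L.Grid β) {i1 i2 i3 i4 : I} {j k : J}
  {x1 x2 x3 x4 x5 x6 x7 : V}
include g

theorem bound (h : L.ON x) (i : I) (j : J) :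
    ∑ t, (L.B (β i j) (x t)).natAbs ≤ 3 ∧ ∀ t, -1 ≤ L.B (β i j) (x t) ∧ L.B (β i j) (x t) ≤ 1 := by
  simpa [g.n3] using h.bound (β i j) (g.n3 i j).le

theorem caseB2 (h12 : i1 ≠ i2) (h13 : i1 ≠ i3) (h14 : i1 ≠ i4) (h23 : i2 ≠ i3) (h24 : i2 ≠ i4)
    (h34 : i3 ≠ i4) (hjk : j ≠ k) (hx : L.ON ![x1, x2, x3, x4, x5, x6, x7])
    (t1 : L.Tri (β i1 j) x1 x2 x3) (t2 : L.Tri (β i2 j) x1 x4 x5) (t3 : L.Tri (β i3 j) x2 x4 x6)
    (t4 : L.Tri (β i4 j) x1 x6 x7) (h : L.B (β i3 k) x6 = 1) : False := by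
  have o := fun a b hab => g.orth a b k j hab hjk.symm
  have a := fun a => g.row a j k hjk
  have e : L.B (β i3 k) x7 = -1 ∧ L.B (β i3 k) x1 = 0 ∧ L.B (β i3 k) x2 = 0 ∧ L.B (β i3 k) x3 = 0 ∧
      L.B (β i3 k) x4 = 0 ∧ L.B (β i3 k) x5 = 0 := by
    have := g.bound hx i3 k
    have := t1.orth (o _ _ h13.symm)
    have := t2.orth (o _ _ h23.symm)
    have := t4.orth (o _ _ h34)
    have := t3.adj (a _)
    simp only [Fin.sum_univ_succ, Fin.forall_fin_succ, cons_val_zero, cons_val_succ] at *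
    omega
  obtain ⟨x8, hy, e8⟩ := hx.fill (g.n3 i3 k).le (by simp [Fin.sum_univ_succ, g.n3, e, h])
  have t5 : L.Tri (β i3 k) x6 (-x7) x8 :=
    ON.tri (hy.three 6 7 0).neg (g.n3 _ _) h (by simp [e]) e8
  have e : L.B (β i4 k) x6 = 1 ∧ (L.B (β i4 k) x4 = -1 ∧ L.B (β i4 k) x5 = 1 ∨
      L.B (β i4 k) x2 = -1 ∧ L.B (β i4 k) x3 = 1) := by
    have := g.bound hy i4 k
    have := t1.orth (o _ _ h14.symm)
    have := t2.orth (o _ _ h24.symm)
    have := t3.orth (o _ _ h34.symm)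
    have := t4.adj (a _)
    have := t5.adj (g.col _ _ _ h34)
    simp only [Fin.sum_univ_succ, Fin.forall_fin_succ, cons_val_zero, cons_val_succ, map_neg] at *
    omega
  rcases e with ⟨e6, ⟨e4, e5⟩ | ⟨e2, e3⟩⟩
  · have t6 : L.Tri (β i4 k) x6 (-x4) x5 :=
      ON.tri (hy.three 6 4 5).neg (g.n3 _ _) e6 (by simp [e4]) e5
    have := g.bound hy i1 k
    have := t2.orth (o _ _ h12)
    have := t3.orth (o _ _ h13)
    have := t4.orth (o _ _ h14)
    have := t1.adj (a _)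
    have := t5.adj (g.col _ _ _ h13.symm)
    have := t6.adj (g.col _ _ _ h14.symm)
    simp only [Fin.sum_univ_succ, Fin.forall_fin_succ, cons_val_zero, cons_val_succ, map_neg] at *
    omega
  · have t6 : L.Tri (β i4 k) x6 (-x2) x3 :=
      ON.tri (hy.three 6 2 3).neg (g.n3 _ _) e6 (by simp [e2]) e3
    have := g.bound hy i2 k
    have := t1.orth (o _ _ h12.symm)
    have := t3.orth (o _ _ h23)
    have := t4.orth (o _ _ h24)
    have := t2.adj (a _)
    have := t5.adj (g.col _ _ _ h23.symm)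
    have := t6.adj (g.col _ _ _ h24.symm)
    simp only [Fin.sum_univ_succ, Fin.forall_fin_succ, cons_val_zero, cons_val_succ, map_neg] at *
    omega

theorem caseB1 (h12 : i1 ≠ i2) (h13 : i1 ≠ i3) (h14 : i1 ≠ i4) (h23 : i2 ≠ i3) (h24 : i2 ≠ i4)
    (h34 : i3 ≠ i4) (hjk : j ≠ k) (hx : L.ON ![x1, x2, x3, x4, x5, x6])
    (t1 : L.Tri (β i1 j) x1 x2 x3) (t2 : L.Tri (β i2 j) x1 x4 x5) (t3 : L.Tri (β i3 j) x2 x4 x6)
    (h : L.B (β i4 j) x1 = 1) : False := by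
  have := t1.adj (g.col _ _ _ h14)
  have := t2.adj (g.col _ _ _ h24)
  have := t3.adj (g.col _ _ _ h34)
  have e : L.B (β i4 j) x2 = 0 ∧ L.B (β i4 j) x3 = 0 ∧ L.B (β i4 j) x4 = 0 ∧ L.B (β i4 j) x5 = 0 ∧
      L.B (β i4 j) x6 = 1 := by omega
  obtain ⟨x7, hy, e7⟩ := hx.fill (g.n3 i4 j).le (by simp [Fin.sum_univ_succ, g.n3, e, h])
  have t4 : L.Tri (β i4 j) x1 x6 x7 := ON.tri (hy.three 1 6 0) (g.n3 _ _) h e.2.2.2.2 e7
  have := t3.adj (g.row _ _ _ hjk)
  rcases (by omega : L.B (β i3 k) x6 = 1 ∨ L.B (β i3 k) x2 = 1 ∨ L.B (β i3 k) x4 = 1) with h | h | h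
  · exact g.caseB2 h12 h13 h14 h23 h24 h34 hjk (by
      convert hy.comp ![1, 2, 3, 4, 5, 6, 0] (by decide) using 1; ext i; fin_cases i <;> rfl)
      t1 t2 t3 t4 h
  · exact g.caseB2 h24.symm h34.symm h14.symm h23 h12.symm h13.symm hjk (by
      convert hy.comp ![1, 6, 0, 4, 5, 2, 3] (by decide) using 1; ext i; fin_cases i <;> rfl)
      t4 t2 t3.swap12.swap23.swap12 t1 h
  · exact g.caseB2 h14 h13 h12 h34.symm h24.symm h23.symm hjk (by
      convert hy.comp ![1, 2, 3, 6, 0, 4, 5] (by decide) using 1; ext i; fin_cases i <;> rfl)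
      t1 t4 t3.swap23 t2 h

theorem caseK (h12 : i1 ≠ i2) (h13 : i1 ≠ i3) (h14 : i1 ≠ i4) (h23 : i2 ≠ i3) (h24 : i2 ≠ i4)
    (h34 : i3 ≠ i4) (hjk : j ≠ k) (hx : L.ON ![x1, x2, x3, x4, x5])
    (t1 : L.Tri (β i1 j) x1 x2 x3) (t2 : L.Tri (β i2 j) x1 x4 x5) (h2 : L.B (β i3 j) x2 = 1)
    (h4 : L.B (β i3 j) x4 = 1) : False := by
  have := t1.adj (g.col _ _ _ h13)
  have := t2.adj (g.col _ _ _ h23)
  have e : L.B (β i3 j) x1 = 0 ∧ L.B (β i3 j) x3 = 0 ∧ L.B (β i3 j) x5 = 0 := by omega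
  obtain ⟨x6, hy, e6⟩ := hx.fill (g.n3 i3 j).le (by simp [Fin.sum_univ_succ, g.n3, e, h2, h4])
  have t3 : L.Tri (β i3 j) x2 x4 x6 := ON.tri (hy.three 2 4 0) (g.n3 _ _) h2 h4 e6
  have := t1.adj (g.col _ _ _ h14)
  have := t2.adj (g.col _ _ _ h24)
  have := t3.adj (g.col _ _ _ h34)
  rcases (by omega : L.B (β i4 j) x1 = 1 ∨ L.B (β i4 j) x2 = 1 ∨ L.B (β i4 j) x4 = 1 ∨
    L.B (β i4 j) x3 = 1 ∧ L.B (β i4 j) x5 = 1 ∧ L.B (β i4 j) x6 = 1) with h | h | h | h
  · exact g.caseB1 h12 h13 h14 h23 h24 h34 hjk (by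
      convert hy.comp ![1, 2, 3, 4, 5, 0] (by decide) using 1; ext i; fin_cases i <;> rfl) t1 t2 t3 h
  · exact g.caseB1 h13 h12 h14 h23.symm h34 h24 hjk (by
      convert hy.comp ![2, 1, 3, 4, 0, 5] (by decide) using 1; ext i; fin_cases i <;> rfl)
      t1.swap12 t3 t2 h
  · exact g.caseB1 h23 h12.symm h24 h13.symm h34 h14 hjk (by
      convert hy.comp ![4, 1, 5, 2, 0, 3] (by decide) using 1; ext i; fin_cases i <;> rfl)
      t2.swap12 t3.swap12 t1 h
  · have t4 : L.Tri (β i4 j) x3 x5 x6 := ON.tri (hy.three 3 5 0) (g.n3 _ _) h.1 h.2.1 h.2.2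
    have := t1.adj (g.row _ _ _ hjk)
    have := t2.orth (g.orth _ _ _ _ h12 hjk.symm)
    have := t3.orth (g.orth _ _ _ _ h13 hjk.symm)
    have := t4.orth (g.orth _ _ _ _ h14 hjk.symm)
    omega

theorem fill2 (hx : L.ON x) {i : I} (t : Fin n) (h : L.B (β i j) (x t) = 1)
    (h0 : ∀ s, s ≠ t → L.B (β i j) (x s) = 0) :
    ∃ u v, L.ON (vecCons v (vecCons u x)) ∧ L.Tri (β i j) (x t) u v := by
  have e : ∑ s, L.B (β i j) (x s) ^ 2 = 1 := by
    rw [sum_eq_single t (fun s _ hs => by simp [h0 s hs]) (by simp), h, one_pow]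
  obtain ⟨u, hu, eu⟩ := hx.fill (g.n3 i j).le (by simp [e, g.n3])
  obtain ⟨v, hv, ev⟩ := hu.fill (g.n3 i j).le (by simp [Fin.sum_univ_succ, e, eu, g.n3])
  refine ⟨u, v, hv, ON.tri (hv.three t.succ.succ 1 0 fun a b => ?_) (g.n3 _ _) h eu ev⟩
  fin_cases a <;> fin_cases b <;> simp [Fin.ext_iff]

/-- (3.5.4) -/
theorem col_mem (h12 : i1 ≠ i2) (h13 : i1 ≠ i3) (h14 : i1 ≠ i4) (h23 : i2 ≠ i3) (h24 : i2 ≠ i4)
    (h34 : i3 ≠ i4) (hjk : j ≠ k) (hx : L.B x1 x1 = 1) (h1 : L.B (β i1 j) x1 = 1)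
    (h2 : L.B (β i2 j) x1 = 1) : L.B (β i3 j) x1 = 1 := by
  by_contra h3
  obtain ⟨x2, x3, t1⟩ := exists_tri (g.n3 _ _) hx h1
  have := t1.adj (g.col _ _ _ h12)
  obtain ⟨x4, x5, hy, t2⟩ := g.fill2 t1.1 (i := i2) (j := j) 0 h2 fun s hs => by
    fin_cases s <;> simp at hs ⊢ <;> omega
  have := t1.adj (g.col _ _ _ h13)
  have := t2.adj (g.col _ _ _ h23)
  simp only [cons_val_zero] at this t2
  rcases (by omega : L.B (β i3 j) x2 = 1 ∨ L.B (β i3 j) x3 = 1) with h | h <;>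
  rcases (by omega : L.B (β i3 j) x4 = 1 ∨ L.B (β i3 j) x5 = 1) with h' | h'
  · exact g.caseK h12 h13 h14 h23 h24 h34 hjk (by
      convert hy.comp ![2, 3, 4, 1, 0] (by decide) using 1; ext i; fin_cases i <;> rfl) t1 t2 h h'
  · exact g.caseK h12 h13 h14 h23 h24 h34 hjk (by
      convert hy.comp ![2, 3, 4, 0, 1] (by decide) using 1; ext i; fin_cases i <;> rfl)
      t1 t2.swap23 h h'
  · exact g.caseK h12 h13 h14 h23 h24 h34 hjk (by
      convert hy.comp ![2, 4, 3, 1, 0] (by decide) using 1; ext i; fin_cases i <;> rfl)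
      t1.swap23 t2 h h'
  · exact g.caseK h12 h13 h14 h23 h24 h34 hjk (by
      convert hy.comp ![2, 4, 3, 0, 1] (by decide) using 1; ext i; fin_cases i <;> rfl)
      t1.swap23 t2.swap23 h h'

/-- first part of (3.5.5) -/
theorem col_not_mem (h12 : i1 ≠ i2) (h13 : i1 ≠ i3) (h14 : i1 ≠ i4) (h23 : i2 ≠ i3) (h24 : i2 ≠ i4)
    (h34 : i3 ≠ i4) (hjk : j ≠ k) (hx : L.B x1 x1 = 1) (h : ∀ i, L.B (β i j) x1 = 1) :
    L.B (β i1 k) x1 = 0 := by
  obtain ⟨x2, x3, t2⟩ := exists_tri (g.n3 _ _) hx (h i2)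
  have := t2.adj (g.col _ _ _ h23)
  have := h i3
  obtain ⟨x4, x5, hy, t3⟩ := g.fill2 t2.1 (i := i3) (j := j) 0 (h i3) fun s hs => by
    fin_cases s <;> simp at hs ⊢ <;> omega
  have := t2.adj (g.col _ _ _ h24)
  have := t3.adj (g.col _ _ _ h34)
  have := h i4
  simp only [cons_val_zero] at *
  obtain ⟨x6, x7, hz, t4⟩ := g.fill2 hy (i := i4) (j := j) 2 (h i4) fun s hs => by
    fin_cases s <;> simp at hs ⊢ <;> omega
  have := g.bound hz i1 k
  have := t2.orth (g.orth _ _ _ _ h12 hjk.symm)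
  have := t3.orth (g.orth _ _ _ _ h13 hjk.symm)
  have := t4.orth (g.orth _ _ _ _ h14 hjk.symm)
  have := (g.row i1 j k hjk).2 x1 hx (h i1)
  simp only [Fin.sum_univ_succ, Fin.forall_fin_succ, cons_val_zero, cons_val_succ,
    Matrix.cons_val] at *
  omega

theorem col_pivot [DecidableEq J] (i1 : I) (hI : ∀ a b c : I, ∃ d, a ≠ d ∧ b ≠ d ∧ c ≠ d)
    (hjk : j ≠ k) : ∃ x, L.B x x = 1 ∧ ∀ i l, L.B (β i l) x = if l = j then 1 else 0 := by
  obtain ⟨i2, h12, -⟩ := hI i1 i1 i1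
  obtain ⟨y, hy, e⟩ := ON.fill (x := ![]) (fun i => i.elim0) (g.n3 i1 j).le (by simp [g.n3])
  obtain ⟨x, hx, h1, h2⟩ : ∃ x, L.B x x = 1 ∧ L.B (β i1 j) x = 1 ∧ L.B (β i2 j) x = 1 := by
    obtain ⟨u, v, t⟩ := exists_tri (g.n3 _ _) (by simpa using hy 0 0) e
    have := t.adj (g.col _ _ _ h12)
    have e : ∀ i, L.B (β i1 j) (![y, u, v] i) = 1 := fun i => by
      rw [L.symm, t.dot]
      have h0 := t.1 i 0
      have h1 := t.1 i 1
      have h2 := t.1 i 2
      fin_cases i <;> simp_all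
    rcases (by omega : L.B (β i2 j) y = 1 ∨ L.B (β i2 j) u = 1 ∨ L.B (β i2 j) v = 1) with h | h | h
    exacts [⟨y, by simpa using t.1 0 0, e 0, h⟩, ⟨u, by simpa using t.1 1 1, e 1, h⟩,
      ⟨v, by simpa using t.1 2 2, e 2, h⟩]
  have h : ∀ i, L.B (β i j) x = 1 := fun i => by
    rcases eq_or_ne i1 i with rfl | h13
    · exact h1
    rcases eq_or_ne i2 i with rfl | h23
    · exact h2
    obtain ⟨i4, h14, h24, h34⟩ := hI i1 i2 i
    exact g.col_mem h12 h13 h14 h23 h24 h34 hjk hx h1 h2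
  refine ⟨x, hx, fun i l => ?_⟩
  split_ifs with hl
  · exact hl ▸ h i
  obtain ⟨i2, h12, -⟩ := hI i i i
  obtain ⟨i3, h13, h23, -⟩ := hI i i2 i
  obtain ⟨i4, h14, h24, h34⟩ := hI i i2 i3
  exact g.col_not_mem h12 h13 h14 h23 h24 h34 (Ne.symm hl) hx h

end Grid

theorem ON.eq_sum (h : L.ON x) (hb : ∑ i, L.B b (x i) ^ 2 = L.B b b) : b = ∑ i, L.B b (x i) • x i :=
  sub_eq_zero.1 (L.defn _ (by rw [h.res_norm, hb, sub_self]))

theorem row_pivot {I J : Type*} [DecidableEq I] [DecidableEq J] {γ : I → J → V}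
    (hγ : ∀ i j k l, L.B (γ i j) (γ k l) = if i = k then if j = l then 2 else 1 else 0) {j1 j2 : J}
    (h12 : j1 ≠ j2) (hJ : ∀ a b c : J, a ≠ b → a ≠ c → b ≠ c → ∃ d, d ≠ a ∧ d ≠ b ∧ d ≠ c) (i : I) :
    ∃ x, L.B x x = 1 ∧ ∀ k j, L.B (γ k j) x = if k = i then 1 else 0 := by
  have h2 : ∀ k j, L.B (γ k j) (γ k j) = 2 := fun k j => by simp [hγ]
  have h3 : ∀ k j, L.B (γ k j) (γ k j) ≤ 3 := fun k j => by simp [h2]
  have key : ∀ x y, L.ON ![x, y] → γ i j1 = x + y → L.B (γ i j2) x = 1 → L.B (γ i j2) y = 0 →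
      ∀ k j, L.B (γ k j) x = if k = i then 1 else 0 := fun x y hxy e1 ex ey k j => by
    obtain ⟨z, hz, ez⟩ := hxy.fill (h3 i j2) (by simp [Fin.sum_univ_succ, ex, ey, h2])
    have e2 : γ i j2 = z + x := by
      simpa [Fin.sum_univ_succ, ex, ey, ez] using
        hz.eq_sum (b := γ i j2) (by simp [Fin.sum_univ_succ, ex, ey, ez, h2])
    have a1 := hγ k j i j1
    have a2 := hγ k j i j2
    have a3 := hz.bound _ (h3 k j)
    rw [e1, map_add] at a1
    rw [e2, map_add] at a2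
    simp only [Fin.sum_univ_succ, Fin.forall_fin_succ, cons_val_zero, cons_val_succ, h2] at a3
    split_ifs at a1 a2 ⊢ with hk hj1 hj2 hj2
    any_goals omega
    by_contra hne
    subst hk
    have e : L.B (γ k j) x = 0 ∧ L.B (γ k j) y = 1 ∧ L.B (γ k j) z = 1 := by omega
    have e3 : γ k j = z + y := by
      simpa [Fin.sum_univ_succ, e] using hz.eq_sum (b := γ k j) (by simp [Fin.sum_univ_succ, e, h2])
    obtain ⟨d, hd1, hd2, hd3⟩ := hJ j1 j2 j h12 (Ne.symm hj1) (Ne.symm hj2)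
    have b1 := hγ k d k j1
    have b2 := hγ k d k j2
    have b3 := hγ k d k j
    rw [e1, map_add, if_pos rfl, if_neg hd1] at b1
    rw [e2, map_add, if_pos rfl, if_neg hd2] at b2
    rw [e3, map_add, if_pos rfl, if_neg hd3] at b3
    omega
  obtain ⟨y, hy, ey⟩ := ON.fill (x := ![]) (fun i => i.elim0) (h3 i j1) (by simp [h2])
  obtain ⟨x, hx, ex⟩ := hy.fill (h3 i j1) (by simp [ey, h2])
  have e1 : γ i j1 = x + y := by
    simpa [Fin.sum_univ_succ, ex, ey] using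
      hx.eq_sum (b := γ i j1) (by simp [Fin.sum_univ_succ, ex, ey, h2])
  have a1 := hγ i j2 i j1
  have a2 := (hx.bound _ (h3 i j2)).2
  rw [e1, map_add, if_pos rfl, if_neg h12.symm] at a1
  simp only [Fin.forall_fin_succ, cons_val_zero, cons_val_succ] at a2
  rcases (by omega : L.B (γ i j2) x = 1 ∨ L.B (γ i j2) y = 1) with h | h
  · exact ⟨x, by simpa using hx 0 0, key x y hx e1 h (by omega)⟩
  · exact ⟨y, by simpa using hx 1 1, key y x (by
      convert hx.comp ![1, 0] (by decide) using 1; ext i; fin_cases i <;> rfl)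
      (e1.trans (add_comm _ _)) h (by omega)⟩

theorem orth_of (hu : L.B u u = 1) (hv : L.B v v = 1) (h1 : L.B b u = 1) (h0 : L.B b v = 0) :
    L.B u v = 0 := by
  by_contra h
  rcases eq_or_eq_neg hu hv h with rfl | rfl
  · omega
  · rw [map_neg] at h1; omega

/-- the combinatorial content of (3.5) -/
theorem Grid.pivots {I J : Type*} [DecidableEq I] [DecidableEq J] {β : I → J → V} (g : L.Grid β)
    (i1 : I) (hI : ∀ a b c : I, ∃ d, a ≠ d ∧ b ≠ d ∧ c ≠ d) (hJ2 : ∀ j : J, ∃ k, j ≠ k) (j1 : J)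
    (hJ : ∀ a b c : J, a ≠ b → a ≠ c → b ≠ c → ∃ d, d ≠ a ∧ d ≠ b ∧ d ≠ c) :
    ∃ (P : I → V) (Q : J → V), (∀ i, L.B (P i) (P i) = 1) ∧ (∀ j, L.B (Q j) (Q j) = 1) ∧
      (∀ i j k, L.B (β i j) (P k) = if i = k then 1 else 0) ∧
      ∀ i j l, L.B (β i j) (Q l) = if j = l then 1 else 0 := by
  choose Q hQ hQ' using fun j => (hJ2 j).elim fun k hk => g.col_pivot i1 hI hk
  have hQQ : ∀ j l, L.B (Q j) (Q l) = if j = l then 1 else 0 := fun j l => by
    split_ifs with h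
    · exact h ▸ hQ j
    · exact orth_of (b := β i1 j) (hQ j) (hQ l) (by simp [hQ']) (by simp [hQ', h])
  obtain ⟨j2, h12⟩ := hJ2 j1
  choose P hP hP' using row_pivot (L := L) (γ := fun i j => β i j - Q j) (fun i j k l => by
    simp only [map_sub, AddMonoidHom.sub_apply, L.symm (Q j) (β k l), hQ', hQQ]
    rcases eq_or_ne i k with rfl | h1 <;> rcases eq_or_ne j l with rfl | h2
    · simp [g.n3]
    · simp [(g.row i j l h2).1, h2, h2.symm]
    · simp [(g.col i k j h1).1, h1]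
    · simp [g.orth i k j l h1 h2, h1, h2, h2.symm]) h12 hJ
  refine ⟨P, Q, hP, hQ, fun i j k => ?_, fun i j l => hQ' l i j⟩
  have := hP' k i j
  rwa [map_sub, AddMonoidHom.sub_apply, L.symm (Q j), orth_of (b := β k j - Q j) (hP k) (hQ j)
    (by simpa using hP' k k j) (by simp [hQ', hQ]), sub_zero] at this

theorem adj_of (hb : L.B b b = 3) (hc : L.B c c = 3) (h : L.B b c = 1)
    (hne : ∀ w, L.B w w = 1 → b - c ≠ w + w) : L.Adj b c := by
  refine ⟨h, fun w hw hbw => ?_⟩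
  by_contra hn
  have := coord_le hc.le hw
  refine hne w hw (sub_eq_zero.1 (L.defn _ ?_))
  simp only [map_sub, map_add, AddMonoidHom.sub_apply, AddMonoidHom.add_apply, L.symm c b, L.symm w b,
    L.symm w c]
  omega

theorem Grid.basis {I J : Type*} [DecidableEq I] [DecidableEq J] {β : I → J → V} (g : L.Grid β)
    (i1 : I) (hI : ∀ a b c : I, ∃ d, a ≠ d ∧ b ≠ d ∧ c ≠ d) (hJ2 : ∀ j : J, ∃ k, j ≠ k) (j1 : J)
    (hJ : ∀ a b c : J, a ≠ b → a ≠ c → b ≠ c → ∃ d, d ≠ a ∧ d ≠ b ∧ d ≠ c) (hu : L.B u u = 1)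
    (h0 : ∀ i j, L.B (β i j) u = 0) :
    ∃ η : Option I → Option J → V, η none none = u ∧
      (∀ i j, β i j = η (some i) (some j) - η (some i) none - η none (some j)) ∧
      ∀ a b c d, L.B (η a b) (η c d) = if a = c ∧ b = d then 1 else 0 := by
  obtain ⟨P, Q, hP, hQ, hP', hQ'⟩ := g.pivots i1 hI hJ2 j1 hJ
  have hQQ : ∀ j l, L.B (Q j) (Q l) = if j = l then 1 else 0 := fun j l => by
    split_ifs with h
    · exact h ▸ hQ j
    · exact orth_of (b := β i1 j) (hQ j) (hQ l) (by simp [hQ']) (by simp [hQ', h])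
  have hPP : ∀ j l, L.B (P j) (P l) = if j = l then 1 else 0 := fun j l => by
    split_ifs with h
    · exact h ▸ hP j
    · exact orth_of (b := β j j1) (hP j) (hP l) (by simp [hP']) (by simp [hP', h])
  have hPQ : ∀ i j, L.B (P i) (Q j) = 0 := fun i j => by
    obtain ⟨k, hk⟩ := hJ2 j
    exact orth_of (b := β i k) (hP i) (hQ j) (by simp [hP']) (by simp [hQ', hk.symm])
  have hPu : ∀ i, L.B (P i) u = 0 := fun i => orth_of (b := β i j1) (hP i) hu (by simp [hP']) (h0 _ _)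
  have hQu : ∀ j, L.B (Q j) u = 0 := fun j => orth_of (b := β i1 j) (hQ j) hu (by simp [hQ']) (h0 _ _)
  refine ⟨fun a b => a.elim (b.elim u fun j => -Q j) fun i => b.elim (-P i) fun j => β i j - P i - Q j,
    rfl, fun i j => by simp; abel, ?_⟩
  rintro (_ | i) (_ | j) (_ | k) (_ | l) <;>
    simp [hu, h0, hP', hQ', hQQ, hPP, hPQ, hPu, hQu, L.symm u (P _), L.symm u (Q _), L.symm u (β _ _),
      L.symm (Q _) (P _), L.symm (P _) (β _ _), L.symm (Q _) (β _ _), eq_comm]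
  rcases eq_or_ne i k with rfl | h1 <;> rcases eq_or_ne j l with rfl | h2
  · simp [g.n3]
  · simp [(g.row i j l h2).1, h2]
  · simp [(g.col i k j h1).1, h1]
  · simp [g.orth i k j l h1 h2, h1, h2]

end Lat

end Cfsg.Agent.OO.Pf.P3
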