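import Cfsg.Agent.Lib.OO.PF3Defs
import Cfsg.Agent.Lib.OO.Quo

/-! # Peterfalvi section 3: the characters `ω_{ij}` -/

set_option autoImplicit false
set_option linter.unusedSectionVars false

namespace Cfsg.Agent.OO.Pf

open Subgroup Cfsg.Agent.Coprime
open scoped Pointwise commutatorElement ComplexConjugate

universe u v w

variable {G : Type u} [Group G] [Finite G]

variable {Γ W W1 W2 : Subgroup G} {i j k l i' j' φ ψ ω : G → ℂ}

theorem cycTIset_comm (W1 W2 : Subgroup G) : cycTIset W2 W1 = cycTIset W1 W2 := by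
  rw [cycTIset, cycTIset, sup_comm, Set.union_comm]
theorem CycTIHyp.symm (h : CycTIHyp Γ W W1 W2) : CycTIHyp Γ W W2 W1 :=
  ⟨h.defW.symm, h.cyc, h.odd, cycTIset_comm W1 W2 ▸ h.ti⟩
theorem CycTIHyp.le (h : CycTIHyp Γ W W1 W2) : W ≤ Γ := h.ti.le
theorem CycTIHyp.coprime (h : CycTIHyp Γ W W1 W2) : (♯W1).Coprime ♯W2 :=
  h.defW.coprime_of_isCyclic h.cyc
theorem CycTIHyp.of_le (h : CycTIHyp Γ W W1 W2) {L : Subgroup G} (h1 : W ≤ L) (h2 : L ≤ Γ) :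
    CycTIHyp L W W1 W2 := ⟨h.defW, h.cyc, h.odd, h.ti.restrict_of_le h1 h2⟩
theorem CycTIHyp.ab (h : CycTIHyp Γ W W1 W2) : Ab W := ab_of_isCyclic h.cyc
theorem mem_cycTIset' (h : IsDprod W1 W2 W) {x : G} :
    x ∈ cycTIset W1 W2 ↔ x ∈ W ∧ x ∉ W1 ∧ x ∉ W2 := by
  simp [cycTIset, h.sup_eq]
theorem CycTIHyp.W1_ne_bot (h : CycTIHyp Γ W W1 W2) : W1 ≠ ⊥ := by
  rintro rfl
  obtain ⟨x, hx⟩ := h.ti.nonempty
  have := (mem_cycTIset' h.defW).1 hx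
  exact this.2.2 (by simpa [← h.defW.sup_eq] using this.1)
theorem CycTIHyp.W2_ne_bot (h : CycTIHyp Γ W W1 W2) : W2 ≠ ⊥ := CycTIHyp.W1_ne_bot (CycTIHyp.symm h)
theorem CycTIHyp.cyc1 (h : CycTIHyp Γ W W1 W2) : IsCyclic W1 := isCyclic_of_le' h.cyc h.defW.left_le
theorem CycTIHyp.cyc2 (h : CycTIHyp Γ W W1 W2) : IsCyclic W2 := isCyclic_of_le' h.cyc h.defW.right_le
theorem CycTIHyp.odd1 (h : CycTIHyp Γ W W1 W2) : Odd ♯W1 := h.odd.of_dvd_nat (card_dvd h.defW.left_le)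
theorem CycTIHyp.odd2 (h : CycTIHyp Γ W W1 W2) : Odd ♯W2 := h.odd.of_dvd_nat (card_dvd h.defW.right_le)
theorem CycTIHyp.two_lt (h : CycTIHyp Γ W W1 W2) : 2 < ♯W1 ∧ 2 < ♯W2 := by
  have h1 := one_lt_card (CycTIHyp.W1_ne_bot h)
  have h2 := one_lt_card (CycTIHyp.W2_ne_bot h)
  obtain ⟨a, ha⟩ := CycTIHyp.odd1 h
  obtain ⟨b, hb⟩ := CycTIHyp.odd2 h
  omega
theorem CycTIHyp.card_Irr (h : CycTIHyp Γ W W1 W2) : (Irr W1).card = ♯W1 ∧ (Irr W2).card = ♯W2 :=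
  ⟨card_Irr_abelian (ab_of_isCyclic (CycTIHyp.cyc1 h)), card_Irr_abelian (ab_of_isCyclic (CycTIHyp.cyc2 h))⟩
theorem CycTIHyp.lin (h : CycTIHyp Γ W W1 W2) (hω : IsIrr W ω) : IsLinChar W ω := irr_cyclic_lin h.cyc hω
theorem CycTIHyp.lin1 (h : CycTIHyp Γ W W1 W2) (hi : IsIrr W1 i) : IsLinChar W1 i :=
  irr_cyclic_lin (CycTIHyp.cyc1 h) hi
theorem CycTIHyp.lin2 (h : CycTIHyp Γ W W1 W2) (hj : IsIrr W2 j) : IsLinChar W2 j :=
  irr_cyclic_lin (CycTIHyp.cyc2 h) hj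
theorem CycTIHyp.star_ne1 (h : CycTIHyp Γ W W1 W2) (hi : IsIrr W1 i) (h0 : i ≠ cf1 W1) :
    star i ≠ i := (odd_eq_conj_irr1 (CycTIHyp.odd1 h) hi).not.2 h0
theorem CycTIHyp.star_ne2 (h : CycTIHyp Γ W W1 W2) (hj : IsIrr W2 j) (h0 : j ≠ cf1 W2) :
    star j ≠ j := (odd_eq_conj_irr1 (CycTIHyp.odd2 h) hj).not.2 h0
theorem CycTIHyp.cent_eq (h : CycTIHyp Γ W W1 W2) {x : G} (hx : x ∈ cycTIset W1 W2) :
    Γ ⊓ 𝐂[x] = W := by
  rw [h.ti.inf_cent1_eq hx, inf_eq_left, le_cent1_iff]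
  exact (CycTIHyp.ab h).le_cent ((mem_cycTIset' h.defW).1 hx).1
theorem mul_mem_cycTIset (h : IsDprod W1 W2 W) {x y : G} (hx : x ∈ W1) (hy : y ∈ W2) :
    x * y ∈ cycTIset W1 W2 ↔ x ≠ 1 ∧ y ≠ 1 := by
  have e := fun z => (SetLike.ext_iff.1 h.inf_eq z).trans mem_bot
  have e1 : y ∈ W1 ↔ y = 1 := by simp [← e, hy]
  have e2 : x ∈ W2 ↔ x = 1 := by simp [← e, hx]
  rw [mem_cycTIset' h, W1.mul_mem_cancel_left hx, W2.mul_mem_cancel_right hy, e1, e2,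
    and_iff_right (mul_mem (h.left_le hx) (h.right_le hy)), and_comm]
theorem cycTIset_subset (h : IsDprod W1 W2 W) : cycTIset W1 W2 ⊆ sharp W := fun _ hx =>
  have := (mem_cycTIset' h).1 hx
  ⟨this.1, fun e => this.2.1 (e ▸ one_mem _)⟩
theorem mem_cycTIset (h : IsDprod W1 W2 W) {x : G} :
    x ∈ cycTIset W1 W2 ↔ ∃ a ∈ W1, a ≠ 1 ∧ ∃ b ∈ W2, b ≠ 1 ∧ x = a * b := by
  constructor
  · intro hx
    obtain ⟨a, ha, b, hb, rfl⟩ := h.mem_iff.1 (cycTIset_subset h hx).1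
    have := (mul_mem_cycTIset h ha hb).1 hx
    exact ⟨a, ha, this.1, b, hb, this.2, rfl⟩
  · rintro ⟨a, ha, ha1, b, hb, hb1, rfl⟩
    exact (mul_mem_cycTIset h ha hb).2 ⟨ha1, hb1⟩

namespace P3

theorem mul_inj (h : IsDprod W1 W2 W) {a b c d : G} (ha : a ∈ W1) (hb : b ∈ W2) (hc : c ∈ W1)
    (hd : d ∈ W2) (e : a * b = c * d) : a = c ∧ b = d := by
  have : c⁻¹ * a = 1 := mem_bot.1 (h.inf_eq ▸ ⟨W1.mul_mem (inv_mem hc) ha, by
    rw [show c⁻¹ * a = d * b⁻¹ by rw [eq_mul_inv_of_mul_eq e]; group]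
    exact W2.mul_mem hd (inv_mem hb)⟩)
  obtain rfl := inv_mul_eq_one.1 this
  exact ⟨rfl, mul_left_cancel e⟩

theorem comm (h : IsDprod W1 W2 W) {a b : G} (ha : a ∈ W1) (hb : b ∈ W2) : a * b = b * a :=
  mem_cent_iff.1 (h.le_cent hb) a ha

theorem sum_dprod {M : Type v} [AddCommMonoid M] (h : IsDprod W1 W2 W) (f : G → M) :
    ∑ x ∈ elts (W : Set G), f x = ∑ a ∈ elts (W1 : Set G), ∑ b ∈ elts (W2 : Set G), f (a * b) := by
  rw [← Finset.sum_product']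
  refine (Finset.sum_nbij (fun p : G × G => p.1 * p.2) (fun p hp => ?_) (fun p hp q hq e => ?_)
    (fun x hx => ?_) fun _ _ => rfl).symm
  · simp only [Finset.mem_product, mem_elts] at hp ⊢
    exact W.mul_mem (h.left_le hp.1) (h.right_le hp.2)
  · simp only [Finset.coe_product, coe_elts, Set.mem_prod] at hp hq
    exact Prod.ext_iff.2 (mul_inj h hp.1 hp.2 hq.1 hq.2 e)
  · obtain ⟨a, ha, b, hb, rfl⟩ := h.mem_iff.1 (by simpa using hx)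
    exact ⟨(a, b), by simp [ha, hb], rfl⟩

theorem of_not_mem (h : IsDprod W1 W2 W) (i j : G → ℂ) {x : G} (hx : x ∉ W) :
    cycTIirr W1 W2 i j x = 0 :=
  dif_neg fun ⟨_, ha, hb⟩ => hx (by simpa using W.mul_mem (h.left_le ha) (h.right_le hb))

theorem ext_dprod (h : IsDprod W1 W2 W) (hφ : φ ∈ suppOn (W : Set G)) (hψ : ψ ∈ suppOn (W : Set G))
    (e : ∀ a ∈ W1, ∀ b ∈ W2, φ (a * b) = ψ (a * b)) : φ = ψ := funext fun x => by
  by_cases hx : x ∈ W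
  · obtain ⟨a, ha, b, hb, rfl⟩ := h.mem_iff.1 hx
    exact e a ha b hb
  · rw [hφ x hx, hψ x hx]

theorem supp (h : IsDprod W1 W2 W) (i j : G → ℂ) : cycTIirr W1 W2 i j ∈ suppOn (W : Set G) :=
  fun _ hx => of_not_mem h i j hx

theorem exists_proj (h : IsDprod W1 W2 W) :
    ∃ f : W →* W1, ∀ x : W, ∃ b ∈ W2, (x : G) = f x * b := by
  choose a ha b hb e using fun x : W => h.mem_iff.1 x.2
  refine ⟨MonoidHom.mk' (fun x => ⟨a x, ha x⟩) fun x y => Subtype.ext (mul_inj h (ha _) (hb (x * y))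
    (mul_mem (ha x) (ha y)) (mul_mem (hb x) (hb y)) ?_).1, fun x => ⟨b x, hb x, (e x).symm⟩⟩
  rw [e, coe_mul, ← e x, ← e y, mul_assoc, ← mul_assoc (b x), ← comm h (ha y) (hb x)]
  group

end P3

open P3

theorem card_cycTIset (h : IsDprod W1 W2 W) : (cycTIset W1 W2).ncard = (♯W1 - 1) * (♯W2 - 1) := by
  rw [← ncard_sharp, ← ncard_sharp, ← Set.ncard_prod]
  refine (Set.ncard_congr (fun p _ => p.1 * p.2) (fun p hp => ?_) (fun p q hp hq e => ?_)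
    fun x hx => ?_).symm
  · exact (mul_mem_cycTIset h hp.1.1 hp.2.1).2 ⟨hp.1.2, hp.2.2⟩
  · exact Prod.ext_iff.2 (mul_inj h hp.1.1 hp.2.1 hq.1.1 hq.2.1 e)
  · obtain ⟨a, ha, ha1, b, hb, hb1, rfl⟩ := (mem_cycTIset h).1 hx
    exact ⟨(a, b), ⟨⟨ha, ha1⟩, hb, hb1⟩, rfl⟩

theorem cycTIirrE (h : IsDprod W1 W2 W) (i j : G → ℂ) {x y : G} (hx : x ∈ W1) (hy : y ∈ W2) :
    cycTIirr W1 W2 i j (x * y) = i x * j y := by
  have H : ∃ a ∈ W1, a⁻¹ * (x * y) ∈ W2 := ⟨x, hx, by simpa using hy⟩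
  have := mul_inj h H.choose_spec.1 H.choose_spec.2 hx hy (by group)
  simp only [cycTIirr, cfDprod]
  rw [dif_pos H, this.2, this.1]
theorem cycTIirrC (h : IsDprod W1 W2 W) (i j : G → ℂ) : cycTIirr W2 W1 j i = cycTIirr W1 W2 i j :=
  ext_dprod h (supp h.symm _ _) (supp h _ _) fun a ha b hb => by
    rw [cycTIirrE h i j ha hb, comm h ha hb, cycTIirrE h.symm j i hb ha, mul_comm]
theorem cycTIirr00 (h : IsDprod W1 W2 W) : cycTIirr W1 W2 (cf1 W1) (cf1 W2) = cf1 W :=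
  ext_dprod h (supp h _ _) (CF_le_suppOn _ (cf1_mem_CF W)) fun a ha b hb => by
    rw [cycTIirrE h _ _ ha hb, cf1E ha, cf1E hb, cf1E (mul_mem (h.left_le ha) (h.right_le hb)), mul_one]
theorem cycTIirr_split (h : IsDprod W1 W2 W) (i j : G → ℂ) :
    cycTIirr W1 W2 i j = cycTIirr W1 W2 i (cf1 W2) * cycTIirr W1 W2 (cf1 W1) j :=
  ext_dprod h (supp h _ _) (mul_mem_suppOn_left (supp h _ _) _) fun a ha b hb => by
    simp only [Pi.mul_apply, cycTIirrE h _ _ ha hb, cf1E ha, cf1E hb, mul_one, one_mul]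
theorem cycTIirr_aut (u : ℂ ≃+* ℂ) (i j : G → ℂ) :
    cycTIirr W1 W2 (cfAut u i) (cfAut u j) = cfAut u (cycTIirr W1 W2 i j) := by
  ext x
  simp only [cycTIirr, cfDprod, cfAut]
  split_ifs <;> simp
theorem cycTIirr_star (i j : G → ℂ) :
    cycTIirr W1 W2 (star i) (star j) = star (cycTIirr W1 W2 i j) := by
  simpa only [cfAut_conjAut] using cycTIirr_aut (W1 := W1) (W2 := W2) conjAut i j
theorem cfdot_cycTIirr (h : IsDprod W1 W2 W) (i j i' j' : G → ℂ) :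
    ⟪cycTIirr W1 W2 i j, cycTIirr W1 W2 i' j'⟫[W] = ⟪i, i'⟫[W1] * ⟪j, j'⟫[W2] := by
  rw [cfdotE, cfdotE, cfdotE, sum_dprod h, ← h.card, mul_mul_mul_comm, Finset.sum_mul_sum,
    Nat.cast_mul, mul_inv]
  congr 1
  refine Finset.sum_congr rfl fun a ha => Finset.sum_congr rfl fun b hb => ?_
  rw [mem_elts] at ha hb
  rw [cycTIirrE h _ _ ha hb, cycTIirrE h _ _ ha hb, map_mul]; ring

theorem P3.isChar_left (h : IsDprod W1 W2 W) (hi : IsChar W1 i) :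
    IsChar W (cycTIirr W1 W2 i (cf1 W2)) := by
  obtain ⟨f, hf⟩ := exists_proj h
  refine hi.comp f (supp h _ _) fun x => ?_
  obtain ⟨b, hb, e⟩ := hf x
  rw [e, cycTIirrE h _ _ (f x).2 hb, cf1E hb, mul_one]

theorem isIrr_cycTIirr (h : IsDprod W1 W2 W) (hi : IsIrr W1 i) (hj : IsIrr W2 j) :
    IsIrr W (cycTIirr W1 W2 i j) := by
  refine IsChar.isIrr_of_cfdot ?_ (by rw [cfdot_cycTIirr h, cfdot_irr_self hi, cfdot_irr_self hj, mul_one])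
  rw [cycTIirr_split h, ← cycTIirrC h (cf1 W1)]
  exact (isChar_left h hi.isChar).mul (isChar_left h.symm hj.isChar)
theorem cycTIirrP (h : IsDprod W1 W2 W) :
    IsIrr W ω ↔ ∃ i j, IsIrr W1 i ∧ IsIrr W2 j ∧ ω = cycTIirr W1 W2 i j := by
  refine ⟨fun hω => ?_, by rintro ⟨i, j, hi, hj, rfl⟩; exact isIrr_cycTIirr h hi hj⟩
  have e : cfReg W = ∑ i ∈ Irr W1, ∑ j ∈ Irr W2, (i 1 * j 1) • cycTIirr W1 W2 i j := by
    refine ext_dprod h (CF_le_suppOn _ (cfReg_mem_CF W)) (sum_mem fun i _ => sum_mem fun j _ =>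
      Submodule.smul_mem _ _ (supp h _ _)) fun a ha b hb => ?_
    have : cfReg W (a * b) = cfReg W1 a * cfReg W2 b := by
      by_cases e : a * b = 1
      · obtain ⟨rfl, rfl⟩ := mul_inj h ha hb (one_mem _) (one_mem _) (e.trans (mul_one 1).symm)
        rw [mul_one, cfReg_one, cfReg_one, cfReg_one, ← h.card, Nat.cast_mul]
      · rw [cfReg_of_ne _ e]
        by_cases ha1 : a = 1
        · rw [cfReg_of_ne W2 fun hb1 => e (by rw [ha1, hb1, mul_one]), mul_zero]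
        · rw [cfReg_of_ne W1 ha1, zero_mul]
    rw [this, cfReg_sum, cfReg_sum]
    simp only [Finset.sum_apply, Pi.smul_apply, smul_eq_mul, cycTIirrE h _ _ ha hb, Finset.sum_mul_sum]
    exact Finset.sum_congr rfl fun _ _ => Finset.sum_congr rfl fun _ _ => by ring
  by_contra! H
  refine irr1_neq0 hω ?_
  rw [← cfdot_cfReg (H := W) ω, e]
  simp only [cfdot_sumr, cfdotZr]
  exact Finset.sum_eq_zero fun i hi => Finset.sum_eq_zero fun j hj => by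
    rw [mem_Irr] at hi hj
    rw [cfdot_irr_ne hω (isIrr_cycTIirr h hi hj) (H i j hi hj), mul_zero]
theorem cycTIirr_inj (h : IsDprod W1 W2 W) (hi : IsIrr W1 i) (hj : IsIrr W2 j) (hi' : IsIrr W1 i')
    (hj' : IsIrr W2 j') : cycTIirr W1 W2 i j = cycTIirr W1 W2 i' j' ↔ i = i' ∧ j = j' := by
  refine ⟨fun e => ?_, by rintro ⟨rfl, rfl⟩; rfl⟩
  have := cfdot_irr_self (isIrr_cycTIirr h hi' hj')
  nth_rw 1 [← e] at this
  rw [cfdot_cycTIirr h] at this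
  exact ⟨hi.eq_of_cfdot_ne_zero hi' (left_ne_zero_of_mul_eq_one this),
    hj.eq_of_cfdot_ne_zero hj' (right_ne_zero_of_mul_eq_one this)⟩
theorem cycTIirr_lin (h : CycTIHyp Γ W W1 W2) (hi : IsIrr W1 i) (hj : IsIrr W2 j) :
    IsLinChar W (cycTIirr W1 W2 i j) := CycTIHyp.lin h (isIrr_cycTIirr h.defW hi hj)
theorem sum_Irr_cycTI {M : Type v} [AddCommMonoid M] (h : IsDprod W1 W2 W) (f : (G → ℂ) → M) :
    ∑ ω ∈ Irr W, f ω = ∑ i ∈ Irr W1, ∑ j ∈ Irr W2, f (cycTIirr W1 W2 i j) := by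
  rw [← Finset.sum_product']
  refine (Finset.sum_nbij (fun p : (G → ℂ) × (G → ℂ) => cycTIirr W1 W2 p.1 p.2) (fun p hp => ?_)
    (fun p hp q hq e => ?_) (fun x hx => ?_) fun _ _ => rfl).symm
  · simp only [Finset.mem_product, mem_Irr] at hp ⊢
    exact isIrr_cycTIirr h hp.1 hp.2
  · simp only [Finset.coe_product, Set.mem_prod, Finset.mem_coe, mem_Irr] at hp hq
    exact Prod.ext_iff.2 ((cycTIirr_inj h hp.1 hp.2 hq.1 hq.2).1 e)
  · obtain ⟨a, b, ha, hb, rfl⟩ := (cycTIirrP h).1 (by simpa using hx)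
    exact ⟨(a, b), by simp [ha, hb], rfl⟩
theorem cfker_cycTIl (h : IsDprod W1 W2 W) (j : G → ℂ) :
    W1 ≤ cfker W (cycTIirr W1 W2 (cf1 W1) j) := fun x hx =>
  mem_cfker_of (supp h _ _) (h.left_le hx) fun y hy => by
    obtain ⟨a, ha, b, hb, rfl⟩ := h.mem_iff.1 hy
    rw [← mul_assoc, cycTIirrE h _ _ (mul_mem hx ha) hb, cycTIirrE h _ _ ha hb, cf1E ha,
      cf1E (mul_mem hx ha)]
theorem cfker_cycTIr (h : IsDprod W1 W2 W) (i : G → ℂ) :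
    W2 ≤ cfker W (cycTIirr W1 W2 i (cf1 W2)) := cycTIirrC h i _ ▸ cfker_cycTIl h.symm i

theorem cfCycTI_vchar (h : IsDprod W1 W2 W) (hi : IsIrr W1 i) (hj : IsIrr W2 j) :
    cfCycTI W W1 W2 i j ∈ ZIrr W :=
  add_mem (sub_mem (sub_mem (cf1_vchar W) (irr_vchar (isIrr_cycTIirr h hi (isIrr_cf1 _))))
    (irr_vchar (isIrr_cycTIirr h (isIrr_cf1 _) hj))) (irr_vchar (isIrr_cycTIirr h hi hj))

theorem P3.rect_on (h : CycTIHyp Γ W W1 W2) (hi : IsIrr W1 i) (hj : IsIrr W2 j) (hi' : IsIrr W1 i')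
    (hj' : IsIrr W2 j') : cycTIirr W1 W2 i' j' - cycTIirr W1 W2 i j' - cycTIirr W1 W2 i' j +
      cycTIirr W1 W2 i j ∈ CFon W (cycTIset W1 W2) := by
  have := fun i j hi hj => (isIrr_cycTIirr h.defW (i := i) (j := j) hi hj).mem_CF
  refine mem_CFon_of (add_mem (sub_mem (sub_mem (this _ _ hi' hj') (this _ _ hi hj'))
    (this _ _ hi' hj)) (this _ _ hi hj)) fun x hx hV => ?_
  obtain ⟨a, ha, b, hb, rfl⟩ := h.defW.mem_iff.1 hx
  simp only [Pi.add_apply, Pi.sub_apply, cycTIirrE h.defW _ _ ha hb]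
  rw [mul_mem_cycTIset h.defW ha hb, not_and_or, not_not, not_not] at hV
  rcases hV with rfl | rfl
  · rw [(CycTIHyp.lin1 h hi).one, (CycTIHyp.lin1 h hi').one]; ring
  · rw [(CycTIHyp.lin2 h hj).one, (CycTIHyp.lin2 h hj').one]; ring

theorem cfCycTI_on (h : CycTIHyp Γ W W1 W2) (hi : IsIrr W1 i) (hj : IsIrr W2 j) :
    cfCycTI W W1 W2 i j ∈ CFon W (cycTIset W1 W2) := by
  simpa only [cycTIirr00 h.defW] using rect_on h hi hj (isIrr_cf1 _) (isIrr_cf1 _)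

theorem P3.expand (h : IsDprod W1 W2 W) (hφ : φ ∈ CF W) :
    φ = ∑ i ∈ Irr W1, ∑ j ∈ Irr W2, ⟪φ, cycTIirr W1 W2 i j⟫[W] • cycTIirr W1 W2 i j :=
  (cfun_sum_cfdot hφ).trans (sum_Irr_cycTI h _)

theorem P3.sum_row (h : CycTIHyp Γ W W1 W2) (hφ : φ ∈ CFon W (cycTIset W1 W2)) (hi : i ∈ Irr W1) :
    ∑ j ∈ Irr W2, ⟪φ, cycTIirr W1 W2 i j⟫[W] = 0 := by
  rw [← cfdot_sum_smul_irr (fun _ => mem_Irr.1) (fun i => ∑ j ∈ Irr W2, ⟪φ, cycTIirr W1 W2 i j⟫[W]) hi]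
  refine cfdot_eq_zero_of_forall fun x hx => Or.inl ?_
  have := congrFun (expand h.defW hφ.1) (x * 1)
  rw [cfun_on0 hφ (by simp [mul_mem_cycTIset h.defW hx (one_mem _), -mul_one])] at this
  simp only [Finset.sum_apply, Pi.smul_apply, smul_eq_mul, cycTIirrE h.defW _ _ hx (one_mem _),
    Finset.sum_mul] at this ⊢
  rw [this]
  exact Finset.sum_congr rfl fun _ _ => Finset.sum_congr rfl fun j hj => by
    rw [(CycTIHyp.lin2 h (mem_Irr.1 hj)).one, mul_one]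

/-- (3.4) -/
theorem span_cfCycTI (h : CycTIHyp Γ W W1 W2) :
    Submodule.span ℂ {α | ∃ i j, IsIrr W1 i ∧ IsIrr W2 j ∧ i ≠ cf1 W1 ∧ j ≠ cf1 W2 ∧
      α = cfCycTI W W1 W2 i j} = CFon W (cycTIset W1 W2) := by
  refine le_antisymm (Submodule.span_le.2 ?_) fun φ hφ => ?_
  · rintro _ ⟨i, j, hi, hj, -, -, rfl⟩
    exact cfCycTI_on h hi hj
  have h1 := fun i => sum_row h hφ (i := i)
  have h2 := fun j => sum_row (CycTIHyp.symm h) (cycTIset_comm W1 W2 ▸ hφ) (i := j)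
  simp only [cycTIirrC h.defW] at h2
  have : φ = ∑ i ∈ Irr W1, ∑ j ∈ Irr W2, ⟪φ, cycTIirr W1 W2 i j⟫[W] • cfCycTI W W1 W2 i j := by
    simp only [smul_add, smul_sub, Finset.sum_add_distrib, Finset.sum_sub_distrib, ← Finset.sum_smul]
    rw [← expand h.defW hφ.1, Finset.sum_eq_zero h1, Finset.sum_eq_zero fun i hi => by
      rw [h1 i hi, zero_smul], Finset.sum_comm, Finset.sum_eq_zero fun j hj => by
      rw [← Finset.sum_smul, h2 j hj, zero_smul]]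
    simp
  rw [this]
  refine sum_mem fun i hi => sum_mem fun j hj => Submodule.smul_mem _ _ ?_
  by_cases hi0 : i = cf1 W1
  · simp [cfCycTI, hi0, cycTIirr00 h.defW]
  by_cases hj0 : j = cf1 W2
  · simp [cfCycTI, hj0, cycTIirr00 h.defW]
  exact Submodule.subset_span ⟨i, j, mem_Irr.1 hi, mem_Irr.1 hj, hi0, hj0, rfl⟩

end Cfsg.Agent.OO.Pf
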