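import Cfsg.Agent.Lib.OO.Pf.PF3_A
import Cfsg.Agent.Lib.OO.Pf.PF3_B

/-! # Peterfalvi (3.2), (3.5): the isometry `σ` -/

set_option autoImplicit false
set_option linter.unusedSectionVars false

namespace Cfsg.Agent.OO.Pf

open Subgroup Cfsg.Agent.Coprime P3
open scoped Pointwise commutatorElement ComplexConjugate

universe u v w

variable {G : Type u} [Group G] [Finite G]

variable {Γ W W1 W2 : Subgroup G} {i j k l i' j' φ ψ ω : G → ℂ}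

namespace P3

/-- the inner product of virtual characters as an integer -/
noncomputable def zdot (Γ : Subgroup G) (φ ψ : ZIrr Γ) : ℤ := (Cint_cfdot_vchar φ.2 ψ.2).choose

theorem zdot_spec (φ ψ : ZIrr Γ) : (zdot Γ φ ψ : ℂ) = ⟪φ.1, ψ.1⟫[Γ] :=
  (Cint_cfdot_vchar φ.2 ψ.2).choose_spec.symm

theorem zdot_eq {φ ψ : ZIrr Γ} {n : ℤ} : zdot Γ φ ψ = n ↔ ⟪φ.1, ψ.1⟫[Γ] = n := by
  rw [← zdot_spec, Int.cast_inj]

/-- the lattice of virtual characters -/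
noncomputable def lat (Γ : Subgroup G) : Lat (ZIrr Γ) where
  B := AddMonoidHom.mk' (fun φ => AddMonoidHom.mk' (zdot Γ φ) fun ψ ψ' =>
    zdot_eq.2 (by simp [zdot_spec, cfdotDr])) fun φ φ' => AddMonoidHom.ext fun ψ =>
    zdot_eq.2 (by simp [zdot_spec, cfdotDl])
  symm x y := zdot_eq.2 (by simp [zdot_spec, cfdot_vchar_comm x.2 y.2])
  pos v := by
    have := zdot_spec v v
    rw [cfdot_self] at this
    have h : (zdot Γ v v : ℝ) = cfnorm Γ v.1 := by exact_mod_cast this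
    exact_mod_cast h ▸ cfnorm_ge0 (H := Γ) v.1
  defn v h := Subtype.ext ((cfdot_self_eq0 (vchar_mem_CF v.2)).1 (by simpa using zdot_eq.1 h))
  con v h := by
    obtain ⟨χ, hχ, h0⟩ := neq0_has_constt (vchar_mem_CF v.2) fun e => h (Subtype.ext e)
    have h1 : zdot Γ v ⟨χ, irr_vchar hχ⟩ ≠ 0 := zdot_eq.not.2 (by simpa using h0)
    rcases h1.lt_or_gt with h1 | h1
    · refine ⟨-⟨χ, irr_vchar hχ⟩, zdot_eq.2 (by simp [cfdotNl, cfdotNr, cfdot_irr_self hχ]), ?_⟩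
      rw [map_neg]
      exact neg_pos.2 h1
    · exact ⟨⟨χ, irr_vchar hχ⟩, zdot_eq.2 (by simp [cfdot_irr_self hχ]), h1⟩

theorem lat_eq {φ ψ : ZIrr Γ} {n : ℤ} : (lat Γ).B φ ψ = n ↔ ⟪φ.1, ψ.1⟫[Γ] = n := zdot_eq

theorem cfCycTI_eq (h : IsDprod W1 W2 W) (i j : G → ℂ) :
    cfCycTI W W1 W2 i j = cycTIirr W1 W2 (cf1 W1 - i) (cf1 W2 - j) :=
  ext_dprod h (add_mem (sub_mem (sub_mem (CF_le_suppOn _ (cf1_mem_CF W)) (supp h _ _)) (supp h _ _))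
    (supp h _ _)) (supp h _ _) fun a ha b hb => by
    simp only [Pi.add_apply, Pi.sub_apply, cycTIirrE h _ _ ha hb, cf1E ha, cf1E hb,
      cf1E (mul_mem (h.left_le ha) (h.right_le hb))]
    ring

open Classical in
theorem cfdot_one_sub (hi : IsIrr W i) (hk : IsIrr W k) (hi0 : i ≠ cf1 W) (hk0 : k ≠ cf1 W) :
    ⟪cf1 W - i, cf1 W - k⟫[W] = if i = k then 2 else 1 := by
  rw [cfdotBl, cfdotBr, cfdotBr, cfdot_cf1, hi.cfdot_cf1 hi0, cfdot_symm0 (hk.cfdot_cf1 hk0),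
    cfdot_irr hi hk]
  split_ifs <;> norm_num

theorem exists_not_mem {α : Type*} {s : Finset α} {a0 : α} (h : 4 < s.card)
    (a b c : {a // a ∈ s ∧ a ≠ a0}) : ∃ d, d ≠ a ∧ d ≠ b ∧ d ≠ c := by
  classical
  obtain ⟨d, hd, hd'⟩ := Finset.exists_mem_notMem_of_card_lt_card (s := {a0, a.1, b.1, c.1})
    (Finset.card_le_four.trans_lt h)
  simp only [Finset.mem_insert, Finset.mem_singleton, not_or] at hd'
  exact ⟨⟨d, hd, hd'.1⟩, by simp [Subtype.ext_iff, hd']⟩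

open Classical in
/-- (3.5) -/
theorem exists_basis (h : CycTIHyp Γ W W1 W2) (h5 : 4 < ♯W1) :
    ∃ ξ : (G → ℂ) → (G → ℂ) → G → ℂ, ξ (cf1 W1) (cf1 W2) = cf1 Γ ∧ (∀ i j, ξ i j ∈ ZIrr Γ) ∧
      (∀ i j, IsIrr W1 i → IsIrr W2 j → i ≠ cf1 W1 → j ≠ cf1 W2 → cfInd Γ W (cfCycTI W W1 W2 i j) =
        cf1 Γ - ξ i (cf1 W2) - ξ (cf1 W1) j + ξ i j) ∧
      ∀ i j k l, IsIrr W1 i → IsIrr W2 j → IsIrr W1 k → IsIrr W2 l →
        ⟪ξ i j, ξ k l⟫[Γ] = if i = k ∧ j = l then 1 else 0 := by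
  let I := {i // i ∈ Irr W1 ∧ i ≠ cf1 W1}
  let J := {j // j ∈ Irr W2 ∧ j ≠ cf1 W2}
  let β : I → J → ZIrr Γ := fun i j => ⟨cfInd Γ W (cfCycTI W W1 W2 i j) - cf1 Γ, sub_mem
    (cfInd_vchar h.ti.le (cfCycTI_vchar h.defW (mem_Irr.1 i.2.1) (mem_Irr.1 j.2.1))) (cf1_vchar Γ)⟩
  have hon := fun (i : I) (j : J) => cfCycTI_on h (mem_Irr.1 i.2.1) (mem_Irr.1 j.2.1)
  have h1 : ∀ (i : I) (j : J), ⟪cfInd Γ W (cfCycTI W W1 W2 i j), cf1 Γ⟫[Γ] = 1 := fun i j => by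
    rw [cfdot_cfInd_left h.ti.le (CF_le_suppOn _ (hon i j).1) (cf1_mem_CF Γ),
      cfdot_congr (ψ' := cf1 W) (fun _ _ => rfl) fun x hx => by rw [cf1E hx, cf1E (h.ti.le hx)],
      cfCycTI_eq h.defW, ← cycTIirr00 h.defW, cfdot_cycTIirr h.defW, cfdotBl, cfdotBl, cfdot_cf1,
      cfdot_cf1, (mem_Irr.1 i.2.1).cfdot_cf1 i.2.2, (mem_Irr.1 j.2.1).cfdot_cf1 j.2.2]
    norm_num
  have h2 : ∀ i j k l, ⟪(β i j).1, (β k l).1⟫[Γ] =
      (if i = k then 2 else 1) * (if j = l then 2 else 1) - 1 := fun i j k l => by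
    simp only [β, cfdotBl, cfdotBr]
    rw [normedTI_isometry h.ti (hon i j) (hon k l), h1, cfdotC (cf1 Γ), h1, cfdot_cf1,
      cfCycTI_eq h.defW, cfCycTI_eq h.defW, cfdot_cycTIirr h.defW,
      cfdot_one_sub (mem_Irr.1 i.2.1) (mem_Irr.1 k.2.1) i.2.2 k.2.2,
      cfdot_one_sub (mem_Irr.1 j.2.1) (mem_Irr.1 l.2.1) j.2.2 l.2.2]
    simp [I, J, Subtype.ext_iff]
  have h3 : ∀ i j, (lat Γ).B (β i j) (β i j) = 3 := fun i j => lat_eq.2 (by rw [h2]; norm_num)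
  have h4 : ∀ i j k l w, (lat Γ).B w w = 1 → β i j - β k l ≠ w + w := fun i j k l w hw e => by
    have e1 := congrFun (congrArg Subtype.val e) 1
    have e2 : ∀ (i : I) (j : J), cfCycTI W W1 W2 i j 1 = 0 := fun i j =>
      cfun_on0 (hon i j) fun h1 => (cycTIset_subset h.defW h1).2 rfl
    simp only [β, AddSubgroupClass.coe_sub, Submodule.coe_add, Pi.add_apply, Pi.sub_apply,
      cfInd1 h.ti.le, e2, sub_self] at e1
    exact (vchar_norm1P w.2 (cfnorm_eq_one_iff.2 (by simpa using lat_eq.1 hw))).one_ne_zero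
      (add_self_eq_zero.1 e1.symm)
  have g : (lat Γ).Grid β := ⟨h3,
    fun i j l hl => Lat.adj_of (h3 _ _) (h3 _ _) (lat_eq.2 (by rw [h2]; norm_num [hl])) (h4 _ _ _ _),
    fun i j l hl => Lat.adj_of (h3 _ _) (h3 _ _) (lat_eq.2 (by rw [h2]; norm_num [hl])) (h4 _ _ _ _),
    fun i k j l hk hl => lat_eq.2 (by rw [h2]; norm_num [hk, hl])⟩
  obtain ⟨c1, c2⟩ := CycTIHyp.card_Irr h
  obtain ⟨i1, hi1, hi1'⟩ := exists_irr_ne_cf1 (CycTIHyp.W1_ne_bot h)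
  obtain ⟨j1, hj1, hj1'⟩ := exists_irr_ne_cf1 (CycTIHyp.W2_ne_bot h)
  obtain ⟨η, e0, e1, e2⟩ := g.basis ⟨i1, mem_Irr.2 hi1, hi1'⟩
    (fun a b c => by simpa only [eq_comm, Ne] using exists_not_mem (c1 ▸ h5) a b c)
    (fun j => ⟨⟨star j.1, mem_Irr.2 (mem_Irr.1 j.2.1).star, fun e => j.2.2 (by
      simpa [star_cf1] using congrArg star e)⟩, fun e => CycTIHyp.star_ne2 h (mem_Irr.1 j.2.1) j.2.2
        (congrArg Subtype.val e).symm⟩) ⟨j1, mem_Irr.2 hj1, hj1'⟩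
    (fun a b c hab hac hbc => exists_not_mem (by
      have : 3 < (Irr W2).card := Finset.three_lt_card.2 ⟨cf1 W2, cf1_mem_Irr _, a, a.2.1, b, b.2.1, c, c.2.1,
        a.2.2.symm, b.2.2.symm, c.2.2.symm, Subtype.val_injective.ne hab,
        Subtype.val_injective.ne hac, Subtype.val_injective.ne hbc⟩
      obtain ⟨m, hm⟩ := CycTIHyp.odd2 h
      omega) a b c) (u := ⟨cf1 Γ, cf1_vchar Γ⟩) (lat_eq.2 (by simp [cfdot_cf1]))
    fun i j => lat_eq.2 (by simp only [β, cfdotBl, h1, cfdot_cf1]; simp)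
  let f : (G → ℂ) → Option I := fun i => if h : i ∈ Irr W1 ∧ i ≠ cf1 W1 then some ⟨i, h⟩ else none
  let f' : (G → ℂ) → Option J := fun i => if h : i ∈ Irr W2 ∧ i ≠ cf1 W2 then some ⟨i, h⟩ else none
  have hf : ∀ i k, IsIrr W1 i → IsIrr W1 k → (f i = f k ↔ i = k) := fun i k hi hk => by
    by_cases e : i = cf1 W1 <;> by_cases e' : k = cf1 W1 <;> simp [f, I, hi, hk, e, e', Ne.symm]
  have hf' : ∀ i k, IsIrr W2 i → IsIrr W2 k → (f' i = f' k ↔ i = k) := fun i k hi hk => by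
    by_cases e : i = cf1 W2 <;> by_cases e' : k = cf1 W2 <;> simp [f', J, hi, hk, e, e', Ne.symm]
  refine ⟨fun i j => η (f i) (f' j), by simp [f, f', e0], fun i j => Subtype.prop _,
    fun i j hi hj hi0 hj0 => ?_, fun i j k l hi hj hk hl => ?_⟩
  · have := congrArg Subtype.val (e1 ⟨i, mem_Irr.2 hi, hi0⟩ ⟨j, mem_Irr.2 hj, hj0⟩)
    simp only [β, AddSubgroupClass.coe_sub] at this
    simp only [f, f', mem_Irr, hi, hj, hi0, hj0, ne_eq, not_true, and_false, not_false_eq_true,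
      and_self, dite_true, dite_false]
    linear_combination this
  · simpa [hf _ _ hi hk, hf' _ _ hj hl] using lat_eq.1 (e2 (f i) (f' j) (f k) (f' l))

theorem V_subset (h : CycTIHyp Γ W W1 W2) : cycTIset W1 W2 ⊆ W :=
  (cycTIset_subset h.defW).trans (sharp_subset W)

theorem vanish (h : CycTIHyp Γ W W1 W2) (hψ : cfRes W ψ ∈ CF W)
    (h0 : ∀ α ∈ CFon W (cycTIset W1 W2), ⟪α, ψ⟫[W] = 0) : ∀ x ∈ cycTIset W1 W2, ψ x = 0 := by
  intro x hx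
  have h1 := indicator_mem_CF (V_subset h) h.ti.conj_mem hψ
  have h2 : cfnorm W ((cycTIset W1 W2).indicator (cfRes W ψ)) = 0 := by
    refine cfnorm_eq_of_cfdot (Eq.trans ?_ (h0 _ h1))
    rw [cfdotEl (V_subset h) h1.2, cfdotEl (V_subset h) h1.2]
    congr 1
    refine Finset.sum_congr rfl fun y hy => ?_
    rw [mem_elts] at hy
    rw [Set.indicator_of_mem hy, cfResE _ (V_subset h hy)]
  simpa [Set.indicator_of_mem hx, cfResE _ (V_subset h hx)] using eq_zero_of_cfnorm h2 (V_subset h hx)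

theorem exists_iso (h : CycTIHyp Γ W W1 W2) (h5 : 4 < ♯W1) : ∃ σ, IsCycTIiso Γ W W1 W2 σ := by
  classical
  obtain ⟨ξ, h0, hZ, hI, ho⟩ := exists_basis h h5
  let σ : (G → ℂ) →ₗ[ℂ] (G → ℂ) :=
    ∑ i ∈ Irr W1, ∑ j ∈ Irr W2, (cfdotL W (cycTIirr W1 W2 i j)).smulRight (ξ i j)
  have hσ : ∀ φ, σ φ = ∑ i ∈ Irr W1, ∑ j ∈ Irr W2, ⟪φ, cycTIirr W1 W2 i j⟫[W] • ξ i j := fun φ => by
    simp [σ, LinearMap.sum_apply, cfdotL_apply]
  have h1 : ∀ φ, ∀ k ∈ Irr W1, ∀ l ∈ Irr W2, ⟪σ φ, ξ k l⟫[Γ] = ⟪φ, cycTIirr W1 W2 k l⟫[W] :=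
    fun φ k hk l hl => by
    rw [hσ, cfdot_suml, Finset.sum_eq_single_of_mem k hk fun i hi e => by
      rw [cfdot_suml]
      exact Finset.sum_eq_zero fun j hj => by
        simp [cfdotZl, ho i j k l (mem_Irr.1 hi) (mem_Irr.1 hj) (mem_Irr.1 hk) (mem_Irr.1 hl), e],
      cfdot_suml, Finset.sum_eq_single_of_mem l hl fun j hj e => by
        simp [cfdotZl, ho k j k l (mem_Irr.1 hk) (mem_Irr.1 hj) (mem_Irr.1 hk) (mem_Irr.1 hl), e]]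
    simp [cfdotZl, ho k l k l (mem_Irr.1 hk) (mem_Irr.1 hl) (mem_Irr.1 hk) (mem_Irr.1 hl)]
  have h2 : ∀ k l, IsIrr W1 k → IsIrr W2 l → σ (cycTIirr W1 W2 k l) = ξ k l := fun k l hk hl => by
    rw [hσ, Finset.sum_eq_single_of_mem k (mem_Irr.2 hk) fun i hi e => Finset.sum_eq_zero fun j hj => by
      simp [cfdot_cycTIirr h.defW, cfdot_irr_ne hk (mem_Irr.1 hi) e.symm],
      Finset.sum_eq_single_of_mem l (mem_Irr.2 hl) fun j hj e => by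
        simp [cfdot_cycTIirr h.defW, cfdot_irr_ne hl (mem_Irr.1 hj) e.symm]]
    simp [cfdot_cycTIirr h.defW, cfdot_irr_self hk, cfdot_irr_self hl]
  have h3 : ∀ φ, σ φ ∈ CF Γ := fun φ => hσ φ ▸ sum_mem fun i _ => sum_mem fun j _ =>
    Submodule.smul_mem _ _ (vchar_mem_CF (hZ i j))
  have h4 : ∀ φ ∈ CF W, ∀ ψ, ⟪σ φ, σ ψ⟫[Γ] = ⟪φ, ψ⟫[W] := fun φ hφ ψ => by
    rw [hσ ψ, cfdot_sum_irr hφ, sum_Irr_cycTI h.defW]
    simp only [cfdot_sumr, cfdotZr]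
    exact Finset.sum_congr rfl fun i hi => Finset.sum_congr rfl fun j hj => by
      rw [h1 φ i hi j hj, mul_comm]
  have h5 : σ (cf1 W) = cf1 Γ := by
    rw [← cycTIirr00 h.defW, h2 _ _ (isIrr_cf1 _) (isIrr_cf1 _), h0]
  have h6 : ∀ φ ∈ CFon W (cycTIset W1 W2), σ φ = cfInd Γ W φ := fun φ hφ => by
    refine LinearMap.eqOn_span ?_ (span_cfCycTI h ▸ hφ)
    rintro _ ⟨i, j, hi, hj, hi0, hj0, rfl⟩
    rw [hI i j hi hj hi0 hj0, map_add, map_sub, map_sub, h5, h2 _ _ hi hj, h2 _ _ hi (isIrr_cf1 _),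
      h2 _ _ (isIrr_cf1 _) hj]
  refine ⟨σ, fun φ _ => h3 φ, fun φ hφ ψ _ => h4 φ hφ ψ, fun φ hφ => hσ φ ▸ sum_mem fun i hi =>
    sum_mem fun j hj => scale_zchar (Cint_cfdot_vchar_irr hφ (isIrr_cycTIirr h.defW (mem_Irr.1 hi)
      (mem_Irr.1 hj))) (hZ i j), h5, h6, fun φ hφ x hx => sub_eq_zero.1 ?_⟩
  refine vanish h (ψ := σ φ - φ) ?_ (fun α hα => ?_) x hx
  · rw [map_sub, cfRes_id hφ]
    exact sub_mem (cfRes_mem_CF h.ti.le (h3 φ)) hφ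
  · rw [cfdotBr, ← cfdot_cfInd_left h.ti.le (CF_le_suppOn _ hα.1) (h3 φ), ← h6 α hα, h4 α hα.1, sub_self]

theorem iso_symm {σ : (G → ℂ) →ₗ[ℂ] (G → ℂ)} (h : IsCycTIiso Γ W W1 W2 σ) : IsCycTIiso Γ W W2 W1 σ :=
  ⟨h.1, h.2, h.3, h.4, cycTIset_comm W1 W2 ▸ h.5, cycTIset_comm W1 W2 ▸ h.6⟩

end P3

/-- Theorem (3.2) -/
theorem cycTIiso_spec (h : CycTIHyp Γ W W1 W2) : IsCycTIiso Γ W W1 W2 (cycTIiso Γ W W1 W2) := by
  have : ∃ σ, IsCycTIiso Γ W W1 W2 σ := by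
    by_cases h5 : 4 < ♯W1
    · exact exists_iso h h5
    refine (exists_iso (CycTIHyp.symm h) ?_).imp fun σ => iso_symm
    have h1 := CycTIHyp.two_lt h
    have h2 := CycTIHyp.coprime h
    obtain ⟨a, ha⟩ := CycTIHyp.odd1 h
    obtain ⟨b, hb⟩ := CycTIHyp.odd2 h
    by_contra h6
    rw [show ♯W1 = 3 by omega, show ♯W2 = 3 by omega] at h2
    norm_num at h2
  rw [cycTIiso, dif_pos this]
  exact this.choose_spec

end Cfsg.Agent.OO.Pf
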