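import Cfsg.Agent.Lib.OO.PF3
import Cfsg.Agent.Lib.OO.CF6

/-! # Peterfalvi section 4, (4.1) to (4.4) -/

set_option autoImplicit false
set_option linter.unusedSectionVars false
set_option linter.unusedVariables false

namespace Cfsg.Agent.OO

open Subgroup Cfsg.Agent.Coprime
open scoped Pointwise ComplexConjugate

universe u

variable {G : Type u} [Group G] [Finite G] {Γ L K H M W W1 W2 : Subgroup G} {A A0 : Set G}
  {i j k i1 i2 j1 j2 φ ψ χ θ : G → ℂ} {x : G}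

namespace PrimeTIHyp

theorem K_le (h : PrimeTIHyp L K W W1 W2) : K ≤ L := h.defL.left_le
theorem normalK (h : PrimeTIHyp L K W W1 W2) : K ⊴ L := h.defL.normal
theorem W1_le (h : PrimeTIHyp L K W W1 W2) : W1 ≤ L := h.defL.right_le
theorem W_le (h : PrimeTIHyp L K W W1 W2) : W ≤ L :=
  h.defW.sup_eq ▸ sup_le h.W1_le (h.W2_le.trans h.K_le)
theorem relIndex (h : PrimeTIHyp L K W W1 W2) : K.relIndex L = ♯W1 := h.defL.relIndex_left
theorem coprime (h : PrimeTIHyp L K W W1 W2) : (♯K).Coprime ♯W1 := h.defL.coprime_of_right h.hallW1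
theorem cycW (h : PrimeTIHyp L K W W1 W2) : IsCyclic W :=
  h.defW.isCyclic h.cycW1 h.cycW2 (coprime_card_mono h.coprime.symm le_rfl h.W2_le)
theorem inf_eq (h : PrimeTIHyp L K W W1 W2) : K ⊓ W = W2 := by
  refine le_antisymm (fun x hx => ?_) (le_inf h.W2_le h.defW.right_le)
  obtain ⟨a, ha, b, hb, rfl⟩ := h.defW.mem_iff.1 hx.2
  have h1 : a ∈ K ⊓ W1 := mem_inf.2 ⟨(K.mul_mem_cancel_right (h.W2_le hb)).1 hx.1, ha⟩
  rw [h.defL.inf_eq, mem_bot] at h1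
  rwa [h1, one_mul]
theorem cent_W1 (h : PrimeTIHyp L K W W1 W2) : K ⊓ 𝐂(W1) = W2 := by
  obtain ⟨x, hx, h1⟩ := exists_mem_ne_one h.W1_ne_bot
  exact le_antisymm ((inf_le_inf_left K (cent_le_cent1 hx)).trans (h.prime_act x hx h1).le)
    (le_inf h.W2_le h.defW.le_cent)
theorem not_mem_W2 (h : PrimeTIHyp L K W W1 W2) {a b : G} (ha : a ∈ W1) (h1 : a ≠ 1) (hb : b ∈ W2) :
    b * a ∉ W2 := fun h2 => h1 (by
  rw [← mem_bot, ← h.defW.inf_eq]; exact mem_inf.2 ⟨ha, (W2.mul_mem_cancel_left hb).1 h2⟩)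
theorem coprime_orderOf (h : PrimeTIHyp L K W W1 W2) (hM : M ≤ K) (hx : x ∈ W1) :
    (♯M).Coprime (orderOf x) :=
  (h.coprime.coprime_dvd_left (card_dvd hM)).coprime_dvd_right (orderOf_dvd_card hx)
/-- the elements of `L − K` are `K`-conjugate to elements of `W − W₂` -/
theorem exists_conj (h : PrimeTIHyp L K W W1 W2) (hx : x ∈ L) (hK : x ∉ K) :
    ∃ y ∈ K, ∃ w ∈ W, w ∉ W2 ∧ x = y * w * y⁻¹ := by
  obtain ⟨a, ha, b, hb, rfl⟩ := h.defL.mem_iff.1 hx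
  have h1 : b ≠ 1 := fun e => hK (by rwa [e, mul_one])
  obtain ⟨y, hy, c, hc, e⟩ := cent_rcoset_conj (h.defL.le_norm hb) (h.coprime_orderOf le_rfl hb) ha
  rw [h.prime_act b hb h1] at hc
  exact ⟨y, hy, c * b, mul_mem (h.defW.right_le hc) (h.defW.left_le hb), h.not_mem_W2 hb h1 hc, e⟩

end PrimeTIHyp

namespace Pf

namespace P4

theorem pairs_core {a b c d : G → ℂ} {u v : ℝ} (ha : IsDirr H a) (hb : IsDirr H b)
    (hc : IsDirr H c) (hd : IsDirr H d) (hab : ⟪a, b⟫[H] = 0) (hcd : ⟪c, d⟫[H] = 0) (hu : u ≠ 0)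
    (hv : v ≠ 0) (h0 : ⟪a - b, (u : ℂ) • c - (v : ℂ) • d⟫[H] = 0) (h1 : a 1 = b 1)
    (h2 : u * c 1 = v * d 1) : ⟪a, c⟫[H] = 0 := by
  by_contra hac
  have hu' : (u : ℂ) ≠ 0 := by exact_mod_cast hu
  have hv' : (v : ℂ) ≠ 0 := by exact_mod_cast hv
  have hd1 := hd.one_ne_zero
  have hba := cfdot_symm0 hab
  simp only [cfdotBl, cfdotBr, cfdotZr, Complex.conj_ofReal] at h0
  have key : ∀ e : ℂ, e * e = 1 → conj e = e → a = e • c → False := fun e he he' e1 => by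
    have h3 : ⟪b, c⟫[H] = 0 := by
      rw [e1, cfdotZr, he'] at hba
      rw [← one_mul ⟪b, c⟫[H], ← he, mul_assoc, hba, mul_zero]
    rw [h3, e1, cfdotZl, cfdotZl, hcd, hc.cfdot_self] at h0
    have h4 : ⟪b, d⟫[H] ≠ 0 := fun e2 => by
      rw [e2] at h0
      have : (u : ℂ) * (e * e) = 0 := by linear_combination e * h0
      rw [he, mul_one] at this
      exact hu' this
    rw [e1, Pi.smul_apply, smul_eq_mul] at h1
    rcases hb.eq_or_eq_neg hd h4 with rfl | rfl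
    · rw [hb.cfdot_self] at h0
      have : (v : ℂ) * b 1 * 2 = 0 := by
        linear_combination b 1 * h0 - h2 + u * e * h1 - (u * c 1) * he
      simp [hv', hd1] at this
    · rw [cfdotNl, hd.cfdot_self] at h0
      rw [Pi.neg_apply] at h1
      have : (v : ℂ) * d 1 * 2 = 0 := by
        linear_combination (-d 1) * h0 - h2 + u * e * h1 - (u * c 1) * he
      simp [hv', hd1] at this
  rcases ha.eq_or_eq_neg hc hac with e | e
  · exact key 1 (by simp) (by simp) (by simpa using e)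
  · exact key (-1) (by simp) (by simp) (by simpa using e)

end P4

open P4 P2

/-- (4.1) -/
theorem vchar_pairs_orthonormal {a b c d : G → ℂ} {u v : ℝ} (ha : IsDirr H a) (hb : IsDirr H b)
    (hc : IsDirr H c) (hd : IsDirr H d) (hab : ⟪a, b⟫[H] = 0) (hcd : ⟪c, d⟫[H] = 0) (hu : u ≠ 0)
    (hv : v ≠ 0) (h0 : ⟪a - b, (u : ℂ) • c - (v : ℂ) • d⟫[H] = 0) (h1 : a 1 = b 1)
    (h2 : u * c 1 = v * d 1) :
    ⟪a, c⟫[H] = 0 ∧ ⟪a, d⟫[H] = 0 ∧ ⟪b, c⟫[H] = 0 ∧ ⟪b, d⟫[H] = 0 :=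
  ⟨pairs_core ha hb hc hd hab hcd hu hv h0 h1 h2,
    pairs_core ha hb hd hc hab (cfdot_symm0 hcd) hv hu (by rw [← neg_sub ((u : ℂ) • c), cfdotNr, h0, neg_zero])
      h1 h2.symm,
    pairs_core hb ha hc hd (cfdot_symm0 hab) hcd hu hv (by rw [← neg_sub a, cfdotNl, h0, neg_zero])
      h1.symm h2,
    pairs_core hb ha hd hc (cfdot_symm0 hab) (cfdot_symm0 hcd) hv hu
      (by rw [← neg_sub a, ← neg_sub ((u : ℂ) • c), cfdotNl, cfdotNr, h0, neg_zero, neg_zero])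
      h1.symm h2.symm⟩

theorem orthonormal_vchar_diff_ortho {a b c d : G → ℂ} (ha : IsDirr H a) (hb : IsDirr H b)
    (hc : IsDirr H c) (hd : IsDirr H d) (hab : ⟪a, b⟫[H] = 0) (hcd : ⟪c, d⟫[H] = 0)
    (h0 : ⟪a - b, c - d⟫[H] = 0) (h1 : a 1 = b 1) (h2 : c 1 = d 1) :
    ⟪a, c⟫[H] = 0 ∧ ⟪a, d⟫[H] = 0 ∧ ⟪b, c⟫[H] = 0 ∧ ⟪b, d⟫[H] = 0 :=
  vchar_pairs_orthonormal (u := 1) (v := 1) ha hb hc hd hab hcd one_ne_zero one_ne_zero
    (by simpa using h0) h1 (by simpa using h2)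

local notation "ω" => cycTIirr W1 W2
local notation "η" => cycTIeta L W W1 W2
local notation "V" => cycTIset W1 W2
local notation "μ₂" => prTIirr L W W1 W2
local notation "δ" => prTIsign L W W1 W2
local notation "μ" => prTIred L W W1 W2
local notation "χₖ" => prTIres L K W W1 W2

/-- (4.3)(a), first part -/
theorem normedTI_prTIset (h : PrimeTIHyp L K W W1 W2) : NormedTI ((W : Set G) \ W2) L W := by
  have hab : Ab W := ab_of_isCyclic h.cycW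
  refine ⟨?_, h.W_le, fun g hg a ha => ?_, fun g hg a ha ha' => ?_⟩
  · obtain ⟨x, hx, h1⟩ := exists_mem_ne_one h.W1_ne_bot
    exact ⟨1 * x, mul_mem (one_mem _) (h.defW.left_le hx), h.not_mem_W2 hx h1 (one_mem _)⟩
  · rwa [ab_iff.1 hab g hg a ha.1, mul_inv_cancel_right]
  · obtain ⟨y, hy, x, hx, rfl⟩ := h.defW.symm.mem_iff.1 ha.1
    obtain ⟨y', hy', x', hx', e⟩ := h.defW.symm.mem_iff.1 ha'.1
    have h1 : x ≠ 1 := fun e => ha.2 (by rwa [e, mul_one])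
    have h2 := conj_eq_of_conj_mul (orderOf_dvd_card hy) (orderOf_dvd_card hy')
      (h.coprime_orderOf h.W2_le hx) (h.coprime_orderOf h.W2_le hx')
      (ab_iff.1 hab _ (h.defW.right_le hy) _ (h.defW.left_le hx))
      (ab_iff.1 hab _ (h.defW.right_le hy') _ (h.defW.left_le hx')) e.symm
    obtain ⟨k, hk, w, hw, rfl⟩ := h.defL.mem_iff.1 hg
    have h3 : k * x * k⁻¹ = x' := by
      rw [← h2, show k * w * x * (k * w)⁻¹ = k * (w * x) * w⁻¹ * k⁻¹ by group,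
        ab_iff.1 hab _ (h.defW.left_le hw) _ (h.defW.left_le hx)]; group
    have h4 : x' * x⁻¹ ∈ K ⊓ W1 := mem_inf.2 ⟨by
      rw [← h3, show k * x * k⁻¹ * x⁻¹ = k * (x * k⁻¹ * x⁻¹) by group]
      exact mul_mem hk (conj_mem_of_norm (h.defL.le_norm hx) (inv_mem hk)), mul_mem hx' (inv_mem hx)⟩
    rw [h.defL.inf_eq, mem_bot, mul_inv_eq_one] at h4
    have h5 : k ∈ K ⊓ 𝐂[x] := mem_inf.2 ⟨hk, mem_cent1_iff_conj.2 (h3.trans h4)⟩
    rw [h.prime_act x hx h1] at h5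
    exact mul_mem (h.defW.right_le h5) (h.defW.left_le hw)

theorem P4.V_sub (h : PrimeTIHyp L K W W1 W2) : V ⊆ (W : Set G) \ W2 := fun x hx =>
  ⟨((mem_cycTIset' h.defW).1 hx).1, ((mem_cycTIset' h.defW).1 hx).2.2⟩

/-- (4.3)(a), second part -/
theorem prime_cycTIhyp (h : PrimeTIHyp L K W W1 W2) : CycTIHyp L W W1 W2 := by
  refine ⟨h.defW, h.cycW, h.odd, (normedTI_prTIset h).mono ?_ (V_sub h) fun g hg a ha => ?_⟩
  · obtain ⟨x, hx, h1⟩ := exists_mem_ne_one h.W1_ne_bot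
    obtain ⟨y, hy, h2⟩ := exists_mem_ne_one h.W2_ne_bot
    exact ⟨x * y, (mul_mem_cycTIset h.defW hx hy).2 ⟨h1, h2⟩⟩
  · rwa [ab_iff.1 (ab_of_isCyclic h.cycW) g hg a (V_sub h ha).1, mul_inv_cancel_right]

theorem prTIsign_eq (L W W1 W2 : Subgroup G) (j : G → ℂ) :
    prTIsign L W W1 W2 j = 1 ∨ prTIsign L W W1 W2 j = -1 := by
  unfold prTIsign; split_ifs <;> simp

theorem prTIsign_mul_self (L W W1 W2 : Subgroup G) (j : G → ℂ) :
    prTIsign L W W1 W2 j * prTIsign L W W1 W2 j = 1 := by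
  rcases prTIsign_eq L W W1 W2 j with e | e <;> simp [e]

theorem prTIsign_ne_zero (L W W1 W2 : Subgroup G) (j : G → ℂ) : prTIsign L W W1 W2 j ≠ 0 := by
  rcases prTIsign_eq L W W1 W2 j with e | e <;> simp [e]

theorem conj_prTIsign (L W W1 W2 : Subgroup G) (j : G → ℂ) :
    conj (prTIsign L W W1 W2 j) = prTIsign L W W1 W2 j := by
  rcases prTIsign_eq L W W1 W2 j with e | e <;> simp [e]

theorem cycTIiso_prTIirr (L W W1 W2 : Subgroup G) (i j : G → ℂ) :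
    cycTIeta L W W1 W2 i j = prTIsign L W W1 W2 j • prTIirr L W W1 W2 i j := by
  rw [prTIirr, smul_smul, prTIsign_mul_self, one_smul]

namespace P4

theorem sub_on (h : PrimeTIHyp L K W W1 W2) (hi : IsIrr W1 i) (hj : IsIrr W2 j) :
    ω i j - ω (cf1 W1) j ∈ CFon W ((W : Set G) \ W2) := by
  refine mem_CFon_of (sub_mem (isIrr_cycTIirr h.defW hi hj).mem_CF
    (isIrr_cycTIirr h.defW (isIrr_cf1 _) hj).mem_CF) fun x hx hx' => ?_
  have h1 : x ∈ W2 := by_contra fun h1 => hx' ⟨hx, h1⟩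
  rw [Pi.sub_apply, ← one_mul x, cycTIirrE h.defW _ _ (one_mem _) h1,
    cycTIirrE h.defW _ _ (one_mem _) h1, ((prime_cycTIhyp h).lin1 hi).one, cf1_one, sub_self]

theorem ind_sub (h : PrimeTIHyp L K W W1 W2) (hi : IsIrr W1 i) (hj : IsIrr W2 j) :
    cfInd L W (ω i j - ω (cf1 W1) j) = η i j - η (cf1 W1) j := by
  by_cases h0 : i = cf1 W1
  · simp [h0]
  have hc := prime_cycTIhyp h
  have h1 := isIrr_cycTIirr h.defW hi hj
  have h2 := isIrr_cycTIirr h.defW (isIrr_cf1 W1) hj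
  have := eq_signed_sub_cTIiso hc.symm (e := 1) (Or.inl rfl) (φ := cfInd L W (ω i j - ω (cf1 W1) j))
    (cfInd_vchar h.W_le (sub_mem (irr_vchar h1) (irr_vchar h2)))
    (by rw [cfnorm_eq_re, normedTI_isometry (normedTI_prTIset h) (sub_on h hi hj) (sub_on h hi hj),
      ← cfnorm_eq_re, cfnormBd (cfdot_irr_ne h1 h2 fun e =>
        h0 ((cycTIirr_inj h.defW hi hj (isIrr_cf1 _) hj).1 e).1), cfnorm_irr h1, cfnorm_irr h2]; norm_num)
    hj hi (isIrr_cf1 W1) h0 fun x hx => by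
      rw [cycTIset_comm] at hx
      rw [one_smul, cycTIetaC hc hi hj, cycTIetaC hc (isIrr_cf1 _) hj, normedTI_Ind_id
        (normedTI_prTIset h) (sub_on h hi hj) (V_sub h hx) (h.W_le (V_sub h hx).1), Pi.sub_apply,
        Pi.sub_apply, cycTIeta_restrict hc hi hj hx, cycTIeta_restrict hc (isIrr_cf1 _) hj hx]
  rw [this, one_smul, cycTIetaC hc hi hj, cycTIetaC hc (isIrr_cf1 _) hj]

theorem eta_one (h : PrimeTIHyp L K W W1 W2) (hi : IsIrr W1 i) (hj : IsIrr W2 j) :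
    η i j 1 = η (cf1 W1) j 1 := by
  rw [← sub_eq_zero, ← Pi.sub_apply, ← ind_sub h hi hj, cfInd1 h.W_le,
    cfun_on0 (sub_on h hi hj) fun h1 => h1.2 (one_mem _), mul_zero]

theorem ind_eq (h : PrimeTIHyp L K W W1 W2) (hφ : φ ∈ CFon W ((W : Set G) \ W2)) :
    cfInd L W φ = cycTIiso L W W1 W2 φ := by
  have hc := prime_cycTIhyp h
  have h1 := cfun_sum_cfdot hφ.1
  rw [sum_Irr_cycTI h.defW (fun χ => ⟪φ, χ⟫[W] • χ), Finset.sum_comm] at h1
  have h2 : ∑ j ∈ Irr W2, (∑ i ∈ Irr W1, ⟪φ, ω i j⟫[W]) • j = 0 := by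
    refine cfun_ext (sum_smul_irr_mem_CF (fun _ => mem_Irr.1) _) (zero_mem _) fun y hy => ?_
    have h3 := congrFun h1 (1 * y)
    rw [cfun_on0 hφ (fun h4 => h4.2 (by simpa using hy))] at h3
    rw [Pi.zero_apply, h3]
    simp only [Finset.sum_apply, Pi.smul_apply, smul_eq_mul, Finset.sum_mul]
    refine Finset.sum_congr rfl fun j _ => Finset.sum_congr rfl fun i hi => ?_
    rw [cycTIirrE h.defW _ _ (one_mem _) hy, (hc.lin1 (mem_Irr.1 hi)).one, one_mul]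
  have h3 : φ = ∑ j ∈ Irr W2, ∑ i ∈ Irr W1, ⟪φ, ω i j⟫[W] • (ω i j - ω (cf1 W1) j) := by
    conv_lhs => rw [h1]
    refine Finset.sum_congr rfl fun j hj => ?_
    simp only [smul_sub, Finset.sum_sub_distrib, ← Finset.sum_smul]
    rw [← cfdot_sum_smul_irr (fun _ => mem_Irr.1) (fun j => ∑ i ∈ Irr W1, ⟪φ, ω i j⟫[W]) hj, h2,
      cfdot0l, zero_smul, sub_zero]
  rw [h3]
  simp only [map_sum, map_smul]
  refine Finset.sum_congr rfl fun j hj => Finset.sum_congr rfl fun i hi => ?_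
  rw [ind_sub h (mem_Irr.1 hi) (mem_Irr.1 hj), map_sub]

theorem TI_conj (h : PrimeTIHyp L K W W1 W2) :
    ∀ g ∈ W, ∀ x ∈ (W : Set G) \ W2, g * x * g⁻¹ ∈ (W : Set G) \ W2 := (normedTI_prTIset h).conj_mem

theorem eta_id (h : PrimeTIHyp L K W W1 W2) (hφ : φ ∈ CF W) (hx : x ∈ W) (hx2 : x ∉ W2) :
    cycTIiso L W W1 W2 φ x = φ x :=
  (equiv_restrict_compl h.W_le Set.sdiff_subset (TI_conj h)
    (cycTIiso_mem_CF (prime_cycTIhyp h) hφ) hφ).2 (fun ψ hψ => by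
      rw [ind_eq h hψ, cycTIisometry (prime_cycTIhyp h) hψ.1 hφ]) x ⟨hx, hx2⟩

end P4

/-- (4.3)(b) -/
theorem prTIirr_irr (h : PrimeTIHyp L K W W1 W2) (hi : IsIrr W1 i) (hj : IsIrr W2 j) :
    IsIrr L (μ₂ i j) := by
  refine ((cycTIiso_dirr (prime_cycTIhyp h) hi hj).smul_sign (prTIsign_eq L W W1 W2 j)).isIrr ?_
  rw [Pi.smul_apply, eta_one h hi hj, prTIsign]
  split_ifs with h1
  · simpa using h1.le
  · simpa using h1

open Classical in
theorem cfdot_prTIirr (h : PrimeTIHyp L K W W1 W2) (hi1 : IsIrr W1 i1) (hj1 : IsIrr W2 j1)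
    (hi2 : IsIrr W1 i2) (hj2 : IsIrr W2 j2) :
    ⟪μ₂ i1 j1, μ₂ i2 j2⟫[L] = if i1 = i2 ∧ j1 = j2 then 1 else 0 := by
  rw [prTIirr, prTIirr, cfdotZl, cfdotZr, cfdot_cycTIiso (prime_cycTIhyp h) hi1 hj1 hi2 hj2]
  split_ifs with h1
  · rw [conj_prTIsign, h1.2, mul_one, prTIsign_mul_self]
  · simp

theorem prTIirr_inj (h : PrimeTIHyp L K W W1 W2) (hi1 : IsIrr W1 i1) (hj1 : IsIrr W2 j1)
    (hi2 : IsIrr W1 i2) (hj2 : IsIrr W2 j2) : μ₂ i1 j1 = μ₂ i2 j2 ↔ i1 = i2 ∧ j1 = j2 := by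
  refine ⟨fun e => by_contra fun h1 => ?_, fun ⟨e1, e2⟩ => by rw [e1, e2]⟩
  have := cfdot_prTIirr h hi1 hj1 hi2 hj2
  rw [if_neg h1, e, cfdot_irr_self (prTIirr_irr h hi2 hj2)] at this
  exact one_ne_zero this

theorem cfInd_sub_prTIirr (h : PrimeTIHyp L K W W1 W2) (hi : IsIrr W1 i) (hj : IsIrr W2 j) :
    cfInd L W (ω i j - ω (cf1 W1) j) = δ j • (μ₂ i j - μ₂ (cf1 W1) j) := by
  rw [ind_sub h hi hj, smul_sub, cycTIiso_prTIirr, cycTIiso_prTIirr]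

/-- (4.3)(c) -/
theorem prTIirr_id (h : PrimeTIHyp L K W W1 W2) (hi : IsIrr W1 i) (hj : IsIrr W2 j) (hx : x ∈ W)
    (hx2 : x ∉ W2) : μ₂ i j x = δ j * ω i j x := by
  rw [prTIirr, Pi.smul_apply, smul_eq_mul, cycTIeta,
    eta_id h (isIrr_cycTIirr h.defW hi hj).mem_CF hx hx2]

theorem not_prTIirr_vanish (h : PrimeTIHyp L K W W1 W2) (hχ : IsIrr L χ)
    (hn : ∀ i ∈ Irr W1, ∀ j ∈ Irr W2, χ ≠ μ₂ i j) (hx : x ∈ W) (hx2 : x ∉ W2) : χ x = 0 := by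
  refine (equiv_restrict_compl h.W_le Set.sdiff_subset (TI_conj h) hχ.mem_CF (zero_mem _)).2
    (fun ψ hψ => ?_) x ⟨hx, hx2⟩
  rw [ind_eq h hψ, cfdot0r, cfun_sum_cfdot hψ.1, sum_Irr_cycTI h.defW (fun χ => ⟪ψ, χ⟫[W] • χ)]
  simp only [map_sum, map_smul, cfdot_suml, cfdotZl]
  refine (Finset.sum_eq_zero fun i hi => Finset.sum_eq_zero fun j hj => ?_).symm
  rw [← cycTIeta, cycTIiso_prTIirr, cfdotZl, cfdot_irr_ne (prTIirr_irr h (mem_Irr.1 hi) (mem_Irr.1 hj))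
    hχ (hn i hi j hj).symm, mul_zero, mul_zero]

theorem P4.prTIirr_W1 (h : PrimeTIHyp L K W W1 W2) (hi : IsIrr W1 i) (hj : IsIrr W2 j) (hx : x ∈ W1)
    (h1 : x ≠ 1) {y : G} (hy : y ∈ W2) : μ₂ i j (y * x) = δ j * (i x * j y) := by
  rw [prTIirr_id h hi hj (mul_mem (h.defW.right_le hy) (h.defW.left_le hx)) (h.not_mem_W2 hx h1 hy),
    ← mem_cent_iff.1 (h.defW.le_cent hy) x hx, cycTIirrE h.defW _ _ hx hy]

/-- (4.3)(d) -/
theorem prTIirr1_mod (h : PrimeTIHyp L K W W1 W2) (hi : IsIrr W1 i) (hj : IsIrr W2 j) :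
    EqCmod ♯W1 (μ₂ i j 1) (δ j) := by
  have hc := prime_cycTIhyp h
  have h1 : cfRes W1 (μ₂ i j) - δ j • i ∈ ZIrr W1 :=
    sub_mem (cfRes_vchar h.W1_le (irr_vchar (prTIirr_irr h hi hj))) (scale_zchar (by
      rcases prTIsign_eq L W W1 W2 j with e | e <;> rw [e]
      exacts [isCint_one, isCint_one.neg]) (irr_vchar hi))
  obtain ⟨z, hz⟩ := Cint_cfdot_vchar h1 (cf1_vchar W1)
  refine ⟨z, ?_⟩
  rw [← hz, cfdot_cf1r, mul_inv_cancel_left₀ (cardC_ne_zero _),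
    Finset.sum_eq_single_of_mem 1 (mem_elts.2 (one_mem _)) fun x hx h2 => ?_]
  · simp [(hc.lin1 hi).one]
  · have := prTIirr_W1 h hi hj (mem_elts.1 hx) h2 (one_mem _)
    rw [one_mul, (hc.lin2 hj).one, mul_one] at this
    rw [Pi.sub_apply, cfResE _ (mem_elts.1 hx), this, Pi.smul_apply, smul_eq_mul, sub_self]

theorem prTIsign_aut (h : PrimeTIHyp L K W W1 W2) (u : ℂ ≃+* ℂ) (hj : IsIrr W2 j) :
    δ (cfAut u j) = δ j := by
  have := cfAut_cycTIeta (prime_cycTIhyp h) u (isIrr_cf1 W1) hj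
  rw [cfAut_cf1] at this
  rw [prTIsign, prTIsign, ← this, cfAutE,
    (Cint_vchar1 (cycTIiso_vchar (prime_cycTIhyp h) (isIrr_cf1 W1) hj)).aut_eq]

theorem prTIsign_star (h : PrimeTIHyp L K W W1 W2) (hj : IsIrr W2 j) : δ (star j) = δ j :=
  prTIsign_aut h conjAut hj

theorem prTIirr_aut (h : PrimeTIHyp L K W W1 W2) (u : ℂ ≃+* ℂ) (hi : IsIrr W1 i) (hj : IsIrr W2 j) :
    μ₂ (cfAut u i) (cfAut u j) = cfAut u (μ₂ i j) := by
  rw [prTIirr, prTIirr, cfAut_smul, cfAut_cycTIeta (prime_cycTIhyp h) u hi hj, prTIsign_aut h u hj]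
  rcases prTIsign_eq L W W1 W2 j with e | e <;> simp [e]

theorem prTIirr_star (h : PrimeTIHyp L K W W1 W2) (hi : IsIrr W1 i) (hj : IsIrr W2 j) :
    μ₂ (star i) (star j) = star (μ₂ i j) := prTIirr_aut h conjAut hi hj

theorem prTIred_char (h : PrimeTIHyp L K W W1 W2) (hj : IsIrr W2 j) : IsChar L (μ j) :=
  isChar_sum fun i hi => (prTIirr_irr h (mem_Irr.1 hi) hj).isChar

theorem prTIred_aut (h : PrimeTIHyp L K W W1 W2) (u : ℂ ≃+* ℂ) (hj : IsIrr W2 j) :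
    μ (cfAut u j) = cfAut u (μ j) := by
  rw [prTIred, prTIred, cfAut_sum, ← sum_Irr_cfAut W1 u]
  exact Finset.sum_congr rfl fun i hi => prTIirr_aut h u (mem_Irr.1 hi) hj

theorem prTIred_star (h : PrimeTIHyp L K W W1 W2) (hj : IsIrr W2 j) : μ (star j) = star (μ j) :=
  prTIred_aut h conjAut hj

open Classical in
theorem cfdot_prTIirr_red (h : PrimeTIHyp L K W W1 W2) (hi : IsIrr W1 i) (hj : IsIrr W2 j)
    (hk : IsIrr W2 k) : ⟪μ₂ i j, μ k⟫[L] = if j = k then 1 else 0 := by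
  rw [prTIred, cfdot_sumr, Finset.sum_eq_single_of_mem i (mem_Irr.2 hi) fun l hl hne => by
    rw [cfdot_prTIirr h hi hj (mem_Irr.1 hl) hk, if_neg fun h1 => hne h1.1.symm],
    cfdot_prTIirr h hi hj hi hk]
  simp

open Classical in
theorem cfdot_prTIred (h : PrimeTIHyp L K W W1 W2) (hj : IsIrr W2 j) (hk : IsIrr W2 k) :
    ⟪μ j, μ k⟫[L] = if j = k then (♯W1 : ℂ) else 0 := by
  rw [prTIred, cfdot_suml, Finset.sum_congr rfl fun i hi => cfdot_prTIirr_red h (mem_Irr.1 hi) hj hk,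
    Finset.sum_const, (prime_cycTIhyp h).card_Irr.1]
  split_ifs <;> simp

theorem cfnorm_prTIred (h : PrimeTIHyp L K W W1 W2) (hj : IsIrr W2 j) : cfnorm L (μ j) = ♯W1 :=
  cfnorm_eq_of_cfdot (by rw [cfdot_prTIred h hj hj, if_pos rfl]; simp)

theorem prTIred_neq0 (h : PrimeTIHyp L K W W1 W2) (hj : IsIrr W2 j) : μ j ≠ 0 := fun e => by
  have := cfnorm_prTIred h hj
  rw [e, cfnorm0] at this
  exact (cardR_pos W1).ne this

theorem prTIred_1_gt0 (h : PrimeTIHyp L K W W1 W2) (hj : IsIrr W2 j) : 0 < (μ j 1).re :=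
  char1_gt0 (prTIred_char h hj) (prTIred_neq0 h hj)

theorem prTIred_1_neq0 (h : PrimeTIHyp L K W W1 W2) (hj : IsIrr W2 j) : μ j 1 ≠ 0 := fun e => by
  simpa [e] using prTIred_1_gt0 h hj

theorem prTIred_inj (h : PrimeTIHyp L K W W1 W2) (hj : IsIrr W2 j) (hk : IsIrr W2 k) :
    μ j = μ k ↔ j = k := by
  refine ⟨fun e => by_contra fun h1 => ?_, fun e => by rw [e]⟩
  have := cfdot_prTIred h hj hk
  rw [if_neg h1, e, cfdot_prTIred h hk hk, if_pos rfl] at this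
  exact cardC_ne_zero _ this

theorem prTIred_not_real (h : PrimeTIHyp L K W W1 W2) (hj : IsIrr W2 j) (hj0 : j ≠ cf1 W2) :
    star (μ j) ≠ μ j := by
  rw [← prTIred_star h hj, Ne, prTIred_inj h hj.star hj]
  exact (prime_cycTIhyp h).star_ne2 hj hj0

theorem prTIred_not_irr (h : PrimeTIHyp L K W W1 W2) (hj : IsIrr W2 j) : ¬ IsIrr L (μ j) := fun h1 => by
  have h2 := cfnorm_prTIred h hj
  rw [cfnorm_irr h1] at h2
  exact h.W1_ne_bot (card_eq_one_iff.1 (by exact_mod_cast h2.symm))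

theorem prTIsign0 (h : PrimeTIHyp L K W W1 W2) : δ (cf1 W2) = 1 := by
  rw [prTIsign, cycTIiso00 (prime_cycTIhyp h), if_pos (by simp)]

theorem prTIirr00 (h : PrimeTIHyp L K W W1 W2) : μ₂ (cf1 W1) (cf1 W2) = cf1 L := by
  rw [prTIirr, prTIsign0 h, one_smul, cycTIiso00 (prime_cycTIhyp h)]

/-- the characters `μ_{i0}` are inflated from `W₁ ≅ L / K` -/
theorem prTIirr0_eq (h : PrimeTIHyp L K W W1 W2) (hi : IsIrr W1 i) :
    μ₂ i (cf1 W2) = cfSdprod K W1 i := by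
  rw [prTIirr, prTIsign0 h, one_smul]
  refine (eq_in_cycTIiso (prime_cycTIhyp h) (isIrr_cycTIirr h.defW hi (isIrr_cf1 _))
    (hi.cfSdprod h.defL).isDirr fun x hx => ?_).symm
  obtain ⟨a, ha, -, b, hb, -, rfl⟩ := (mem_cycTIset h.defW).1 hx
  rw [cycTIirrE h.defW _ _ ha hb, cf1E hb, mul_one, mem_cent_iff.1 (h.defW.le_cent hb) a ha,
    cfSdprodE h.defL.inf_eq _ (h.W2_le hb) ha]

/-- (4.4) -/
theorem prTIirr0P (h : PrimeTIHyp L K W W1 W2) (hχ : IsIrr L χ) :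
    K ≤ cfker L χ ↔ ∃ i, IsIrr W1 i ∧ χ = μ₂ i (cf1 W2) := by
  refine ⟨fun h1 => ?_, fun ⟨i, hi, e⟩ => ?_⟩
  · have hi := hχ.cfRes_sdprod h.defL h1
    exact ⟨_, hi, by rw [prTIirr0_eq h hi, cfSdprod_cfRes h.defL hχ.mem_CF h1]⟩
  · rw [e, prTIirr0_eq h hi]; exact le_cfker_cfSdprod h.defL i

theorem P4.prTIirr0_K (h : PrimeTIHyp L K W W1 W2) (hi : IsIrr W1 i) (hx : x ∈ K) :
    μ₂ i (cf1 W2) x = 1 := by
  rw [prTIirr0_eq h hi, ← mul_one x, cfSdprodE h.defL.inf_eq _ hx (one_mem _), ((prime_cycTIhyp h).lin1 hi).one]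

theorem prTIirr0_1 (h : PrimeTIHyp L K W W1 W2) (hi : IsIrr W1 i) : μ₂ i (cf1 W2) 1 = 1 :=
  prTIirr0_K h hi (one_mem _)

theorem prTIirr0_linear (h : PrimeTIHyp L K W W1 W2) (hi : IsIrr W1 i) :
    IsLinChar L (μ₂ i (cf1 W2)) := (prTIirr_irr h hi (isIrr_cf1 _)).isLinChar (prTIirr0_1 h hi)

theorem prTIirr_split (h : PrimeTIHyp L K W W1 W2) (hi : IsIrr W1 i) (hj : IsIrr W2 j) :
    μ₂ i j = μ₂ i (cf1 W2) * μ₂ (cf1 W1) j := by
  have h1 := eq_in_cycTIiso (prime_cycTIhyp h) (isIrr_cycTIirr h.defW hi hj)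
    ((mul_lin_irr (prTIirr0_linear h hi) (prTIirr_irr h (isIrr_cf1 _) hj)).isDirr.smul_sign
      (prTIsign_eq L W W1 W2 j)) fun x hx => by
    rw [Pi.smul_apply, Pi.mul_apply, prTIirr_id h hi (isIrr_cf1 _) (V_sub h hx).1 (V_sub h hx).2,
      prTIirr_id h (isIrr_cf1 _) hj (V_sub h hx).1 (V_sub h hx).2, prTIsign0 h,
      cycTIirr_split h.defW i j, Pi.mul_apply, smul_eq_mul]
    linear_combination (ω i (cf1 W2) x * ω (cf1 W1) j x) * prTIsign_mul_self L W W1 W2 j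
  rw [prTIirr, cycTIeta, ← h1, smul_smul, prTIsign_mul_self, one_smul]

end Pf

end Cfsg.Agent.OO
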