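import Cfsg.Agent.Lib.OO.PF4

/-! # Peterfalvi section 5: sets of induced characters -/

set_option autoImplicit false
set_option linter.unusedSectionVars false
set_option linter.unusedVariables false

namespace Cfsg.Agent.OO.Pf

open Subgroup Cfsg.Agent.Coprime
open scoped Pointwise ComplexConjugate

universe u

variable {G : Type u} [Group G] [Finite G] {Γ L K H H0 M W W1 W2 : Subgroup G} {A A0 : Set G}
  {φ ψ χ θ ξ β : G → ℂ} {S S1 S2 X Y : Finset (G → ℂ)}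

theorem mem_IrrKerD : θ ∈ IrrKerD K H M ↔ IsIrr K θ ∧ M ≤ cfker K θ ∧ ¬ H ≤ cfker K θ := by
  simp only [IrrKerD, Finset.mem_filter, mem_Irr]

theorem IrrKerD_irr (h : θ ∈ IrrKerD K H M) : IsIrr K θ := (mem_IrrKerD.1 h).1

theorem IrrKerD_subset (K H M : Subgroup G) : IrrKerD K H M ⊆ Irr K :=
  fun _ h => mem_Irr.2 (IrrKerD_irr h)

theorem Iirr_kerDS (K : Subgroup G) {H1 H2 M1 M2 : Subgroup G} (hM : M2 ≤ M1) (hH : H1 ≤ H2) :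
    IrrKerD K H1 M1 ⊆ IrrKerD K H2 M2 := fun _ h =>
  let ⟨h1, h2, h3⟩ := mem_IrrKerD.1 h; mem_IrrKerD.2 ⟨h1, hM.trans h2, fun h4 => h3 (hH.trans h4)⟩

theorem Iirr_kerDY (K H M : Subgroup G) : IrrKerD K (M ⊔ H) M = IrrKerD K H M := by
  ext θ
  simp only [mem_IrrKerD, sup_le_iff]
  tauto

theorem mem_Iirr_ker1 : θ ∈ IrrKerD K K ⊥ ↔ IsIrr K θ ∧ θ ≠ cf1 K := by
  rw [mem_IrrKerD]
  exact and_congr_right fun h => by rw [h.le_cfker_iff]; simp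

theorem IrrKerD_ne_cf1 (hH : H ≤ K) (h : θ ∈ IrrKerD K H M) : θ ≠ cf1 K := fun e =>
  (mem_IrrKerD.1 h).2.2 (by rwa [e, cfker_cf1])

theorem cfAut_mem_IrrKerD (u : ℂ ≃+* ℂ) (h : θ ∈ IrrKerD K H M) : cfAut u θ ∈ IrrKerD K H M := by
  rw [mem_IrrKerD] at h ⊢
  rw [cfker_cfAut]
  exact ⟨h.1.cfAut u, h.2⟩

theorem star_mem_IrrKerD (h : θ ∈ IrrKerD K H M) : star θ ∈ IrrKerD K H M := cfAut_mem_IrrKerD conjAut h

theorem cfConjg_mem_IrrKerD {g : G} (hK : g ∈ 𝐍(K)) (hH : g ∈ 𝐍(H)) (hM : g ∈ 𝐍(M))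
    (h : θ ∈ IrrKerD K H M) : cfConjg g θ ∈ IrrKerD K H M := by
  rw [mem_IrrKerD] at h ⊢
  rw [cfker_cfConjg hK, le_conj_iff_inv_conj_le, le_conj_iff_inv_conj_le,
    conj_eq_of_mem_norm (inv_mem hH), conj_eq_of_mem_norm (inv_mem hM)]
  exact ⟨h.1.cfConjg hK, h.2⟩

open Classical in
theorem P5.sum_IrrKerD {V : Type*} [AddCommGroup V] (K : Subgroup G) (hMH : M ≤ H) (f : (G → ℂ) → V) :
    ∑ θ ∈ IrrKerD K H M, f θ = ∑ θ ∈ (Irr K).filter fun χ => M ≤ cfker K χ, f θ -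
      ∑ θ ∈ (Irr K).filter fun χ => H ≤ cfker K χ, f θ := by
  rw [← Finset.sum_sdiff_eq_sub (Finset.monotone_filter_right _ fun χ _ h => hMH.trans h)]
  congr 1
  ext θ
  simp only [mem_IrrKerD, Finset.mem_sdiff, Finset.mem_filter, mem_Irr]
  tauto

open P5

theorem P5.relIndexC_mul (h1 : M ≤ H) (h2 : H ≤ K) :
    (M.relIndex H : ℂ) * H.relIndex K = M.relIndex K := by
  exact_mod_cast relIndex_mul_relIndex M H K h1 h2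

theorem sum_Iirr_kerD_square (hH : H ⊴ K) (hM : M ⊴ K) (hMH : M ≤ H) :
    ∑ θ ∈ IrrKerD K H M, θ 1 ^ 2 = H.relIndex K * ((M.relIndex H : ℂ) - 1) := by
  rw [sum_IrrKerD K hMH, sum_irr_cfker_square hM, sum_irr_cfker_square hH, ← relIndexC_mul hMH hH.1]
  ring

theorem seqIndP : φ ∈ seqInd K L X ↔ ∃ θ ∈ X, φ = cfInd L K θ := by
  simp only [seqInd, Finset.mem_image, eq_comm]

theorem mem_seqIndD :
    φ ∈ seqIndD K L H M ↔ ∃ θ, IsIrr K θ ∧ M ≤ cfker K θ ∧ ¬ H ≤ cfker K θ ∧ φ = cfInd L K θ := by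
  simp only [seqIndD, seqIndP, mem_IrrKerD, and_assoc]

theorem mem_seqIndT : φ ∈ seqIndT K L ↔ ∃ θ, IsIrr K θ ∧ φ = cfInd L K θ := by
  simp only [seqIndT, seqIndP, mem_Irr]

theorem seqIndC1P : φ ∈ seqIndD K L K ⊥ ↔ ∃ θ, IsIrr K θ ∧ θ ≠ cf1 K ∧ φ = cfInd L K θ := by
  simp only [seqIndD, seqIndP, mem_Iirr_ker1, and_assoc]

theorem seqIndS (K L : Subgroup G) (h : X ⊆ Y) : seqInd K L X ⊆ seqInd K L Y := fun _ h1 =>
  let ⟨θ, h2, e⟩ := seqIndP.1 h1; seqIndP.2 ⟨θ, h h2, e⟩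

theorem seqIndDS (K L : Subgroup G) {H1 H2 M1 M2 : Subgroup G} (hM : M2 ≤ M1) (hH : H1 ≤ H2) :
    seqIndD K L H1 M1 ⊆ seqIndD K L H2 M2 := seqIndS K L (Iirr_kerDS K hM hH)

theorem seqInd_subT (K L H M : Subgroup G) : seqIndD K L H M ⊆ seqIndT K L :=
  seqIndS K L (IrrKerD_subset K H M)

theorem seqIndT_Ind1 (K L : Subgroup G) : cfInd L K (cf1 K) ∈ seqIndT K L :=
  mem_seqIndT.2 ⟨_, isIrr_cf1 K, rfl⟩

theorem seqIndDY (K L H M : Subgroup G) : seqIndD K L (M ⊔ H) M = seqIndD K L H M := by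
  rw [seqIndD, seqIndD, Iirr_kerDY]

theorem mem_seqInd (hK : K ⊴ L) (hH : H ⊴ L) (hM : M ⊴ L) (hθ : IsIrr K θ) :
    cfInd L K θ ∈ seqIndD K L H M ↔ θ ∈ IrrKerD K H M := by
  refine ⟨fun h => ?_, fun h => seqIndP.2 ⟨θ, h, rfl⟩⟩
  obtain ⟨ξ, h1, e⟩ := seqIndP.1 h
  obtain ⟨g, hg, rfl⟩ := mem_cfclass.1 ((cfclass_Ind_irrP hK (IrrKerD_irr h1) hθ).1 e)
  exact cfConjg_mem_IrrKerD (hK.2 hg) (hH.2 hg) (hM.2 hg) h1

theorem mem_seqIndD_iff_cfker (hK : K ⊴ L) (hH : H ⊴ L) (hM : M ⊴ L) (hHK : H ≤ K) (hMK : M ≤ K) :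
    φ ∈ seqIndD K L H M ↔ φ ∈ seqIndT K L ∧ M ≤ cfker L φ ∧ ¬ H ≤ cfker L φ := by
  rw [mem_seqIndD, mem_seqIndT]
  constructor
  · rintro ⟨θ, h1, h2, h3, rfl⟩
    rw [sub_cfker_Ind hK.1 hMK hM.2 h1.isChar, sub_cfker_Ind hK.1 hHK hH.2 h1.isChar]
    exact ⟨⟨θ, h1, rfl⟩, h2, h3⟩
  · rintro ⟨⟨θ, h1, rfl⟩, h2⟩
    rw [sub_cfker_Ind hK.1 hMK hM.2 h1.isChar, sub_cfker_Ind hK.1 hHK hH.2 h1.isChar] at h2
    exact ⟨θ, h1, h2.1, h2.2, rfl⟩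

open Classical in
theorem seqIndC1_rem (hK : K ⊴ L) :
    seqIndD K L K ⊥ = (seqIndT K L).erase (cfInd L K (cf1 K)) := by
  ext φ
  rw [seqIndC1P, Finset.mem_erase, mem_seqIndT]
  constructor
  · rintro ⟨θ, h1, h2, rfl⟩
    exact ⟨fun e => h2 ((cfInd_irr_eq1 hK h1).1 e), θ, h1, rfl⟩
  · rintro ⟨h2, θ, h1, rfl⟩
    exact ⟨θ, h1, fun e => h2 (by rw [e]), rfl⟩

theorem cfAut_seqIndT (u : ℂ ≃+* ℂ) (h : φ ∈ seqIndT K L) : cfAut u φ ∈ seqIndT K L := by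
  obtain ⟨θ, h1, rfl⟩ := mem_seqIndT.1 h
  exact mem_seqIndT.2 ⟨_, h1.cfAut u, cfAut_cfInd u _ _ _⟩

theorem cfAut_seqInd (u : ℂ ≃+* ℂ) (h : φ ∈ seqIndD K L H M) : cfAut u φ ∈ seqIndD K L H M := by
  obtain ⟨θ, h1, rfl⟩ := seqIndP.1 h
  exact seqIndP.2 ⟨_, cfAut_mem_IrrKerD u h1, cfAut_cfInd u _ _ _⟩

theorem star_seqIndT (h : φ ∈ seqIndT K L) : star φ ∈ seqIndT K L := cfAut_seqIndT conjAut h

theorem star_seqInd (h : φ ∈ seqIndD K L H M) : star φ ∈ seqIndD K L H M := cfAut_seqInd conjAut h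

theorem seqInd_conjC_subset (K L : Subgroup G) {H1 H2 M1 M2 : Subgroup G} (hM : M2 ≤ M1)
    (hH : H1 ≤ H2) : ConjSubset (seqIndD K L H1 M1) (seqIndD K L H2 M2) :=
  ⟨seqIndDS K L hM hH, fun _ => star_seqInd⟩

theorem seqInd_conjC_subset1 (K L M : Subgroup G) (h : H ≤ H0) :
    ConjSubset (seqIndD K L H M) (seqIndD K L H0 ⊥) := seqInd_conjC_subset K L bot_le h

theorem seqInd_on (hK : K ⊴ L) (h : φ ∈ seqIndT K L) : φ ∈ CFon L K := by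
  obtain ⟨θ, h1, rfl⟩ := mem_seqIndT.1 h
  exact cfInd_normal hK.2 h1.mem_CF.1

theorem seqInd_mem_CF (h : φ ∈ seqIndT K L) : φ ∈ CF L := by
  obtain ⟨θ, h1, rfl⟩ := mem_seqIndT.1 h
  exact cfInd_mem_CF _ _ _

theorem seqInd_char (hK : K ≤ L) (h : φ ∈ seqIndT K L) : IsChar L φ := by
  obtain ⟨θ, h1, rfl⟩ := mem_seqIndT.1 h
  exact h1.isChar.cfInd hK

theorem seqInd_vcharW (hK : K ≤ L) (h : φ ∈ seqIndT K L) : φ ∈ ZIrr L := char_vchar (seqInd_char hK h)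

theorem seqInd_neq0 (hK : K ≤ L) (h : φ ∈ seqIndT K L) : φ ≠ 0 := by
  obtain ⟨θ, h1, rfl⟩ := mem_seqIndT.1 h
  exact h1.isChar.cfInd_ne_zero h1.ne_zero hK

theorem seqInd1_neq0 (hK : K ≤ L) (h : φ ∈ seqIndT K L) : φ 1 ≠ 0 := fun e =>
  seqInd_neq0 hK h ((char1_eq0 (seqInd_char hK h)).1 e)

theorem seqInd1_gt0 (hK : K ≤ L) (h : φ ∈ seqIndT K L) : 0 < (φ 1).re :=
  char1_gt0 (seqInd_char hK h) (seqInd_neq0 hK h)

theorem cfnorm_seqInd_gt0 (hK : K ≤ L) (h : φ ∈ seqIndT K L) : 0 < cfnorm L φ :=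
  cfnorm_gt0 (seqInd_mem_CF h) (seqInd_neq0 hK h)

theorem dvd_index_seqInd1 (hK : K ≤ L) (h : φ ∈ seqIndT K L) :
    ∃ a : ℕ, 0 < a ∧ φ 1 = a * K.relIndex L := by
  obtain ⟨θ, h1, rfl⟩ := mem_seqIndT.1 h
  obtain ⟨n, hn, e⟩ := h1.exists_one
  exact ⟨n, hn, by rw [cfInd1 hK, e, mul_comm]⟩

theorem seqInd_ortho (hK : K ⊴ L) (hφ : φ ∈ seqIndT K L) (hψ : ψ ∈ seqIndT K L) (h : φ ≠ ψ) :
    ⟪φ, ψ⟫[L] = 0 := by
  obtain ⟨θ, h1, rfl⟩ := mem_seqIndT.1 hφ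
  obtain ⟨ξ, h2, rfl⟩ := mem_seqIndT.1 hψ
  exact cfInd_ortho_of_ne hK h1 h2 h

theorem seqInd_orthogonal (hK : K ⊴ L) (hS : S ⊆ seqIndT K L) : PairwiseOrth L S :=
  ⟨fun h => seqInd_neq0 hK.1 (hS h) rfl, fun _ h1 _ h2 => seqInd_ortho hK (hS h1) (hS h2)⟩

theorem zchar_seqInd_vchar (hK : K ≤ L) (hS : S ⊆ seqIndT K L) : Zspan S ≤ ZIrr L :=
  fun _ => zchar_trans_vchar fun _ h => seqInd_vcharW hK (hS h)

theorem zcharD1_seqInd_on (hK : K ⊴ L) (hS : S ⊆ seqIndT K L) (h : φ ∈ ZspanOn S (sharp L)) :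
    φ ∈ CFon L (sharp K) := by
  have h1 : φ ∈ CFon L K := Zspan_le (fun _ h => seqInd_on hK (hS h)) h.1
  exact ⟨h1.1, (mem_suppOn_sharp h1.2).2 (zchar_on h 1 fun h => h.2 rfl)⟩

theorem zcharD1_seqInd (hK : K ⊴ L) (hS : S ⊆ seqIndT K L) :
    ZspanOn S (sharp L) = ZspanOn S (sharp K) :=
  le_antisymm (fun _ h => ⟨h.1, (zcharD1_seqInd_on hK hS h).2⟩) (zchar_onS (sharp_mono hK.1))

theorem P5.zchar_suppOn (hS : ∀ φ ∈ S, φ ∈ suppOn (insert 1 A)) (h : φ ∈ ZspanOn S (sharp L)) :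
    φ ∈ suppOn A := fun x hx => by
  by_cases h2 : x = 1
  · exact zchar_on h x fun h3 => h3.2 h2
  · exact Zspan_le hS h.1 x fun h3 => h3.elim h2 hx

theorem zcharD1_seqInd_Dade (h1 : (1 : G) ∉ A) (hS : ∀ φ ∈ S, φ ∈ CFon L (insert 1 A)) :
    ZspanOn S (sharp L) = ZspanOn S A :=
  le_antisymm (fun _ h => ⟨h.1, zchar_suppOn (fun φ h => (hS φ h).2) h⟩) fun _ h =>
    (zcharD1E fun φ h => (hS φ h).1).2 ⟨h.1, zchar_on h 1 h1⟩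

theorem Dade_isometryTo_zchar (h : DadeHyp Γ L A) (hS : ∀ φ ∈ S, φ ∈ ZIrr L)
    (hA : ∀ φ ∈ S, φ ∈ suppOn (insert 1 A)) :
    IsometryTo L Γ (ZspanOn S (sharp L)) (ZIrrOn Γ (sharp Γ)) (Dade Γ L A) :=
  sub_iso_to (E := ZIrrOn L A)
    (fun _ h' => mem_ZIrrOn.2 ⟨zchar_trans_vchar hS h'.1, zchar_suppOn hA h'⟩) le_rfl (Dade_Zisometry h)

theorem sub_seqInd_zchar (hS : ∀ φ ∈ S, φ ∈ CF L) (hφ : φ ∈ S) (hψ : ψ ∈ S) {a : ℂ} (ha : IsCint a)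
    (h1 : φ 1 = a * ψ 1) : φ - a • ψ ∈ ZspanOn S (sharp L) :=
  (zcharD1E hS).2 ⟨sub_mem (mem_zchar hφ) (scale_zchar ha (mem_zchar hψ)), by simp [h1]⟩

theorem sub_seqInd_on (hK : K ⊴ L) (hφ : φ ∈ seqIndT K L) (hψ : ψ ∈ seqIndT K L) {a : ℂ}
    (h1 : φ 1 = a * ψ 1) : φ - a • ψ ∈ CFon L (sharp K) := by
  have h2 := sub_mem (seqInd_on hK hφ) (Submodule.smul_mem _ a (seqInd_on hK hψ))
  exact ⟨h2.1, (mem_suppOn_sharp h2.2).2 (by simp [h1])⟩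

theorem cfInd1_sub_lin_on (hK : K ⊴ L) (hξ : ξ ∈ seqIndT K L) (h1 : ξ 1 = K.relIndex L) :
    cfInd L K (cf1 K) - ξ ∈ CFon L (sharp K) := by
  simpa using sub_seqInd_on hK (seqIndT_Ind1 K L) hξ (a := 1) (by simp [cfInd1 hK.1, h1])

theorem cfInd1_sub_lin_vchar (hK : K ⊴ L) (hξ : ξ ∈ seqIndT K L) (h1 : ξ 1 = K.relIndex L) :
    cfInd L K (cf1 K) - ξ ∈ ZIrrOn L (sharp K) :=
  ⟨sub_mem (seqInd_vcharW hK.1 (seqIndT_Ind1 K L)) (seqInd_vcharW hK.1 hξ),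
    (cfInd1_sub_lin_on hK hξ h1).2⟩

theorem seqInd_sub_lin_vchar (hK : K ⊴ L) (hS : S ⊆ seqIndT K L) (hξ : ξ ∈ S)
    (h1 : ξ 1 = K.relIndex L) (hφ : φ ∈ S) :
    φ - (φ 1 / K.relIndex L) • ξ ∈ ZspanOn S (sharp K) := by
  obtain ⟨a, -, e⟩ := dvd_index_seqInd1 hK.1 (hS hφ)
  rw [← zcharD1_seqInd hK hS, e, mul_div_cancel_right₀ _ (relIndexC_ne_zero K L)]
  exact sub_seqInd_zchar (fun _ h => seqInd_mem_CF (hS h)) hφ hξ (isCint_natCast a) (by rw [e, h1])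

theorem seqInd_sub_aut_zchar (hK : K ⊴ L) (u : ℂ ≃+* ℂ) (hφ : φ ∈ seqIndD K L H M) :
    φ - cfAut u φ ∈ ZspanOn (seqIndD K L H M) (sharp K) := by
  rw [← zcharD1_seqInd hK (seqInd_subT K L H M)]
  simpa using sub_seqInd_zchar (fun _ h => seqInd_mem_CF (seqInd_subT K L H M h)) hφ
    (cfAut_seqInd u hφ) isCint_one (by
      rw [one_mul, cfAutE, (Cint_vchar1 (seqInd_vcharW hK.1 (seqInd_subT K L H M hφ))).aut_eq])

theorem seqInd_sub_conjC_on (hK : K ⊴ L) (hφ : φ ∈ seqIndT K L) : φ - star φ ∈ CFon L (sharp K) := by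
  simpa using sub_seqInd_on hK hφ (star_seqIndT hφ) (a := 1) (by
    rw [one_mul, cfConjCE, (Cint_vchar1 (seqInd_vcharW hK.1 hφ)).conj_eq])

theorem span_seqIndT (hK : K ⊴ L) :
    Submodule.span ℂ (seqIndT K L : Set (G → ℂ)) = CFon L K := by
  refine le_antisymm (Submodule.span_le.2 fun φ h => seqInd_on hK h) fun φ hφ => ?_
  have h1 : φ ∈ CF K := ⟨hφ.2, fun g hg => cfunJ hφ.1 (hK.1 hg)⟩
  have h2 : cfInd L K φ ∈ Submodule.span ℂ (seqIndT K L : Set (G → ℂ)) := by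
    rw [cfun_sum_cfdot h1, map_sum]
    exact sum_mem fun θ hθ => by
      rw [map_smul]
      exact Submodule.smul_mem _ _ (Submodule.subset_span (seqIndP.2 ⟨θ, hθ, rfl⟩))
  rwa [cfInd_of_mem_CF hK.1 hφ.1, Submodule.smul_mem_iff _ (relIndexC_ne_zero K L)] at h2

open Classical in
theorem P5.seqInd_filter (hS : S ⊆ seqIndT K L) :
    seqInd K L ((Irr K).filter fun θ => cfInd L K θ ∈ S) = S := by
  ext φ
  simp only [seqIndP, Finset.mem_filter, mem_Irr]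
  refine ⟨fun ⟨θ, h, e⟩ => e ▸ h.2, fun h => ?_⟩
  obtain ⟨θ, h1, rfl⟩ := mem_seqIndT.1 (hS h)
  exact ⟨θ, ⟨h1, h⟩, rfl⟩

open Classical in
theorem P5.filter_conj (hK : K ⊴ L) : ∀ θ ∈ (Irr K).filter fun θ => cfInd L K θ ∈ S, ∀ g ∈ L,
    cfConjg g θ ∈ (Irr K).filter fun θ => cfInd L K θ ∈ S := fun θ h g hg => by
  simp only [Finset.mem_filter, mem_Irr] at h ⊢
  exact ⟨h.1.cfConjg (hK.2 hg), by rw [cfInd_cfConjg K hg]; exact h.2⟩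

open Classical in
theorem size_irr_subseq_seqInd (hK : K ⊴ L) (hS : S ⊆ seqIndT K L) (hirr : ∀ φ ∈ S, IsIrr L φ) :
    K.relIndex L * S.card = ((Irr K).filter fun θ => cfInd L K θ ∈ S).card := by
  rw [card_imset_Ind_irr hK (fun θ h => mem_Irr.1 (Finset.mem_filter.1 h).1)
    (fun θ h => hirr _ (Finset.mem_filter.1 h).2) (filter_conj hK), seqInd_filter hS]

open Classical in
theorem sum_seqInd_smul (hK : K ⊴ L) (hS : S ⊆ seqIndT K L) :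
    cfRes K (∑ φ ∈ S, (φ 1 / ⟪φ, φ⟫[L]) • φ) =
      (K.relIndex L : ℂ) • ∑ θ ∈ (Irr K).filter fun θ => cfInd L K θ ∈ S, θ 1 • θ := by
  have := sum_seqInd_cfclass hK (fun θ h => mem_Irr.1 (Finset.mem_filter.1 h).1) (filter_conj (S := S) hK)
    (fun θ => (K.relIndex L : ℂ) • θ 1 • θ) (fun φ => (φ 1 / ⟪φ, φ⟫[L]) • cfRes K φ) fun θ h => by
      rw [scaled_cfResInd_sum_cfclass hK (mem_Irr.1 (Finset.mem_filter.1 h).1), Finset.smul_sum]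
  rw [seqInd_filter hS] at this
  simp only [map_sum, map_smul, Finset.smul_sum, this]

open Classical in
theorem sum_seqInd_square (hK : K ⊴ L) (hS : S ⊆ seqIndT K L) :
    ∑ φ ∈ S, φ 1 ^ 2 / ⟪φ, φ⟫[L] =
      K.relIndex L * ∑ θ ∈ (Irr K).filter fun θ => cfInd L K θ ∈ S, θ 1 ^ 2 := by
  have := congrFun (sum_seqInd_smul hK hS) 1
  simp only [cfRes1, Finset.sum_apply, Pi.smul_apply, smul_eq_mul] at this
  simp only [sq, ← this]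
  exact Finset.sum_congr rfl fun _ _ => by ring

theorem seqInd_sub (K L M : Subgroup G) (hH : H ≤ K) : seqIndD K L H M ⊆ seqIndD K L K ⊥ :=
  seqIndDS K L bot_le hH

theorem seqInd_ortho_Ind1 (hK : K ⊴ L) (hH : H ≤ K) (hφ : φ ∈ seqIndD K L H M) :
    ⟪φ, cfInd L K (cf1 K)⟫[L] = 0 := by
  classical
  have := seqInd_sub K L M hH hφ
  rw [seqIndC1_rem hK, Finset.mem_erase] at this
  exact seqInd_ortho hK this.2 (seqIndT_Ind1 K L) this.1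

theorem seqInd_ortho_cfuni (hK : K ⊴ L) (hH : H ≤ K) (hφ : φ ∈ seqIndD K L H M) :
    ⟪φ, cf1 K⟫[L] = 0 := by
  have := seqInd_ortho_Ind1 hK hH hφ
  rwa [cfInd_cfun1 hK, cfdotZr, map_natCast, mul_eq_zero, or_iff_right (relIndexC_ne_zero K L)] at this

theorem seqInd_ortho_1 (hK : K ≤ L) (hH : H ≤ K) (hφ : φ ∈ seqIndD K L H M) :
    ⟪φ, cf1 L⟫[L] = 0 := by
  obtain ⟨θ, h1, h2, rfl⟩ := seqIndC1P.1 (seqInd_sub K L M hH hφ)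
  rw [← Frobenius_reciprocity hK h1.mem_CF (cf1_mem_CF L), cfRes_cf1 hK, h1.cfdot_cf1 h2]

open Classical in
theorem P5.filter_seqIndD (hK : K ⊴ L) (hH : H ⊴ L) (hM : M ⊴ L) :
    ((Irr K).filter fun θ => cfInd L K θ ∈ seqIndD K L H M) = IrrKerD K H M := by
  ext θ
  rw [Finset.mem_filter, mem_Irr]
  exact ⟨fun h => (mem_seqInd hK hH hM h.1).1 h.2,
    fun h => ⟨IrrKerD_irr h, (mem_seqInd hK hH hM (IrrKerD_irr h)).2 h⟩⟩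

theorem sum_seqIndD_square (hK : K ⊴ L) (hHK : H ≤ K) (hH : H ⊴ L) (hM : M ⊴ L) (hMH : M ≤ H) :
    ∑ φ ∈ seqIndD K L H M, φ 1 ^ 2 / ⟪φ, φ⟫[L] = H.relIndex L * ((M.relIndex H : ℂ) - 1) := by
  rw [sum_seqInd_square hK (seqInd_subT K L H M), filter_seqIndD hK hH hM, sum_Iirr_kerD_square
    (hH.mono hHK hK.1) (hM.mono (hMH.trans hHK) hK.1) hMH, ← relIndexC_mul hHK hK.1]
  ring

theorem sum_seqIndD_square_re (hK : K ⊴ L) (hHK : H ≤ K) (hH : H ⊴ L) (hM : M ⊴ L) (hMH : M ≤ H) :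
    ∑ φ ∈ seqIndD K L H M, (φ 1).re ^ 2 / cfnorm L φ =
      H.relIndex L * ((M.relIndex H : ℝ) - 1) := by
  have := sum_seqIndD_square hK hHK hH hM hMH
  rw [Finset.sum_congr rfl (g := fun φ => (((φ 1).re ^ 2 / cfnorm L φ : ℝ) : ℂ)) fun φ h => by
    obtain ⟨a, -, e⟩ := dvd_index_seqInd1 hK.1 (seqInd_subT K L H M h)
    rw [cfdot_self, e]; simp] at this
  exact_mod_cast this

theorem sum_seqIndD (hK : K ⊴ L) (hHK : H ≤ K) (hH : H ⊴ L) (hM : M ⊴ L) (hMH : M ≤ H) :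
    ∑ φ ∈ seqIndD K L H M, (φ 1 / ⟪φ, φ⟫[L]) • φ =
      (M.relIndex L : ℂ) • cf1 M - (H.relIndex L : ℂ) • cf1 H := by
  rw [← cfRes_of_suppOn (H := K) (sum_mem fun φ h => Submodule.smul_mem _ _
    (seqInd_on hK (seqInd_subT K L H M h)).2), sum_seqInd_smul hK (seqInd_subT K L H M),
    filter_seqIndD hK hH hM, sum_IrrKerD K hMH, sum_irr_cfker (hH.mono hHK hK.1),
    sum_irr_cfker (hM.mono (hMH.trans hHK) hK.1), smul_sub, smul_smul, smul_smul, mul_comm,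
    relIndexC_mul (hMH.trans hHK) hK.1, mul_comm, relIndexC_mul hHK hK.1]

theorem sum_seqIndC1 (hK : K ⊴ L) : ∑ φ ∈ seqIndD K L K ⊥, (φ 1 / ⟪φ, φ⟫[L]) • φ =
    cfReg L - (K.relIndex L : ℂ) • cf1 K := by
  rw [sum_seqIndD hK le_rfl hK (NormalIn.bot L) bot_le, ← cfInd_cfun1 (NormalIn.bot L), cfInd_bot]

theorem sum_seqIndC1_square (hK : K ⊴ L) :
    ∑ φ ∈ seqIndD K L K ⊥, φ 1 ^ 2 / ⟪φ, φ⟫[L] = K.relIndex L * ((♯K : ℂ) - 1) := by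
  rw [sum_seqIndD_square hK le_rfl hK (NormalIn.bot L) bot_le, relIndex_bot_left]

theorem seqIndD_nonempty (L : Subgroup G) (hM : M ⊴ K) (h : ¬ H ≤ M) :
    (seqIndD K L H M).Nonempty :=
  let ⟨θ, h1, h2, h3⟩ := exists_irr_cfker_not_le hM h; ⟨_, mem_seqIndD.2 ⟨θ, h1, h2, h3, rfl⟩⟩

theorem seqInd_conjC_ortho (hodd : Odd ♯L) (hK : K ⊴ L) (hH : H ≤ K) (hφ : φ ∈ seqIndD K L H M) :
    ⟪φ, star φ⟫[L] = 0 := by
  obtain ⟨θ, h1, h2, rfl⟩ := seqIndC1P.1 (seqInd_sub K L M hH hφ)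
  exact odd_induced_orthogonal hK hodd h1 h2

theorem seqInd_conjC_neq (hodd : Odd ♯L) (hK : K ⊴ L) (hH : H ≤ K) (hφ : φ ∈ seqIndD K L H M) :
    star φ ≠ φ := fun e => by
  have := seqInd_conjC_ortho hodd hK hH hφ
  rw [e] at this
  exact cfdot_self_ne_zero (seqInd_mem_CF (seqInd_subT K L H M hφ))
    (seqInd_neq0 hK.1 (seqInd_subT K L H M hφ)) this

theorem seqInd_nontrivial (hodd : Odd ♯L) (hK : K ⊴ L) (hH : H ≤ K) (hφ : φ ∈ seqIndD K L H M) :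
    1 < (seqIndD K L H M).card :=
  Finset.one_lt_card.2 ⟨_, star_seqInd hφ, _, hφ, seqInd_conjC_neq hodd hK hH hφ⟩

end Cfsg.Agent.OO.Pf
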