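import Cfsg.Agent.Lib.OO.Pf.PF5_A

/-! # Peterfalvi section 5: coherence, (5.3)(a) and (5.4)-(5.7) -/

set_option autoImplicit false
set_option linter.unusedSectionVars false
set_option linter.unusedVariables false

namespace Cfsg.Agent.OO

open Subgroup Cfsg.Agent.Coprime
open scoped Pointwise ComplexConjugate

universe u

variable {G : Type u} [Group G] [Finite G] {Γ L K H H0 M W W1 W2 : Subgroup G} {A A0 : Set G}
  {φ ψ χ θ ξ β : G → ℂ} {S S1 S2 X Y : Finset (G → ℂ)}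
variable {τ : (G → ℂ) →ₗ[ℂ] (G → ℂ)} {ν τ1 τ2 : (G → ℂ) →+ (G → ℂ)} {R : (G → ℂ) → Finset (G → ℂ)}

theorem ConjSubset.refl (h : ∀ φ ∈ S, star φ ∈ S) : ConjSubset S S := ⟨subset_rfl, h⟩

theorem ConjSubset.trans (h : ConjSubset S1 S2) (h' : S2 ⊆ S) : ConjSubset S1 S :=
  ⟨h.1.trans h', h.2⟩

open Classical in
theorem ConjSubset.union (h1 : ConjSubset S1 S) (h2 : ConjSubset S2 S) : ConjSubset (S1 ∪ S2) S :=
  ⟨Finset.union_subset h1.1 h2.1, fun φ h => (Finset.mem_union.1 h).elim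
    (fun h => Finset.mem_union_left _ (h1.2 φ h)) fun h => Finset.mem_union_right _ (h2.2 φ h)⟩

open Classical in
theorem ConjSubset.sdiff (h1 : ConjSubset S1 S) (h2 : ∀ φ ∈ S2, star φ ∈ S2) :
    ConjSubset (S1 \ S2) S :=
  ⟨Finset.sdiff_subset.trans h1.1, fun φ h => Finset.mem_sdiff.2 ⟨h1.2 φ (Finset.mem_sdiff.1 h).1,
    fun h' => (Finset.mem_sdiff.1 h).2 (star_star φ ▸ h2 _ h')⟩⟩

theorem ConjSubset.filter (h : ConjSubset S1 S) (p : (G → ℂ) → Prop) [DecidablePred p]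
    (hp : ∀ φ ∈ S1, p φ → p (star φ)) : ConjSubset (S1.filter p) S :=
  ⟨(Finset.filter_subset _ _).trans h.1, fun φ h' =>
    let ⟨h1, h2⟩ := Finset.mem_filter.1 h'; Finset.mem_filter.2 ⟨h.2 φ h1, hp φ h1 h2⟩⟩

open Classical in
theorem ConjSubset.insert_pair (h1 : ConjSubset S1 S) (h : ∀ φ ∈ S, star φ ∈ S) (hχ : χ ∈ S) :
    ConjSubset (insert χ (insert (star χ) S1)) S := by
  refine ⟨Finset.insert_subset hχ (Finset.insert_subset (h χ hχ) h1.1), fun φ hφ => ?_⟩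
  simp only [Finset.mem_insert] at hφ ⊢
  rcases hφ with rfl | rfl | hφ
  exacts [.inr (.inl rfl), .inl (star_star _), .inr (.inr (h1.2 φ hφ))]

open Classical in
theorem Pf.conjC_pair_subset (h : ∀ φ ∈ S, star φ ∈ S) (hχ : χ ∈ S) : ConjSubset {χ, star χ} S :=
  ConjSubset.insert_pair (S1 := ∅) ⟨Finset.empty_subset _, by simp⟩ h hχ

theorem Pf.map_Cint_smul (ν : (G → ℂ) →+ (G → ℂ)) {a : ℂ} (ha : IsCint a) (φ : G → ℂ) :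
    ν (a • φ) = a • ν φ := by
  obtain ⟨n, rfl⟩ := ha
  rw [Int.cast_smul_eq_zsmul, Int.cast_smul_eq_zsmul, map_zsmul]

namespace CoherentWith

theorem coherent (h : CoherentWith L Γ S A τ ν) : Coherent L Γ S A τ := ⟨ν, h⟩
theorem cfdot (h : CoherentWith L Γ S A τ ν) (hφ : φ ∈ Zspan S) (hψ : ψ ∈ Zspan S) :
    ⟪ν φ, ν ψ⟫[Γ] = ⟪φ, ψ⟫[L] := h.1.1 φ hφ ψ hψ
theorem cfdot_mem (h : CoherentWith L Γ S A τ ν) (hφ : φ ∈ S) (hψ : ψ ∈ S) :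
    ⟪ν φ, ν ψ⟫[Γ] = ⟪φ, ψ⟫[L] := h.cfdot (mem_zchar hφ) (mem_zchar hψ)
theorem cfnorm (h : CoherentWith L Γ S A τ ν) (hφ : φ ∈ Zspan S) :
    OO.cfnorm Γ (ν φ) = OO.cfnorm L φ := h.1.cfnorm hφ
theorem vchar (h : CoherentWith L Γ S A τ ν) (hφ : φ ∈ Zspan S) : ν φ ∈ ZIrr Γ := h.1.2 φ hφ
theorem vchar_mem (h : CoherentWith L Γ S A τ ν) (hφ : φ ∈ S) : ν φ ∈ ZIrr Γ :=
  h.vchar (mem_zchar hφ)
theorem dirr (h : CoherentWith L Γ S A τ ν) (hφ : φ ∈ S) (hirr : IsIrr L φ) : IsDirr Γ (ν φ) :=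
  vchar_norm1P (h.vchar_mem hφ) ((h.cfnorm (mem_zchar hφ)).trans (cfnorm_irr hirr))
theorem eq (h : CoherentWith L Γ S A τ ν) (hφ : φ ∈ ZspanOn S A) : ν φ = τ φ := h.2 φ hφ
theorem congr {τ' : (G → ℂ) →ₗ[ℂ] (G → ℂ)} (h : CoherentWith L Γ S A τ ν)
    (e : ∀ φ ∈ ZspanOn S A, τ φ = τ' φ) : CoherentWith L Γ S A τ' ν :=
  ⟨h.1, fun φ hφ => (h.2 φ hφ).trans (e φ hφ)⟩
/-- the value of `τ` on `φ - a ψ` -/
theorem sub_smul (h : CoherentWith L Γ S (sharp L) τ ν) (hS : ∀ φ ∈ S, φ ∈ CF L) (hφ : φ ∈ S)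
    (hψ : ψ ∈ S) {a : ℂ} (ha : IsCint a) (h1 : φ 1 = a * ψ 1) :
    τ (φ - a • ψ) = ν φ - a • ν ψ := by
  rw [← h.eq (Pf.sub_seqInd_zchar hS hφ hψ ha h1), map_sub, Pf.map_Cint_smul ν ha]

end CoherentWith

theorem Coherent.congr {τ' : (G → ℂ) →ₗ[ℂ] (G → ℂ)} (h : Coherent L Γ S A τ)
    (e : ∀ φ ∈ ZspanOn S A, τ φ = τ' φ) : Coherent L Γ S A τ' :=
  let ⟨ν, h⟩ := h; ⟨ν, h.congr e⟩

theorem Pf.P5.star_char1 (h : IsChar L χ) : star χ 1 = χ 1 := (Cnat_char1 h).conj_eq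

namespace Subcoherent

theorem mem_CF (h : Subcoherent L Γ S τ R) (hχ : χ ∈ S) : χ ∈ CF L := (h.isChar χ hχ).mem_CF
theorem vchar (h : Subcoherent L Γ S τ R) (hχ : χ ∈ S) : χ ∈ ZIrr L := char_vchar (h.isChar χ hχ)
theorem one_ne_zero (h : Subcoherent L Γ S τ R) (hχ : χ ∈ S) : χ 1 ≠ 0 :=
  fun e => h.orth.ne_zero hχ ((char1_eq0 (h.isChar χ hχ)).1 e)
theorem cfnorm_pos (h : Subcoherent L Γ S τ R) (hχ : χ ∈ S) : 0 < cfnorm L χ :=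
  cfnorm_gt0 (h.mem_CF hχ) (h.orth.ne_zero hχ)
theorem cfdot_star (h : Subcoherent L Γ S τ R) (hχ : χ ∈ S) : ⟪χ, star χ⟫[L] = 0 :=
  h.orth.2 χ hχ _ (h.conj_mem χ hχ) (h.not_real χ hχ).symm
theorem sub_star_mem (h : Subcoherent L Γ S τ R) (hS : ConjSubset S1 S) (hχ : χ ∈ S1) :
    χ - star χ ∈ ZspanOn S1 (sharp L) :=
  (zcharD1E fun _ h' => h.mem_CF (hS.1 h')).2 ⟨sub_mem (mem_zchar hχ) (mem_zchar (hS.2 χ hχ)), by
    rw [Pi.sub_apply, Pf.P5.star_char1 (h.isChar χ (hS.1 hχ)), sub_self]⟩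
theorem dirr (h : Subcoherent L Γ S τ R) (hχ : χ ∈ S) {α : G → ℂ} (hα : α ∈ R χ) : IsDirr Γ α :=
  vchar_norm1P (h.R_mem χ hχ α hα) ((h.R_orth χ hχ).cfnorm hα)
theorem card_R (h : Subcoherent L Γ S τ R) (hχ : χ ∈ S) : ((R χ).card : ℝ) = 2 * cfnorm L χ := by
  rw [← (h.R_orth χ hχ).cfnorm_sum_one, ← h.sum_R χ hχ,
    h.isometry.cfnorm (h.sub_star_mem (.refl h.conj_mem) hχ), cfnormBd (h.cfdot_star hχ), cfnorm_conjC,
    two_mul]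
theorem congr {τ' : (G → ℂ) →ₗ[ℂ] (G → ℂ)} (h : Subcoherent L Γ S τ R)
    (e : ∀ φ ∈ ZspanOn S (sharp L), τ φ = τ' φ) : Subcoherent L Γ S τ' R :=
  { h with
    isometry := h.isometry.congr fun φ hφ => (e φ hφ).symm
    sum_R := fun ξ hξ => (e _ (h.sub_star_mem (.refl h.conj_mem) hξ)).symm.trans (h.sum_R ξ hξ) }

/-- orthogonality of `R φ` and `R ξ` -/
theorem orthR (h : Subcoherent L Γ S τ R) (hφ : φ ∈ S) (hξ : ξ ∈ S) (h1 : φ ≠ ξ) (h2 : φ ≠ star ξ) :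
    Orth Γ (R φ) (R ξ) :=
  h.orth_R ξ hξ φ hφ (h.orth.2 φ hφ ξ hξ h1) (h.orth.2 φ hφ _ (h.conj_mem ξ hξ) h2)
theorem star_one (h : Subcoherent L Γ S τ R) (hχ : χ ∈ S) : star χ 1 = χ 1 :=
  Pf.P5.star_char1 (h.isChar χ hχ)
theorem zchar_vchar (h : Subcoherent L Γ S τ R) (hφ : φ ∈ Zspan S) : φ ∈ ZIrr L :=
  zchar_trans_vchar (fun _ h' => h.vchar h') hφ
theorem tau_vchar (h : Subcoherent L Γ S τ R) (hφ : φ ∈ ZspanOn S (sharp L)) : τ φ ∈ ZIrr Γ :=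
  (mem_ZIrrOn.1 (h.isometry.2 φ hφ)).1
theorem span_R_vchar (h : Subcoherent L Γ S τ R) (hχ : χ ∈ S) (hφ : φ ∈ Zspan (R χ)) : φ ∈ ZIrr Γ :=
  zchar_trans_vchar (h.R_mem χ hχ) hφ

end Subcoherent

/-- `φ ↦ -ν(φ^*)` -/
noncomputable def dualIso (ν : (G → ℂ) →+ (G → ℂ)) : (G → ℂ) →+ (G → ℂ) where
  toFun φ := -ν (star φ)
  map_zero' := by simp
  map_add' φ ψ := by rw [star_add, map_add, neg_add]

namespace Pf
open P5

theorem subgen_coherent_with (hS : ∀ φ ∈ S1, φ ∈ Zspan S2) (h : CoherentWith L Γ S2 A τ ν) :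
    CoherentWith L Γ S1 A τ ν :=
  ⟨sub_iso_to (zchar_trans hS) le_rfl h.1, fun φ hφ => h.2 φ (zchar_trans_on hS hφ)⟩

theorem subgen_coherent (hS : ∀ φ ∈ S1, φ ∈ Zspan S2) (h : Coherent L Γ S2 A τ) :
    Coherent L Γ S1 A τ := let ⟨ν, h⟩ := h; ⟨ν, subgen_coherent_with hS h⟩

theorem subset_coherent_with (hS : S1 ⊆ S2) (h : CoherentWith L Γ S2 A τ ν) :
    CoherentWith L Γ S1 A τ ν := subgen_coherent_with (fun _ h => mem_zchar (hS h)) h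

theorem subset_coherent (hS : S1 ⊆ S2) (h : Coherent L Γ S2 A τ) : Coherent L Γ S1 A τ :=
  subgen_coherent (fun _ h => mem_zchar (hS h)) h

theorem nil_coherent (L Γ : Subgroup G) (A : Set G) (τ : (G → ℂ) →ₗ[ℂ] (G → ℂ)) :
    Coherent L Γ ∅ A τ :=
  ⟨τ.toAddMonoidHom, isometryTo_zchar _ (by simp) (by simp), fun _ _ => rfl⟩

theorem subset_subcoherent (h : Subcoherent L Γ S τ R) (hS : ConjSubset S1 S) :
    Subcoherent L Γ S1 τ R where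
  isChar ξ hξ := h.isChar ξ (hS.1 hξ)
  not_real ξ hξ := h.not_real ξ (hS.1 hξ)
  conj_mem := hS.2
  isometry := sub_iso_to (zchar_subset_on hS.1) le_rfl h.isometry
  orth := h.orth.subset hS.1
  R_mem ξ hξ := h.R_mem ξ (hS.1 hξ)
  R_orth ξ hξ := h.R_orth ξ (hS.1 hξ)
  sum_R ξ hξ := h.sum_R ξ (hS.1 hξ)
  orth_R ξ hξ φ hφ := h.orth_R ξ (hS.1 hξ) φ (hS.1 hφ)

theorem subset_ortho_subcoherent (h : Subcoherent L Γ S τ R) (hS : S1 ⊆ S) (hχ : χ ∈ S) (hn : χ ∉ S1)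
    (hφ : φ ∈ Zspan S1) : ⟪φ, χ⟫[L] = 0 :=
  cfdot_zchar_eq_zero hφ fun ξ hξ => h.orth.2 ξ (hS hξ) χ hχ fun e => hn (e ▸ hξ)

theorem dual_coherence (h : Subcoherent L Γ S τ R) (hν : CoherentWith L Γ S (sharp L) τ ν)
    (h2 : S.card ≤ 2) : CoherentWith L Γ S (sharp L) τ (dualIso ν) := by
  classical
  refine ⟨⟨fun φ hφ ψ hψ => ?_, fun φ hφ => neg_mem (hν.vchar (star_zchar h.conj_mem hφ))⟩,
    fun φ hφ => ?_⟩
  · change ⟪-ν (star φ), -ν (star ψ)⟫[Γ] = _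
    rw [cfdotNl, cfdotNr, neg_neg, hν.cfdot (star_zchar h.conj_mem hφ) (star_zchar h.conj_mem hψ),
      cfdot_conjC, (Cint_cfdot_vchar (h.zchar_vchar hφ) (h.zchar_vchar hψ)).conj_eq]
  change -ν (star φ) = _
  suffices star φ = -φ by rw [this, map_neg, neg_neg, hν.eq hφ]
  rcases S.eq_empty_or_nonempty with rfl | ⟨χ, hχ⟩
  · obtain ⟨z, rfl⟩ := zchar_expansion.1 hφ.1; simp
  have hS : ∀ ξ ∈ S, ξ = χ ∨ ξ = star χ := fun ξ hξ => by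
    have := Finset.eq_of_subset_of_card_le (conjC_pair_subset h.conj_mem hχ).1
      (by rwa [Finset.card_pair (h.not_real χ hχ).symm])
    simpa [← this] using hξ
  obtain ⟨z, -, e⟩ := zchar_pivot (a := fun _ => 1) (h.one_ne_zero hχ) (fun ξ hξ => by
    rcases hS ξ hξ with rfl | rfl <;> simp [h.star_one hχ]) hφ.1
    ((zcharD1E fun _ => h.mem_CF).1 hφ).2
  rw [e, star_sum, ← Finset.sum_neg_distrib]
  refine Finset.sum_congr rfl fun ξ hξ => ?_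
  rcases hS ξ hξ with rfl | rfl
  · simp
  · rw [star_zsmul, ← smul_neg]; simp

theorem coherent_seqInd_conjCirr (h : Subcoherent L Γ S τ R) (hν : CoherentWith L Γ S (sharp L) τ ν)
    (hχ : χ ∈ S) (hirr : IsIrr L χ) :
    IsDirr Γ (ν χ) ∧ IsDirr Γ (ν (star χ)) ∧ ⟪ν χ, ν (star χ)⟫[Γ] = 0 ∧
      χ - star χ ∈ ZspanOn S (sharp L) ∧ ν χ 1 = ν (star χ) 1 := by
  have h1 := h.sub_star_mem (.refl h.conj_mem) hχ
  refine ⟨hν.dirr hχ hirr, hν.dirr (h.conj_mem χ hχ) hirr.star,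
    (hν.cfdot_mem hχ (h.conj_mem χ hχ)).trans (h.cfdot_star hχ), h1, ?_⟩
  have := (mem_ZIrrOn_sharp.1 (h.isometry.2 _ h1)).2
  rwa [← hν.eq h1, map_sub, Pi.sub_apply, sub_eq_zero] at this

theorem P5.pivot (h : Subcoherent L Γ S τ R) {η1 ζ1 : G → ℂ} (hη : η1 ∈ S) (hζ : ζ1 ∈ ZIrr Γ)
    (ha : ∀ η ∈ S, η ≠ η1 → ∃ a : ℂ, IsCint a ∧ η 1 = a * η1 1 ∧
      ⟪τ (η - a • η1), ζ1⟫[Γ] = -a * ⟪η1, η1⟫[L]) (hn : ⟪ζ1, ζ1⟫[Γ] = ⟪η1, η1⟫[L]) :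
    ∃ ν, CoherentWith L Γ S (sharp L) τ ν ∧ ν η1 = ζ1 := by
  have ha' : ∀ η ∈ S, ∃ a : ℂ, (η = η1 → a = 1) ∧ IsCint a ∧ η 1 = a * η1 1 ∧
      ⟪τ (η - a • η1), ζ1⟫[Γ] = ⟪η, η1⟫[L] - a * ⟪η1, η1⟫[L] := fun η hη' => by
    by_cases e : η = η1
    · exact ⟨1, fun _ => rfl, isCint_one, by simp [e], by simp [e]⟩
    · obtain ⟨a, h1, h2, h3⟩ := ha η hη' e
      exact ⟨a, fun e' => absurd e' e, h1, h2, by rw [h3, h.orth.2 η hη' η1 hη e]; ring⟩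
  choose! a a1 ai a2 a3 using ha'
  have hm : ∀ η ∈ S, η - a η • η1 ∈ ZspanOn S (sharp L) := fun η hη' =>
    sub_seqInd_zchar (fun _ => h.mem_CF) hη' hη (ai η hη') (a2 η hη')
  obtain ⟨ν, h1, h2⟩ := Zisometry_of_iso (Γ := Γ) (F := ZIrr Γ) h.orth (fun _ => h.mem_CF)
    (fun η => τ (η - a η • η1) + a η • ζ1) (fun ξ hξ η hη' => by
      rw [cfdotDl, cfdotDr, cfdotDr, h.isometry.1 _ (hm ξ hξ) _ (hm η hη'), cfdotZr, cfdotZl,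
        cfdotZl, cfdotZr, cfdot_vchar_comm hζ (h.tau_vchar (hm η hη')), a3 ξ hξ, a3 η hη', hn]
      simp only [cfdotBl, cfdotBr, cfdotZl, cfdotZr, (ai η hη').conj_eq]
      rw [cfdot_vchar_comm (h.vchar hη) (h.vchar hη')]; ring)
    fun ξ hξ => add_mem (h.tau_vchar (hm ξ hξ)) (scale_zchar (ai ξ hξ) hζ)
  have h3 : ν η1 = ζ1 := by rw [h1 η1 hη, a1 η1 hη rfl]; simp
  refine ⟨ν.toAddMonoidHom, ⟨h2, fun φ hφ => ?_⟩, h3⟩
  obtain ⟨z, -, e⟩ := zchar_pivot (h.one_ne_zero hη) a2 hφ.1 ((zcharD1E fun _ => h.mem_CF).1 hφ).2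
  rw [e, map_sum, map_sum]
  refine Finset.sum_congr rfl fun ξ hξ => ?_
  rw [map_zsmul, map_zsmul, LinearMap.toAddMonoidHom_coe, map_sub, map_smul, h1 ξ hξ, h3,
    add_sub_cancel_right]

theorem pivot_coherence (h : Subcoherent L Γ S τ R) {η1 ζ1 : G → ℂ} (hη : η1 ∈ S) (hζ : ζ1 ∈ ZIrr Γ)
    (ha : ∀ η ∈ S, η ≠ η1 → ∃ a : ℂ, IsCint a ∧ η 1 = a * η1 1 ∧
      ⟪τ (η - a • η1), ζ1⟫[Γ] = -a * ⟪η1, η1⟫[L]) (hn : ⟪ζ1, ζ1⟫[Γ] = ⟪η1, η1⟫[L]) :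
    Coherent L Γ S (sharp L) τ := let ⟨ν, h, _⟩ := pivot h hη hζ ha hn; ⟨ν, h⟩

theorem P5.cfdot_sub_star (h1 : ⟪φ, ξ⟫[L] = 0) (h2 : ⟪φ, star ξ⟫[L] = 0) :
    ⟪φ - star φ, ξ - star ξ⟫[L] = 0 := by
  simp [cfdotBl, cfdotBr, cfdot_conjCl, h1, h2]

/-- (5.3)(a) -/
theorem irr_subcoherent (hirr : ∀ χ ∈ S, IsIrr L χ) (hc : ∀ χ ∈ S, star χ ∈ S)
    (hr : ∀ χ ∈ S, star χ ≠ χ) (hτ : IsometryTo L Γ (ZspanOn S (sharp L)) (ZIrrOn Γ (sharp Γ)) τ) :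
    ∃ R, Subcoherent L Γ S τ R ∧ ∀ χ ∈ S, (R χ).card = 2 := by
  classical
  have hm : ∀ χ ∈ S, χ - star χ ∈ ZspanOn S (sharp L) := fun χ hχ =>
    (zcharD1E fun ξ h' => (hirr ξ h').mem_CF).2 ⟨sub_mem (mem_zchar hχ) (mem_zchar (hc χ hχ)), by
      rw [Pi.sub_apply, star_char1 (hirr χ hχ).isChar, sub_self]⟩
  have h1 : ∀ χ ∈ S, τ (χ - star χ) 1 = 0 := fun χ hχ => (mem_ZIrrOn_sharp.1 (hτ.2 _ (hm χ hχ))).2
  have : ∀ χ ∈ S, ∃ α β, IsIrr Γ α ∧ IsIrr Γ β ∧ α ≠ β ∧ τ (χ - star χ) = α - β := fun χ hχ =>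
    vchar_norm2 (mem_ZIrrOn.1 (hτ.2 _ (hm χ hχ))).1 (h1 χ hχ) (by
      rw [hτ.cfnorm (hm χ hχ), cfnormBd (cfdot_irr_ne (hirr χ hχ) (hirr χ hχ).star (hr χ hχ).symm),
        cfnorm_conjC, cfnorm_irr (hirr χ hχ)]; norm_num)
  choose! α β ha hb hab e using this
  have hn : ∀ χ ∈ S, α χ ≠ -β χ := fun χ hχ => (ha χ hχ).ne_neg (hb χ hχ)
  have ho : ∀ χ ∈ S, ⟪α χ, β χ⟫[Γ] = 0 := fun χ hχ => cfdot_irr_ne (ha χ hχ) (hb χ hχ) (hab χ hχ)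
  refine ⟨fun χ => {α χ, -β χ}, ⟨fun χ hχ => (hirr χ hχ).isChar, hr, hc, hτ,
    (orthonormal_of_irr hirr).pairwiseOrth, fun χ hχ => ?_, fun χ hχ => ?_, fun χ hχ => ?_,
    fun ξ hξ φ hφ h2 h3 => ?_⟩, fun χ hχ => Finset.card_pair (hn χ hχ)⟩
  · simp [irr_vchar (ha χ hχ), irr_vchar (hb χ hχ)]
  · simp [Orthonormal', cfdotNl, cfdotNr, cfdot_irr_self (ha χ hχ), cfdot_irr_self (hb χ hχ), ho χ hχ,
      cfdot_symm0 (ho χ hχ)]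
  · rw [Finset.sum_pair (hn χ hχ), e χ hχ, sub_eq_add_neg]
  · have h4 := hτ.1 _ (hm φ hφ) _ (hm ξ hξ)
    rw [cfdot_sub_star h2 h3, e φ hφ, e ξ hξ] at h4
    have h5 : ∀ χ ∈ S, α χ 1 = β χ 1 := fun χ hχ => by
      simpa [e χ hχ, sub_eq_zero] using h1 χ hχ
    obtain ⟨o1, o2, o3, o4⟩ := orthonormal_vchar_diff_ortho (ha φ hφ).isDirr (hb φ hφ).isDirr
      (ha ξ hξ).isDirr (hb ξ hξ).isDirr (ho φ hφ) (ho ξ hξ) h4 (h5 φ hφ) (h5 ξ hξ)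
    simp [Orth, cfdotNl, cfdotNr, o1, o2, o3, o4]

theorem subcoherent_split (h : Subcoherent L Γ S τ R) (hχ : χ ∈ S) (hβ : β ∈ ZIrr Γ) :
    ∃ X ∈ Zspan (R χ), ∃ Y ∈ ZIrr Γ, β = X - Y ∧ ⟪X, Y⟫[Γ] = 0 ∧ ∀ α ∈ R χ, ⟪Y, α⟫[Γ] = 0 := by
  obtain ⟨X, hX, Y, hY, e, h1, h2⟩ := (h.R_orth χ hχ).vchar_split (h.R_mem χ hχ) hβ
  exact ⟨X, hX, -Y, neg_mem hY, by simp [e], by simp [cfdotNr, h2],
    fun α hα => by simp [cfdotNl, h1 α hα]⟩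

/-- (5.4); `β = X - Y` stands for `τ₁ (χ - ψ)` -/
theorem subcoherent_norm (h : Subcoherent L Γ S τ R) (hχ : χ ∈ S) {X Y : G → ℂ}
    (hβ : X - Y ∈ ZIrr Γ) (hX : X ∈ CF Γ) (hβn : cfnorm Γ (X - Y) = cfnorm L χ + cfnorm L ψ)
    (hβχ : ⟪X - Y, τ (χ - star χ)⟫[Γ] = ⟪χ, χ⟫[L]) (hXY : ⟪X, Y⟫[Γ] = 0)
    (hY : ∀ α ∈ R χ, ⟪Y, α⟫[Γ] = 0) :
    cfnorm L χ ≤ cfnorm Γ X ∧ (cfnorm L ψ ≤ cfnorm Γ Y →
      cfnorm Γ X = cfnorm L χ ∧ cfnorm Γ Y = cfnorm L ψ ∧ ∃ E ⊆ R χ, X = ∑ α ∈ E, α) := by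
  classical
  have : ∀ α ∈ R χ, ∃ z : ℤ, ⟪X, α⟫[Γ] = z := fun α hα => by
    simpa [cfdotBl, hY α hα, IsCint] using Cint_cfdot_vchar hβ (h.R_mem χ hχ α hα)
  choose! z hz using this
  have h1 : ∑ α ∈ R χ, (z α : ℝ) = cfnorm L χ := by
    rw [h.sum_R χ hχ, cfdot_sumr, cfdot_self,
      Finset.sum_congr rfl fun α hα => by rw [cfdotBl, hY α hα, hz α hα, sub_zero]] at hβχ
    exact_mod_cast hβχ
  have h2 := (h.R_orth χ hχ).cfnorm_proj X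
  rw [Finset.sum_congr rfl fun α hα => show _ = (z α : ℝ) ^ 2 by rw [hz α hα]; simp] at h2
  have h3 : ∀ α, 0 ≤ (z α : ℝ) ^ 2 - z α := fun α => by
    have := Int.le_self_sq (z α); rw [sub_nonneg]; exact_mod_cast this
  have h4 : 0 ≤ ∑ α ∈ R χ, ((z α : ℝ) ^ 2 - z α) := Finset.sum_nonneg fun α _ => h3 α
  have h5 := cfnorm_ge0 (H := Γ) (X - ∑ α ∈ R χ, ⟪X, α⟫[Γ] • α)
  rw [cfnormBd hXY] at hβn
  have h6 := Finset.sum_sub_distrib (s := R χ) (fun α => (z α : ℝ) ^ 2) fun α => (z α : ℝ)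
  refine ⟨by linarith, fun h7 => ⟨by linarith, by linarith, (R χ).filter fun α => z α = 1,
    Finset.filter_subset _ _, ?_⟩⟩
  have h8 := (Finset.sum_eq_zero_iff_of_nonneg fun α _ => h3 α).1
    (show ∑ α ∈ R χ, ((z α : ℝ) ^ 2 - z α) = 0 by linarith)
  have h9 := (cfnorm_eq0 (sub_mem hX (Submodule.sum_mem _ fun α hα => Submodule.smul_mem _ _
    (vchar_mem_CF (h.R_mem χ hχ α hα))))).1
    (show cfnorm Γ (X - ∑ α ∈ R χ, ⟪X, α⟫[Γ] • α) = 0 by linarith)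
  rw [sub_eq_zero.1 h9, Finset.sum_filter]
  refine Finset.sum_congr rfl fun α hα => ?_
  have h10 : z α * (z α - 1) = 0 := by
    have := h8 α hα
    have : ((z α * (z α - 1) : ℤ) : ℝ) = 0 := by push_cast; linarith
    exact_mod_cast this
  rw [hz α hα]
  split_ifs with h11
  · simp [h11]
  · simp [(mul_eq_zero.1 h10).resolve_right (sub_ne_zero.2 h11)]

/-- (5.4) when `χ - ψ ∈ ℤ[S, L^#]` -/
theorem subcoherent_norm_tau (h : Subcoherent L Γ S τ R) (hχ : χ ∈ S)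
    (hψ : χ - ψ ∈ ZspanOn S (sharp L)) (h1 : ⟪χ, ψ⟫[L] = 0) (h2 : ⟪star χ, ψ⟫[L] = 0) {X Y : G → ℂ}
    (hβ : τ (χ - ψ) = X - Y) (hX : X ∈ CF Γ) (hXY : ⟪X, Y⟫[Γ] = 0) (hY : ∀ α ∈ R χ, ⟪Y, α⟫[Γ] = 0) :
    cfnorm L χ ≤ cfnorm Γ X ∧ (cfnorm L ψ ≤ cfnorm Γ Y →
      cfnorm Γ X = cfnorm L χ ∧ cfnorm Γ Y = cfnorm L ψ ∧ ∃ E ⊆ R χ, X = ∑ α ∈ E, α) := by
  refine subcoherent_norm h hχ (hβ ▸ h.tau_vchar hψ) hX ?_ ?_ hXY hY
  · rw [← hβ, h.isometry.cfnorm hψ, cfnormBd h1]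
  · rw [← hβ, h.isometry.1 _ hψ _ (h.sub_star_mem (.refl h.conj_mem) hχ)]
    simp [cfdotBl, cfdotBr, cfdot_symm0 h1, cfdot_symm0 h2, h.cfdot_star hχ]

/-- (5.5); `β` stands for `τ₁ χ` -/
theorem coherent_sum_subseq (h : Subcoherent L Γ S τ R) (hχ : χ ∈ S) (hβ : β ∈ ZIrr Γ)
    (hβn : cfnorm Γ β = cfnorm L χ) (hβχ : ⟪β, τ (χ - star χ)⟫[Γ] = ⟪χ, χ⟫[L]) :
    ∃ E ⊆ R χ, β = ∑ α ∈ E, α :=
  ((subcoherent_norm (ψ := 0) (Y := 0) h hχ (by simpa) (vchar_mem_CF hβ) (by simpa) (by rwa [sub_zero])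
    (by simp) (by simp)).2 (by simp)).2.2

theorem mem_coherent_sum_subseq (h : Subcoherent L Γ S τ R) (hS : ConjSubset S1 S)
    (h1 : CoherentWith L Γ S1 (sharp L) τ τ1) (hχ : χ ∈ S1) : ∃ E ⊆ R χ, τ1 χ = ∑ α ∈ E, α := by
  have h2 := h.sub_star_mem hS hχ
  refine coherent_sum_subseq h (hS.1 hχ) (h1.vchar_mem hχ) (h1.cfnorm (mem_zchar hχ)) ?_
  rw [← h1.eq h2, h1.cfdot (mem_zchar hχ) h2.1, cfdotBr, h.cfdot_star (hS.1 hχ), sub_zero]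

theorem coherent_ortho_supp (h : Subcoherent L Γ S τ R) (hS : ConjSubset S1 S)
    (h1 : CoherentWith L Γ S1 (sharp L) τ τ1) (hχ : χ ∈ S) (hn : χ ∉ S1) (hφ : φ ∈ Zspan S1)
    {α : G → ℂ} (hα : α ∈ R χ) : ⟪τ1 φ, α⟫[Γ] = 0 := by
  refine Zspan.induction (P := fun φ => ⟪τ1 φ, α⟫[Γ] = 0) hφ (by simp) (fun ξ hξ => ?_)
    fun a b _ _ ha hb => by simp only [map_sub, cfdotBl, ha, hb, sub_zero]
  obtain ⟨E, hE, e⟩ := mem_coherent_sum_subseq h hS h1 hξ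
  simp only [e, cfdot_suml]
  exact Finset.sum_eq_zero fun γ hγ => h.orthR (hS.1 hξ) hχ (fun e => hn (e ▸ hξ))
    (fun e => hn (star_star χ ▸ e ▸ hS.2 ξ hξ)) γ (hE hγ) α hα

theorem coherent_ortho (h : Subcoherent L Γ S τ R) (hS1 : ConjSubset S1 S)
    (h1 : CoherentWith L Γ S1 (sharp L) τ τ1) (hS2 : ConjSubset S2 S)
    (h2 : CoherentWith L Γ S2 (sharp L) τ τ2) (hd : Disjoint S1 S2) (hφ : φ ∈ Zspan S1)
    (hψ : ψ ∈ Zspan S2) : ⟪τ1 φ, τ2 ψ⟫[Γ] = 0 := by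
  refine Zspan.induction (P := fun ψ => ⟪τ1 φ, τ2 ψ⟫[Γ] = 0) hψ (by simp) (fun ξ hξ => ?_)
    fun a b _ _ ha hb => by simp only [map_sub, cfdotBr, ha, hb, sub_zero]
  obtain ⟨E, hE, e⟩ := mem_coherent_sum_subseq h hS2 h2 hξ
  simp only [e, cfdot_sumr]
  exact Finset.sum_eq_zero fun γ hγ => coherent_ortho_supp h hS1 h1 (hS2.1 hξ)
    (Finset.disjoint_right.1 hd hξ) hφ (hE hγ)

open Classical in
theorem bridge_coherent (h : Subcoherent L Γ S τ R) (hS1 : ConjSubset S1 S)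
    (h1 : CoherentWith L Γ S1 (sharp L) τ τ1) (hS2 : ConjSubset S2 S)
    (h2 : CoherentWith L Γ S2 (sharp L) τ τ2) (hd : Disjoint S1 S2) (hχ : χ ∈ S1) (hφ : φ ∈ Zspan S2)
    (e1 : χ 1 = φ 1) (e : τ (χ - φ) = τ1 χ - τ2 φ) : Coherent L Γ (S1 ∪ S2) (sharp L) τ := by
  have hS := hS1.union hS2
  have hd' := fun ξ (hξ : ξ ∈ S2) => Finset.disjoint_right.1 hd hξ
  have ho : ∀ ξ ∈ S1, ∀ η ∈ S2, ⟪τ1 ξ, τ2 η⟫[Γ] = ⟪ξ, η⟫[L] := fun ξ hξ η hη => by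
    rw [coherent_ortho h hS1 h1 hS2 h2 hd (mem_zchar hξ) (mem_zchar hη),
      h.orth.2 ξ (hS1.1 hξ) η (hS2.1 hη) fun e => hd' η hη (e ▸ hξ)]
  obtain ⟨ν, n1, n2⟩ := Zisometry_of_iso (Γ := Γ) (F := ZIrr Γ) (h.orth.subset hS.1)
    (fun _ h' => h.mem_CF (hS.1 h')) (fun η => if η ∈ S1 then τ1 η else τ2 η) (fun ξ hξ η hη => by
      rcases Finset.mem_union.1 hξ with hξ | hξ <;> rcases Finset.mem_union.1 hη with hη | hη
      · simp only [hξ, hη, if_true, h1.cfdot_mem hξ hη]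
      · simp only [hξ, hd' η hη, if_true, if_false, ho ξ hξ η hη]
      · simp only [hη, hd' ξ hξ, if_true, if_false]
        rw [cfdotC, ho η hη ξ hξ, ← cfdotC]
      · simp only [hd' ξ hξ, hd' η hη, if_false, h2.cfdot_mem hξ hη])
    fun ξ hξ => by
      rcases Finset.mem_union.1 hξ with hξ | hξ
      · simp only [hξ, if_true, h1.vchar_mem hξ]
      · simp only [hd' ξ hξ, if_false, h2.vchar_mem hξ]
  have m1 : ∀ a ∈ Zspan S1, ν a = τ1 a := fun a => eq_on_zchar (f := ν.toAddMonoidHom) fun ξ hξ => by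
    simpa [hξ] using n1 ξ (Finset.mem_union_left _ hξ)
  have m2 : ∀ a ∈ Zspan S2, ν a = τ2 a := fun a => eq_on_zchar (f := ν.toAddMonoidHom) fun ξ hξ => by
    simpa [hd' ξ hξ] using n1 ξ (Finset.mem_union_right _ hξ)
  refine ⟨ν.toAddMonoidHom, n2, fun θ hθ => ?_⟩
  have t1 := ((zcharD1E fun _ h' => h.mem_CF (hS.1 h')).1 hθ).2
  have t2 := zcharW hθ
  rw [Zspan, Finset.coe_union, Submodule.span_union, Submodule.mem_sup] at t2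
  obtain ⟨a, ha, b, hb, rfl⟩ := t2
  have ci := Cint_vchar1 (h.vchar (hS1.1 hχ))
  have ai := Cint_vchar1 (h.zchar_vchar (zchar_subset hS1.1 ha))
  have bi := Cint_vchar1 (h.zchar_vchar (zchar_subset hS2.1 hb))
  have u1 : χ 1 • a - a 1 • χ ∈ ZspanOn S1 (sharp L) := (zcharD1E fun _ h' => h.mem_CF (hS1.1 h')).2
    ⟨sub_mem (scale_zchar ci ha) (scale_zchar ai (mem_zchar hχ)), by simp [mul_comm]⟩
  have u2 : χ 1 • b - b 1 • φ ∈ ZspanOn S2 (sharp L) := (zcharD1E fun _ h' => h.mem_CF (hS2.1 h')).2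
    ⟨sub_mem (scale_zchar ci hb) (scale_zchar bi hφ), by simp [mul_comm, e1]⟩
  have u3 : χ 1 • (a + b) = (χ 1 • a - a 1 • χ) + (χ 1 • b - b 1 • φ) + a 1 • (χ - φ) := by
    rw [eq_neg_of_add_eq_zero_right t1]; module
  refine smul_right_injective _ (h.one_ne_zero (hS1.1 hχ)) ?_
  dsimp only
  rw [LinearMap.toAddMonoidHom_coe, ← map_smul, ← map_smul, u3, map_add, map_add, map_add, map_add,
    m1 _ u1.1, m2 _ u2.1, h1.eq u1, h2.eq u2, map_smul, map_smul, e, map_sub ν, m1 _ (mem_zchar hχ), m2 _ hφ]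

theorem P5.sum_subset_vchar (h : Subcoherent L Γ S τ R) (hχ : χ ∈ S) (hE : X ⊆ R χ) :
    ∑ α ∈ X, α ∈ Zspan (R χ) := Submodule.sum_mem _ fun _ hα => mem_zchar (hE hα)

theorem P5.cfdot_tau_star (h : Subcoherent L Γ S τ R) (hχ : χ ∈ S) (hE : X ⊆ R χ)
    (hn : cfnorm Γ (∑ α ∈ X, α) = cfnorm L χ) :
    ⟪τ (star χ - (1 : ℂ) • χ), ∑ α ∈ X, α⟫[Γ] = -1 * ⟪χ, χ⟫[L] := by
  rw [one_smul, ← neg_sub, map_neg, cfdotNl, h.sum_R χ hχ, cfdot_sumr, cfdot_self, ← hn,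
    ((h.R_orth χ hχ).subset hE).cfnorm_sum_one, Finset.sum_congr rfl fun α hα => by
      rw [(h.R_orth χ hχ).cfdot_sum_subset subset_rfl (hE hα), if_pos (hE hα)]]
  simp

open Classical in
theorem P5.pair_coherent (h : Subcoherent L Γ S τ R) (hχ : χ ∈ S) (hE : X ⊆ R χ)
    (hn : cfnorm Γ (∑ α ∈ X, α) = cfnorm L χ) :
    ∃ ν, CoherentWith L Γ {χ, star χ} (sharp L) τ ν ∧ ν χ = ∑ α ∈ X, α := by
  refine pivot (subset_subcoherent h (conjC_pair_subset h.conj_mem hχ)) (by simp)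
    (h.span_R_vchar hχ (sum_subset_vchar h hχ hE)) (fun η hη hne => ?_) (by simp only [cfdot_self, hn])
  obtain rfl : η = star χ := by simpa [hne] using hη
  exact ⟨1, isCint_one, by simp [h.star_one hχ], cfdot_tau_star h hχ hE hn⟩

open Classical in
/-- essentially (5.6.3), reused in (9.11.8) -/
theorem extend_coherent_with (h : Subcoherent L Γ S τ R) (hS : ConjSubset S1 S)
    (h1 : CoherentWith L Γ S1 (sharp L) τ τ1) (hφ : φ ∈ S1) (hχ : χ ∈ S) (hn : χ ∉ S1) {a : ℂ}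
    {X : G → ℂ} (ha : IsCint a) (e1 : χ 1 = a * φ 1) (hX : ⟪X, a • τ1 φ⟫[Γ] = 0)
    (e : τ (χ - a • φ) = X - a • τ1 φ) :
    Coherent L Γ (insert χ (insert (star χ) S1)) (sharp L) τ := by
  have hn' : star χ ∉ S1 := fun h' => hn (star_star χ ▸ hS.2 _ h')
  have hm := sub_seqInd_zchar (fun _ => h.mem_CF) hχ (hS.1 hφ) ha e1
  have hφ' := scale_zchar ha (mem_zchar hφ)
  rw [← map_Cint_smul τ1 ha] at hX e
  obtain ⟨h2, -, E, hE, rfl⟩ := (subcoherent_norm_tau h hχ hm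
    (cfdot_symm0 (subset_ortho_subcoherent h hS.1 hχ hn hφ'))
    (cfdot_symm0 (subset_ortho_subcoherent h hS.1 (h.conj_mem χ hχ) hn' hφ')) e
    (by rw [sub_eq_iff_eq_add.1 e.symm]; exact vchar_mem_CF (add_mem (h.tau_vchar hm) (h1.vchar hφ')))
    hX fun α hα => coherent_ortho_supp h hS h1 hχ hn hφ' hα).2 (h1.cfnorm hφ').ge
  obtain ⟨ν, h3, h4⟩ := pair_coherent h hχ hE h2
  have := bridge_coherent h (conjC_pair_subset h.conj_mem hχ) h3 hS h1 (by simp [hn, hn']) (by simp)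
    hφ' (by simpa using e1) (h4 ▸ e)
  simpa using this

open Classical in
/-- (5.6) -/
theorem extend_coherent (h : Subcoherent L Γ S τ R) (hS : ConjSubset S1 S) (hξ : ξ ∈ S1) (hχ : χ ∈ S)
    (hn : χ ∉ S1) (ha : Coherent L Γ S1 (sharp L) τ) (hb : ∃ a : ℂ, IsCint a ∧ χ 1 = a * ξ 1)
    (hc : 2 * (χ 1).re * (ξ 1).re < ∑ φ ∈ S1, (φ 1).re ^ 2 / cfnorm L φ) :
    Coherent L Γ (insert χ (insert (star χ) S1)) (sharp L) τ := by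
  obtain ⟨τ1, h1⟩ := ha
  obtain ⟨_, ⟨a, rfl⟩, e1⟩ := hb
  have ha := isCint_intCast a
  have hn' : star χ ∉ S1 := fun h' => hn (star_star χ ▸ hS.2 _ h')
  have hm := sub_seqInd_zchar (fun _ => h.mem_CF) hχ (hS.1 hξ) ha e1
  have hξ' := scale_zchar ha (mem_zchar hξ)
  obtain ⟨X, hX, Y, hY, e, hXY, hYR⟩ := subcoherent_split h hχ (h.tau_vchar hm)
  have o1 := cfdot_symm0 (subset_ortho_subcoherent h hS.1 hχ hn hξ')
  have n1 := (subcoherent_norm_tau h hχ hm o1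
    (cfdot_symm0 (subset_ortho_subcoherent h hS.1 (h.conj_mem χ hχ) hn' hξ')) e
    (vchar_mem_CF (h.span_R_vchar hχ hX)) hXY hYR).1
  have n2 := h.isometry.cfnorm hm
  rw [e, cfnormBd hXY, cfnormBd o1, ← h1.cfnorm hξ', map_Cint_smul τ1 ha] at n2
  have oX : ∀ φ ∈ Zspan S1, ⟪X, τ1 φ⟫[Γ] = 0 := fun φ hφ => cfdot_zchar_eq_zero hX fun α hα =>
    cfdot_symm0 (coherent_ortho_supp h hS h1 hχ hn hφ hα)
  obtain ⟨Y', hY'⟩ : ∃ Y', Y' = (a : ℂ) • τ1 ξ - Y := ⟨_, rfl⟩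
  obtain rfl : Y = (a : ℂ) • τ1 ξ - Y' := by simp [hY']
  clear hY'
  suffices Y' = 0 by
    rw [this, sub_zero] at e hXY
    exact extend_coherent_with h hS h1 hξ hχ hn ha e1 hXY e
  have v1 : Y' ∈ ZIrr Γ := by simpa using sub_mem (scale_zchar ha (h1.vchar_mem hξ)) hY
  obtain ⟨l, hl⟩ := Cint_cfdot_vchar v1 (h1.vchar_mem hξ)
  have : ∀ φ ∈ S, ∃ d : ℕ, φ 1 = d := fun φ hφ => Cnat_char1 (h.isChar φ hφ)
  choose! d hd using this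
  have d0 : (0 : ℝ) < d ξ := by
    have := h.one_ne_zero (hS.1 hξ)
    rw [hd ξ (hS.1 hξ)] at this
    exact_mod_cast Nat.pos_of_ne_zero (by exact_mod_cast this)
  have d0' : (d ξ : ℂ) ≠ 0 := by exact_mod_cast d0.ne'
  have key : ∀ φ ∈ S1, ⟪Y', τ1 φ⟫[Γ] = d φ * l / d ξ := fun φ hφ => by
    have u : (d ξ : ℂ) • φ - (d φ : ℂ) • ξ ∈ ZspanOn S1 (sharp L) :=
      (zcharD1E fun _ h' => h.mem_CF (hS.1 h')).2 ⟨sub_mem (scale_zchar (isCint_natCast _) (mem_zchar hφ))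
        (scale_zchar (isCint_natCast _) (mem_zchar hξ)), by
          simp [hd φ (hS.1 hφ), hd ξ (hS.1 hξ), mul_comm]⟩
    have := h.isometry.1 _ hm _ (zchar_subset_on hS.1 u)
    rw [e, ← h1.eq u, cfdotBl, oX _ u.1, cfdotBl, ← map_Cint_smul τ1 ha, h1.cfdot hξ' u.1, cfdotBl χ,
      cfdot_symm0 (subset_ortho_subcoherent h hS.1 hχ hn u.1), map_sub,
      map_Cint_smul τ1 (isCint_natCast _), map_Cint_smul τ1 (isCint_natCast _), cfdotBr Y', cfdotZr,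
      cfdotZr, hl, map_natCast, map_natCast] at this
    field_simp
    linear_combination this
  have n3 : cfnorm Γ Y' ≤ 2 * a * l := by
    rw [cfnormB, cfdotZl, cfdot_vchar_comm (h1.vchar_mem hξ) v1, hl] at n2
    simp only [Complex.mul_re, Complex.intCast_re, Complex.intCast_im] at n2
    linarith
  set s := ∑ φ ∈ S1, (φ 1).re ^ 2 / cfnorm L φ with hs
  have cs := cfCauchySchwarz (H := Γ) Y' (∑ φ ∈ S1, ((d φ / cfnorm L φ : ℝ) : ℂ) • τ1 φ)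
  rw [cfnorm_sum_orth _ _ fun φ hφ ψ hψ hne => by
      rw [cfdotZl, cfdotZr, h1.cfdot_mem hφ hψ, h.orth.2 φ (hS.1 hφ) ψ (hS.1 hψ) hne]; simp,
    show ∑ φ ∈ S1, cfnorm Γ (((d φ / cfnorm L φ : ℝ) : ℂ) • τ1 φ) = s from
      Finset.sum_congr rfl fun φ hφ => by
        have := (h.cfnorm_pos (hS.1 hφ)).ne'
        rw [cfnormZ, h1.cfnorm (mem_zchar hφ), Complex.norm_real, Real.norm_eq_abs, sq_abs,
          hd φ (hS.1 hφ), Complex.natCast_re]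
        field_simp,
    show ⟪Y', ∑ φ ∈ S1, ((d φ / cfnorm L φ : ℝ) : ℂ) • τ1 φ⟫[Γ] = ((s * l / d ξ : ℝ) : ℂ) by
      rw [cfdot_sumr, hs, Finset.sum_mul, Finset.sum_div, Complex.ofReal_sum]
      refine Finset.sum_congr rfl fun φ hφ => ?_
      rw [cfdotZr, key φ hφ, Complex.conj_ofReal, hd φ (hS.1 hφ), Complex.natCast_re]
      push_cast; ring,
    Complex.norm_real, Real.norm_eq_abs, sq_abs] at cs
  have e2 : (d χ : ℝ) = a * d ξ := by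
    rw [hd χ hχ, hd ξ (hS.1 hξ)] at e1; exact_mod_cast e1
  rw [hd χ hχ, hd ξ (hS.1 hξ), Complex.natCast_re, Complex.natCast_re] at hc
  have c0 : (0 : ℝ) ≤ 2 * d χ * d ξ := by positivity
  have s0 : 0 < s := c0.trans_lt hc
  have l2 : (l : ℝ) ≤ l ^ 2 := by exact_mod_cast Int.le_self_sq l
  have l0 : l = 0 := by
    by_contra l0
    have l1 : (0 : ℝ) < l ^ 2 := by positivity
    have : s * l ^ 2 ≤ 2 * d χ * d ξ * l := by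
      rw [div_pow, div_le_iff₀ (by positivity)] at cs
      refine le_of_mul_le_mul_left ?_ s0
      calc s * (s * l ^ 2) = (s * l) ^ 2 := by ring
        _ ≤ cfnorm Γ Y' * s * d ξ ^ 2 := cs
        _ ≤ 2 * a * l * s * d ξ ^ 2 := by gcongr
        _ = _ := by rw [e2]; ring
    nlinarith [mul_le_mul_of_nonneg_left l2 c0, mul_lt_mul_of_pos_right hc l1]
  exact vchar_eq_zero_of_cfnorm_lt v1 (by simp [l0] at n3; linarith)

theorem P5.double_split (h : Subcoherent L Γ S τ R) (hχ : χ ∈ S) (hψ : ψ ∈ S) (h1 : χ 1 = ψ 1)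
    (n1 : ψ ≠ χ) (n2 : ψ ≠ star χ) : ∃ E ⊆ R χ, ∃ Y ∈ Zspan (R ψ),
      τ (χ - ψ) = ∑ α ∈ E, α - Y ∧ cfnorm Γ (∑ α ∈ E, α) = cfnorm L χ := by
  have m1 : χ - ψ ∈ ZspanOn S (sharp L) := by
    simpa using sub_seqInd_zchar (fun _ => h.mem_CF) hχ hψ isCint_one (by simpa)
  have m2 : ψ - χ ∈ ZspanOn S (sharp L) := by simpa using neg_mem m1
  have n3 : χ ≠ star ψ := fun e => n2 (by simp [e])
  obtain ⟨X, hX, Y, hY, e, hXY, hYR⟩ := subcoherent_split h hχ (h.tau_vchar m1)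
  obtain ⟨X1, hX1, Y1, hY1, e1, hXY1, hYR1⟩ := subcoherent_split h hψ (h.tau_vchar m2)
  have a1 := (subcoherent_norm_tau h hψ m2 (h.orth.2 ψ hψ χ hχ n1)
    (h.orth.2 _ (h.conj_mem ψ hψ) χ hχ n3.symm) e1 (vchar_mem_CF (h.span_R_vchar hψ hX1)) hXY1 hYR1).1
  have e2 : Y = X1 + (X - Y1) := by
    rw [← neg_sub, map_neg, e] at e1; linear_combination e1
  have n4 : cfnorm Γ Y = cfnorm Γ X1 + cfnorm Γ (X - Y1) := by
    rw [e2, cfnormDd]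
    rw [cfdotBr, hXY1, (h.orthR hψ hχ n1 n2).cfdot_zchar hX1 hX, sub_zero]
  have n5 := cfnorm_ge0 (H := Γ) (X - Y1)
  obtain ⟨b1, b2, E, hE, rfl⟩ := (subcoherent_norm_tau h hχ m1 (h.orth.2 χ hχ ψ hψ n1.symm)
    (h.orth.2 _ (h.conj_mem χ hχ) ψ hψ n2.symm) e (vchar_mem_CF (h.span_R_vchar hχ hX)) hXY hYR).2
    (by linarith)
  refine ⟨E, hE, X1, hX1, ?_, b1⟩
  rw [e, e2, vchar_eq_zero_of_cfnorm_lt (sub_mem (h.span_R_vchar hχ hX) hY1) (by linarith), add_zero]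

/-- (5.7) -/
theorem uniform_degree_coherence (h : Subcoherent L Γ S τ R) (h1 : ∀ φ ∈ S, ∀ ψ ∈ S, φ 1 = ψ 1) :
    Coherent L Γ S (sharp L) τ := by
  classical
  rcases S.eq_empty_or_nonempty with rfl | ⟨χ, hχ⟩
  · exact nil_coherent ..
  by_cases hS : S ⊆ {χ, star χ}
  · obtain ⟨n, hn⟩ := Cnat_cfnorm_vchar (h.vchar hχ)
    obtain ⟨E, hE, hc⟩ := Finset.exists_subset_card_eq (s := R χ) (n := n) (by
      have := h.card_R hχ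
      rw [hn] at this
      have : (R χ).card = 2 * n := by exact_mod_cast this
      omega)
    obtain ⟨ν, h2, -⟩ := pair_coherent h hχ hE (by
      rw [((h.R_orth χ hχ).subset hE).cfnorm_sum_one, hc, hn])
    exact subset_coherent hS h2.coherent
  obtain ⟨ψ, hψ, hn⟩ := Finset.not_subset.1 hS
  simp only [Finset.mem_insert, Finset.mem_singleton, not_or] at hn
  obtain ⟨E, hE, Y, hY, e, hN⟩ := double_split h hχ hψ (h1 χ hχ ψ hψ) hn.1 hn.2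
  have hZ := sum_subset_vchar h hχ hE
  have hN' : ⟪∑ α ∈ E, α, ∑ α ∈ E, α⟫[Γ] = ⟪χ, χ⟫[L] := by simp only [cfdot_self, hN]
  have o1 := h.orthR hψ hχ hn.1 hn.2
  have m : ∀ η ∈ S, χ - η ∈ ZspanOn S (sharp L) := fun η hη => by
    simpa using sub_seqInd_zchar (fun _ => h.mem_CF) hχ hη isCint_one (by simpa using h1 χ hχ η hη)
  refine pivot_coherence h hχ (h.span_R_vchar hχ hZ)
    (fun η hη n1 => ⟨1, isCint_one, by simpa using h1 η hη χ hχ, ?_⟩) hN'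
  by_cases n2 : η = star χ
  · exact n2 ▸ cfdot_tau_star h hχ hE hN
  rw [one_smul, ← neg_sub, map_neg, cfdotNl, neg_one_mul, neg_inj]
  by_cases n3 : η = ψ
  · rw [n3, e, cfdotBl, hN', o1.cfdot_zchar hY hZ, sub_zero]
  by_cases n4 : η = star ψ
  · rw [n4, ← sub_add_sub_cancel χ ψ, map_add, e, h.sum_R ψ hψ, cfdotDl, cfdotBl, hN',
      o1.cfdot_zchar hY hZ, o1.cfdot_zchar (sum_subset_vchar h hψ subset_rfl) hZ, sub_zero, add_zero]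
  obtain ⟨E', hE', Y', hY', e', -⟩ := double_split h hχ hη (h1 χ hχ η hη) n1 n2
  have := h.isometry.1 _ (m η hη) _ (m ψ hψ)
  rw [e, cfdotBr, e', cfdotBl _ _ Y, o1.symm.cfdot_zchar (sum_subset_vchar h hχ hE') hY,
    (h.orthR hη hψ n3 n4).cfdot_zchar hY' hY, cfdotBr, cfdotBl χ, cfdotBl χ, h.orth.2 η hη χ hχ n1,
    h.orth.2 η hη ψ hψ n3, h.orth.2 χ hχ ψ hψ (Ne.symm hn.1)] at this
  simpa [e'] using this

theorem pair_degree_coherence (h : Subcoherent L Γ S τ R) (hφ : φ ∈ S) (hψ : ψ ∈ S) (h1 : φ 1 = ψ 1) :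
    ∃ S1, φ ∈ S1 ∧ ψ ∈ S1 ∧ ConjSubset S1 S ∧ Coherent L Γ S1 (sharp L) τ := by
  classical
  have hS := (ConjSubset.refl h.conj_mem).filter (fun ξ => ξ 1 = φ 1) fun ξ hξ e =>
    (h.star_one hξ).trans e
  exact ⟨_, by simpa, by simp [hψ, h1], hS, uniform_degree_coherence (subset_subcoherent h hS)
    fun a ha b hb => (Finset.mem_filter.1 ha).2.trans (Finset.mem_filter.1 hb).2.symm⟩

end Pf

end Cfsg.Agent.OO
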