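import Cfsg.Agent.Lib.OO.PF6Defs
import Cfsg.Agent.Lib.OO.BG3

/-! # Peterfalvi section 6, (6.1) to (6.6) -/

set_option autoImplicit false
set_option linter.unusedSectionVars false
set_option linter.unusedVariables false

namespace Cfsg.Agent.OO

open Subgroup Cfsg.Agent.Coprime
open scoped Pointwise ComplexConjugate

universe u

variable {G : Type u} [Group G] [Finite G] {Γ K L M : Subgroup G}
  {τ : (G → ℂ) →ₗ[ℂ] (G → ℂ)} {R : (G → ℂ) → Finset (G → ℂ)}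

namespace Pf.P6

open Classical in
/-- extending coherence two characters at a time -/
theorem ext_ind {S S0 X : Finset (G → ℂ)} (hS : ∀ φ ∈ S, star φ ∈ S) (h0 : ConjSubset S0 S)
    (hX : ConjSubset X S) (hc : Coherent L Γ S0 (sharp L) τ)
    (step : ∀ S1, ConjSubset S1 S → S0 ⊆ S1 → S1 ⊆ S0 ∪ X → Coherent L Γ S1 (sharp L) τ → ¬ X ⊆ S1 →
      ∃ χ ∈ X, χ ∉ S1 ∧ Coherent L Γ (insert χ (insert (star χ) S1)) (sharp L) τ) :
    Coherent L Γ X (sharp L) τ := by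
  obtain ⟨S1, h1, hmax⟩ := Finset.exists_max_image ((S0 ∪ X).powerset.filter fun S1 =>
    ConjSubset S1 S ∧ S0 ⊆ S1 ∧ Coherent L Γ S1 (sharp L) τ) Finset.card
    ⟨S0, Finset.mem_filter.2 ⟨Finset.mem_powerset.2 Finset.subset_union_left, h0, subset_rfl, hc⟩⟩
  simp only [Finset.mem_filter, Finset.mem_powerset] at h1 hmax
  by_cases hX1 : X ⊆ S1
  · exact subset_coherent hX1 h1.2.2.2
  obtain ⟨χ, hχ, hn, hc'⟩ := step S1 h1.2.1 h1.2.2.1 h1.1 h1.2.2.2 hX1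
  have hsub : S1 ⊆ insert χ (insert (star χ) S1) :=
    (Finset.subset_insert _ _).trans (Finset.subset_insert _ _)
  have := hmax (insert χ (insert (star χ) S1)) ⟨Finset.insert_subset (Finset.mem_union_right _ hχ)
    (Finset.insert_subset (Finset.mem_union_right _ (hX.2 χ hχ)) h1.1),
    h1.2.1.insert_pair hS (hX.1 hχ), h1.2.2.1.trans hsub, hc'⟩
  exact absurd (Finset.card_lt_card ⟨hsub, fun h => hn (h (Finset.mem_insert_self _ _))⟩) (not_lt.2 this)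

theorem nil_quo_mono {H B : Subgroup G} (h : Nil (H ⁒ M)) (hM : H ≤ 𝐍(M)) (hB : H ≤ 𝐍(B)) (hMB : M ≤ B) :
    Nil (H ⁒ B) := by
  obtain ⟨f, hf, -⟩ := exists_quo_surjective hM hB (inf_le_left.trans hMB)
  exact Group.nilpotent_of_surjective f hf

/-- a chief factor is central in a nilpotent normal section -/
theorem chief_central {H A B : Subgroup G} (h : IsChiefIn L B A) (hH : H ⊴ L) (hAH : A ≤ H)
    (hn : Nil (H ⁒ B)) : ⁅A, H⁆ ≤ B := by
  have hA := h.normal_top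
  have hB := h.normal_bot
  have hle : ⁅A, H⁆ ≤ A := commutator_le_left' (hH.le.trans hA.norm)
  rcases h.eq_or_eq ((hA.commutator hH).sup hB) le_sup_right (sup_le hle h.le) with e | e
  · exact le_sup_left.trans e.le
  · exfalso
    have hAB : A ≤ 𝐍(B) := hA.le.trans hB.norm
    have := commutator_lt_of_nil hn ((hA.mono hAH hH.le).quo B) (quo_ne_bot hAB h.lt.not_ge)
    rw [← quo_commutator hAB (hH.le.trans hB.norm), ← quo_sup_self (hle.trans hAB), e] at this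
    exact lt_irrefl _ this

theorem semiregular_quo {D N W : Subgroup G} (hND : N ≤ D) (hW : W ≤ 𝐍(N)) (hc : (♯N).Coprime ♯W)
    (h : ∀ x ∈ W, x ≠ 1 → D ⊓ 𝐂[x] ≤ N) : Semiregular (D ⁒ N) (W ⁒ N) := fun z hz h1 => by
  obtain ⟨x, hx, rfl⟩ := (mem_quo_of_le hW).1 hz
  rw [← quo_inf_cent1 hND (hW hx) (hc.coprime_dvd_right (orderOf_dvd_card hx))]
  exact quo_eq_bot (h x hx fun e => h1 (by rw [e, coset_one]))

theorem two_mul_lt {e m : ℕ} (he : Odd e) (hm : Odd m) (hd : e ∣ m - 1) (h1 : 1 < m) : 2 * e + 1 ≤ m := by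
  have h2 : 2 ∣ m - 1 := by obtain ⟨k, rfl⟩ := hm; simp
  have := Nat.le_of_dvd (by omega) ((Nat.coprime_two_left.2 he).mul_dvd_of_dvd_of_dvd h2 hd)
  omega

theorem odd_relIndex (ho : Odd ♯L) {A B : Subgroup G} (hB : B ≤ L) : Odd (A.relIndex B) :=
  ho.of_dvd_nat ((Dvd.intro_left _ (card_inf_mul_relIndex A B)).trans (card_dvd hB))

/-- a nilpotent group whose abelianization is a `p`-group is a `p`-group -/
theorem isPGroup_of_nil {N : Subgroup G} {p : ℕ} [Fact p.Prime] (hn : Nil N)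
    (h : IsPiNum {p} ((der N).relIndex N)) : IsPGroup p N := by
  have hd := dprod_Op_of_nil p hn
  have h1 : Op' p N ≤ der N := (Op'_piGrp p N).le_of_relIndex (Opi_le _ _) (der_normal N).norm
    (by rwa [compl_compl])
  have h2 : Op' p N ≤ der (Op' p N) := by
    have := hd.der_dprod.inf_of_right_le (der_le (Op' p N))
    rw [inf_eq_right.2 h1, eq_bot_iff.2 ((inf_le_inf_right _ (der_le _)).trans hd.inf_eq.le)] at this
    exact this.sup_eq.ge.trans (bot_sup_eq _).le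
  have h3 : Op' p N = ⊥ := by
    by_contra h0
    exact (der_lt (sol_of_nil (nil_of_le hn (Opi_le _ _))) h0).not_ge h2
  have := hd.sup_eq
  rw [h3, sup_bot_eq] at this
  rw [← this]; exact Op_isPGroup p N

theorem seqInd_deg {p : ℕ} [hp : Fact p.Prime] (hK : K ≤ L) (h : IsPGroup p K) {φ : G → ℂ}
    (hφ : φ ∈ seqIndT K L) : ∃ n : ℕ, φ 1 = (K.relIndex L * p ^ n : ℕ) := by
  obtain ⟨θ, hθ, rfl⟩ := mem_seqIndT.1 hφ
  obtain ⟨d, -, hd⟩ := hθ.exists_one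
  obtain ⟨k, hk⟩ := IsPGroup.iff_card.1 h
  obtain ⟨n, -, rfl⟩ := (Nat.dvd_prime_pow hp.out).1 (hk ▸ dvd_irr1_cardG hθ hd)
  exact ⟨n, by rw [cfInd1 hK, hd]; push_cast; ring⟩

end Pf.P6

namespace Pf
open P6

theorem exists_linInd (hK : K ≤ L) (hs : Sol K) (hM : M ⊴ K) (hlt : M ≠ K) :
    ∃ φ ∈ seqIndD K L K M, φ 1 = K.relIndex L := by
  have hnM : ¬ K ≤ M := fun h => hlt (le_antisymm hM.le h)
  have h1 : ¬ K ≤ der K ⊔ M := fun h => by
    have := der_lt (sol_quo hs M) (quo_ne_bot hM.norm hnM)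
    rw [← quo_der hM.norm] at this
    exact this.not_ge ((quo_le_quo_iff_le_sup hM.norm ((der_le K).trans hM.norm)).2 h)
  obtain ⟨x, hx, hx1⟩ := SetLike.not_le_iff_exists.1 h1
  obtain ⟨l, hl, h2, h3⟩ := exists_lin_char_cfker ((der_normal K).sup hM) le_sup_left hx1
  refine ⟨cfInd L K l, mem_seqIndD.2 ⟨l, hl.isIrr, le_sup_right.trans h2, fun h => h3 (h hx), rfl⟩, ?_⟩
  rw [cfInd1 hK, hl.one, mul_one]

/-- (6.2); the hypothesis `D / B ≤ Z(C / B)` is `⁅D, C⁆ ≤ B` -/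
theorem coherent_seqIndD_bound (h : CohHyp Γ K L τ R) {A B C D : Subgroup G} (hA : A ⊴ L)
    (hAK : A < K) (hDC : D ≤ C) (hCK : C ≤ K) (hZ : ⁅D, C⁆ ≤ B)
    (hc : Coherent L Γ (seqIndD K L K A) (sharp L) τ) :
    Coherent L Γ (seqIndD K L K B) (sharp L) τ ∨
      (A.relIndex K : ℝ) - 1 ≤ 2 * C.relIndex L * √(D.relIndex C) := by
  classical
  rw [or_iff_not_imp_right, not_le]
  intro hlt
  have hKL := h.normal.le
  obtain ⟨φ, hφ, hφ1⟩ := exists_linInd hKL h.sol (hA.mono hAK.le hKL) hAK.ne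
  refine ext_ind h.subcoh.conj_mem (seqInd_conjC_subset1 K L A le_rfl) (seqInd_conjC_subset1 K L B le_rfl)
    hc fun S1 h1 h2 _ h3 h4 => ?_
  obtain ⟨χ, hχ, hn⟩ := Finset.not_subset.1 h4
  refine ⟨χ, hχ, hn, extend_coherent h.subcoh h1 (h2 hφ) (seqInd_sub K L B le_rfl hχ) hn h3 ?_ ?_⟩
  · obtain ⟨a, -, ha⟩ := dvd_index_seqInd1 hKL (seqInd_subT _ _ _ _ hχ)
    exact ⟨a, isCint_natCast a, by rw [ha, hφ1]⟩
  · refine lt_of_lt_of_le ?_ (Finset.sum_le_sum_of_subset_of_nonneg h2 fun ψ _ _ =>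
      div_nonneg (sq_nonneg _) (cfnorm_ge0 _))
    rw [sum_seqIndD_square_re h.normal le_rfl h.normal hA hAK.le, hφ1]
    obtain ⟨θ, hθ, hB, -, rfl⟩ := mem_seqIndD.1 hχ
    have hb := irr1_bound_quo hθ hB hDC hCK hZ
    have he : (0 : ℝ) < K.relIndex L := Nat.cast_pos.2 (relIndex_pos _ _)
    have hm : (C.relIndex L : ℝ) = C.relIndex K * K.relIndex L := by
      rw [← Nat.cast_mul, relIndex_mul_relIndex _ _ _ hCK hKL]
    rw [cfInd1 hKL, Complex.natCast_re, ← Complex.ofReal_natCast, Complex.re_ofReal_mul]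
    rw [hm] at hlt
    have := mul_le_mul_of_nonneg_left hb he.le
    nlinarith

/-- (6.3) -/
theorem bounded_seqIndD_coherence (h : CohHyp Γ K L τ R) {H H1 : Subgroup G} (hM : M ⊴ L) (hH : H ⊴ L)
    (hH1 : H1 ⊴ L) (hMH1 : M ≤ H1) (hH1H : H1 ≤ H) (hHK : H ≤ K) (ha : Nil (H ⁒ M))
    (hb : Coherent L Γ (seqIndD K L K H1) (sharp L) τ) (hc : 4 * K.relIndex L ^ 2 + 1 < H1.relIndex H) :
    Coherent L Γ (seqIndD K L K M) (sharp L) τ := by
  induction' hn : ♯H1 using Nat.strong_induction_on with n ih generalizing H1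
  rcases hMH1.eq_or_lt with rfl | hlt
  · exact hb
  obtain ⟨B, hMB, hB⟩ := exists_isChiefIn_below hH1 hM hlt
  have hBL := hB.normal_bot
  have hZ := chief_central hB hH hH1H (nil_quo_mono ha (hH.le.trans hM.norm) (hH.le.trans hBL.norm) hMB)
  refine ih _ (hn ▸ card_lt hB.lt) hBL hMB (hB.le.trans hH1H) ?_ (hc.trans_le ?_) rfl
  · have hlt' : H1 < H := hH1H.lt_of_ne fun e => by
      rw [e, relIndex_self] at hc; omega
    refine (coherent_seqIndD_bound h hH1 (hlt'.trans_le hHK) hH1H hHK hZ hb).resolve_right (not_le.2 ?_)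
    rw [← relIndex_mul_relIndex _ _ _ hH1H hHK, ← relIndex_mul_relIndex _ _ _ hHK h.normal.le]
    have hb1 : (1 : ℝ) ≤ H.relIndex K := Nat.one_le_cast.2 (relIndex_pos _ _)
    have hc' : 4 * (K.relIndex L : ℝ) ^ 2 + 2 ≤ H1.relIndex H := by exact_mod_cast hc
    push_cast
    generalize (H.relIndex K : ℝ) = b at *
    have ha0 : (0 : ℝ) ≤ K.relIndex L := Nat.cast_nonneg _
    generalize (K.relIndex L : ℝ) = a at *
    generalize (H1.relIndex H : ℝ) = n at *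
    have hn0 : 0 ≤ n := by nlinarith
    have h1 : 2 * a * √n < n - 1 := by
      refine lt_of_pow_lt_pow_left₀ 2 (by nlinarith) ?_
      rw [mul_pow, Real.sq_sqrt hn0]; nlinarith
    have h2 : 0 ≤ 2 * a * √n := by positivity
    nlinarith
  · exact Nat.le_of_dvd (relIndex_pos _ _) (relIndex_dvd_of_le_left _ hB.le)

/-- (6.5) -/
theorem non_coherent_chief (h : CohHyp Γ K L τ R) (hF : OddFrobQuo K L M) :
    Coherent L Γ (seqIndD K L K M) (sharp L) τ ∨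
      ((IsChiefIn L (der K ⊔ M) K ∧ (der K ⊔ M).relIndex K ≤ 4 * K.relIndex L ^ 2 + 1) ∧
        ∃ p : ℕ, p.Prime ∧ IsPGroup p (K ⁒ M) ∧ ¬ der K ≤ M ∧ ¬ K.relIndex L ∣ p - 1) := by
  have hKL := h.normal.le
  obtain ⟨E, hE⟩ := hF.frob
  have hn1 : (der K ⊔ M) ⊴ L := h.normal.der.sup hF.normal
  have hs1 : der K ⊔ M ≤ K := sup_le (der_le K) hF.le
  have hd1 : der K ≤ der K ⊔ M := le_sup_left
  have hM1 : M ≤ der K ⊔ M := le_sup_right
  have hq : (der K ⊔ M) ⁒ M = der (K ⁒ M) := by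
    rw [quo_sup_self ((der_le K).trans (hKL.trans hF.normal.norm)), quo_der (hKL.trans hF.normal.norm)]
  have hdM : der K ≤ M → der K ⊔ M = M := sup_eq_right.2
  generalize der K ⊔ M = H1 at *
  have hc1 : Coherent L Γ (seqIndD K L K H1) (sharp L) τ := by
    have : ∀ φ ∈ seqIndD K L K H1, φ 1 = K.relIndex L := fun φ hφ => by
      obtain ⟨θ, hθ, hk, -, rfl⟩ := mem_seqIndD.1 hφ
      rw [cfInd1 hKL, (lin_irr_der1 hθ (hd1.trans hk)).one, mul_one]
    exact uniform_degree_coherence (subset_subcoherent h.subcoh (seqInd_conjC_subset1 K L H1 le_rfl))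
      fun φ hφ ψ hψ => (this φ hφ).trans (this ψ hψ).symm
  by_cases hab : der K ≤ M
  · exact Or.inl (hdM hab ▸ hc1)
  rcases lt_or_ge (4 * K.relIndex L ^ 2 + 1) (H1.relIndex K) with hb | hb
  · exact Or.inl (bounded_seqIndD_coherence h hF.normal h.normal hn1 hM1 hs1 le_rfl hF.nil hc1 hb)
  right
  have he := odd_relIndex hF.odd (A := K) le_rfl
  have hK1 : K ≤ 𝐍(H1) := hKL.trans hn1.norm
  have hEe : ♯E = K.relIndex L := by
    rw [← hE.sdprod.relIndex_left, relIndex_quo (hn1.mono hs1 hKL) hn1.norm]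
  have hmod : ∀ H2, H1 ≤ H2 → H2 ≤ K → H2 ⊴ L → K.relIndex L ∣ H1.relIndex H2 - 1 := fun H2 h1 h2 h3 => by
    rw [← hEe, ← card_quo (h2.trans hK1)]
    exact regular_norm_dvd_pred (hE.compl_le.trans (quo_le_norm _ h3.norm))
      (hE.semiregular.mono (quo_mono _ h2) le_rfl)
  have hlt : H1 < K := hs1.lt_of_ne fun e => hE.ker_ne_bot (quo_eq_bot e.ge)
  have hub : H1.relIndex K < (2 * K.relIndex L + 1) ^ 2 := by
    have := relIndex_pos K L
    nlinarith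
  have hone : ∀ {A B : Subgroup G}, A < B → 1 < A.relIndex B := fun hAB =>
    lt_of_le_of_ne (relIndex_pos _ _) fun e => hAB.not_ge (relIndex_eq_one.1 e.symm)
  have hch : IsChiefIn L H1 K := ⟨hlt, h.normal, hn1, fun X hX h1 h2 => by
    by_contra hne
    push Not at hne
    have e := relIndex_mul_relIndex _ _ _ h1 h2
    have a1 := two_mul_lt he (odd_relIndex hF.odd hX.le) (hmod X h1 h2 hX) (hone (h1.lt_of_ne hne.1.symm))
    have d1 := (Nat.modEq_iff_dvd' (relIndex_pos H1 X)).2 (hmod X h1 h2 hX)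
    have d2 := (Nat.modEq_iff_dvd' (relIndex_pos H1 K)).2 (hmod K hs1 le_rfl h.normal)
    have d3 : 1 ≡ X.relIndex K [MOD K.relIndex L] := by
      have := d1.mul_right (X.relIndex K)
      rw [Nat.succ_mul, zero_mul, zero_add, e] at this
      exact d2.trans this.symm
    have a2 := two_mul_lt he (odd_relIndex hF.odd hKL) ((Nat.modEq_iff_dvd' (relIndex_pos X K)).1 d3)
      (hone (h2.lt_of_ne hne.2))
    rw [← e] at hub
    nlinarith⟩
  obtain ⟨p, hp, hel⟩ := hch.minNormal_quo.exists_abelem (sol_quo h.sol H1)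
  have := Fact.mk hp
  have hKM : K ≤ 𝐍(M) := hKL.trans hF.normal.norm
  have hi : (der (K ⁒ M)).relIndex (K ⁒ M) = H1.relIndex K := by
    rw [← hq, relIndex_quo (hF.normal.mono hM1 hn1.le) hKM]
  have hp1 : IsPGroup p (K ⁒ H1 : Subgroup _) := abelem_isPGroup hel
  have hpK : IsPGroup p (K ⁒ M : Subgroup _) :=
    isPGroup_of_nil hF.nil (by rw [hi]; exact (isPGroup_quo_iff hK1).1 hp1)
  refine ⟨⟨hch, hb⟩, p, hp, hpK, hab, fun hd => hab ?_⟩
  obtain ⟨n, hn⟩ := IsPGroup.iff_card.1 hp1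
  rw [card_quo hK1] at hn
  have hn0 : n ≠ 0 := fun e => by have := hone hlt; rw [hn, e] at this; exact lt_irrefl _ this
  have hpo : Odd p := (odd_relIndex hF.odd (A := H1) hKL).of_dvd_nat (hn ▸ dvd_pow_self p hn0)
  have h2 := two_mul_lt he hpo hd hp.one_lt
  have hn1' : n = 1 := by
    have : p ^ n < p ^ 2 := hn ▸ hub.trans_le (Nat.pow_le_pow_left h2 2)
    have := (Nat.pow_lt_pow_iff_right hp.one_lt).1 this
    omega
  rw [hn1', pow_one] at hn
  rw [← ab_quo_iff hKM]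
  refine ab_of_isCyclic (isCyclic_of_quo_Phi (N := der (K ⁒ M)) (der_le_Phi hpK) (der_normal _).norm
    (isCyclic_of_prime ?_))
  rwa [card_quo (der_normal _).norm, hi, hn]

/-- (6.6) -/
theorem seqIndD_irr_coherence (h : CohHyp Γ K L τ R) (hF : OddFrobQuo K L ⊥) {Z : Subgroup G}
    (hZ : Z ⊴ L) (hZ1 : Z ≠ ⊥) (hZK : Z ≤ Zc K) (hirr : ∀ χ ∈ seqIndD K L Z ⊥, IsIrr L χ) :
    (∀ χ, χ ∈ seqIndD K L Z ⊥ ↔ IsIrr L χ ∧ ¬ Z ≤ cfker L χ) ∧
      Coherent L Γ (seqIndD K L Z ⊥) (sharp L) τ := by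
  classical
  have hKL := h.normal.le
  have hZK' : Z ≤ K := hZK.trans (Zc_le K)
  refine ⟨fun χ => ⟨fun hχ => ⟨hirr χ hχ,
    ((mem_seqIndD_iff_cfker h.normal hZ (NormalIn.bot L) hZK' bot_le).1 hχ).2.2⟩, fun ⟨hχ, hk⟩ => ?_⟩, ?_⟩
  · obtain ⟨θ, hθ, h0⟩ := constt_cfRes_irr hχ hKL
    have hm : cfInd L K θ ∈ seqIndD K L Z ⊥ := mem_seqIndD.2 ⟨θ, hθ, bot_le,
      fun e => hk ((sub_cfker_constt_Res_irr hKL hZK' hZ.norm hχ hθ h0).1 e), rfl⟩
    rwa [eq_cfInd_of_constt hKL hχ hθ.isChar (hirr _ hm) h0]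
  rcases non_coherent_chief h hF with hc | ⟨-, p, hp, hpK, -, -⟩
  · exact subset_coherent (seqInd_sub K L ⊥ hZK') hc
  have := Fact.mk hp
  replace hpK : IsPGroup p K := hpK.of_equiv (quoBotEquiv K).symm
  obtain ⟨E, hE⟩ := hF.frob
  have hn1 : (der K ⊔ ⊥) ⊴ L := h.normal.der.sup hF.normal
  have hco : (K.relIndex L).Coprime p := by
    rw [← relIndex_quo (hn1.mono (sup_le (der_le K) bot_le) hKL) hn1.norm, hE.sdprod.relIndex_left]
    exact (hE.coprime.coprime_dvd_left (dvd_card_of_isPGroup (isPGroup_quo hpK _) hE.ker_ne_bot)).symm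
  have hp3 : 2 < p := hp.two_le.lt_of_ne fun e => by
    have := hF.odd.of_dvd_nat ((dvd_card_of_isPGroup hpK (ne_bot_of_le_ne_bot hZ1 hZK')).trans (card_dvd hKL))
    rw [← e] at this; exact absurd this (by decide)
  choose! n hn using fun φ (hφ : φ ∈ seqIndT K L) => seqInd_deg hKL hpK hφ
  have hXT := seqInd_subT K L Z ⊥
  have hXS := seqInd_conjC_subset1 K L ⊥ hZK'
  have htot := sum_seqIndD_square_re h.normal hZK' hZ (NormalIn.bot L) bot_le
  have hdeg : ∀ χ ∈ seqIndD K L Z ⊥, p ^ (2 * n χ) ∣ Z.relIndex K := fun χ hχ => by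
    have e := hn χ (hXT hχ)
    generalize n χ = m at e
    obtain ⟨θ, hθ, -, -, rfl⟩ := mem_seqIndD.1 hχ
    rw [cfInd1 hKL, Nat.cast_mul, mul_right_inj' (relIndexC_ne_zero _ _)] at e
    have hb := irr1_bound hθ hZK' ((commutator_eq_bot_iff.2 (hZK.trans (Zc_le_cent K))).le.trans bot_le)
    obtain ⟨k, hk⟩ := IsPGroup.iff_card.1 hpK
    obtain ⟨j, -, hj⟩ := (Nat.dvd_prime_pow hp).1 (hk ▸ Dvd.intro_left _ (card_mul_relIndex hZK'))
    rw [e, Complex.natCast_re, hj, ← Nat.cast_pow, Nat.cast_le, ← pow_mul, Nat.pow_le_pow_iff_right hp.one_lt]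
      at hb
    rw [hj]; exact pow_dvd_pow _ (by omega)
  obtain ⟨χ1, hχ1, hmin⟩ := (seqIndD K L Z ⊥).exists_min_image n
    (seqIndD_nonempty L (NormalIn.bot K) (by rwa [le_bot_iff]))
  generalize seqIndD K L Z ⊥ = X at *
  have hf : ∀ S1 ⊆ X, ∑ φ ∈ S1, (φ 1).re ^ 2 / cfnorm L φ = (∑ φ ∈ S1, (K.relIndex L * p ^ n φ) ^ 2 : ℕ) :=
    fun S1 h1 => by
      rw [Nat.cast_sum]
      exact Finset.sum_congr rfl fun φ hφ => by
        rw [cfnorm_irr (hirr φ (h1 hφ)), hn φ (hXT (h1 hφ)), Complex.natCast_re, div_one, Nat.cast_pow]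
  have hS0 : ConjSubset (X.filter fun χ => χ 1 = χ1 1) (seqIndD K L K ⊥) := hXS.filter _ fun φ hφ e => by
    rw [cfConjCE, (Cnat_char1 (hirr φ hφ).isChar).conj_eq, e]
  refine ext_ind h.subcoh.conj_mem hS0 hXS (uniform_degree_coherence (subset_subcoherent h.subcoh hS0)
    fun φ hφ ψ hψ => (Finset.mem_filter.1 hφ).2.trans (Finset.mem_filter.1 hψ).2.symm)
    fun S1 h1 h2 h3 h4 h5 => ?_
  replace h3 : S1 ⊆ X := h3.trans (Finset.union_subset (Finset.filter_subset _ _) subset_rfl)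
  obtain ⟨χ, hχ, hm⟩ := (X \ S1).exists_min_image n (Finset.sdiff_nonempty.2 h5)
  obtain ⟨hχ, hχn⟩ := Finset.mem_sdiff.1 hχ
  have h11 : χ1 ∈ S1 := h2 (Finset.mem_filter.2 ⟨hχ1, rfl⟩)
  have hlt : n χ1 < n χ := (hmin χ hχ).lt_of_ne fun e => hχn (h2 (Finset.mem_filter.2
    ⟨hχ, by rw [hn χ (hXT hχ), hn χ1 (hXT hχ1), e]⟩))
  obtain ⟨k, hk⟩ := Nat.exists_eq_add_of_lt hlt
  refine ⟨χ, hχ, hχn, extend_coherent h.subcoh h1 h11 (hXS.1 hχ) hχn h4 ⟨(p ^ (k + 1) : ℕ),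
    isCint_natCast _, by rw [hn χ (hXT hχ), hn χ1 (hXT hχ1), hk]; push_cast; ring⟩ ?_⟩
  rw [hf S1 h3, hn χ (hXT hχ), hn χ1 (hXT hχ1), Complex.natCast_re, Complex.natCast_re]
  have d1 : p ^ (2 * n χ) ∣ ∑ φ ∈ X, (K.relIndex L * p ^ n φ) ^ 2 := by
    rw [hf X subset_rfl, relIndex_bot_left, ← Nat.cast_pred (card_pos' Z), ← Nat.cast_mul, Nat.cast_inj] at htot
    rw [htot, ← relIndex_mul_relIndex _ _ _ hZK' hKL]
    exact ((hdeg χ hχ).mul_right _).mul_right _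
  have d2 : p ^ (2 * n χ) ∣ ∑ φ ∈ X \ S1, (K.relIndex L * p ^ n φ) ^ 2 := Finset.dvd_sum fun φ hφ => by
    rw [mul_pow, ← pow_mul]
    exact (pow_dvd_pow _ (by have := hm φ hφ; omega)).mul_left _
  rw [← Finset.sum_sdiff h3, Nat.dvd_add_right d2] at d1
  have d3 : K.relIndex L ^ 2 ∣ ∑ φ ∈ S1, (K.relIndex L * p ^ n φ) ^ 2 := Finset.dvd_sum fun φ _ => by
    rw [mul_pow]; exact dvd_mul_right _ _
  have he := relIndex_pos K L
  have hle := Nat.le_of_dvd (Finset.sum_pos (fun φ _ => by positivity) ⟨χ1, h11⟩)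
    ((hco.pow 2 _).mul_dvd_of_dvd_of_dvd d3 d1)
  have : 2 * (K.relIndex L * p ^ n χ) * (K.relIndex L * p ^ n χ1) < K.relIndex L ^ 2 * p ^ (2 * n χ) := by
    have h6 : 2 * p ^ n χ1 < p ^ n χ := by
      rw [hk, add_assoc, pow_add, mul_comm]
      exact Nat.mul_lt_mul_of_pos_left (hp3.trans_le (Nat.le_self_pow (by omega) p)) (by positivity)
    have h7 : 0 < K.relIndex L ^ 2 * p ^ n χ := by positivity
    calc _ = K.relIndex L ^ 2 * p ^ n χ * (2 * p ^ n χ1) := by ring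
      _ < K.relIndex L ^ 2 * p ^ n χ * p ^ n χ := Nat.mul_lt_mul_of_pos_left h6 h7
      _ = _ := by ring
  exact_mod_cast this.trans_le hle

end Pf

end Cfsg.Agent.OO
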