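import Cfsg.Agent.Lib.OO.Pf.PF6_A
import Cfsg.Agent.Lib.OO.Pf.PF6_T

/-! # Peterfalvi (6.8): Sibley's coherence theorem -/

set_option autoImplicit false
set_option linter.unusedSectionVars false
set_option linter.unusedVariables false

namespace Cfsg.Agent.OO

open Subgroup Cfsg.Agent.Coprime
open scoped Pointwise ComplexConjugate

universe u

variable {G : Type u} [Group G] [Finite G] {Γ L H Z : Subgroup G}
  {τ : (G → ℂ) →ₗ[ℂ] (G → ℂ)} {R : (G → ℂ) → Finset (G → ℂ)} {τ1 : (G → ℂ) →+ (G → ℂ)}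
  {η1 η χ φ β y : G → ℂ} {p : ℕ} {Y : Finset (G → ℂ)}

namespace Pf.P6

theorem pivot_cases (hY : ∀ η ∈ Y, IsIrr L η) (h1 : CoherentWith L Γ Y (sharp L) τ τ1) (hη : η1 ∈ Y)
    (hc : 1 < Y.card) {a : ℕ} (hd : ∀ η ∈ Y, η ≠ η1 → ⟪β, τ1 η - τ1 η1⟫[Γ] = a) {k : ℤ}
    (hv : ⟪β, τ1 η1⟫[Γ] = a * k) (hn : cfnorm Γ β < 2 * a ^ 2) :
    ⟪β, τ1 η1⟫[Γ] = -a ∨ (⟪β, τ1 η1⟫[Γ] = 0 ∧ Y.card = 2) := by
  classical
  have hf : ∀ ξ ∈ Y, ∀ η ∈ Y, ⟪τ1 ξ, τ1 η⟫[Γ] = ⟪ξ, η⟫[L] := fun _ a _ b => h1.cfdot_mem a b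
  have hb := ((orthonormal_of_irr hY).image hf).bessel β
  rw [Finset.sum_image ((orthonormal_of_irr hY).injOn hf), ← Finset.add_sum_erase _ _ hη, hv,
    Finset.sum_congr rfl (g := fun _ => (a * (k + 1) : ℝ) ^ 2) fun η hη => ?_] at hb
  · rw [Finset.sum_const, Finset.card_erase_of_mem hη, nsmul_eq_mul, Nat.cast_pred (by omega),
      show (a * k : ℂ) = ((a * k : ℝ) : ℂ) by push_cast; rfl, Complex.norm_real, Real.norm_eq_abs, sq_abs] at hb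
    have ha : (0 : ℝ) < a ^ 2 := by
      have := cfnorm_ge0 (H := Γ) β
      linarith
    have h2 : (k : ℝ) ^ 2 + (Y.card - 1) * (k + 1) ^ 2 < 2 := by
      by_contra h3
      nlinarith
    have h3 : k ^ 2 + (Y.card - 1) * (k + 1) ^ 2 < 2 := by exact_mod_cast h2
    have h4 : (2 : ℤ) ≤ Y.card := by exact_mod_cast hc
    have h5 : k ^ 2 + (k + 1) ^ 2 < 2 := by nlinarith [sq_nonneg (k + 1)]
    have h6 : k = -1 ∨ k = 0 := by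
      have : -2 < k := by nlinarith
      have : k < 1 := by nlinarith
      omega
    rcases h6 with rfl | rfl
    · left; rw [hv]; simp
    · right; rw [hv]; exact ⟨by simp, by omega⟩
  · obtain ⟨hne, hη⟩ := Finset.mem_erase.1 hη
    have := hd η hη hne
    rw [cfdotBr, hv, sub_eq_iff_eq_add] at this
    rw [this, show (a + a * k : ℂ) = ((a * (k + 1) : ℝ) : ℂ) by push_cast; ring, Complex.norm_real,
      Real.norm_eq_abs, sq_abs]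

theorem exists_pivot (hY : ∀ η ∈ Y, IsIrr L η) (h1 : CoherentWith L Γ Y (sharp L) τ τ1) (hη : η1 ∈ Y)
    {a v : ℂ} (hv : v = -a ∨ (v = 0 ∧ Y.card = 2)) :
    ∃ y ∈ Zspan Y, ⟪τ1 y, τ1 y⟫[Γ] = 1 ∧ (∀ η ∈ Y, η ≠ η1 → ⟪τ1 η - τ1 η1, τ1 y⟫[Γ] = -1) ∧
      ∀ β, ⟪β, τ1 η1⟫[Γ] = v → (∀ η ∈ Y, η ≠ η1 → ⟪β, τ1 η - τ1 η1⟫[Γ] = a) → ⟪β, τ1 y⟫[Γ] = -a := by
  classical
  rcases hv with rfl | ⟨rfl, hc⟩
  · refine ⟨η1, mem_zchar hη, by rw [h1.cfdot_mem hη hη, cfdot_irr_self (hY _ hη)], fun η h hne => ?_,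
      fun β h _ => h⟩
    rw [cfdotBl, h1.cfdot_mem h hη, h1.cfdot_mem hη hη, cfdot_irr_self (hY _ hη),
      cfdot_irr_ne (hY _ h) (hY _ hη) hne, zero_sub]
  · have : (Y.erase η1).card = 1 := by rw [Finset.card_erase_of_mem hη, hc]
    obtain ⟨η2, e⟩ := Finset.card_eq_one.1 this
    obtain ⟨hne, h2⟩ := Finset.mem_erase.1 (e.ge (Finset.mem_singleton_self η2))
    refine ⟨-η2, neg_mem (mem_zchar h2), ?_, fun η h hne' => ?_, fun β h hd => ?_⟩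
    · rw [map_neg, cfdotNl, cfdotNr, neg_neg, h1.cfdot_mem h2 h2, cfdot_irr_self (hY _ h2)]
    · obtain rfl := Finset.mem_singleton.1 (e.le (Finset.mem_erase.2 ⟨hne', h⟩))
      rw [map_neg, cfdotNr, cfdotBl, h1.cfdot_mem h h, h1.cfdot_mem hη h, cfdot_irr_self (hY _ h),
        cfdot_irr_ne (hY _ hη) (hY _ h) hne.symm, sub_zero]
    · have := hd η2 h2 hne
      rw [cfdotBr, h, sub_zero] at this
      rw [map_neg, cfdotNr, this]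

/-- the setting of (6.8.1) and (6.8.2) -/
structure Ctx (Γ L H Z : Subgroup G) (R : (G → ℂ) → Finset (G → ℂ)) (p : ℕ) (τ1 : (G → ℂ) →+ (G → ℂ))
    (η1 : G → ℂ) : Prop where
  prime : p.Prime
  ti : NormedTI (sharp H) Γ L
  coh : CohHyp Γ H L (cfInd Γ L) R
  frob : OddFrobQuo H L ⊥
  syl : Syl p H Γ
  irrY : ∀ η ∈ seqIndD H L H (der H), IsIrr L η
  cohY : CoherentWith L Γ (seqIndD H L H (der H)) (sharp L) (cfInd Γ L) τ1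
  mem : η1 ∈ seqIndD H L H (der H)
  normalZ : Z ⊴ L
  ne_bot : Z ≠ ⊥
  le_Zc : Z ≤ Zc H
  le_der : Z ≤ der H

local notation "𝒳" => seqIndD H L Z ⊥
local notation "𝒴" => seqIndD H L H (der H)
local notation "𝒮" => seqIndD H L H ⊥

theorem degY (hH : H ≤ L) (h : η ∈ 𝒴) : η 1 = H.relIndex L := by
  obtain ⟨θ, hθ, hk, -, rfl⟩ := mem_seqIndD.1 h
  rw [cfInd1 hH, (lin_irr_der1 hθ hk).one, mul_one]

namespace Ctx

theorem ZH (h : Ctx Γ L H Z R p τ1 η1) : Z ≤ H := h.le_der.trans (der_le H)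
theorem HL (h : Ctx Γ L H Z R p τ1 η1) : H ≤ L := h.coh.normal.le
theorem sharp_le (h : Ctx Γ L H Z R p τ1 η1) : sharp H ⊆ sharp Γ := sharp_mono (h.HL.trans h.ti.le)
theorem XS (h : Ctx Γ L H Z R p τ1 η1) : ConjSubset 𝒳 𝒮 := seqInd_conjC_subset1 H L ⊥ h.ZH
theorem YS (h : Ctx Γ L H Z R p τ1 η1) : ConjSubset 𝒴 𝒮 := seqInd_conjC_subset1 H L _ le_rfl
theorem kerY (h : Ctx Γ L H Z R p τ1 η1) (hη : η ∈ 𝒴) : Z ≤ cfker L η :=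
  h.le_der.trans ((mem_seqIndD_iff_cfker h.coh.normal h.coh.normal h.coh.normal.der le_rfl (der_le H)).1
    hη).2.1
theorem disj (h : Ctx Γ L H Z R p τ1 η1) : Disjoint 𝒳 𝒴 := Finset.disjoint_left.2 fun _ h1 h2 =>
  ((mem_seqIndD_iff_cfker h.coh.normal h.normalZ (.bot L) h.ZH bot_le).1 h1).2.2 (h.kerY h2)
theorem ortho (h : Ctx Γ L H Z R p τ1 η1) (hχ : χ ∈ 𝒳) (hη : η ∈ 𝒴) : ⟪χ, η⟫[L] = 0 :=
  seqInd_ortho h.coh.normal (seqInd_subT _ _ _ _ hχ) (seqInd_subT _ _ _ _ hη) fun e =>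
    Finset.disjoint_left.1 h.disj hχ (e ▸ hη)
theorem dirr (h : Ctx Γ L H Z R p τ1 η1) : IsDirr Γ (τ1 η1) := h.cohY.dirr h.mem (h.irrY _ h.mem)
theorem comm (h : Ctx Γ L H Z R p τ1 η1) (K : Subgroup G) : ⁅Z, H⁆ ≤ K :=
  (commutator_eq_bot_iff.2 (h.le_Zc.trans (Zc_le_cent H))).le.trans bot_le

theorem lin (h : Ctx Γ L H Z R p τ1 η1) {θ : G → ℂ} (hθ : IsIrr H θ) :
    ∃ l, IsLinChar Z l ∧ cfRes Z θ = θ 1 • l ∧ (l = cf1 Z → Z ≤ cfker H θ) := by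
  obtain ⟨l, hl, e, hm⟩ := hθ.exists_lin_of_central h.ZH (h.comm _)
  exact ⟨l, hl, e, fun e' z hz => ⟨h.ZH hz, fun y => by rw [hm z hz, e', cf1E hz, one_mul]⟩⟩

theorem tauY (h : Ctx Γ L H Z R p τ1 η1) (hη : η ∈ 𝒴) : cfInd Γ L (η - η1) = τ1 η - τ1 η1 := by
  simpa only [one_smul] using h.cohY.sub_smul (fun φ hφ => (h.irrY φ hφ).mem_CF) hη h.mem isCint_one
    (by rw [degY h.HL hη, degY h.HL h.mem, one_mul])

theorem subY_on (h : Ctx Γ L H Z R p τ1 η1) (hη : η ∈ 𝒴) : η - η1 ∈ CFon L (sharp H) := by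
  simpa only [one_smul] using sub_seqInd_on (a := 1) h.coh.normal (seqInd_subT _ _ _ _ hη)
    (seqInd_subT _ _ _ _ h.mem) (by rw [degY h.HL hη, degY h.HL h.mem, one_mul])

/-- the consequence of (6.7) -/
theorem congr_mod (h : Ctx Γ L H Z R p τ1 η1)
    (hC : ∀ x ∈ sharp Z, ∀ y ∈ sharp Z, ♯(L ⊓ 𝐂[x]) = ♯(L ⊓ 𝐂[y]))
    (hc : ∀ x ∈ sharp Z, ∀ y ∈ sharp Z, τ1 η1 x = τ1 η1 y) {x : G} (hx : x ∈ sharp Z) :
    ∃ k : ℤ, τ1 η1 x - τ1 η1 1 = ♯H * k := by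
  rcases h.dirr with h1 | h1
  · exact (constant_irr_mod_TI_Sylow h.prime h.syl h.frob.odd h.ti h.normalZ h.ne_bot h.le_Zc hC h1 hc hx).2
  · obtain ⟨k, hk⟩ := (constant_irr_mod_TI_Sylow h.prime h.syl h.frob.odd h.ti h.normalZ h.ne_bot h.le_Zc hC h1
      (fun x hx y hy => congrArg Neg.neg (hc x hx y hy)) hx).2
    simp only [Pi.neg_apply] at hk
    exact ⟨-k, by push_cast; linear_combination -hk⟩

theorem pivot_of (h : Ctx Γ L H Z R p τ1 η1) (hφ : φ ∈ CFon L H) {a : ℕ} (h1 : φ 1 = a * H.relIndex L)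
    (ho : ∀ η ∈ 𝒴, ⟪φ, η⟫[L] = 0) (hn : cfnorm L φ < a ^ 2) {k : ℤ} (hk : ⟪φ, τ1 η1⟫[L] = a * k) :
    ⟪cfInd Γ L (φ - (a : ℂ) • η1), τ1 η1⟫[Γ] = a * k - a * ⟪η1, τ1 η1⟫[L] ∧
    (∀ η ∈ 𝒴, η ≠ η1 → ⟪cfInd Γ L (φ - (a : ℂ) • η1), τ1 η - τ1 η1⟫[Γ] = a) ∧
    (a * k - a * ⟪η1, τ1 η1⟫[L] = -a ∨ (a * k - a * ⟪η1, τ1 η1⟫[L] = 0 ∧ (𝒴).card = 2)) := by
  have hη := h.irrY _ h.mem
  have hon : φ - (a : ℂ) • η1 ∈ CFon L (sharp H) := by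
    have := sub_mem hφ (Submodule.smul_mem _ (a : ℂ) (seqInd_on h.coh.normal (seqInd_subT _ _ _ _ h.mem)))
    refine ⟨this.1, (mem_suppOn_sharp this.2).2 ?_⟩
    rw [Pi.sub_apply, Pi.smul_apply, h1, degY h.HL h.mem, smul_eq_mul, sub_self]
  have e1 : ⟪cfInd Γ L (φ - (a : ℂ) • η1), τ1 η1⟫[Γ] = a * k - a * ⟪η1, τ1 η1⟫[L] := by
    rw [cfdot_cfInd_left h.ti.le (CF_le_suppOn L hon.1) h.dirr.mem_CF, cfdotBl, cfdotZl, hk]
  have e2 : ∀ η ∈ 𝒴, η ≠ η1 → ⟪cfInd Γ L (φ - (a : ℂ) • η1), τ1 η - τ1 η1⟫[Γ] = a := fun η hη' hne => by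
    rw [← h.tauY hη', normedTI_isometry h.ti hon (h.subY_on hη'), cfdotBl, cfdotZl, cfdotBr, cfdotBr, ho _ hη',
      ho _ h.mem, cfdot_irr_self hη, cfdot_irr_ne hη (h.irrY _ hη') hne.symm]
    ring
  refine ⟨e1, e2, ?_⟩
  rw [← e1]
  obtain ⟨j, hj⟩ := Cint_cfdot_vchar (irr_vchar hη) (cfRes_vchar h.ti.le h.dirr.vchar)
  rw [cfdot_cfRes_right] at hj
  refine pivot_cases h.irrY h.cohY h.mem (seqInd_nontrivial h.frob.odd h.coh.normal le_rfl h.mem) e2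
    (k := k - j) (by rw [e1, hj]; push_cast; ring) ?_
  rw [cfnorm_eq_re, normedTI_isometry h.ti hon hon, ← cfnorm_eq_re,
    cfnormBd (by rw [cfdotZr, ho _ h.mem, mul_zero]), cfnormZ, cfnorm_irr hη, Complex.norm_natCast]
  linarith

open Classical in
theorem coherent_of_pivot (h : Ctx Γ L H Z R p τ1 η1) (hy : y ∈ Zspan 𝒴) (h1 : ⟪τ1 y, τ1 y⟫[Γ] = 1)
    (h2 : ∀ η ∈ 𝒴, η ≠ η1 → ⟪τ1 η - τ1 η1, τ1 y⟫[Γ] = -1)
    (h3 : ∀ χ ∈ 𝒳, ∃ a : ℕ, χ 1 = a * H.relIndex L ∧ ⟪cfInd Γ L (χ - (a : ℂ) • η1), τ1 y⟫[Γ] = -a) :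
    Coherent L Γ (𝒳 ∪ 𝒴) (sharp L) (cfInd Γ L) := by
  have hη := cfdot_irr_self (h.irrY _ h.mem)
  refine pivot_coherence (subset_subcoherent h.coh.subcoh (h.XS.union h.YS)) (Finset.mem_union_right _ h.mem)
    (h.cohY.vchar hy) (fun η hη' hne => ?_) (h1.trans hη.symm)
  rw [hη, degY h.HL h.mem]
  rcases Finset.mem_union.1 hη' with h4 | h4
  · obtain ⟨a, e1, e2⟩ := h3 η h4
    exact ⟨a, isCint_natCast a, e1, by rw [e2, mul_one]⟩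
  · exact ⟨1, isCint_one, by rw [degY h.HL h4, one_mul], by rw [one_smul, h.tauY h4, h2 η h4 hne, mul_one]⟩

open Classical in
/-- (6.8.1) -/
theorem caseA (h : Ctx Γ L H Z R p τ1 η1) (hA : ∀ g ∈ L, g ∉ H → Z ⊓ 𝐂[g] = ⊥) :
    Coherent L Γ (𝒳 ∪ 𝒴) (sharp L) (cfInd Γ L) := by
  have := Fact.mk h.prime
  have hirr : ∀ χ ∈ 𝒳, IsIrr L χ := fun χ hχ => by
    obtain ⟨θ, hθ, -, hk, rfl⟩ := mem_seqIndD.1 hχ
    obtain ⟨l, hl, e, hm⟩ := h.lin hθ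
    refine inertia_Ind_irr h.coh.normal hθ ((inertia_le_inertia_cfRes h.normalZ.norm θ).trans ?_)
    rw [e, inertia_smul (irr1_neq0 hθ)]
    exact inertia_le_of_fpf h.normalZ.norm hA hl.isIrr (mt hm hk)
  obtain ⟨defX, τ2, h2⟩ := seqIndD_irr_coherence h.coh h.frob h.normalZ h.ne_bot h.le_Zc hirr
  choose! n hn using fun φ (hφ : φ ∈ seqIndT H L) => seqInd_deg h.HL h.syl.isPGroup hφ
  have hXT := seqInd_subT H L Z ⊥
  obtain ⟨χ0, hχ0, hmin⟩ := (𝒳).exists_min_image n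
    (seqIndD_nonempty L (NormalIn.bot H) (mt le_bot_iff.1 h.ne_bot))
  have hd : ∀ χ ∈ 𝒳, ∃ d : ℕ, χ 1 = d * χ0 1 := fun χ hχ => by
    obtain ⟨k, hk⟩ := Nat.exists_eq_add_of_le (hmin χ hχ)
    exact ⟨p ^ k, by rw [hn χ (hXT hχ), hn χ0 (hXT hχ0), hk]; push_cast; ring⟩
  have h0 := hn χ0 (hXT hχ0)
  have ha : 1 < p ^ n χ0 := Nat.one_lt_pow (fun e => by
    rw [e] at h0
    obtain ⟨θ, hθ, -, hk, rfl⟩ := mem_seqIndD.1 hχ0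
    rw [cfInd1 h.HL, Nat.cast_mul, mul_right_inj' (relIndexC_ne_zero _ _), pow_zero, Nat.cast_one] at h0
    exact hk (h.le_der.trans (lin_char_der1 (hθ.isLinChar h0)))) h.prime.one_lt
  generalize p ^ n χ0 = a at h0 ha
  rw [Nat.cast_mul, mul_comm] at h0
  have hz : ∀ χ ∈ 𝒳, ∀ d : ℕ, χ 1 = d * χ0 1 → ∀ y ∈ Zspan 𝒴,
      ⟪cfInd Γ L (χ - (d : ℂ) • χ0), τ1 y⟫[Γ] = 0 := fun χ hχ d e y hy => by
    rw [h2.sub_smul (fun φ hφ => (hirr φ hφ).mem_CF) hχ hχ0 (isCint_natCast d) e, cfdotBl, cfdotZl,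
      coherent_ortho h.coh.subcoh h.XS h2 h.YS h.cohY h.disj (mem_zchar hχ) hy,
      coherent_ortho h.coh.subcoh h.XS h2 h.YS h.cohY h.disj (mem_zchar hχ0) hy, mul_zero, sub_zero]
  have hρ := cfRes_vchar h.ti.le h.dirr.vchar
  have h00 := irr1_neq0 (hirr _ hχ0)
  have hval : ∀ z ∈ sharp Z, τ1 η1 z - τ1 η1 1 = ⟪χ0, τ1 η1⟫[L] / χ0 1 * -♯L := fun z hz' => by
    have e : ∀ x, cfReg L x = ∑ χ ∈ Irr L, χ 1 * χ x := fun x => by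
      rw [cfReg_sum, Finset.sum_apply]; rfl
    rw [← cfResE (τ1 η1) (h.normalZ.le hz'.1), ← cfRes1 (H := L) (τ1 η1),
      cfun_apply_sum_cfdot (vchar_mem_CF hρ), cfun_apply_sum_cfdot (vchar_mem_CF hρ) 1, ← zero_sub,
      ← cfReg_of_ne L (mem_sharp.1 hz').2, ← cfReg_one L, e, e, ← Finset.sum_sub_distrib,
      ← Finset.sum_sub_distrib, Finset.mul_sum]
    refine Finset.sum_congr rfl fun χ hχ => ?_
    rw [mem_Irr] at hχ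
    by_cases hk : Z ≤ cfker L χ
    · rw [cfker1 (hk hz'.1), sub_self, sub_self, mul_zero]
    · have hχ' := (defX χ).2 ⟨hχ, hk⟩
      obtain ⟨d, e⟩ := hd χ hχ'
      have := hz χ hχ' d e η1 (mem_zchar h.mem)
      rw [cfdot_cfInd_left h.ti.le (CF_le_suppOn L (sub_mem hχ.mem_CF (Submodule.smul_mem _ _
        (hirr _ hχ0).mem_CF))) h.dirr.mem_CF, cfdotBl, cfdotZl, sub_eq_zero] at this
      rw [cfdot_vchar_comm hρ (irr_vchar hχ), cfdot_cfRes_right, this, e]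
      field_simp
  have hCH : ∀ x ∈ sharp Z, L ⊓ 𝐂[x] = H := fun x hx => le_antisymm (fun g hg => by
    by_contra hgH
    exact (mem_sharp.1 hx).2 (mem_bot.1 ((hA g hg.1 hgH).le ⟨hx.1, mem_cent1_comm.1 hg.2⟩)))
    (le_inf h.HL (le_cent1_iff.2 (h.le_Zc hx.1).2))
  obtain ⟨z, hz1⟩ := sharp_nonempty.2 h.ne_bot
  obtain ⟨k, hk⟩ := h.congr_mod (fun x hx y hy => by rw [hCH x hx, hCH y hy])
    (fun x hx y hy => by linear_combination hval x hx - hval y hy) hz1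
  have hc : ⟪χ0, τ1 η1⟫[L] = a * (-k : ℤ) := by
    have h1 := cardC_ne_zero H
    have h3 := relIndexC_ne_zero H L
    have h4 : (a : ℂ) ≠ 0 := Nat.cast_ne_zero.2 (by omega)
    rw [hval z hz1, h0, ← card_mul_relIndexC h.HL] at hk
    field_simp at hk
    push_cast
    linear_combination -hk
  obtain ⟨e1, e2, e3⟩ := h.pivot_of (seqInd_on h.coh.normal (hXT hχ0)) h0 (fun η hη => h.ortho hχ0 hη)
    (by rw [cfnorm_irr (hirr _ hχ0)]; exact_mod_cast Nat.one_lt_pow two_ne_zero ha) hc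
  obtain ⟨y, hy, y1, y2, y3⟩ := exists_pivot h.irrY h.cohY h.mem e3
  refine h.coherent_of_pivot hy y1 y2 fun χ hχ => ?_
  obtain ⟨d, e⟩ := hd χ hχ
  refine ⟨d * a, by rw [e, h0]; push_cast; ring, ?_⟩
  rw [show χ - ((d * a : ℕ) : ℂ) • η1 = (χ - (d : ℂ) • χ0) + (d : ℂ) • (χ0 - (a : ℂ) • η1) by
    rw [Nat.cast_mul, smul_sub, smul_smul]; abel, map_add, map_smul, cfdotDl, cfdotZl, hz χ hχ d e y hy,
    y3 _ e1 e2]
  push_cast; ring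

end Ctx

end Pf.P6

end Cfsg.Agent.OO
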