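import Cfsg.Agent.Lib.OO.PF8
import Cfsg.Agent.Lib.OO.PF9Defs

/-! # Peterfalvi section 9, part A: (9.2) to (9.6) -/

set_option autoImplicit false
set_option linter.unusedSectionVars false

namespace Cfsg.Agent.OO.Pf

open Subgroup Cfsg.Agent.Coprime
open scoped Pointwise

universe u

variable {G : Type u} [Group G] [Finite G] {M U W W1 W2 H0 : Subgroup G}

namespace P9

variable {A B H K L N R X : Subgroup G} {g x : G}

theorem mem_secCent : x ∈ secCent H H0 ↔ x ∈ 𝐍(H0) ∧ ∀ h ∈ H, x * h * x⁻¹ * h⁻¹ ∈ H0 := Iff.rfl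

theorem le_secCent_iff (hA : A ≤ 𝐍(H0)) : A ≤ secCent H H0 ↔ ⁅A, H⁆ ≤ H0 := by
  rw [commutator_le]
  exact ⟨fun h a ha b hb => (h ha).2 b hb, fun h a ha => ⟨hA ha, h a ha⟩⟩

theorem commutator_le_of_le_secCent (hA : A ≤ secCent H H0) : ⁅H, A⁆ ≤ H0 := by
  rw [commutator_comm]
  exact (le_secCent_iff fun _ ha => (hA ha).1).1 hA

theorem secCent_anti (H0 : Subgroup G) (h : H ≤ K) : secCent K H0 ≤ secCent H H0 :=
  fun _ hx => ⟨hx.1, fun y hy => hx.2 y (h hy)⟩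

theorem conj_secCent_le (g : G) (H H0 : Subgroup G) : g •ᶜ secCent H H0 ≤ secCent (g •ᶜ H) (g •ᶜ H0) := by
  rw [conj_le_iff]
  refine fun x hx => ⟨norm_conj g H0 ▸ conj_mem_conj hx.1, fun h hh => ?_⟩
  obtain ⟨y, hy, rfl⟩ := mem_conj_iff_exists.1 hh
  convert conj_mem_conj (g := g) (hx.2 y hy) using 1
  group

theorem conj_secCent (g : G) (H H0 : Subgroup G) : g •ᶜ secCent H H0 = secCent (g •ᶜ H) (g •ᶜ H0) := by
  refine (conj_secCent_le g H H0).antisymm (le_conj_iff_inv_conj_le.2 ?_)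
  simpa only [inv_conj_conj] using conj_secCent_le g⁻¹ (g •ᶜ H) (g •ᶜ H0)

theorem le_norm_secCent (h1 : A ≤ 𝐍(H)) (h2 : A ≤ 𝐍(H0)) : A ≤ 𝐍(secCent H H0) := fun a ha => by
  rw [← conj_eq_self_iff, conj_secCent, conj_eq_of_mem_norm (h1 ha), conj_eq_of_mem_norm (h2 ha)]

theorem coset_mem_cent_iff' (hx : x ∈ 𝐍(H0)) (hH : H ≤ 𝐍(H0)) :
    coset H0 x ∈ 𝐂(H ⁒ H0) ↔ x ∈ secCent H H0 := by
  rw [coset_mem_cent_iff hx hH]
  exact ⟨fun h => ⟨hx, h⟩, fun h => h.2⟩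

theorem isFrob_quo_of_inf (h : IsFrob L K R) (hn : L ≤ 𝐍(N)) (hi : N ⊓ L = ⊥) :
    IsFrob (L ⁒ N) (K ⁒ N) (R ⁒ N) := by
  have hK := h.ker_le.trans hn
  have hR := h.compl_le.trans hn
  have h1 : ∀ {X : Subgroup G}, X ≤ L → X ≠ ⊥ → X ⁒ N ≠ ⊥ := fun hX hne =>
    quo_ne_bot (hX.trans hn) fun hle => hne (le_bot_iff.1 (hi ▸ le_inf hle hX))
  have h2 : Semiregular (K ⁒ N) (R ⁒ N) := by
    rw [semiregular_iff]
    intro x hx hx1 y hy e
    obtain ⟨a, ha, rfl⟩ := (mem_quo_of_le hR).1 hx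
    obtain ⟨b, hb, rfl⟩ := (mem_quo_of_le hK).1 hy
    have h3 := mem_inf.2 ⟨(coset_commute_iff (hR ha) (hK hb)).1 e,
      commutator_le_of_le h.compl_le h.ker_le (commutator_mem_commutator ha hb)⟩
    rw [hi, mem_bot, commutatorElement_eq_one_iff_mul_comm] at h3
    rw [semiregular_iff.1 h.semiregular a ha (fun e => hx1 (by rw [e, coset_one])) b hb h3, coset_one]
  have := h2.isFrob (quo_le_norm N h.le_norm) (h1 h.ker_le h.ker_ne_bot) (h1 h.compl_le h.compl_ne_bot)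
  rwa [← quo_sup hK hR, h.sup_eq] at this

end P9

open P9

theorem Ptype_Fcore_sdprod (h : OfTypeP M U W W1 W2) : IsSdprod (Fcore M) (U ⊔ W1) M := by
  have hU := h.U_le.trans (der_le M)
  refine ⟨by rw [← sup_assoc, h.defM'.sup_eq, h.defM.sup_eq],
    (sup_le hU h.defM.right_le).trans (Fcore_normal M).2, ?_⟩
  have : (U ⊔ W1) ⊓ der M = U := by
    rw [sup_inf_of_le_left (Or.inr h.W1_le_norm) h.U_le, inf_comm W1, h.defM.inf_eq, sup_bot_eq]
  rw [← inf_eq_left.2 h.defM'.left_le, inf_assoc, inf_comm (der M), this, h.defM'.inf_eq]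

theorem Ptype_Fcore_coprime (h : OfTypeP M U W W1 W2) : (♯(Fcore M)).Coprime ♯(U ⊔ W1) :=
  (Ptype_Fcore_sdprod h).coprime_of_left (Fcore_isHallIn M)

theorem P9.semiregular_U (h : OfTypeP M U W W1 W2) : Semiregular U W1 := fun x hx h1 => by
  rw [← inf_eq_left.2 h.U_le, inf_assoc, h.prime_act x hx h1, eq_bot_iff, ← h.defM'.inf_eq]
  exact le_inf (inf_le_right.trans h.W2_le) inf_le_left

variable [MinOdd G]

theorem Ptype_compl_Frobenius (hM : IsCoatom M) (h : OfTypeP M U W W1 W2) (h5 : FTtype M ≠ 5) :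
    IsFrob (U ⊔ W1) U W1 :=
  (semiregular_U h).isFrob h.W1_le_norm (compl_of_typeII_IV hM h h5).U_ne_bot h.W1_ne_bot

theorem P9.not_U_le_cent (hM : IsCoatom M) (h : OfTypeP M U W W1 W2) (h5 : FTtype M ≠ 5) :
    Fcore M ⊓ 𝐂(U) ≠ Fcore M := fun e =>
  (typeP_context h).2.1.2 (compl_of_typeII_IV hM h h5).U_ne_bot (le_cent_symm (inf_eq_left.1 e))

theorem typeII_IV_core (hM : IsCoatom M) (h : OfTypeP M U W W1 W2) (h5 : FTtype M ≠ 5) :
    (FTtype M = 2 → Fcore M ⊓ 𝐂(U) = ⊥ ∧ ♯(Fcore M) = ♯W2 ^ ♯W1) ∧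
    (FTtype M ≠ 2 → (♯W2).Prime ∧ Fcore M ⊓ 𝐂(U ⊔ W1) = ⊥ ∧
      ♯(Fcore M) = ♯W2 ^ ♯W1 * ♯(Fcore M ⊓ 𝐂(U))) := by
  have hU1 := (compl_of_typeII_IV hM h h5).U_ne_bot
  obtain ⟨h1, -, h2⟩ := Frobenius_Wielandt_fixpoint (Ptype_compl_Frobenius hM h h5)
    (Ptype_Fcore_sdprod h).le_norm (Ptype_Fcore_coprime h) (sol_of_nil (Fcore_nil M))
  rw [typeP_cent_core_compl h] at h1 h2
  refine ⟨fun ht => ?_, fun ht => ?_⟩
  · suffices h3 : Fcore M ⊓ 𝐂(U) = ⊥ from ⟨h3, h2 h3⟩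
    by_contra h3
    have h4 : centralizer (sharp U) = 𝐂(U) := by rw [← centralizer_closure, closure_sharp]
    have h6 := (FTtypeI_II_facts hM ht.le (FTder_typeP (FTtypeP_neq1 hM h) ▸ h.defM')).2.1 (sharp U)
      (sharp_nonempty.2 hU1) subset_rfl (h4 ▸ h3)
    rw [h4] at h6
    exact (compl_of_typeII hM h ht).not_norm_le (h6.le_of_ne_top (cent_le_norm U)
      (mFT_norm_proper hU1 (ne_top_of_le_mmax hM (h.U_le.trans (der_le M)))))
  · obtain ⟨T, hT, V, hV⟩ := FTtypeP_pair_witness hM h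
    have hp := (compl_of_typeII hT.maxT hV (hT.type2.resolve_left ht)).base.prime
    have h3 : Fcore M ⊓ 𝐂(U ⊔ W1) = ⊥ := by
      refine (eq_bot_or_eq_of_prime hp (typeP_cent_core_compl h ▸
        inf_le_inf_left _ (cent_anti le_sup_right))).resolve_right fun e => not_U_le_cent hM h h5 ?_
      rw [e] at h1
      exact eq_of_le_of_card_le inf_le_left
        (Nat.eq_of_mul_eq_mul_left (pow_pos (card_pos' _) _) h1).le
    rw [h3, card_bot, one_pow, one_mul] at h1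
    exact ⟨hp, h3, h1⟩

theorem Ptype_Fcore_kernel_exists (hM : IsCoatom M) (h : OfTypeP M U W W1 W2) (h5 : FTtype M ≠ 5) :
    ∃ H0, PtypeHyp M U W W1 W2 H0 := by
  have hs := Ptype_Fcore_sdprod h
  have hle : Fcore M ⊓ 𝐂(U) ⊔ der (Fcore M) ≤ Fcore M := sup_le inf_le_left (der_le _)
  have hn : Fcore M ⊓ 𝐂(U) ⊔ der (Fcore M) ⊴ M := ⟨hle.trans (Fcore_le M), hs.sup_eq.ge.trans (sup_le
      (le_norm_of_der_le le_sup_right hle) (le_norm_sup (le_norm_inf hs.le_norm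
        (le_norm_cent (sup_le le_normalizer h.W1_le_norm))) (hs.le_norm.trans (norm_le_norm_der _))))⟩
  obtain ⟨X, h1, h2⟩ := exists_isChiefIn_below (Fcore_normal M) hn
    (hle.lt_of_ne fun e => not_U_le_cent hM h h5 (eq_of_le_sup_der (Fcore_nil M) inf_le_left e.ge))
  exact ⟨X, hM, h, h5, h2, le_sup_left.trans h1⟩

namespace PtypeHyp

theorem prime_p (h : PtypeHyp M U W W1 W2 H0) : (Pp M H0).Prime :=
  Nat.minFac_prime fun e => h.chief.lt.not_ge (relIndex_eq_one.1 e)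

theorem prime_q (h : PtypeHyp M U W W1 W2 H0) : (♯W1).Prime :=
  (compl_of_typeII_IV h.max h.typeP h.not5).prime

theorem abelem (h : PtypeHyp M U W W1 W2 H0) : IsElementaryAbelian (Pp M H0) (Fcore M ⁒ H0) :=
  h.chief.minNormal_quo.abelem_of_dvd (sol_quo (sol_of_nil (Fcore_nil M)) _) (prime_p h)
    (by rw [card_quo h.chief.normal.2]; exact Nat.minFac_dvd _)

theorem der_le (h : PtypeHyp M U W W1 W2 H0) : der (Fcore M) ≤ H0 :=
  ((abelem_quo_iff h.chief.normal.2).1 (abelem h)).1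

end PtypeHyp

theorem P9.UW1_le (h : PtypeHyp M U W W1 W2 H0) : U ⊔ W1 ≤ M := (Ptype_Fcore_sdprod h.typeP).right_le
theorem P9.U_le (h : PtypeHyp M U W W1 W2 H0) : U ≤ M := le_sup_left.trans (UW1_le h)
theorem P9.W1_le (h : PtypeHyp M U W W1 W2 H0) : W1 ≤ M := le_sup_right.trans (UW1_le h)
theorem P9.nH0 (h : PtypeHyp M U W W1 W2 H0) : M ≤ 𝐍(H0) := h.chief.normal_bot.2
theorem P9.frob (h : PtypeHyp M U W W1 W2 H0) : IsFrob (U ⊔ W1) U W1 :=
  Ptype_compl_Frobenius h.max h.typeP h.not5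
theorem P9.coprime_U (h : PtypeHyp M U W W1 W2 H0) : (♯(Fcore M)).Coprime ♯U :=
  coprime_card_mono (Ptype_Fcore_coprime h.typeP) le_rfl le_sup_left

theorem PtypeHyp.normal_C (h : PtypeHyp M U W W1 W2 H0) : Pc M U H0 ⊴ U ⊔ W1 :=
  ⟨inf_le_left.trans le_sup_left, le_norm_inf (frob h).ker_normal.2 (le_norm_secCent
    ((UW1_le h).trans (Fcore_normal M).2) ((UW1_le h).trans (nH0 h)))⟩

theorem PtypeHyp.der_U_le (h : PtypeHyp M U W W1 W2 H0) : der U ≤ Pc M U H0 := by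
  refine le_inf (OO.der_le U) ((le_secCent_iff ((OO.der_le U).trans ((U_le h).trans (nH0 h)))).2 ?_)
  rw [commutator_eq_bot_iff.2 (typeP_context h.typeP).2.1.1]
  exact bot_le

/-- `K X ⊴ H X` when `H₀ ≤ K ≤ H` and `X` centralizes `H / K` -/
theorem P9.H_le_norm_sup (h : PtypeHyp M U W W1 W2 H0) {K X : Subgroup G} (h0 : H0 ≤ K)
    (hK : K ≤ Fcore M) (hX : X ≤ M) (hc : ⁅Fcore M, X⁆ ≤ K) : Fcore M ≤ 𝐍(K ⊔ X) := by
  refine le_norm_of_commutator_le (H := Fcore M ⊔ X) (sup_le_sup_right hK X) ?_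
  have hn : Fcore M ≤ 𝐍(K) := le_norm_of_der_le ((PtypeHyp.der_le h).trans h0) hK
  refine (commutator_sup_le (K := K) (sup_le hn ?_) ((PtypeHyp.der_le h).trans h0)
    ((commutator_comm X _).le.trans hc)).trans le_sup_left
  exact le_norm_of_commutator_le hK hc

theorem P9.normal_H0_sup (h : PtypeHyp M U W W1 W2 H0) {X : Subgroup G} (hX : X ≤ Pc M U H0)
    (hn : U ⊔ W1 ≤ 𝐍(X)) : H0 ⊔ X ⊴ M := by
  have hXM := hX.trans (inf_le_left.trans (U_le h))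
  exact ⟨sup_le h.chief.normal_bot.1 hXM, (Ptype_Fcore_sdprod h.typeP).sup_eq.ge.trans (sup_le
    (H_le_norm_sup h le_rfl h.chief.le hXM (commutator_le_of_le_secCent (hX.trans inf_le_right)))
    (le_norm_sup ((UW1_le h).trans (nH0 h)) hn))⟩

theorem Ptype_Fcore_extensions_normal (h : PtypeHyp M U W W1 W2 H0) :
    H0 ⊔ Pc M U H0 ⊴ M ∧ Fcore M ⊔ Pc M U H0 ⊴ M ∧ H0 ⊔ der U ⊴ M ∧ H0 ⊔ der (Pc M U H0) ⊴ M := by
  have h1 := normal_H0_sup h le_rfl (PtypeHyp.normal_C h).2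
  refine ⟨h1, ?_, normal_H0_sup h (PtypeHyp.der_U_le h) (frob h).ker_normal.der.2,
    normal_H0_sup h (der_le _) (PtypeHyp.normal_C h).der.2⟩
  have := (Fcore_normal M).sup h1
  rwa [← sup_assoc, sup_eq_left.2 h.chief.le] at this

/-- `U` has no fixed point on `H / H₀` -/
theorem P9.le_H0_of_cent (h : PtypeHyp M U W W1 W2 H0) {X : Subgroup G} (hX : X ≤ Fcore M)
    (hn : U ≤ 𝐍(X)) (hc : U ≤ secCent X H0) : X ≤ H0 := by
  rw [← coprime_cent_prod hn (coprime_card_mono (coprime_U h) hX le_rfl)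
    (Or.inr (sol_of_nil h.typeP.nilU))]
  exact sup_le (commutator_le_of_le_secCent hc) ((inf_le_inf_right _ hX).trans h.cent_le)

theorem P9.quo_cent (h : PtypeHyp M U W W1 W2 H0) {A : Subgroup G} (hA : A ≤ U ⊔ W1) :
    (Fcore M ⊓ 𝐂(A)) ⁒ H0 = Fcore M ⁒ H0 ⊓ 𝐂(A ⁒ H0) :=
  quo_inf_cent h.chief.le (hA.trans ((UW1_le h).trans (nH0 h)))
    (coprime_card_mono (Ptype_Fcore_coprime h.typeP) h.chief.le hA)
    (Or.inl (sol_of_le (sol_of_nil (Fcore_nil M)) h.chief.le))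

/-- Wielandt's formula on `H / H₀` for `T W₁`, `T ≤ U` -/
theorem P9.wielandt (h : PtypeHyp M U W W1 W2 H0) {T : Subgroup G} (hT : T ≤ U) (h1 : T ≠ ⊥)
    (hn : W1 ≤ 𝐍(T)) : H0.relIndex (Fcore M ⊓ 𝐂(T ⊔ W1)) ^ ♯W1 * H0.relIndex (Fcore M) =
      H0.relIndex W2 ^ ♯W1 * H0.relIndex (Fcore M ⊓ 𝐂(T)) := by
  have hTW : T ⊔ W1 ≤ U ⊔ W1 := sup_le_sup_right hT W1
  have hN := hTW.trans ((UW1_le h).trans (nH0 h))
  have hi : H0 ⊓ (T ⊔ W1) = ⊥ := le_bot_iff.1 ((Ptype_Fcore_sdprod h.typeP).inf_eq ▸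
    inf_le_inf h.chief.le hTW)
  have h2 := (Frobenius_Wielandt_fixpoint (isFrob_quo_of_inf ((frob h).subl h1 hT hn) hN hi)
    (quo_le_norm H0 (hTW.trans (Ptype_Fcore_sdprod h.typeP).le_norm))
    (coprime_quo (coprime_card_mono (Ptype_Fcore_coprime h.typeP) le_rfl hTW) _ _)
    (sol_quo (sol_of_nil (Fcore_nil M)) _)).1
  have hH := h.chief.normal.2
  rwa [← quo_cent h hTW, ← quo_cent h le_sup_right, ← quo_cent h (le_sup_left.trans hTW),
    typeP_cent_core_compl h.typeP, card_quo_of_inf_eq_bot (le_sup_right.trans hN)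
      (le_bot_iff.1 (hi ▸ inf_le_inf_left _ le_sup_right)), card_quo (inf_le_left.trans hH),
    card_quo (inf_le_left.trans hH), card_quo hH, card_quo (h.typeP.W2_le.trans hH)] at h2

theorem Ptype_Fcore_factor_facts (h : PtypeHyp M U W W1 W2 H0) :
    Pc M U H0 ≠ U ∧ H0.relIndex W2 = Pp M H0 ∧ H0.relIndex (Fcore M) = Pp M H0 ^ ♯W1 := by
  have h1 := wielandt h le_rfl (frob h).ker_ne_bot h.typeP.W1_le_norm
  rw [relIndex_eq_one.2 h.cent_le, relIndex_eq_one.2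
    ((inf_le_inf_left _ (cent_anti le_sup_left)).trans h.cent_le), one_pow, one_mul, mul_one] at h1
  have := Fact.mk (PtypeHyp.prime_p h)
  have hW := h.typeP.W2_le.trans h.chief.normal.2
  have h2 : H0.relIndex W2 = Pp M H0 := by
    have h3 := abelem_of_le (PtypeHyp.abelem h) (quo_mono H0 h.typeP.W2_le)
    have h4 := rp_le_one_of_isCyclic (p := Pp M H0) (isCyclic_quo h.typeP.cycW2 H0)
    have h5 := card_eq_pow_rp h3
    rw [card_quo hW] at h5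
    rcases Nat.le_one_iff_eq_zero_or_eq_one.1 h4 with e | e
    · rw [h5, e, pow_zero, one_pow] at h1
      exact absurd (relIndex_eq_one.1 h1) h.chief.lt.not_ge
    · rw [h5, e, pow_one]
  refine ⟨fun e => h.chief.lt.not_ge (le_H0_of_cent h le_rfl ((U_le h).trans (Fcore_normal M).2)
    (e ▸ inf_le_right)), h2, h2 ▸ h1⟩

theorem def_Ptype_factor_prime (h : PtypeHyp M U W W1 W2 H0) (hp : (♯W2).Prime) : Pp M H0 = ♯W2 :=
  (Nat.prime_dvd_prime_iff_eq (PtypeHyp.prime_p h) hp).1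
    ((Ptype_Fcore_factor_facts h).2.1 ▸ relIndex_dvd_card _ _)

theorem typeIII_IV_core_prime (h : PtypeHyp M U W W1 W2 H0) (h2 : FTtype M ≠ 2) : Pp M H0 = ♯W2 :=
  def_Ptype_factor_prime h ((typeII_IV_core h.max h.typeP h.not5).2 h2).1

theorem Ptype_quo_compl_Frobenius (h : PtypeHyp M U W W1 W2 H0) :
    IsFrob ((U ⊔ W1) ⁒ Pc M U H0) (U ⁒ Pc M U H0) (W1 ⁒ Pc M U H0) :=
  Frobenius_proper_quotient (frob h) (PtypeHyp.normal_C h)
    (lt_of_le_of_ne inf_le_left (Ptype_Fcore_factor_facts h).1)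

end Cfsg.Agent.OO.Pf
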