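import Cfsg.Agent.Lib.OO.Pf.PF9_B

/-! # Peterfalvi section 9, part C: (9.8) to (9.10) -/

set_option autoImplicit false
set_option linter.unusedSectionVars false

namespace Cfsg.Agent.OO.Pf

open Subgroup Cfsg.Agent.Coprime P9
open scoped Pointwise

universe u

variable {G : Type u} [Group G] [Finite G] [MinOdd G] {M U W W1 W2 H0 H1 D X : Subgroup G}
  {χ θ l ζ : G → ℂ} {a : ℕ}

namespace P9

theorem eq_one_of_inverted {Q : Type*} [Group Q] [Finite Q] {x y : Q} (hx : Odd (orderOf x))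
    (hy : Odd (orderOf y)) (h : y * x * y⁻¹ = x⁻¹) : x = 1 := by
  have h1 : Commute x (y ^ 2) := by
    have : y * (y * x * y⁻¹) * y⁻¹ = x := by
      rw [h, ← conj_inv, h, inv_inv]
    rw [Commute, SemiconjBy, sq]
    nth_rw 1 [← this]
    group
  obtain ⟨k, hk⟩ := mem_zpowers_pow_iff.2 (Nat.coprime_two_left.2 hy)
  have h2 : Commute x y := hk ▸ h1.zpow_right k
  rw [← h2.eq, mul_inv_cancel_right, eq_inv_iff_mul_eq_one, ← sq] at h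
  exact orderOf_eq_one_iff.1 (Nat.eq_one_of_dvd_coprimes (Nat.coprime_two_left.2 hx)
    (orderOf_dvd_of_pow_eq_one h) dvd_rfl)

theorem nHK (h : PtypeHyp M U W W1 W2 H0) : Fcore M ⊴ der M := h.typeP.defM'.normal

theorem sdprod_HD (h : PtypeHyp M U W W1 W2 H0) (hD : D ≤ U) : IsSdprod (Fcore M) D (Fcore M ⊔ D) :=
  h.typeP.defM'.mono le_rfl hD (hD.trans h.typeP.defM'.le_norm)

theorem HD_le (h : PtypeHyp M U W W1 W2 H0) (hD : D ≤ U) : Fcore M ⊔ D ≤ der M :=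
  sup_le (nHK h).1 (hD.trans h.typeP.U_le)

theorem relIndex_HD (h : PtypeHyp M U W W1 W2 H0) (hD : D ≤ U) {E : Subgroup G} (hE : E ≤ D) :
    (Fcore M ⊔ E).relIndex (Fcore M ⊔ D) = E.relIndex D := by
  have h1 := card_mul_relIndex (sup_le_sup_left hE (Fcore M))
  rw [← (sdprod_HD h hD).card, ← (sdprod_HD h (hE.trans hD)).card, ← card_mul_relIndex hE, mul_assoc] at h1
  exact Nat.eq_of_mul_eq_mul_left (card_pos' _) (Nat.eq_of_mul_eq_mul_left (card_pos' _) h1)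

theorem relIndex_HD_K (h : PtypeHyp M U W W1 W2 H0) (hD : D ≤ U) :
    (Fcore M ⊔ D).relIndex (der M) = D.relIndex U := by
  rw [← relIndex_HD h le_rfl hD, h.typeP.defM'.sup_eq]

theorem relIndex_HD_M (h : PtypeHyp M U W W1 W2 H0) (hD : D ≤ U) :
    (Fcore M ⊔ D).relIndex M = ♯W1 * D.relIndex U := by
  rw [← relIndex_mul_relIndex _ _ _ (HD_le h hD) (der_le M), relIndex_HD_K h hD,
    h.typeP.defM.relIndex_left, mul_comm]

theorem sup_inf_H (h : PtypeHyp M U W W1 W2 H0) {K : Subgroup G} (hK : K ≤ Fcore M) (hD : D ≤ U)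
    (hn : D ≤ 𝐍(K)) : (K ⊔ D) ⊓ Fcore M = K := by
  rw [sup_inf_of_le_left (Or.inr hn) hK, inf_comm, (sdprod_HD h hD).inf_eq, sup_bot_eq]

theorem der_HD_le (h : PtypeHyp M U W W1 W2 H0) {K : Subgroup G} (h0 : H0 ≤ K) (hD : D ≤ U)
    (hc : ⁅Fcore M, D⁆ ≤ K) : der (Fcore M ⊔ D) ≤ K ⊔ der D := by
  rw [(sdprod_HD h hD).der_eq]
  exact sup_le_sup_right (sup_le ((PtypeHyp.der_le h).trans h0) hc) _

theorem exists_constt (h : PtypeHyp M U W W1 W2 H0) (hχ : χ ∈ calXH M H0) :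
    ∃ θ, IsLinChar (Fcore M) θ ∧ ⟪cfRes (Fcore M) χ, θ⟫[Fcore M] ≠ 0 ∧ H0 ≤ cfker (Fcore M) θ ∧
      ¬ Fcore M ≤ cfker (Fcore M) θ := by
  obtain ⟨h1, h2, h3⟩ := mem_IrrKerD.1 hχ
  obtain ⟨θ, h4, h5⟩ := constt_cfRes_irr h1 (nHK h).1
  have h6 := (sub_cfker_constt_Res_irr (nHK h).1 h.chief.le ((der_le M).trans (nH0 h)) h1 h4 h5).2 h2
  exact ⟨θ, lin_irr_der1 h4 ((PtypeHyp.der_le h).trans h6), h5, h6,
    fun e => h3 ((sub_cfker_constt_Res_irr (nHK h).1 le_rfl (nHK h).2 h1 h4 h5).1 e)⟩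

theorem inertia_K (h : PtypeHyp M U W W1 W2 H0) (hθ : θ ∈ CF (Fcore M)) :
    inertia (der M) θ = Fcore M ⊔ inertia U θ := by
  rw [inertia_of_le θ h.typeP.U_le,
    (h.typeP.defM'.of_left_le (sub_inertia (nHK h).1 hθ) (inertia_le _ _)).sup_eq]

theorem C_le_inertia (h : PtypeHyp M U W W1 W2 H0) (hθ : θ ∈ CF (Fcore M))
    (h0 : H0 ≤ cfker (Fcore M) θ) : Pc M U H0 ≤ inertia U θ := fun _ hy =>
  mem_inertia_of_commutator hθ hy.1 (h.typeP.defM'.le_norm hy.1) fun x hx => h0 (hy.2.2 x hx)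

theorem comm_inertia (hθ : IsLinChar (Fcore M) θ) {A : Subgroup G}
    (hA : A ≤ inertia M θ) : ⁅Fcore M, A⁆ ≤ cfker (Fcore M) θ := by
  rw [commutator_comm, commutator_le]
  exact fun y hy => (mem_inertia_lin hθ (hA hy).1 ((Fcore_normal M).2 (hA hy).1)).1 (hA hy)

theorem inf_cfker_eq (h : PtypeHyp M U W W1 W2 H0) {K : Subgroup G} (h0 : H0 ≤ X)
    (hp : H0.relIndex X = Pp M H0) (h1 : H0 ≤ K) (h2 : ¬ X ≤ K) : X ⊓ K = H0 :=
  ((covBy_of_relIndex_prime h0 (hp ▸ PtypeHyp.prime_p h)).eq_or_eq (le_inf h0 h1) inf_le_left).resolve_right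
    fun e => h2 (inf_eq_left.1 e)

theorem inertia_le_secCent (h : PtypeHyp M U W W1 W2 H0) (hθ : IsLinChar (Fcore M) θ)
    (h1 : H0 ≤ cfker (Fcore M) θ) (h0 : H0 ≤ X) (hX : X ≤ Fcore M) (hp : H0.relIndex X = Pp M H0)
    (hn : U ≤ 𝐍(X)) (h2 : ¬ X ≤ cfker (Fcore M) θ) : inertia U θ ≤ secCent X H0 := by
  rw [le_secCent_iff ((inertia_le _ _).trans ((U_le h).trans (nH0 h))), commutator_comm,
    ← inf_cfker_eq h h0 hp h1 h2]
  exact le_inf (commutator_le_left' ((inertia_le _ _).trans hn)) ((commutator_mono hX le_rfl).trans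
    (comm_inertia hθ (inertia_mono θ (U_le h))))

theorem one_eq_mul (h : PtypeHyp M U W W1 W2 H0) (hχ : IsIrr (der M) χ) (hθ : IsLinChar (Fcore M) θ)
    (h0 : ⟪cfRes (Fcore M) χ, θ⟫[Fcore M] ≠ 0) (hD : D ≤ U) (hi : inertia U θ ≤ D) :
    ∃ n : ℕ, χ 1 = (D.relIndex U * n : ℕ) := by
  obtain ⟨m, hm⟩ := Cnat_cfdot_char (hχ.isChar.cfRes (nHK h).1) hθ.isChar
  refine ⟨(inertia U θ).relIndex D * m, ?_⟩
  rw [Clifford_one (nHK h) hχ hθ.isIrr h0, hm, hθ.one, inertia_K h hθ.mem_CF,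
    relIndex_HD_K h (inertia_le _ _), ← relIndex_mul_relIndex _ _ _ hi hD]
  push_cast; ring

theorem exists_ext (h : PtypeHyp M U W W1 W2 H0) (hθ : IsLinChar (Fcore M) θ)
    (h0 : H0 ≤ cfker (Fcore M) θ) (hD : D ≤ inertia U θ) : ∃ l, IsLinChar (Fcore M ⊔ D) l ∧
      cfRes (Fcore M) l = θ ∧ H0 ⊔ D ≤ cfker (Fcore M ⊔ D) l := by
  have hU := hD.trans (inertia_le _ _)
  have hc := comm_inertia hθ (hD.trans (inertia_mono θ (U_le h)))
  have hn := H_le_norm_sup h h0 (cfker_le _ _) (hU.trans (U_le h)) hc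
  have hk := (sup_inf_H h (cfker_le _ θ) hU (le_norm_of_commutator_le (cfker_le _ _) hc)).le
  have e : Fcore M ⊔ (cfker (Fcore M) θ ⊔ D) = Fcore M ⊔ D := by
    rw [← sup_assoc, sup_eq_left.2 (cfker_le _ _)]
  exact ⟨_, e ▸ hθ.cfInfl hn hk, cfRes_cfInfl hn hθ.mem_CF hk,
    e ▸ (sup_le_sup_right h0 D).trans (le_cfker_cfInfl hn θ)⟩

theorem cfdot_res_self {L : Subgroup G} (hl : IsLinChar L l) (hL : X ≤ L) :
    ⟪cfRes X l, cfRes X l⟫[X] ≠ 0 := by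
  rw [cfdot_irr_self (hl.cfRes hL).isIrr]; exact one_ne_zero

theorem not_le_cfker_res {L : Subgroup G} (hl : IsLinChar L l) (hL : X ≤ L) :
    X ≤ cfker X (cfRes X l) ↔ X ≤ cfker L l := by
  rw [cfker_Res_char hl.isChar hL, le_inf_iff, and_iff_right le_rfl]

/-- inducing a linear character of `H D` to `H U` -/
theorem ind_mem (h : PtypeHyp M U W W1 W2 H0) (hD : D ≤ U) (hl : IsLinChar (Fcore M ⊔ D) l)
    (hi : inertia U (cfRes (Fcore M) l) ≤ D) (hn : ¬ Fcore M ≤ cfker (Fcore M ⊔ D) l)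
    (hX : X ⊴ M) (hk : X ≤ cfker (Fcore M ⊔ D) l) :
    cfInd (der M) (Fcore M ⊔ D) l ∈ calXH M X ∧
      cfInd M (der M) (cfInd (der M) (Fcore M ⊔ D) l) = cfInd M (Fcore M ⊔ D) l ∧
      cfInd M (Fcore M ⊔ D) l ∈ calSH M X ∧ cfInd M (Fcore M ⊔ D) l 1 = (♯W1 * D.relIndex U : ℕ) := by
  have h1 := hl.cfRes (le_sup_left : Fcore M ≤ _)
  have h2 : cfInd (der M) (Fcore M ⊔ D) l ∈ calXH M X := mem_IrrKerD.2 ⟨irr_cfInd_of_inertia_le (nHK h)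
      h1.isIrr ((inertia_K h h1.mem_CF).trans_le (sup_le_sup_left hi _)) (HD_le h hD) hl.isIrr
      (cfdot_res_self hl le_sup_left), le_cfker_cfInd (HD_le h hD) ((der_le M).trans hX.2) hk,
    fun e => hn ((sub_cfker_Ind (HD_le h hD) le_sup_left (nHK h).2 hl.isChar).1 e)⟩
  have h3 := cfIndInd' (HD_le h hD) (der_le M) hl.mem_CF
  refine ⟨h2, h3, seqIndP.2 ⟨_, h2, h3.symm⟩, ?_⟩
  rw [cfInd1 ((HD_le h hD).trans (der_le M)), hl.one, mul_one, relIndex_HD_M h hD]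

theorem exists_ind_HC (h : PtypeHyp M U W W1 W2 H0) (hχ : IsIrr (der M) χ) (hθ : IsLinChar (Fcore M) θ)
    (h0 : ⟪cfRes (Fcore M) χ, θ⟫[Fcore M] ≠ 0) (hi : inertia U θ = D) :
    ∃ ψ, IsIrr (Fcore M ⊔ D) ψ ∧ ⟪cfRes (Fcore M) ψ, θ⟫[Fcore M] ≠ 0 ∧
      χ = cfInd (der M) (Fcore M ⊔ D) ψ := by
  have := constt_Inertia_surj (nHK h) hθ.isIrr hχ h0
  rwa [inertia_K h hθ.mem_CF, hi] at this

/-- a `W₁`-invariant nonprincipal linear character of `H / H₀` has inertia group `H C` in `H U` -/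
theorem inertia_of_fixed (h : PtypeHyp M U W W1 W2 H0) (hθ : IsLinChar (Fcore M) θ)
    (h0 : H0 ≤ cfker (Fcore M) θ) (h1 : ¬ Fcore M ≤ cfker (Fcore M) θ) (hW : W1 ≤ inertia M θ) :
    inertia U θ = Pc M U H0 := by
  refine le_antisymm ?_ (C_le_inertia h hθ.mem_CF h0)
  by_cases hT : inertia U θ = ⊥
  · exact hT ▸ bot_le
  have hU := inertia_le U θ
  have hn : W1 ≤ 𝐍(inertia U θ) := fun w hw => by
    rw [← conj_eq_self_iff, ← inertia_cfConjg (h.typeP.W1_le_norm hw), inertiaJ (hW hw)]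
  have hTW : inertia U θ ⊔ W1 ≤ U ⊔ W1 := sup_le_sup_right hU W1
  have h2 := wielandt h hU hT hn
  obtain ⟨-, f2, f3⟩ := Ptype_Fcore_factor_facts h
  have hH := h.chief.normal.2
  have h3 : H0.relIndex (Fcore M ⊓ 𝐂(inertia U θ ⊔ W1)) = Pp M H0 := by
    refine ((PtypeHyp.prime_p h).eq_one_or_self_of_dvd _ (f2 ▸ relIndex_dvd_of_le_norm
      (typeP_cent_core_compl h.typeP ▸ inf_le_inf_left _ (cent_anti le_sup_right))
      (h.typeP.W2_le.trans hH))).resolve_left fun e => h1 ?_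
    refine (coprime_cent_prod (hTW.trans (Ptype_Fcore_sdprod h.typeP).le_norm) (coprime_card_mono
      (Ptype_Fcore_coprime h.typeP) le_rfl hTW) (Or.inl (sol_of_nil (Fcore_nil M)))).ge.trans
      (sup_le (comm_inertia hθ (sup_le (inertia_mono θ (U_le h)) hW)) ((relIndex_eq_one.1 e).trans h0))
  rw [h3, f2] at h2
  have h4 := Nat.eq_of_mul_eq_mul_left (pow_pos (PtypeHyp.prime_p h).pos _) h2
  rw [← relIndex_sup_eq' (B := Fcore M ⊓ _) (Or.inr (inf_le_left.trans hH))] at h4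
  have h5 : H0 ⊔ Fcore M ⊓ 𝐂(inertia U θ) = Fcore M := eq_of_le_of_card_le (sup_le h.chief.le inf_le_left)
    (by rw [← card_mul_relIndex h.chief.le, h4, card_mul_relIndex le_sup_left])
  have hN := hU.trans ((U_le h).trans (nH0 h))
  refine le_inf hU ((le_secCent_iff hN).2 ((commutator_comm _ _).le.trans ((commutator_mono h5.ge le_rfl).trans
    (commutator_sup_le (h5.le.trans hH) (commutator_le_left' hN) ?_))))
  rw [commutator_eq_bot_iff.2 inf_le_right]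
  exact bot_le

theorem isIndHC_of_invariant (h : PtypeHyp M U W W1 W2 H0) (hχ : χ ∈ calXH M H0)
    (hi : inertia M χ = M) : IsIndHC M U W1 H0 (cfInd M (der M) χ) := by
  obtain ⟨θ0, a1, a2, a3, a4⟩ := exists_constt h hχ
  have hirr := IrrKerD_irr hχ
  have nH := (Fcore_normal M).2
  have hc : ∀ g ∈ M, ∀ {θ}, ⟪cfRes (Fcore M) χ, θ⟫[Fcore M] ≠ 0 →
      ⟪cfRes (Fcore M) χ, cfConjg g θ⟫[Fcore M] ≠ 0 := fun g hg θ h0 => by
    rwa [← inertiaJ (hi.ge hg), ← cfConjg_cfRes (nH hg), cfdot_cfConjg (nH hg)]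
  obtain ⟨w, hw, hw1⟩ := exists_mem_ne_one h.typeP.W1_ne_bot
  obtain ⟨k, hk, e⟩ := mem_cfclass.1 (cfclass_of_constt_Res (nHK h) hirr a1.isIrr
    (a1.cfConjg (nH (W1_le h hw))).isIrr a2 (hc w (W1_le h hw) a2))
  obtain ⟨y, hy, x, hx, hx2, e'⟩ := (FT_primeTI_hyp h.typeP).exists_conj
    (mul_mem (inv_mem (der_le M hk)) (W1_le h hw)) fun h3 => hw1 (mem_bot.1
      (h.typeP.defM.inf_eq ▸ mem_inf.2 ⟨(mul_mem_cancel_left (inv_mem hk)).1 h3, hw⟩))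
  obtain ⟨w1, hw1, w2, hw2, rfl⟩ := h.typeP.defW.mem_iff.1 hx
  have hyM := inv_mem (der_le M hy)
  have b1 := a1.cfConjg (nH hyM)
  have b2 := hc _ hyM a2
  have b3 := (le_cfker_cfclass nH (nH0 h) (cfConjg_mem_cfclass θ0 hyM)).2 a3
  have b4 := mt (le_cfker_cfclass nH nH (cfConjg_mem_cfclass θ0 hyM)).1 a4
  set θ := cfConjg y⁻¹ θ0 with hθ
  have b5 : W1 ≤ inertia M θ := by
    rw [← eq_zpowers_of_prime (PtypeHyp.prime_q h) hw1 fun e => hx2 (by rwa [e, one_mul]), zpowers_le]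
    refine ⟨W1_le h hw1, ?_⟩
    nth_rw 1 [← cfConjg_id b1.mem_CF (h.typeP.W2_le hw2)]
    rw [hθ, ← cfConjgM, ← cfConjgM, show w1 * w2 * y⁻¹ = y⁻¹ * (k⁻¹ * w) by rw [e']; group, cfConjgM,
      cfConjgM, e, cfConjgK]
  have b6 := inertia_of_fixed h b1 b3 b4 b5
  obtain ⟨ψ, c1, c2, c3⟩ := exists_ind_HC h hirr b1 b2 b6
  obtain ⟨l, d1, d2, d3⟩ := exists_ext h b1 b3 b6.ge
  have hC : Pc M U H0 ≤ U := inf_le_left
  have hs := sdprod_HD h hC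
  obtain ⟨β, e1, e2, e3⟩ := Gallagher_surj hs.normal d1.isChar (d2 ▸ b1.isIrr) c1 (d2 ▸ c2)
  have nHC := (Ptype_Fcore_extensions_normal h).2.1.2 (W1_le h hw)
  have nC := (PtypeHyp.normal_C h).2 (mem_sup_right hw)
  have e4 : cfConjg w ψ = ψ := by
    have := constt_Inertia_inj (ψ := ψ) (ξ := cfConjg w ψ) (nHK h) b1.isIrr
    rw [inertia_K h b1.mem_CF, b6] at this
    refine this c1 c2 (c1.cfConjg nHC) ?_ ?_
    · rwa [← inertiaJ (b5 hw), ← cfConjg_cfRes (nH (W1_le h hw)), cfdot_cfConjg (nH (W1_le h hw))]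
    · rw [← cfConjg_cfInd ((der_normal M).2 (W1_le h hw)) nHC, ← c3, inertiaJ (hi.ge (W1_le h hw))]
  have e5 : cfRes (Pc M U H0) ψ = cfRes (Pc M U H0) β := cfRes_ext fun x hx => by
    rw [e3, Pi.mul_apply, cfker1 (d3 (mem_sup_right hx)), d1.one, mul_one]
  have e6 : cfRes (Pc M U H0) β = cf1 _ := eq_cf1_of_cfConjg_eq nC
    ((semiregular_U h.typeP).mono hC le_rfl w hw ‹_›) (e1.cfRes_sdprod hs e2)
    (by rw [← e5, cfConjg_cfRes nC, e4])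
  rw [← cfSdprod_cfRes hs e1.mem_CF e2, e6, cfSdprod_cf1 hs, cf1_mul d1.mem_CF] at e3
  obtain ⟨-, f2, f3, f4⟩ := ind_mem h hC d1 (d2 ▸ b6.le) (fun e => b4 (d2 ▸ (not_le_cfker_res d1
    le_sup_left).2 e)) (Ptype_Fcore_extensions_normal h).1 d3
  rw [c3, e3, f2]
  exact ⟨f4, f3, l, d1, rfl⟩

end P9

open Classical in
theorem typeP_reducible_core_Ind (h : PtypeHyp M U W W1 W2 H0) :
    ((calSH M H0).filter fun ζ => ¬ IsIrr M ζ).card = Pp M H0 - 1 ∧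
    (∃ ζ ∈ calSH M H0, ¬ IsIrr M ζ) ∧
    ∀ ζ ∈ calSH M H0, ¬ IsIrr M ζ →
      (∃ j, IsIrr W2 j ∧ j ≠ cf1 W2 ∧ ζ = prTIred M W W1 W2 j) ∧ IsIndHC M U W1 H0 ζ := by
  have hp := FT_primeTI_hyp h.typeP
  have key : ∀ ζ ∈ calSH M H0, ¬ IsIrr M ζ → ∃ j, IsIrr W2 j ∧ j ≠ cf1 W2 ∧ ζ = prTIred M W W1 W2 j ∧
      prTIres M (der M) W W1 W2 j ∈ calXH M H0 := fun ζ h1 h2 => by
    obtain ⟨χ, h3, rfl⟩ := seqIndP.1 h1
    obtain ⟨j, h4, rfl, h5⟩ := prTIred_of_not_irr hp (IrrKerD_irr h3) h2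
    exact ⟨j, h4, fun e => IrrKerD_ne_cf1 (nHK h).1 h3 (e ▸ prTIres0 hp), h5, h3⟩
  have h1 : ((calSH M H0).filter fun ζ => ¬ IsIrr M ζ).card = Pp M H0 - 1 := by
    rw [← (Ptype_Fcore_factor_facts h).2.1, ← card_prTIres_cfker hp h.chief.normal_bot
      (h.chief.le.trans (nHK h).1), ← Finset.card_erase_of_mem (a := cf1 W2) (Finset.mem_filter.2
        ⟨cf1_mem_Irr W2, by rw [prTIres0 hp, cfker_cf1]; exact h.chief.le.trans (nHK h).1⟩)]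
    refine (Finset.card_bij (fun j _ => prTIred M W W1 W2 j) (fun j hj => ?_) (fun j hj k hk e => ?_)
      fun ζ hζ => ?_).symm
    · obtain ⟨h1, h2, h3⟩ : j ≠ cf1 W2 ∧ IsIrr W2 j ∧ _ := by simpa using hj
      exact Finset.mem_filter.2 ⟨mem_seqIndD.2 ⟨_, prTIres_irr hp h2, h3, cfker_prTIres
        (FT_prDade_hypF h.max h.typeP) h2 h1, (cfInd_prTIres hp h2).symm⟩, prTIred_not_irr hp h2⟩
    · exact (prTIred_inj hp (mem_Irr.1 (Finset.mem_filter.1 (Finset.mem_of_mem_erase hj)).1)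
        (mem_Irr.1 (Finset.mem_filter.1 (Finset.mem_of_mem_erase hk)).1)).1 e
    · obtain ⟨j, h1, h2, h3, h4⟩ := key ζ (Finset.mem_filter.1 hζ).1 (Finset.mem_filter.1 hζ).2
      exact ⟨j, Finset.mem_erase.2 ⟨h2, Finset.mem_filter.2 ⟨mem_Irr.2 h1, (mem_IrrKerD.1 h4).2.1⟩⟩, h3.symm⟩
  refine ⟨h1, ?_, fun ζ h2 h3 => ?_⟩
  · obtain ⟨ζ, hζ⟩ := Finset.card_pos.1 (h1 ▸ Nat.sub_pos_of_lt (PtypeHyp.prime_p h).one_lt)
    exact ⟨ζ, Finset.mem_filter.1 hζ⟩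
  · obtain ⟨j, h4, h5, h6, h7⟩ := key ζ h2 h3
    exact ⟨⟨j, h4, h5, h6⟩, h6 ▸ cfInd_prTIres hp h4 ▸ isIndHC_of_invariant h h7 (inertia_prTIres hp h4)⟩

theorem P9.calSH_mono (M : Subgroup G) {Y : Subgroup G} (h : X ≤ Y) : calSH M Y ⊆ calSH M X :=
  seqIndDS _ _ h le_rfl

theorem P9.sum_calSH (h : PtypeHyp M U W W1 W2 H0) (hX : X ≤ Pc M U H0) (hn : U ⊔ W1 ≤ 𝐍(X)) :
    ∑ φ ∈ calSH M (H0 ⊔ X), φ 1 ^ 2 / ⟪φ, φ⟫[M] =
      (♯W1 * X.relIndex U * (Pp M H0 ^ ♯W1 - 1) : ℕ) := by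
  have hN := normal_H0_sup h hX hn
  have hU := hX.trans inf_le_left
  have e : H0 ⊔ X ⊔ Fcore M = Fcore M ⊔ X := by
    rw [sup_comm, ← sup_assoc, sup_eq_left.2 h.chief.le]
  rw [calSH, ← seqIndDY, sum_seqIndD_square (der_normal M) (e ▸ HD_le h hU) (hN.sup (Fcore_normal M)) hN
    le_sup_left, relIndex_sup_eq' (Or.inr ((Fcore_le M).trans hN.2)), ← inf_relIndex_right (H0 ⊔ X),
    sup_inf_H h h.chief.le hU (hU.trans ((U_le h).trans (nH0 h))), e, relIndex_HD_M h hU,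
    (Ptype_Fcore_factor_facts h).2.2, Nat.cast_mul _ (_ - 1),
    Nat.cast_pred (pow_pos (PtypeHyp.prime_p h).pos _)]

theorem P9.red_facts (h : PtypeHyp M U W W1 W2 H0) (h1 : ζ ∈ calSH M H0) (h2 : ¬ IsIrr M ζ) :
    ζ 1 = (♯W1 * Pu M U H0 : ℕ) ∧ ⟪ζ, ζ⟫[M] = ♯W1 ∧ ζ ∈ calSH M (H0 ⊔ Pc M U H0) := by
  obtain ⟨⟨j, h3, -, rfl⟩, h4, h5, -⟩ := (typeP_reducible_core_Ind h).2.2 ζ h1 h2
  exact ⟨h4, by rw [cfdot_self, cfnorm_prTIred (FT_primeTI_hyp h.typeP) h3]; rfl, h5⟩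

theorem typeP_Galois_characters (h : PtypeHyp M U W W1 W2 H0) (hg : PGalois M U H0) :
    (∀ χ ∈ calXH M H0, ∃ n : ℕ, χ 1 = (Pu M U H0 * n : ℕ)) ∧
    (∀ χ ∈ calXH M (H0 ⊔ der (Pc M U H0)), χ 1 = Pu M U H0 ∧
      ∃ ξ, IsLinChar (Fcore M ⊔ Pc M U H0) ξ ∧ χ = cfInd (der M) (Fcore M ⊔ Pc M U H0) ξ) ∧
    ((∀ ζ ∈ calSH M (H0 ⊔ der (Pc M U H0)), ¬ IsIrr M ζ) →
      Pc M U H0 = ⊥ ∧ Pu M U H0 = (Pp M H0 ^ ♯W1 - 1) / (Pp M H0 - 1) ∧
      IsFrob (der M ⁒ H0) (Fcore M ⁒ H0) (U ⁒ H0)) := by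
  classical
  have hU := (U_le h).trans (nH0 h)
  have hC : Pc M U H0 ≤ U := inf_le_left
  have nU := h.typeP.defM'.le_norm
  have key : ∀ {θ}, IsLinChar (Fcore M) θ → H0 ≤ cfker (Fcore M) θ → ¬ Fcore M ≤ cfker (Fcore M) θ →
      inertia U θ = Pc M U H0 := fun {θ} h1 h2 h3 => by
    have h4 := C_le_inertia h h1.mem_CF h2
    have h5 := inertia_le U θ
    refine le_antisymm (le_inf h5 ((le_secCent_iff (h5.trans hU)).2 ?_)) h4
    rw [commutator_comm]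
    refine le_sup_right.trans ((hg (H0 ⊔ ⁅Fcore M, inertia U θ⁆) le_sup_left (sup_le h.chief.le
      (commutator_le_left' (h5.trans nU))) (le_norm_sup hU (le_norm_commutator nU (le_norm_of_der_le
        ((PtypeHyp.der_U_le h).trans h4) h5)))).resolve_right fun e => h3 ?_).le
    exact e.ge.trans (sup_le h2 (comm_inertia h1 (inertia_mono θ (U_le h))))
  refine ⟨fun χ hχ => ?_, fun χ hχ => ?_, fun hr => ?_⟩
  · obtain ⟨θ, h1, h2, h3, h4⟩ := exists_constt h hχ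
    exact one_eq_mul h (IrrKerD_irr hχ) h1 h2 hC (key h1 h3 h4).le
  · obtain ⟨θ, h1, h2, h3, h4⟩ := exists_constt h (Iirr_kerDS _ le_sup_left le_rfl hχ)
    obtain ⟨ψ, h5, -, rfl⟩ := exists_ind_HC h (IrrKerD_irr hχ) h1 h2 (key h1 h3 h4)
    have h6 := lin_irr_der1 h5 ((der_HD_le h le_rfl hC (commutator_le_of_le_secCent inf_le_right)).trans
      ((sub_cfker_Ind (HD_le h hC) (sup_le_sup h.chief.le (der_le _)) ((der_le M).trans
        (Ptype_Fcore_extensions_normal h).2.2.2.2) h5.isChar).1 (mem_IrrKerD.1 hχ).2.1))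
    exact ⟨by rw [cfInd1 (HD_le h hC), h6.one, mul_one, relIndex_HD_K h hC, Pu], ψ, h6, rfl⟩
  have hq := (PtypeHyp.prime_q h).pos
  have hp := PtypeHyp.prime_p h
  have h1 := sum_calSH h (der_le _) (PtypeHyp.normal_C h).der.2
  rw [Finset.sum_congr rfl (g := fun _ => ((♯W1 * Pu M U H0 ^ 2 : ℕ) : ℂ)) fun ζ hζ => by
    obtain ⟨h2, h3, -⟩ := red_facts h (calSH_mono M le_sup_left hζ) (hr ζ hζ)
    rw [h2, h3]; push_cast; field_simp [cardC_ne_zero W1], Finset.sum_const, nsmul_eq_mul, ← Nat.cast_mul,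
    Nat.cast_inj, ← relIndex_mul_relIndex _ _ _ (der_le _) hC, ← Pu] at h1
  have h2 : (calSH M (H0 ⊔ der (Pc M U H0))).card ≤ Pp M H0 - 1 := (typeP_reducible_core_Ind h).1 ▸
    Finset.card_le_card fun ζ hζ => Finset.mem_filter.2 ⟨calSH_mono M le_sup_left hζ, hr ζ hζ⟩
  have h3 := Nat.div_mul_cancel (Nat.sub_one_dvd_pow_sub_one (Pp M H0) ♯W1)
  have h4 : 0 < Pp M H0 ^ ♯W1 - 1 := Nat.sub_pos_of_lt (Nat.one_lt_pow hq.ne' hp.one_lt)
  have h5 := Nat.le_of_dvd (Nat.pos_of_mul_pos_right (h3 ▸ h4)) (typeP_Galois_P h hg).2.2.2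
  have h6 := relIndex_pos (der (Pc M U H0)) (Pc M U H0)
  have hu : 0 < Pu M U H0 := relIndex_pos _ _
  have h7 : (calSH M (H0 ⊔ der (Pc M U H0))).card * Pu M U H0 =
      (der (Pc M U H0)).relIndex (Pc M U H0) * (Pp M H0 ^ ♯W1 - 1) :=
    Nat.eq_of_mul_eq_mul_left (Nat.mul_pos hq hu) (by linear_combination h1)
  have h8 : (der (Pc M U H0)).relIndex (Pc M U H0) = 1 := by nlinarith
  have h9 : Pc M U H0 = ⊥ := by
    by_contra hne
    exact (der_lt (sol_of_le (sol_of_nil h.typeP.nilU) hC) hne).not_ge (relIndex_eq_one.1 h8)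
  refine ⟨h9, h5.antisymm (Nat.div_le_of_le_mul (by nlinarith)), ?_⟩
  have hH := h.chief.normal.2
  refine (Frobenius_semiregularP (h.typeP.defM'.quo_of_le_left ((der_le M).trans (nH0 h)) h.chief.le)
    (quo_ne_bot hH h.chief.lt.not_ge) (quo_ne_bot hU fun e => (frob h).ker_ne_bot (le_bot_iff.1
      (h.typeP.defM'.inf_eq ▸ le_inf (e.trans h.chief.le) le_rfl)))).2 fun x hx h10 => ?_
  have hab := ab_quo (ab_iff_der.2 (le_bot_iff.1 (h9 ▸ PtypeHyp.der_U_le h))) H0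
  refine (hg _ (le_quoPre _) (quoPre_le_of_le h.chief.normal inf_le_left) (le_norm_quoPre hU (le_norm_inf
    (quo_le_norm H0 nU) (le_norm_of_le (hab.le_cent.trans (cent_le_cent1 hx)))))).elim quoPre_eq_iff.1
    fun e => ?_
  obtain ⟨y, hy, rfl⟩ := (mem_quo_of_le hU).1 hx
  have h11 := congrArg (· ⁒ H0) e
  simp only [quo_quoPre, inf_eq_left, le_cent1_iff, coset_mem_cent_iff' (hU hy) hH] at h11
  rw [mem_bot.1 (h9 ▸ mem_inf.2 ⟨hy, h11⟩ : y ∈ ⊥), coset_one] at h10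
  exact (h10 rfl).elim

end Cfsg.Agent.OO.Pf
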