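import Cfsg.Agent.Lib.OO.Pf.PF9_C

/-! # Peterfalvi section 9, part D: (9.8) and (9.10) -/

set_option autoImplicit false
set_option linter.unusedSectionVars false

namespace Cfsg.Agent.OO.Pf

open Subgroup Cfsg.Agent.Coprime P9
open scoped Pointwise

universe u

variable {G : Type u} [Group G] [Finite G] [MinOdd G] {M U W W1 W2 H0 H1 D X : Subgroup G}
  {χ θ l ζ : G → ℂ} {a : ℕ} {w : G}

namespace P9

theorem conj_facts (h : PtypeHyp M U W W1 W2 H0) (hn : GaloisPn M U W1 H0 H1 a) (hw : w ∈ W1) :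
    H0 ≤ w •ᶜ H1 ∧ w •ᶜ H1 ≤ Fcore M ∧ H0.relIndex (w •ᶜ H1) = Pp M H0 ∧ U ≤ 𝐍(w •ᶜ H1) :=
  ⟨conj_H0 h (W1_le h hw) ▸ conj_mono w hn.le0, conj_le_of_mem_norm ((Fcore_normal M).2 (W1_le h hw)) hn.le,
    by rw [← hn.card, ← relIndex_conj w H0 H1, conj_H0 h (W1_le h hw)], U_norm_conj h hn.norm hw⟩

theorem conj_D (h : PtypeHyp M U W W1 W2 H0) (hw : w ∈ W1) :
    w •ᶜ (U ⊓ secCent H1 H0) = U ⊓ secCent (w •ᶜ H1) H0 := by
  rw [conj_inf, conj_secCent, conj_H0 h (W1_le h hw), conj_eq_of_mem_norm (h.typeP.W1_le_norm hw)]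

theorem relIndex_Dw (h : PtypeHyp M U W W1 W2 H0) (hn : GaloisPn M U W1 H0 H1 a) (hw : w ∈ W1) :
    (U ⊓ secCent (w •ᶜ H1) H0).relIndex U = a := by
  rw [← conj_D h hw, hn.a_eq, ← relIndex_conj w (U ⊓ secCent H1 H0) U,
    conj_eq_of_mem_norm (h.typeP.W1_le_norm hw)]

theorem inertia_le_Dw (h : PtypeHyp M U W W1 W2 H0) (hn : GaloisPn M U W1 H0 H1 a) (hw : w ∈ W1)
    (hθ : IsLinChar (Fcore M) θ) (h1 : H0 ≤ cfker (Fcore M) θ) (h2 : ¬ w •ᶜ H1 ≤ cfker (Fcore M) θ) :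
    inertia U θ ≤ U ⊓ secCent (w •ᶜ H1) H0 :=
  have ⟨a1, a2, a3, a4⟩ := conj_facts h hn hw
  le_inf (inertia_le _ _) (inertia_le_secCent h hθ h1 a1 a2 a3 a4 h2)

theorem one_dvd (h : PtypeHyp M U W W1 W2 H0) (hn : GaloisPn M U W1 H0 H1 a) (hχ : χ ∈ calXH M H0) :
    ∃ n : ℕ, χ 1 = (a * n : ℕ) := by
  obtain ⟨θ, h1, h2, h3, h4⟩ := exists_constt h hχ
  obtain ⟨w, hw, h5⟩ : ∃ w ∈ W1, ¬ w •ᶜ H1 ≤ cfker (Fcore M) θ := by
    by_contra! h5
    exact h4 (hn.sup.ge.trans (iSup₂_le h5))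
  exact relIndex_Dw h hn hw ▸ one_eq_mul h (IrrKerD_irr hχ) h1 h2 inf_le_left (inertia_le_Dw h hn hw h1 h3 h5)

theorem H0_le_K (h : PtypeHyp M U W W1 W2 H0) (hn : GaloisPn M U W1 H0 H1 a) (w : G) :
    H0 ≤ ⨆ v ∈ W1, ⨆ (_ : v ≠ w), v •ᶜ H1 :=
  have ⟨v, hv, hvw⟩ := exists_ne h w
  le_iSup₂_of_le v hv (le_iSup_of_le hvw (conj_facts h hn hv).1)

theorem exists_theta (h : PtypeHyp M U W W1 W2 H0) (hn : GaloisPn M U W1 H0 H1 a) {l : G → G → ℂ}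
    (hl : ∀ w ∈ W1, IsLinChar (w •ᶜ H1) (l w) ∧ H0 ≤ cfker (w •ᶜ H1) (l w)) :
    ∃ θ, IsLinChar (Fcore M) θ ∧ H0 ≤ cfker (Fcore M) θ ∧ ∀ w ∈ W1, cfRes (w •ᶜ H1) θ = l w := by
  have := exists_lin_char_of_indep (elts (W1 : Set G)) (S := (· •ᶜ H1)) (l := l) (PtypeHyp.der_le h)
    h.chief.le
  simp only [mem_elts, SetLike.mem_coe] at this
  exact this (fun w hw => (conj_facts h hn hw).2.1)
    (fun w hw => by rw [sup_eq_right.2 (H0_le_K h hn w), hn.indep w hw]) (fun w hw => (hl w hw).1)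
    fun w hw => (hl w hw).2

theorem exists_l0 (h : PtypeHyp M U W W1 W2 H0) (hn : GaloisPn M U W1 H0 H1 a) :
    ∃ l, ∀ w ∈ W1, (IsLinChar (w •ᶜ H1) (cfConjg w l) ∧ H0 ≤ cfker (w •ᶜ H1) (cfConjg w l)) ∧
      ¬ w •ᶜ H1 ≤ cfker (w •ᶜ H1) (cfConjg w l) := by
  obtain ⟨l, h1, h2, h3⟩ := exists_irr_cfker_not_le (h.chief.normal.mono hn.le0 hn.le) (K := H1)
    fun e => (PtypeHyp.prime_p h).one_lt.ne' (hn.card ▸ relIndex_eq_one.2 e)
  have h4 := lin_irr_der1 h1 (((der_mono hn.le).trans (PtypeHyp.der_le h)).trans h2)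
  refine ⟨l, fun w hw => ⟨⟨⟨h4.isChar.cfConjg_conj w, (cfConjg1 w l).trans h4.one⟩, ?_⟩, ?_⟩⟩
  · rw [cfker_cfConjg_conj, ← conj_H0 h (W1_le h hw)]
    exact conj_mono w h2
  · rwa [cfker_cfConjg_conj, conj_le_conj_iff]

theorem mem_inertia_of_forall (h : PtypeHyp M U W W1 W2 H0) (hn : GaloisPn M U W1 H0 H1 a)
    (hθ : IsLinChar (Fcore M) θ) (h0 : H0 ≤ cfker (Fcore M) θ) {y : G} (hy : y ∈ U)
    (hc : ∀ w ∈ W1, w •ᶜ H1 ≤ cfker (Fcore M) θ ∨ y ∈ secCent (w •ᶜ H1) H0) : y ∈ inertia U θ := by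
  rw [← inv_mem_iff]
  refine ⟨inv_mem hy, (hθ.cfConjg (h.typeP.defM'.le_norm (inv_mem hy))).ext_iSup hθ
    (S := fun w : W1 => (w : G) •ᶜ H1) (hn.sup.ge.trans (iSup₂_le fun w hw => le_iSup_of_le ⟨w, hw⟩ le_rfl))
    (fun w => (conj_facts h hn w.2).2.1) fun w x hx => ?_⟩
  rw [cfConjgE, inv_inv]
  rcases hc w w.2 with e | e
  · rw [cfker1 (e hx), cfker1 (e (conj_mem_of_norm ((conj_facts h hn w.2).2.2.2 hy) hx))]
  · rw [← cfkerMl (h0 (e.2 x hx)) x, inv_mul_cancel_right]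

theorem exists_decomp (h : PtypeHyp M U W W1 W2 H0) {g : G} (hg : g ∈ M) :
    ∃ x ∈ Fcore M, ∃ w ∈ W1, ∃ y ∈ U, g = x * (w * y) := by
  obtain ⟨x, hx, z, hz, rfl⟩ := (Ptype_Fcore_sdprod h.typeP).mem_iff.1 hg
  obtain ⟨w, hw, y, hy, rfl⟩ := (frob h).sdprod.mem_iff'.1 hz
  exact ⟨x, hx, w, hw, y, hy, rfl⟩

theorem exists_irr_indHC (h : PtypeHyp M U W W1 W2 H0) (hn : GaloisPn M U W1 H0 H1 a) :
    ∃ ζ, IsIrr M ζ ∧ IsIndHC M U W1 H0 ζ := by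
  classical
  obtain ⟨l, hl⟩ := exists_l0 h hn
  obtain ⟨θ, h1, h2, h3⟩ := exists_theta h hn
    (l := fun w => if w = 1 then star (cfConjg w l) else cfConjg w l) fun w hw => by
      split_ifs
      · exact ⟨(hl w hw).1.1.star, (hl w hw).1.2.trans (cfker_star _).ge⟩
      · exact (hl w hw).1
  have h4 : ∀ w ∈ W1, ¬ w •ᶜ H1 ≤ cfker (Fcore M) θ := fun w hw => by
    rw [← not_le_cfker_res h1 (conj_facts h hn hw).2.1, h3 w hw]
    split_ifs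
    · rw [cfker_star]; exact (hl w hw).2
    · exact (hl w hw).2
  have h5 : inertia U θ ≤ Pc M U H0 := fun y hy =>
    mem_C_of_forall h hn.le hn.sup hy.1 fun w hw => (inertia_le_Dw h hn hw h1 h2 (h4 w hw) hy).2
  have h6 : inertia M θ ≤ Fcore M ⊔ Pc M U H0 := fun g hg => by
    obtain ⟨x, hx, w, hw, y, hy, rfl⟩ := exists_decomp h hg.1
    have h7 := (mul_mem_cancel_left (sub_inertia (Fcore_le M) h1.mem_CF hx)).1 hg
    by_cases e : w = 1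
    · rw [e, one_mul] at h7 ⊢
      exact mul_mem_sup hx (h5 ⟨hy, h7.2⟩)
    obtain ⟨⟨a1, a2⟩, a3⟩ := hl 1 (one_mem _)
    have a4 := h3 1 (one_mem _)
    have a5 := h3 w hw
    simp only [one_conj, cfConjg_one, if_pos, if_neg e] at a1 a2 a3 a4 a5
    have hU := (U_le h).trans (nH0 h)
    have hH := hn.le.trans h.chief.normal.2
    refine (a3 fun z hz => a2 ((coset_eq_one_iff (hH hz)).1 (eq_one_of_inverted (y := coset H0 y)
      ((mFT_odd_orderOf z).of_dvd_nat (orderOf_coset_dvd _ _))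
      ((mFT_odd_orderOf y).of_dvd_nat (orderOf_coset_dvd _ _)) ?_))).elim
    have hz' := conj_mem_of_norm (hn.norm hy) hz
    rw [← coset_conj (hU hy) (hH hz), eq_inv_iff_mul_eq_one, ← coset_mul (hH hz') (hH hz),
      coset_eq_one_iff (hH (mul_mem hz' hz)), ← inf_cfker_eq h hn.le0 hn.card a2 a3]
    refine ⟨mul_mem hz' hz, (mem_cfker_lin a1).2 ?_⟩
    rw [lin_charM a1 hz' hz, ← cfConjgEJ w l, ← a5, cfResE θ (conj_mem_conj hz'),
      show w * (y * z * y⁻¹) * w⁻¹ = w * y * z * (w * y)⁻¹ by group, inertia_valJ h7, ← cfResE θ hz, a4,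
      mul_comm]
    exact lin_char_mul_conj a1 hz
  obtain ⟨ξ, b1, b2, b3⟩ := exists_ext h h1 h2 (C_le_inertia h h1.mem_CF h2)
  obtain ⟨-, -, b4, b5⟩ := ind_mem h inf_le_left b1 (b2 ▸ h5) (fun e => h4 1 (one_mem _)
    ((conj_facts h hn (one_mem _)).2.1.trans (b2 ▸ (not_le_cfker_res b1 le_sup_left).2 e)))
    (Ptype_Fcore_extensions_normal h).1 b3
  exact ⟨_, irr_cfInd_of_inertia_le (Fcore_normal M) h1.isIrr h6 (Ptype_Fcore_extensions_normal h).2.1.1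
    b1.isIrr (b2 ▸ cfdot_res_self b1 le_sup_left), b5, b4, ξ, b1, rfl⟩

open Classical in
theorem card_degree_qa (h : PtypeHyp M U W W1 W2 H0) (hn : GaloisPn M U W1 H0 H1 a) :
    (Pp M H0 - 1) * (der U).relIndex (U ⊓ secCent H1 H0) ≤
      a * ((calSH M (H0 ⊔ der U)).filter fun ζ => IsIrr M ζ ∧ ζ 1 = (♯W1 * a : ℕ)).card := by
  set D := U ⊓ secCent H1 H0 with hD
  set K := ⨆ v ∈ W1, ⨆ (_ : v ≠ 1), v •ᶜ H1 with hK
  have hDU : D ≤ U := inf_le_left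
  have hU := (U_le h).trans (nH0 h)
  have nH := (Fcore_normal M).2
  have a1 : H0 ≤ K := H0_le_K h hn 1
  have a2 : K ≤ Fcore M := iSup₂_le fun v hv => iSup_le fun _ => (conj_facts h hn hv).2.1
  have a3 : U ≤ 𝐍(K) := le_norm_iSup fun v => le_norm_iSup fun hv => le_norm_iSup fun _ =>
    (conj_facts h hn hv).2.2.2
  have a4 : H1 ⊓ K = H0 := by simpa only [one_conj] using hn.indep 1 (one_mem _)
  have a5 : H1 ⊔ K = Fcore M := le_antisymm (sup_le hn.le a2) (hn.sup.ge.trans (iSup₂_le fun v hv => by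
    by_cases e : v = 1
    · rw [e, one_conj]; exact le_sup_left
    · exact le_sup_of_le_right (le_iSup₂_of_le v hv (le_iSup_of_le e le_rfl))))
  have a6 : K.relIndex (Fcore M) = Pp M H0 := by
    rw [← a5, relIndex_sup_eq (Or.inl (hn.le.trans (H_norm h a1 a2))), ← inf_relIndex_left, a4, hn.card]
  have a7 : ⁅Fcore M, D⁆ ≤ K := (commutator_mono a5.ge le_rfl).trans (commutator_sup_le
    (a5.le.trans (H_norm h a1 a2)) ((commutator_le_of_le_secCent inf_le_right).trans a1)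
    (commutator_le_left' (hDU.trans a3)))
  have a8 : der U ≤ D := (PtypeHyp.der_U_le h).trans (inf_le_inf_left U (secCent_anti H0 hn.le))
  have a9 : D ⊴ U := normalIn_of_der_le a8 hDU
  have a10 := (der_HD_le h a1 hDU a7).trans (sup_le_sup_left (der_mono hDU) K)
  have a11 : K ⊔ der U ≤ Fcore M ⊔ D := sup_le_sup a2 a8
  have a12 : Fcore M ⊔ D ⊴ der M := ⟨HD_le h hDU, h.typeP.defM'.sup_eq.ge.trans (sup_le
    (le_norm_of_le le_sup_left) (le_norm_sup h.typeP.defM'.le_norm a9.2))⟩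
  have e : K ⊔ der U ⊔ Fcore M = Fcore M ⊔ der U := by rw [sup_comm, ← sup_assoc, sup_eq_left.2 a2]
  have b1 : ∀ l ∈ IrrKerD (Fcore M ⊔ D) (Fcore M) (K ⊔ der U), IsLinChar (Fcore M ⊔ D) l := fun l hl =>
    lin_irr_der1 (IrrKerD_irr hl) (a10.trans (mem_IrrKerD.1 hl).2.1)
  have b2 := sum_Iirr_kerD_square (normalIn_of_der_le (a10.trans le_sup_left) (sup_le a11 le_sup_left))
    (normalIn_of_der_le a10 a11) le_sup_left
  rw [Iirr_kerDY, Finset.sum_congr rfl (g := fun _ => 1) fun l hl => by rw [(b1 l hl).one, one_pow],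
    Finset.sum_const, nsmul_one, relIndex_sup_eq' (Or.inr (le_sup_left.trans (normalIn_of_der_le a10 a11).2)),
    ← inf_relIndex_right (K ⊔ der U), sup_inf_H h a2 (der_le U) ((der_le U).trans a3), a6, e,
    relIndex_HD h hDU a8, ← Nat.cast_pred (PtypeHyp.prime_p h).pos, ← Nat.cast_mul, Nat.cast_inj,
    mul_comm] at b2
  have b3 : ∀ l ∈ IrrKerD (Fcore M ⊔ D) (Fcore M) (K ⊔ der U),
      cfker (Fcore M) (cfRes (Fcore M) l) = K := fun l hl =>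
    ((covBy_of_relIndex_prime a2 (a6 ▸ PtypeHyp.prime_p h)).eq_or_eq (by
      rw [cfker_Res_char (b1 l hl).isChar le_sup_left]
      exact le_inf a2 (le_sup_left.trans (mem_IrrKerD.1 hl).2.1)) (cfker_le _ _)).resolve_right
      fun e => (mem_IrrKerD.1 hl).2.2 ((not_le_cfker_res (b1 l hl) le_sup_left).1 e.ge)
  have b4 : ∀ g ∈ M, g ∈ 𝐍(K) → g ∈ der M := fun g hg hgK => by
    obtain ⟨x, hx, w, hw, y, hy, rfl⟩ := exists_decomp h hg
    rw [mul_mem_cancel_left (H_norm h a1 a2 hx), mul_mem_cancel_right (a3 hy)] at hgK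
    by_cases e : w = 1
    · rw [e, one_mul]; exact mul_mem ((nHK h).1 hx) (h.typeP.U_le hy)
    have : w⁻¹ •ᶜ H1 ≤ K := le_iSup₂_of_le w⁻¹ (inv_mem hw) (le_iSup_of_le (inv_ne_one.2 e) le_rfl)
    rw [← le_conj_iff_inv_conj_le, conj_eq_of_mem_norm hgK, ← inf_eq_left, a4] at this
    exact ((PtypeHyp.prime_p h).one_lt.ne' (hn.card ▸ relIndex_eq_one.2 this.ge)).elim
  have b5 : ∀ l ∈ IrrKerD (Fcore M ⊔ D) (Fcore M) (K ⊔ der U), inertia U (cfRes (Fcore M) l) = D :=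
    fun l hl => le_antisymm (by
      have := inertia_le_Dw h hn (one_mem _) ((b1 l hl).cfRes le_sup_left) (a1.trans (b3 l hl).ge)
      rw [b3 l hl, one_conj] at this
      exact this fun e => (PtypeHyp.prime_p h).one_lt.ne' (hn.card ▸ relIndex_eq_one.2
        (a4 ▸ le_inf le_rfl e))) fun y hy => ⟨hy.1, cfConjg_cfRes_of_mem (b1 l hl).mem_CF
          (mem_sup_right hy) (h.typeP.defM'.le_norm hy.1)⟩
  have b6 : ∀ l ∈ IrrKerD (Fcore M ⊔ D) (Fcore M) (K ⊔ der U),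
      inertia M (cfRes (Fcore M) l) = Fcore M ⊔ D := fun l hl => by
    rw [← b5 l hl, ← inertia_K h ((b1 l hl).cfRes le_sup_left).mem_CF]
    exact le_antisymm (fun g hg => ⟨b4 g hg.1 (b3 l hl ▸ inertia_le_norm_cfker nH _ hg), hg.2⟩)
      (inertia_mono _ (der_le M))
  have b7 : ∀ l ∈ IrrKerD (Fcore M ⊔ D) (Fcore M) (K ⊔ der U), IsIrr M (cfInd M (Fcore M ⊔ D) l) :=
    fun l hl => irr_cfInd_of_inertia_le (Fcore_normal M) ((b1 l hl).cfRes le_sup_left).isIrr (b6 l hl).le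
      (a12.1.trans (der_le M)) (IrrKerD_irr hl) (cfdot_res_self (b1 l hl) le_sup_left)
  have b8 : ∀ l ∈ IrrKerD (Fcore M ⊔ D) (Fcore M) (K ⊔ der U),
      ⟪cfRes (Fcore M) (cfInd M (Fcore M ⊔ D) l), cfRes (Fcore M) l⟫[Fcore M] ≠ 0 := fun l hl => by
    have := constt_Inertia_cfdot (ψ := l) (Fcore_normal M) ((b1 l hl).cfRes le_sup_left).isIrr
    rw [b6 l hl] at this
    rw [this (IrrKerD_irr hl) (cfdot_res_self (b1 l hl) le_sup_left)]
    exact cfdot_res_self (b1 l hl) le_sup_left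
  rw [← b2]
  refine (Finset.card_le_mul_card_image (f := cfInd M (Fcore M ⊔ D)) _ a fun ζ hζ => ?_).trans
    (Nat.mul_le_mul_left a (Finset.card_le_card fun ζ hζ => ?_))
  · obtain ⟨l, hl, rfl⟩ := Finset.mem_image.1 hζ
    refine (Finset.card_le_card (t := cfclass (der M) l) fun l' hl' => ?_).trans ?_
    · obtain ⟨hl', e⟩ := Finset.mem_filter.1 hl'
      obtain ⟨g, hg, e'⟩ := mem_cfclass.1 (cfclass_of_constt_Res (Fcore_normal M) (b7 l hl)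
        ((b1 l hl).cfRes le_sup_left).isIrr ((b1 l' hl').cfRes le_sup_left).isIrr (b8 l hl) (e ▸ b8 l' hl'))
      have c1 := b4 g hg (by rw [← conj_eq_self_iff, ← b3 l hl, ← cfker_cfConjg (nH hg), ← e', b3 l' hl', b3 l hl])
      have c2 := (b1 l hl).cfConjg (a12.2 c1)
      have := constt_Inertia_inj (ψ := cfConjg g l) (ξ := l') (Fcore_normal M)
        ((b1 l' hl').cfRes le_sup_left).isIrr
      rw [b6 l' hl'] at this
      exact mem_cfclass.2 ⟨g, c1, this c2.isIrr (by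
        rw [e', cfConjg_cfRes (nH hg)]; exact cfdot_res_self c2 le_sup_left) (IrrKerD_irr hl')
        (cfdot_res_self (b1 l' hl') le_sup_left) (by rw [e, cfInd_cfConjg _ hg])⟩
    · rw [card_cfclass, hn.a_eq, ← relIndex_HD_K h hDU]
      exact Nat.le_of_dvd (relIndex_pos _ _) (relIndex_dvd_of_le_left _ (sub_inertia a12.1 (b1 l hl).mem_CF))
  · obtain ⟨l, hl, rfl⟩ := Finset.mem_image.1 hζ
    obtain ⟨-, -, c1, c2⟩ := ind_mem h hDU (b1 l hl) (b5 l hl).le (mem_IrrKerD.1 hl).2.2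
      (Ptype_Fcore_extensions_normal h).2.2.1 ((sup_le_sup_right a1 _).trans (mem_IrrKerD.1 hl).2.1)
    exact Finset.mem_filter.2 ⟨c1, b7 l hl, hn.a_eq ▸ c2⟩

end P9

open Classical in
theorem typeP_nonGalois_characters (h : PtypeHyp M U W W1 W2 H0) {H1 : Subgroup G} {a : ℕ}
    (hn : GaloisPn M U W1 H0 H1 a) :
    (∀ χ ∈ calXH M H0, ∃ n : ℕ, χ 1 = (a * n : ℕ)) ∧
    (∃ ζ, IsIrr M ζ ∧ IsIndHC M U W1 H0 ζ) ∧
    (a ^ 2 * ♯(der U) ∣ (Pp M H0 - 1) * ♯U ∧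
      (Pp M H0 - 1) * ♯U / (a ^ 2 * ♯(der U)) ≤
        ((calSH M (H0 ⊔ der U)).filter fun ζ => IsIrr M ζ ∧ ζ 1 = (♯W1 * a : ℕ)).card) := by
  have h1 : der U ≤ U ⊓ secCent H1 H0 :=
    (PtypeHyp.der_U_le h).trans (inf_le_inf_left U (secCent_anti H0 hn.le))
  have h2 : ♯U = ♯(der U) * (der U).relIndex (U ⊓ secCent H1 H0) * a := by
    rw [card_mul_relIndex h1, hn.a_eq, card_mul_relIndex inf_le_left]
  obtain ⟨b, hb⟩ := hn.dvd
  refine ⟨fun χ => one_dvd h hn, exists_irr_indHC h hn, ⟨b * (der U).relIndex (U ⊓ secCent H1 H0),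
    by rw [h2, hb]; ring⟩, Nat.div_le_of_le_mul ?_⟩
  have := Nat.mul_le_mul_left (a * ♯(der U)) (card_degree_qa h hn)
  rw [h2]
  linarith

theorem typeP_reducible_core_cases (h : PtypeHyp M U W W1 W2 H0) :
    (∃ χ, IsIrr M χ ∧ χ ∈ calSH M (H0 ⊔ der (Pc M U H0)) ∧ χ 1 = (♯W1 * Pu M U H0 : ℕ) ∧
      ∃ ξ, IsLinChar (Fcore M ⊔ Pc M U H0) ξ ∧ χ = cfInd M (Fcore M ⊔ Pc M U H0) ξ) ∨
    (PGalois M U H0 ∧ IsFrob (der M ⁒ H0) (Fcore M ⁒ H0) (U ⁒ H0) ∧ IsCyclic U ∧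
      ♯U = (Pp M H0 ^ ♯W1 - 1) / (Pp M H0 - 1) ∧ (FTtype M = 2 → IsFrob (der M) (Fcore M) U)) := by
  by_cases hg : PGalois M U H0
  · obtain ⟨-, h1, h2⟩ := typeP_Galois_characters h hg
    by_cases h3 : ∀ ζ ∈ calSH M (H0 ⊔ der (Pc M U H0)), ¬ IsIrr M ζ
    · obtain ⟨h4, h5, h6⟩ := h2 h3
      have h7 := (typeP_Galois_P h hg).2.1
      rw [h4] at h7
      have h8 : IsCyclic U := isCyclic_of_surjective _ (quoBotEquiv U).symm.surjective
      refine Or.inr ⟨hg, h6, h8, by rw [← h5, Pu, h4, relIndex_bot_left], fun ht => ?_⟩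
      have h9 := compl_of_typeII h.max h.typeP ht
      exact h9.defF ▸ (typeF_context (mFT_odd _) h9.typeF).2.1.2 inferInstance
    · push Not at h3
      obtain ⟨ζ, h4, h5⟩ := h3
      obtain ⟨χ, h6, rfl⟩ := seqIndP.1 h4
      obtain ⟨h7, ξ, h8, h9⟩ := h1 χ h6
      refine Or.inl ⟨_, h5, h4, ?_, ξ, h8, h9 ▸ cfIndInd' (HD_le h inf_le_left) (der_le M) h8.mem_CF⟩
      rw [cfInd1 (der_le M), h7, h.typeP.defM.relIndex_left, Nat.cast_mul]
  · obtain ⟨H1, a, hn⟩ := typeP_Galois_Pn h hg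
    obtain ⟨ζ, h1, h2, h3, h4⟩ := exists_irr_indHC h hn
    exact Or.inl ⟨ζ, h1, calSH_mono M (sup_le_sup_left (der_le _) _) h3, h2, h4⟩

end Cfsg.Agent.OO.Pf
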